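import Mathlib.Algebra.Homology.Refinements
import Mathlib.Algebra.Homology.QuasiIso
import Mathlib.Algebra.Category.ModuleCat.Abelian
import Mathlib.Algebra.Category.ModuleCat.EpiMono

/-!
Elementwise criteria for the homology maps of a morphism of complexes of modules to be mono / epi.
-/

set_option autoImplicit false

universe v u

open CategoryTheory

namespace Groth.Agent.H81

variable {R : Type u} [Ring R] {ι : Type*} {c : ComplexShape ι}
  {K L : HomologicalComplex (ModuleCat.{v} R) c} (φ : K ⟶ L)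

theorem d_comp_d_apply (K : HomologicalComplex (ModuleCat.{v} R) c) (i j k : ι) (x : K.X i) :
    (K.d j k).hom ((K.d i j).hom x) = 0 := by
  have h : (K.d i j ≫ K.d j k).hom x = 0 := by rw [K.d_comp_d]; rfl
  simpa only [ModuleCat.hom_comp, LinearMap.comp_apply] using h

theorem comm_apply (i j : ι) (x : K.X i) :
    (φ.f j).hom ((K.d i j).hom x) = (L.d i j).hom ((φ.f i).hom x) := by
  have h := congrArg (fun ψ => ψ.hom x) (φ.comm i j)
  simpa only [ModuleCat.hom_comp, LinearMap.comp_apply] using h.symm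

theorem mono_homologyMap_iff_elem (i j k : ι) (hi : c.prev j = i) (hk : c.next j = k) :
    Mono (HomologicalComplex.homologyMap φ j) ↔
      ∀ x : K.X j, (K.d j k).hom x = 0 → (∃ y : L.X i, (φ.f j).hom x = (L.d i j).hom y) →
        ∃ x₁ : K.X i, x = (K.d i j).hom x₁ := by
  rw [HomologicalComplex.mono_homologyMap_iff_up_to_refinements φ i j k hi hk]
  constructor
  · intro H x hx ⟨y, hy⟩
    -- the generic module of pairs
    let W : Submodule R (K.X j × L.X i) :=
      { carrier := {w | (K.d j k).hom w.1 = 0 ∧ (φ.f j).hom w.1 = (L.d i j).hom w.2}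
        add_mem' := by
          rintro a b ⟨h1, h2⟩ ⟨h3, h4⟩
          exact ⟨by simp [h1, h3], by simp [h2, h4]⟩
        zero_mem' := by simp
        smul_mem' := by
          rintro r a ⟨h1, h2⟩
          exact ⟨by simp [h1], by simp [h2]⟩ }
    let A : ModuleCat.{v} R := ModuleCat.of R W
    let x₂ : A ⟶ K.X j := ModuleCat.ofHom (LinearMap.fst R _ _ ∘ₗ W.subtype)
    let y₁ : A ⟶ L.X i := ModuleCat.ofHom (LinearMap.snd R _ _ ∘ₗ W.subtype)
    have hx₂ : x₂ ≫ K.d j k = 0 := by
      apply ModuleCat.hom_ext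
      ext w
      exact w.2.1
    have hy₁ : x₂ ≫ φ.f j = y₁ ≫ L.d i j := by
      apply ModuleCat.hom_ext
      ext w
      exact w.2.2
    obtain ⟨A', π, hπ, x₁, hx₁⟩ := H x₂ hx₂ y₁ hy₁
    have hsurj := (ModuleCat.epi_iff_surjective π).mp hπ
    have hw : (x, y) ∈ W := ⟨hx, hy⟩
    obtain ⟨a', ha'⟩ := hsurj ⟨(x, y), hw⟩
    refine ⟨x₁.hom a', ?_⟩
    have h := congrArg (fun ψ => ψ.hom a') hx₁
    simp only [ModuleCat.hom_comp, LinearMap.comp_apply] at h
    rw [← h]
    have : π.hom a' = ⟨(x, y), hw⟩ := ha'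
    rw [this]
    rfl
  · intro H A x₂ hx₂ y₁ hy₁
    let W : Submodule R (A × K.X i) :=
      { carrier := {w | x₂.hom w.1 = (K.d i j).hom w.2}
        add_mem' := by
          intro a b h1 h2
          simp only [Set.mem_ofPred_eq] at h1 h2 ⊢
          simp [h1, h2]
        zero_mem' := by simp
        smul_mem' := by
          intro r a h1
          simp only [Set.mem_ofPred_eq] at h1 ⊢
          simp [h1] }
    let A' : ModuleCat.{v} R := ModuleCat.of R W
    let π : A' ⟶ A := ModuleCat.ofHom (LinearMap.fst R _ _ ∘ₗ W.subtype)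
    let x₁ : A' ⟶ K.X i := ModuleCat.ofHom (LinearMap.snd R _ _ ∘ₗ W.subtype)
    have hπ : Epi π := by
      rw [ModuleCat.epi_iff_surjective]
      intro a
      have h1 : (K.d j k).hom (x₂.hom a) = 0 := by
        have h := congrArg (fun ψ => ψ.hom a) hx₂
        simpa only [ModuleCat.hom_comp, LinearMap.comp_apply, ModuleCat.hom_zero,
          LinearMap.zero_apply] using h
      have h2 : (φ.f j).hom (x₂.hom a) = (L.d i j).hom (y₁.hom a) := by
        have h := congrArg (fun ψ => ψ.hom a) hy₁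
        simpa only [ModuleCat.hom_comp, LinearMap.comp_apply] using h
      obtain ⟨z, hz⟩ := H (x₂.hom a) h1 ⟨_, h2⟩
      have hw : (a, z) ∈ W := hz
      exact ⟨⟨(a, z), hw⟩, rfl⟩
    refine ⟨A', π, hπ, x₁, ?_⟩
    apply ModuleCat.hom_ext
    ext w
    exact w.2

theorem epi_homologyMap_iff_elem (i j k : ι) (hi : c.prev j = i) (hk : c.next j = k) :
    Epi (HomologicalComplex.homologyMap φ j) ↔
      ∀ y : L.X j, (L.d j k).hom y = 0 →
        ∃ x : K.X j, (K.d j k).hom x = 0 ∧ ∃ y₁ : L.X i, y = (φ.f j).hom x + (L.d i j).hom y₁ := by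
  rw [HomologicalComplex.epi_homologyMap_iff_up_to_refinements φ i j k hi hk]
  constructor
  · intro H y hy
    let A : ModuleCat.{v} R := ModuleCat.of R (LinearMap.ker (L.d j k).hom)
    let y₂ : A ⟶ L.X j := ModuleCat.ofHom (LinearMap.ker (L.d j k).hom).subtype
    have hy₂ : y₂ ≫ L.d j k = 0 := by
      apply ModuleCat.hom_ext
      ext w
      exact w.2
    obtain ⟨A', π, hπ, x₂, hx₂, y₁, h⟩ := H y₂ hy₂
    have hsurj := (ModuleCat.epi_iff_surjective π).mp hπ
    obtain ⟨a', ha'⟩ := hsurj ⟨y, hy⟩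
    refine ⟨x₂.hom a', ?_, y₁.hom a', ?_⟩
    · have h := congrArg (fun ψ => ψ.hom a') hx₂
      simpa only [ModuleCat.hom_comp, LinearMap.comp_apply, ModuleCat.hom_zero,
        LinearMap.zero_apply] using h
    · have h' := congrArg (fun ψ => ψ.hom a') h
      simp only [ModuleCat.hom_comp, ModuleCat.hom_add, LinearMap.comp_apply,
        LinearMap.add_apply] at h'
      rw [← h']
      have : π.hom a' = ⟨y, hy⟩ := ha'
      rw [this]
      rfl
  · intro H A y₂ hy₂
    let W : Submodule R (A × K.X j × L.X i) :=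
      { carrier := {w | (K.d j k).hom w.2.1 = 0 ∧
          y₂.hom w.1 = (φ.f j).hom w.2.1 + (L.d i j).hom w.2.2}
        add_mem' := by
          rintro a b ⟨h1, h2⟩ ⟨h3, h4⟩
          refine ⟨by simp [h1, h3], ?_⟩
          simp only [Prod.fst_add, Prod.snd_add, map_add, h2, h4]
          abel
        zero_mem' := by simp
        smul_mem' := by
          rintro r a ⟨h1, h2⟩
          refine ⟨by simp [h1], ?_⟩
          simp only [Prod.smul_fst, Prod.smul_snd, map_smul, h2, smul_add] }
    let A' : ModuleCat.{v} R := ModuleCat.of R W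
    let π : A' ⟶ A := ModuleCat.ofHom (LinearMap.fst R _ _ ∘ₗ W.subtype)
    let x₂ : A' ⟶ K.X j :=
      ModuleCat.ofHom (LinearMap.fst R _ _ ∘ₗ LinearMap.snd R _ _ ∘ₗ W.subtype)
    let y₁ : A' ⟶ L.X i :=
      ModuleCat.ofHom (LinearMap.snd R _ _ ∘ₗ LinearMap.snd R _ _ ∘ₗ W.subtype)
    have hπ : Epi π := by
      rw [ModuleCat.epi_iff_surjective]
      intro a
      have h1 : (L.d j k).hom (y₂.hom a) = 0 := by
        have h := congrArg (fun ψ => ψ.hom a) hy₂
        simpa only [ModuleCat.hom_comp, LinearMap.comp_apply, ModuleCat.hom_zero,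
          LinearMap.zero_apply] using h
      obtain ⟨x, hx, z, hz⟩ := H (y₂.hom a) h1
      have hw : (a, x, z) ∈ W := ⟨hx, hz⟩
      exact ⟨⟨(a, x, z), hw⟩, rfl⟩
    refine ⟨A', π, hπ, x₂, ?_, y₁, ?_⟩
    · apply ModuleCat.hom_ext
      ext w
      exact w.2.1
    · apply ModuleCat.hom_ext
      ext w
      exact w.2.2

end Groth.Agent.H81
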