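import Mathlib
import Groth.Prelude.Def_EtRam
import Groth.Agent.H25.GeomRed

/-!
# (CO) composition of good steps (helper81, for helper14 S7162)
-/

set_option autoImplicit false
set_option linter.unusedSimpArgs false
set_option linter.unusedVariables false
set_option linter.style.haveILetI false
universe u

open IsLocalRing TensorProduct

namespace Groth.Agent.H81.SH_CO

/-- separable algebraic followed by geometrically reduced is geometrically reduced (fields). -/
theorem geomReduced_comp {k k₂ m : Type u} [Field k] [Field k₂] [Field m] (φ : k →+* k₂)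
    (ψ : k₂ →+* m) (h1 : @Algebra.IsSeparable k k₂ _ _ φ.toAlgebra)
    (h2 : @Algebra.IsGeometricallyReduced k₂ m _ _ ψ.toAlgebra) :
    @Algebra.IsGeometricallyReduced k m _ _ (ψ.comp φ).toAlgebra := by
  letI : Algebra k k₂ := φ.toAlgebra
  letI : Algebra k₂ m := ψ.toAlgebra
  letI : Algebra k m := (ψ.comp φ).toAlgebra
  haveI : IsScalarTower k k₂ m := IsScalarTower.of_algebraMap_eq (fun x => rfl)
  have hA : ∀ (K' : Type u) [Field K'] [Algebra k₂ K'], IsReduced (K' ⊗[k₂] m) :=
    (Groth.Agent.H25.GeomRed.tfae_geometricallyReduced (k := k₂) (S := m)).out 1 2 |>.mp h2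
  refine (Groth.Agent.H25.GeomRed.tfae_geometricallyReduced (k := k) (S := m)).out 2 1 |>.mp ?_
  intro K _ _
  haveI : IsReduced (k₂ ⊗[k] K) := Groth.Agent.H25.GeomRed.isReduced_tensor_of_isSeparable k₂ K
  haveI : IsReduced ((k₂ ⊗[k] K) ⊗[k₂] m) :=
    Groth.Agent.H25.GeomRed.isReduced_tensor_of_geomReduced hA (k₂ ⊗[k] K)
  let E : K ⊗[k] m ≃+* (k₂ ⊗[k] K) ⊗[k₂] m :=
    (Algebra.TensorProduct.comm k K m).toRingEquiv.trans
      ((Algebra.TensorProduct.cancelBaseChange k k₂ k₂ m K).symm.toRingEquiv.trans
        (Algebra.TensorProduct.comm k₂ m (k₂ ⊗[k] K)).toRingEquiv)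
  exact isReduced_of_injective E.toRingHom E.injective

/-- abstract form of (CO). -/
theorem comp_good_abstract {A B C : Type u} [CommRing A] [IsLocalRing A] [CommRing B]
    [IsLocalRing B] [CommRing C] [IsLocalRing C] (f : A →+* B) (g : B →+* C) [IsLocalHom f]
    [IsLocalHom g] (h : A →+* C) [IsLocalHom h] (hh : h = g.comp f)
    (h1w : @EtRam.IsWeaklyUnramified A B _ _ _ _ f.toAlgebra)
    (h1s : @Algebra.IsSeparable (ResidueField A) (ResidueField B) _ _
      (ResidueField.map f).toAlgebra)
    (h2w : @EtRam.IsWeaklyUnramified B C _ _ _ _ g.toAlgebra)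
    (h2g : @Algebra.IsGeometricallyReduced (ResidueField B) (ResidueField C) _ _
      (ResidueField.map g).toAlgebra) :
    @EtRam.IsWeaklyUnramified A C _ _ _ _ h.toAlgebra ∧
    @Algebra.IsGeometricallyReduced (ResidueField A) (ResidueField C) _ _
      (ResidueField.map h).toAlgebra := by
  subst hh
  constructor
  · have e1 : (maximalIdeal A).map f = maximalIdeal B := h1w
    have e2 : (maximalIdeal B).map g = maximalIdeal C := h2w
    show (maximalIdeal A).map (g.comp f) = maximalIdeal C
    rw [← Ideal.map_map, e1, e2]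
  · have hcomp : ResidueField.map (g.comp f) =
        (ResidueField.map g).comp (ResidueField.map f) := ResidueField.map_comp f g
    rw [hcomp]
    exact geomReduced_comp _ _ h1s h2g

/-- (CO) composition of a weakly unramified step with separable algebraic residue extension and a
weakly unramified step with geometrically reduced residue extension. -/
theorem comp_good {K₀ K₂ M : Type u} [Field K₀] [Field K₂] [Field M] (W : ValuationSubring M)
    (g₂ : K₂ →+* M) (h₂ : K₀ →+* K₂)
    (h1w : @EtRam.IsWeaklyUnramified ((W.comap g₂).comap h₂) (W.comap g₂) _ _ _ _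
      (EtRam.inclOfComap (W.comap g₂) h₂).toAlgebra)
    (h1s : @Algebra.IsSeparable (ResidueField ((W.comap g₂).comap h₂))
      (ResidueField (W.comap g₂)) _ _
      (ResidueField.map (EtRam.inclOfComap (W.comap g₂) h₂)).toAlgebra)
    (h2w : @EtRam.IsWeaklyUnramified (W.comap g₂) W _ _ _ _ (EtRam.inclOfComap W g₂).toAlgebra)
    (h2g : @Algebra.IsGeometricallyReduced (ResidueField (W.comap g₂)) (ResidueField W) _ _
      (ResidueField.map (EtRam.inclOfComap W g₂)).toAlgebra) :
    @EtRam.IsWeaklyUnramified (W.comap (g₂.comp h₂)) W _ _ _ _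
      (EtRam.inclOfComap W (g₂.comp h₂)).toAlgebra ∧
    @Algebra.IsGeometricallyReduced (ResidueField (W.comap (g₂.comp h₂))) (ResidueField W) _ _
      (ResidueField.map (EtRam.inclOfComap W (g₂.comp h₂))).toAlgebra := by
  let hmap : ↥((W.comap g₂).comap h₂) →+* ↥W := EtRam.inclOfComap W (g₂.comp h₂)
  haveI : IsLocalHom hmap := EtRam.isLocalHom_inclOfComap W (g₂.comp h₂)
  exact comp_good_abstract (A := ↥((W.comap g₂).comap h₂)) (B := ↥(W.comap g₂)) (C := ↥W)
    (EtRam.inclOfComap (W.comap g₂) h₂) (EtRam.inclOfComap W g₂)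
    hmap rfl h1w h1s h2w h2g

end Groth.Agent.H81.SH_CO
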