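import Mathlib

/-!
Dehomogenization of polynomials in `n + 1` variables with respect to a variable `X j`:
the dehomogenization of an irreducible homogeneous polynomial is irreducible (or a unit).
-/

set_option autoImplicit false

namespace Groth.Agent.H81.Dehom

open MvPolynomial

variable {k : Type*} [Field k] {n : ℕ}

/-- scaling of a homogeneous polynomial. -/
theorem aeval_mul_of_isHomogeneous {σ A : Type*} [Fintype σ] [CommRing A] [Algebra k A]
    {g : MvPolynomial σ k} {d : ℕ} (hg : g.IsHomogeneous d) (a : A) (x : σ → A) :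
    aeval (fun i => a * x i) g = a ^ d * aeval x g := by
  classical
  rw [aeval_def, aeval_def, eval₂_eq', eval₂_eq', Finset.mul_sum]
  refine Finset.sum_congr rfl fun m hm => ?_
  have hdeg : ∑ i, m i = d := by
    have h : Finsupp.weight 1 m = d := hg (mem_support_iff.mp hm)
    rw [Finsupp.weight_apply, Finsupp.sum_fintype _ _ (by simp)] at h
    simpa using h
  simp only [mul_pow, Finset.prod_mul_distrib, Finset.prod_pow_eq_pow_sum, hdeg]
  ring

/-- the tuple with `j`-th entry `a` and the other entries `v`. -/
def ins {α : Type*} (j : Fin (n + 1)) (a : α) (v : Fin n → α) : Fin (n + 1) → α :=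
  Fin.insertNth (α := fun _ => α) j a v

@[simp] theorem ins_same {α : Type*} (j : Fin (n + 1)) (a : α) (v : Fin n → α) :
    ins j a v j = a :=
  Fin.insertNth_apply_same (α := fun _ => α) j a v

@[simp] theorem ins_succAbove {α : Type*} (j : Fin (n + 1)) (a : α) (v : Fin n → α) (i : Fin n) :
    ins j a v (j.succAbove i) = v i :=
  Fin.insertNth_apply_succAbove (α := fun _ => α) j a v i

theorem ins_comp_succAbove {α : Type*} (j : Fin (n + 1)) (a : α) (v : Fin n → α) :
    ins j a v ∘ j.succAbove = v := by
  funext i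
  simp

theorem ins_eq {α : Type*} (j : Fin (n + 1)) (w : Fin (n + 1) → α) :
    ins j (w j) (w ∘ j.succAbove) = w := by
  funext i
  rcases Fin.eq_self_or_eq_succAbove j i with h | ⟨i', h⟩
  · rw [h, ins_same]
  · rw [h, ins_succAbove]; rfl

/-- dehomogenization with respect to `X j`. -/
noncomputable def D (j : Fin (n + 1)) :
    MvPolynomial (Fin (n + 1)) k →ₐ[k] MvPolynomial (Fin n) k :=
  aeval (ins j (1 : MvPolynomial (Fin n) k) X)

@[simp] theorem D_X_same (j : Fin (n + 1)) : D (k := k) j (X j) = 1 := by
  rw [D, aeval_X, ins_same]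

@[simp] theorem D_X_succAbove (j : Fin (n + 1)) (i : Fin n) :
    D (k := k) j (X (j.succAbove i)) = X i := by
  rw [D, aeval_X, ins_succAbove]

/-- polynomials in `n` variables as polynomials in the variables other than `X j`. -/
noncomputable def incl (j : Fin (n + 1)) :
    MvPolynomial (Fin n) k →ₐ[k] MvPolynomial (Fin (n + 1)) k :=
  rename j.succAbove

theorem D_incl (j : Fin (n + 1)) (G : MvPolynomial (Fin n) k) : D j (incl j G) = G := by
  rw [D, incl, aeval_rename, ins_comp_succAbove, aeval_X_left_apply]

theorem aeval_D {A : Type*} [CommRing A] [Algebra k A] (j : Fin (n + 1)) (v : Fin n → A)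
    (p : MvPolynomial (Fin (n + 1)) k) :
    aeval v (D j p) = aeval (ins j (1 : A) v) p := by
  have h : (aeval v : MvPolynomial (Fin n) k →ₐ[k] A).comp (D j) = aeval (ins j (1 : A) v) := by
    apply MvPolynomial.algHom_ext
    intro i
    rcases Fin.eq_self_or_eq_succAbove j i with h | ⟨i', h⟩
    · rw [h, AlgHom.comp_apply, D_X_same, map_one, aeval_X, ins_same]
    · rw [h, AlgHom.comp_apply, D_X_succAbove, aeval_X, aeval_X, ins_succAbove]
  exact AlgHom.congr_fun h p

theorem eval_D (j : Fin (n + 1)) (c : Fin n → k) (p : MvPolynomial (Fin (n + 1)) k) :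
    eval c (D j p) = eval (ins j (1 : k) c) p := by
  have h := aeval_D (A := k) j c p
  simpa using h

theorem aeval_incl {A : Type*} [CommRing A] [Algebra k A] (j : Fin (n + 1))
    (w : Fin (n + 1) → A) (G : MvPolynomial (Fin n) k) :
    aeval w (incl j G) = aeval (w ∘ j.succAbove) G := by
  rw [incl, aeval_rename]

/-- chain rule for dehomogenization. -/
theorem pderiv_D (j : Fin (n + 1)) (i : Fin n) (p : MvPolynomial (Fin (n + 1)) k) :
    pderiv i (D j p) = D j (pderiv (j.succAbove i) p) := by
  induction p using MvPolynomial.induction_on with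
  | C a => simp
  | add p q hp hq => rw [map_add, map_add, map_add, map_add, hp, hq]
  | mul_X p l hp =>
    have hX : pderiv i (D j (X l)) =
        D j (pderiv (j.succAbove i) (X l : MvPolynomial (Fin (n + 1)) k)) := by
      rcases Fin.eq_self_or_eq_succAbove j l with h | ⟨l', h⟩
      · rw [h, D_X_same, pderiv_one, pderiv_X_of_ne (Fin.succAbove_ne j i).symm, map_zero]
      · rw [h, D_X_succAbove]
        by_cases h' : l' = i
        · rw [h', pderiv_X_self, pderiv_X_self, map_one]
        · rw [pderiv_X_of_ne h',
            pderiv_X_of_ne (fun h'' => h' (Fin.succAbove_right_injective h'')), map_zero]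
    rw [map_mul, pderiv_mul, pderiv_mul, map_add, map_mul, map_mul, hp, hX]

/-- the fraction field of the polynomial ring. -/
abbrev FR (k : Type*) [Field k] (n : ℕ) : Type _ := FractionRing (MvPolynomial (Fin (n + 1)) k)

/-- homogenization into the fraction field: `Y i ↦ X (succAbove j i) / X j`. -/
noncomputable def theta (j : Fin (n + 1)) : MvPolynomial (Fin n) k →ₐ[k] FR k n :=
  aeval fun i => algebraMap (MvPolynomial (Fin (n + 1)) k) (FR k n) (X (j.succAbove i)) /
    algebraMap (MvPolynomial (Fin (n + 1)) k) (FR k n) (X j)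

theorem algebraMap_X_ne_zero (j : Fin (n + 1)) :
    algebraMap (MvPolynomial (Fin (n + 1)) k) (FR k n) (X j) ≠ 0 :=
  (map_ne_zero_iff _ (IsFractionRing.injective (MvPolynomial (Fin (n + 1)) k) (FR k n))).mpr
    (X_ne_zero j)

/-- a homogeneous polynomial is `X j ^ d` times the homogenization of its dehomogenization. -/
theorem algebraMap_eq_of_isHomogeneous (j : Fin (n + 1)) {p : MvPolynomial (Fin (n + 1)) k}
    {d : ℕ} (hp : p.IsHomogeneous d) :
    algebraMap (MvPolynomial (Fin (n + 1)) k) (FR k n) p =
      algebraMap (MvPolynomial (Fin (n + 1)) k) (FR k n) (X j) ^ d * theta j (D j p) := by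
  obtain ⟨t, ht⟩ : ∃ t : FR k n, t = algebraMap (MvPolynomial (Fin (n + 1)) k) (FR k n) (X j) :=
    ⟨_, rfl⟩
  have ht0 : t ≠ 0 := ht ▸ algebraMap_X_ne_zero j
  obtain ⟨v, hv⟩ : ∃ v : Fin (n + 1) → FR k n,
      v = fun i => algebraMap (MvPolynomial (Fin (n + 1)) k) (FR k n) (X i) / t := ⟨_, rfl⟩
  have h1 : theta j (D j p) = aeval v p := by
    have h : (theta j).comp (D j) = aeval v := by
      apply MvPolynomial.algHom_ext
      intro i
      rcases Fin.eq_self_or_eq_succAbove j i with h | ⟨i', h⟩
      · rw [h, AlgHom.comp_apply, D_X_same, map_one, aeval_X, hv]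
        show (1 : FR k n) = algebraMap (MvPolynomial (Fin (n + 1)) k) (FR k n) (X j) / t
        rw [← ht, div_self ht0]
      · rw [h, AlgHom.comp_apply, D_X_succAbove, aeval_X, hv, theta, aeval_X, ht]
    exact AlgHom.congr_fun h p
  have h2 : aeval (fun i => t * v i) p =
      algebraMap (MvPolynomial (Fin (n + 1)) k) (FR k n) p := by
    have h : (fun i => t * v i) =
        fun i => algebraMap (MvPolynomial (Fin (n + 1)) k) (FR k n) (X i) := by
      funext i
      rw [hv]
      show t * (algebraMap (MvPolynomial (Fin (n + 1)) k) (FR k n) (X i) / t) = _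
      rw [mul_div_cancel₀ _ ht0]
    rw [h]
    have h' : (aeval fun i => algebraMap (MvPolynomial (Fin (n + 1)) k) (FR k n) (X i)) =
        IsScalarTower.toAlgHom k (MvPolynomial (Fin (n + 1)) k) (FR k n) := by
      apply MvPolynomial.algHom_ext
      intro i
      simp
    rw [h']
    rfl
  rw [h1, ← ht, ← h2, aeval_mul_of_isHomogeneous hp]

/-- every polynomial in `n` variables lifts to a polynomial in `n + 1` variables compatible with
homogenization. -/
theorem exists_lift (j : Fin (n + 1)) (G : MvPolynomial (Fin n) k) :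
    ∃ g : MvPolynomial (Fin (n + 1)) k, ∃ e : ℕ,
      algebraMap (MvPolynomial (Fin (n + 1)) k) (FR k n) g =
        algebraMap (MvPolynomial (Fin (n + 1)) k) (FR k n) (X j) ^ e * theta j G ∧
      D j g = G := by
  obtain ⟨G', hG'⟩ : ∃ G', G' = incl j G := ⟨_, rfl⟩
  refine ⟨∑ i ∈ Finset.range (G'.totalDegree + 1),
    X j ^ (G'.totalDegree - i) * homogeneousComponent i G', G'.totalDegree, ?_, ?_⟩
  · rw [map_sum]
    have h : ∀ i ∈ Finset.range (G'.totalDegree + 1),
        algebraMap (MvPolynomial (Fin (n + 1)) k) (FR k n)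
          (X j ^ (G'.totalDegree - i) * homogeneousComponent i G') =
        algebraMap (MvPolynomial (Fin (n + 1)) k) (FR k n) (X j) ^ G'.totalDegree *
          theta j (D j (homogeneousComponent i G')) := by
      intro i hi
      rw [map_mul, map_pow,
        algebraMap_eq_of_isHomogeneous j (homogeneousComponent_isHomogeneous i G'), ← mul_assoc,
        ← pow_add]
      have hi' := Finset.mem_range.mp hi
      have e1 : G'.totalDegree - i + i = G'.totalDegree := by omega
      rw [e1]
    rw [Finset.sum_congr rfl h, ← Finset.mul_sum, ← map_sum, ← map_sum, sum_homogeneousComponent,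
      hG', D_incl]
  · rw [map_sum]
    have h : ∀ i ∈ Finset.range (G'.totalDegree + 1),
        D j (X j ^ (G'.totalDegree - i) * homogeneousComponent i G') =
          D j (homogeneousComponent i G') := by
      intro i _
      rw [map_mul, map_pow, D_X_same, one_pow, one_mul]
    rw [Finset.sum_congr rfl h, ← map_sum, sum_homogeneousComponent, hG', D_incl]

/-- the dehomogenization of an irreducible homogeneous polynomial is irreducible, unless it is a
unit. -/
theorem irreducible_D (j : Fin (n + 1)) {f : MvPolynomial (Fin (n + 1)) k} (hf : Irreducible f)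
    {d : ℕ} (hhom : f.IsHomogeneous d) (hnu : ¬ IsUnit (D j f)) : Irreducible (D j f) := by
  rw [irreducible_iff]
  refine ⟨hnu, fun G H hGH => ?_⟩
  obtain ⟨g1, e1, hg1, hDg1⟩ := exists_lift j G
  obtain ⟨g2, e2, hg2, hDg2⟩ := exists_lift j H
  have key : X j ^ (e1 + e2) * f = X j ^ d * (g1 * g2) := by
    apply IsFractionRing.injective (MvPolynomial (Fin (n + 1)) k) (FR k n)
    rw [map_mul, map_mul, map_mul, map_pow, map_pow, algebraMap_eq_of_isHomogeneous j hhom, hGH,
      map_mul, hg1, hg2]
    ring
  have hprime : Prime f := hf.prime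
  have hdvd : f ∣ X j ^ d * (g1 * g2) := ⟨X j ^ (e1 + e2), by rw [← key]; ring⟩
  rcases hprime.dvd_or_dvd hdvd with h | h
  · exfalso
    obtain ⟨q, hq⟩ := hprime.dvd_of_dvd_pow h
    have h1 := congrArg (D j) hq
    rw [D_X_same, map_mul] at h1
    exact hnu (IsUnit.of_mul_eq_one _ h1.symm)
  · rcases hprime.dvd_or_dvd h with ⟨q, hq⟩ | ⟨q, hq⟩
    · right
      have h2 : X j ^ (e1 + e2) = X j ^ d * (q * g2) := by
        apply mul_left_cancel₀ hf.ne_zero
        rw [mul_comm f, key, hq]
        ring
      have h3 := congrArg (D j) h2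
      rw [map_pow, D_X_same, one_pow, map_mul, map_pow, D_X_same, one_pow, one_mul, map_mul,
        hDg2] at h3
      exact IsUnit.of_mul_eq_one _ (by rw [mul_comm]; exact h3.symm)
    · left
      have h2 : X j ^ (e1 + e2) = X j ^ d * (g1 * q) := by
        apply mul_left_cancel₀ hf.ne_zero
        rw [mul_comm f, key, hq]
        ring
      have h3 := congrArg (D j) h2
      rw [map_pow, D_X_same, one_pow, map_mul, map_pow, D_X_same, one_pow, one_mul, map_mul,
        hDg1] at h3
      exact IsUnit.of_mul_eq_one _ h3.symm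

end Groth.Agent.H81.Dehom
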