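import Groth.Agent.H55.GFF
import Mathlib

/-!
Places of the rational subfield `k⟮x⟯` of a function field, over an algebraically closed constant
field: the place at a finite point `c`, values of polynomials there, and denominators of elements of
its valuation ring.
-/

set_option autoImplicit false

namespace Groth.Agent.H81.RatPlace

open FunFld Polynomial IntermediateField

variable {k K : Type*} [Field k] [Field K] [Algebra k K]

/-- The generator of `k⟮x⟯`. -/
noncomputable abbrev gen (x : K) : k⟮x⟯ := AdjoinSimple.gen k x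

theorem coe_aeval_gen (x : K) (p : k[X]) : ((aeval (gen (k := k) x) p : k⟮x⟯) : K) = aeval x p := by
  have := Polynomial.aeval_algHom_apply (k⟮x⟯).val (gen (k := k) x) p
  rw [← AdjoinSimple.coe_gen k x]
  exact this.symm

theorem algebraMap_aeval_gen (x : K) (p : k[X]) :
    algebraMap k⟮x⟯ K (aeval (gen (k := k) x) p) = aeval x p := coe_aeval_gen x p

/-- every element of `k⟮x⟯` is a quotient of polynomials in the generator. -/
theorem exists_frac (x : K) (b : k⟮x⟯) :
    ∃ r s : k[X], b = aeval (gen (k := k) x) r / aeval (gen (k := k) x) s := by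
  obtain ⟨r, s, h⟩ := (mem_adjoin_simple_iff k (b : K)).mp b.2
  refine ⟨r, s, ?_⟩
  apply Subtype.ext
  rw [h]
  change _ = algebraMap k⟮x⟯ K (_ / _)
  rw [map_div₀, algebraMap_aeval_gen, algebraMap_aeval_gen]

theorem transcendental_gen {x : K} (hx : Transcendental k x) :
    Transcendental k (gen (k := k) x) := by
  intro h
  apply hx
  have := h.algHom (k⟮x⟯).val
  simpa using this

theorem isFF1_adjoin_simple {x : K} (hx : Transcendental k x) : H55.G.IsFF1 k k⟮x⟯ := by
  refine ⟨gen x, transcendental_gen hx, ?_⟩
  refine Module.Finite.of_surjective (Algebra.linearMap (k⟮gen (k := k) x⟯) k⟮x⟯) ?_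
  intro b
  obtain ⟨r, s, h⟩ := exists_frac x b
  have hr : aeval (gen (k := k) x) r ∈ k⟮gen (k := k) x⟯ := by
    have : aeval (gen (k := k) x) r ∈ Algebra.adjoin k {gen (k := k) x} :=
      Polynomial.aeval_mem_adjoin_singleton _ _
    exact algebra_adjoin_le_adjoin k _ this
  have hs : aeval (gen (k := k) x) s ∈ k⟮gen (k := k) x⟯ := by
    have : aeval (gen (k := k) x) s ∈ Algebra.adjoin k {gen (k := k) x} :=
      Polynomial.aeval_mem_adjoin_singleton _ _
    exact algebra_adjoin_le_adjoin k _ this
  refine ⟨⟨b, ?_⟩, rfl⟩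
  rw [h]
  exact div_mem hr hs

variable {F : Type*} [Field F] [Algebra k F]

/-- nonzero constants have value one. -/
theorem val_const (P : Place k F) {c : k} (hc : c ≠ 0) : P.1 (algebraMap k F c) = 1 := by
  apply le_antisymm (P.2.1 c)
  have h1 := P.2.1 c⁻¹
  rw [map_inv₀, map_inv₀] at h1
  have hne : P.1 (algebraMap k F c) ≠ 0 := by
    rw [Valuation.ne_zero_iff]
    exact (_root_.map_ne_zero _).mpr hc
  rwa [inv_le_one₀ (zero_lt_iff.mpr hne)] at h1

/-- polynomials in an integral element are integral. -/
theorem val_aeval_le (P : Place k F) {t : F} (ht : P.1 t ≤ 1) (p : k[X]) : P.1 (aeval t p) ≤ 1 := by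
  induction p using Polynomial.induction_on' with
  | add p q hp hq =>
    rw [map_add]
    exact (P.1.map_add _ _).trans (max_le hp hq)
  | monomial n a =>
    rw [aeval_monomial, map_mul, map_pow]
    exact mul_le_one' (P.2.1 a) (pow_le_one' ht n)

theorem val_sub_const_le (P : Place k F) {t : F} (c : k) (ht : P.1 (t - algebraMap k F c) < 1) :
    P.1 t ≤ 1 := by
  have : t = (t - algebraMap k F c) + algebraMap k F c := by ring
  rw [this]
  exact (P.1.map_add _ _).trans (max_le ht.le (P.2.1 c))

theorem val_aeval_lt (P : Place k F) {t : F} (c : k) (ht : P.1 (t - algebraMap k F c) < 1)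
    (p : k[X]) (hp : p.eval c = 0) : P.1 (aeval t p) < 1 := by
  have hroot : p.IsRoot c := hp
  obtain ⟨q, hq⟩ := Polynomial.dvd_iff_isRoot.mpr hroot
  rw [hq, map_mul, map_mul]
  have h1 : aeval t (X - C c) = t - algebraMap k F c := by simp
  rw [h1]
  calc P.1 (t - algebraMap k F c) * P.1 (aeval t q)
      ≤ P.1 (t - algebraMap k F c) * 1 :=
        mul_le_mul' le_rfl (val_aeval_le P (val_sub_const_le P c ht) q)
    _ = P.1 (t - algebraMap k F c) := mul_one _
    _ < 1 := ht

theorem val_aeval_eq_one (P : Place k F) {t : F} (c : k) (ht : P.1 (t - algebraMap k F c) < 1)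
    (p : k[X]) (hp : p.eval c ≠ 0) : P.1 (aeval t p) = 1 := by
  have h1 : aeval t p = aeval t (p - C (p.eval c)) + algebraMap k F (p.eval c) := by
    rw [map_sub, aeval_C]; ring
  have h2 : P.1 (aeval t (p - C (p.eval c))) < 1 :=
    val_aeval_lt P c ht _ (by simp)
  have h3 : P.1 (algebraMap k F (p.eval c)) = 1 := val_const P hp
  rw [h1, add_comm]
  rw [Valuation.map_add_eq_of_lt_left _ (by rw [h3]; exact h2), h3]

/-- elements of the valuation ring of the place at `c` have a denominator not vanishing at `c`. -/
theorem exists_denominator (P : Place k F) {t : F} (c : k) (ht : P.1 (t - algebraMap k F c) < 1) :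
    ∀ (n : ℕ) (r s : k[X]), s.natDegree = n → aeval t s ≠ 0 →
      P.1 (aeval t r / aeval t s) ≤ 1 →
      ∃ u v : k[X], v.eval c ≠ 0 ∧ aeval t v * (aeval t r / aeval t s) = aeval t u := by
  intro n
  induction n using Nat.strong_induction_on with
  | _ n ih =>
    intro r s hn hs hb
    by_cases hsc : s.eval c = 0
    · have hsroot : s.IsRoot c := hsc
      obtain ⟨s₁, hs₁⟩ := Polynomial.dvd_iff_isRoot.mpr hsroot
      have hs0 : s ≠ 0 := by
        rintro rfl
        exact hs (map_zero _)
      have hs₁0 : s₁ ≠ 0 := by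
        rintro rfl
        exact hs0 (by rw [hs₁, mul_zero])
      by_cases hrc : r.eval c = 0
      · have hrroot : r.IsRoot c := hrc
        obtain ⟨r₁, hr₁⟩ := Polynomial.dvd_iff_isRoot.mpr hrroot
        have hXc : aeval t (X - C c) ≠ 0 := by
          intro h0
          apply hs
          rw [hs₁, map_mul, h0, zero_mul]
        have hs₁t : aeval t s₁ ≠ 0 := by
          intro h0
          apply hs
          rw [hs₁, map_mul, h0, mul_zero]
        have heq : aeval t r / aeval t s = aeval t r₁ / aeval t s₁ := by
          rw [hr₁, hs₁, map_mul, map_mul, mul_div_mul_left _ _ hXc]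
        have hdeg : s₁.natDegree < n := by
          rw [← hn, hs₁, natDegree_mul (X_sub_C_ne_zero c) hs₁0, natDegree_X_sub_C]
          omega
        rw [heq] at hb ⊢
        exact ih _ hdeg r₁ s₁ rfl hs₁t hb
      · exfalso
        have h1 := val_aeval_eq_one P c ht r hrc
        have h2 := val_aeval_lt P c ht s hsc
        rw [map_div₀, h1] at hb
        have hne : P.1 (aeval t s) ≠ 0 := by
          rw [Valuation.ne_zero_iff]; exact hs
        rw [div_le_iff₀ (zero_lt_iff.mpr hne), one_mul] at hb
        exact absurd h2 (not_lt.mpr hb)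
    · refine ⟨r, s, hsc, ?_⟩
      field_simp

end Groth.Agent.H81.RatPlace
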