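import Mathlib

/-!
Pure algebra for plane models: Gauss-type degree lemma, the isomorphism
`k[X₀, X₁] ≃ k[X][T]`, shears of the plane and generic leading coefficients.
-/

set_option autoImplicit false

namespace Groth.Agent.H81.PlaneAlg

open Polynomial

/-- Gauss: an irreducible polynomial over an integrally closed domain with unit leading coefficient
and root `v` has the degree of the minimal polynomial of `v` over the fraction field. -/
theorem natDegree_minpoly_eq {A F' K : Type*} [CommRing A] [IsDomain A] [IsIntegrallyClosed A]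
    [Field F'] [Field K] [Algebra A F'] [IsFractionRing A F'] [Algebra A K] [Algebra F' K]
    [IsScalarTower A F' K] (v : K) (G : A[X]) (hG : Irreducible G) (hlc : IsUnit G.leadingCoeff)
    (hv : aeval v G = 0) : (minpoly F' v).natDegree = G.natDegree := by
  obtain ⟨b, hb⟩ := hlc
  have hmonic : (C ((b⁻¹ : Aˣ) : A) * G).Monic := by
    rw [Monic, leadingCoeff_mul, leadingCoeff_C, ← hb]
    simp
  have hint : IsIntegral A v :=
    ⟨C ((b⁻¹ : Aˣ) : A) * G, hmonic, by rw [← aeval_def, map_mul, hv, mul_zero]⟩
  have hinj : Function.Injective (algebraMap A K) := by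
    rw [IsScalarTower.algebraMap_eq A F' K]
    exact (algebraMap F' K).injective.comp (IsFractionRing.injective A F')
  haveI : FaithfulSMul A K := (faithfulSMul_iff_algebraMap_injective A K).mpr hinj
  have hdvd : minpoly A v ∣ G := minpoly.isIntegrallyClosed_dvd hint hv
  obtain ⟨w, hw⟩ := hdvd
  have hnu : ¬ IsUnit (minpoly A v) := minpoly.not_isUnit A v
  have hwu : IsUnit w := (hG.isUnit_or_isUnit hw).resolve_left hnu
  have h1 : G.natDegree = (minpoly A v).natDegree := by
    rw [hw, natDegree_mul (minpoly.ne_zero hint) hwu.ne_zero, natDegree_eq_zero_of_isUnit hwu,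
      add_zero]
  rw [minpoly.isIntegrallyClosed_eq_field_fractions' F' hint, (minpoly.monic hint).natDegree_map,
    h1]

variable (k : Type*) [Field k]

/-- `k[X₀, X₁] ≃ k[X][T]`, `X₀ ↦ T`, `X₁ ↦ C X`. -/
noncomputable def Phi : MvPolynomial (Fin 2) k ≃ₐ[k] Polynomial (Polynomial k) :=
  (MvPolynomial.finSuccEquiv k 1).trans
    (Polynomial.mapAlgEquiv
      ((MvPolynomial.renameEquiv k finOneEquiv).trans (MvPolynomial.pUnitAlgEquiv k)))

theorem Phi_X0 : Phi k (MvPolynomial.X 0) = Polynomial.X := by
  simp [Phi, MvPolynomial.finSuccEquiv_X_zero]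

theorem Phi_X1 : Phi k (MvPolynomial.X 1) = Polynomial.C Polynomial.X := by
  have h1 : (MvPolynomial.finSuccEquiv k 1) (MvPolynomial.X 1) =
      Polynomial.C (MvPolynomial.X 0) := MvPolynomial.finSuccEquiv_X_succ (j := 0)
  simp [Phi, h1]

variable {k}

theorem eval₂_Phi {K : Type*} [Field K] [Algebra k K] (u v : K) (q : MvPolynomial (Fin 2) k) :
    Polynomial.eval₂ ((Polynomial.aeval u : k[X] →ₐ[k] K) : k[X] →+* K) v (Phi k q) =
      MvPolynomial.aeval ![v, u] q := by
  let θ : Polynomial (Polynomial k) →ₐ[k] K :=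
    Polynomial.eval₂AlgHom (Polynomial.aeval u) v (fun _ => Commute.all _ _)
  have h : θ.comp (Phi k).toAlgHom = MvPolynomial.aeval ![v, u] := by
    apply MvPolynomial.algHom_ext
    intro i
    fin_cases i
    · simp [θ, Phi_X0]
    · simp [θ, Phi_X1]
  exact AlgHom.congr_fun h q

theorem sum_fin_two (m : Fin 2 →₀ ℕ) : (m.sum fun _ e => e) = m 0 + m 1 := by
  rw [Finsupp.sum_fintype _ _ (fun _ => rfl), Fin.sum_univ_two]

theorem coeff_eq_zero_of_lt {g : MvPolynomial (Fin 2) k} {e : ℕ} (hdeg : g.totalDegree ≤ e)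
    (m : Fin 2 →₀ ℕ) (hm : e < m 0 + m 1) : g.coeff m = 0 := by
  apply MvPolynomial.coeff_eq_zero_of_totalDegree_lt
  have := sum_fin_two m
  rw [Finsupp.sum] at this
  rw [this]
  omega

theorem Phi_coeff (g : MvPolynomial (Fin 2) k) (j : ℕ) :
    (Phi k g).coeff j =
      ((MvPolynomial.renameEquiv k finOneEquiv).trans (MvPolynomial.pUnitAlgEquiv k))
        ((MvPolynomial.finSuccEquiv k 1 g).coeff j) := by
  simp [Phi, Polynomial.coeff_map]

/-- degree and leading coefficient of `Phi g`. -/
theorem Phi_natDegree {g : MvPolynomial (Fin 2) k} {e : ℕ} (hdeg : g.totalDegree ≤ e)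
    (hb : g.coeff (Finsupp.single 0 e) ≠ 0) :
    (Phi k g).natDegree = e ∧ (Phi k g).leadingCoeff = Polynomial.C (g.coeff (Finsupp.single 0 e)) := by
  have h1 : ∀ j, e < j → (MvPolynomial.finSuccEquiv k 1 g).coeff j = 0 := by
    intro j hj
    ext m
    rw [MvPolynomial.finSuccEquiv_coeff_coeff, MvPolynomial.coeff_zero]
    apply coeff_eq_zero_of_lt hdeg
    simp only [Finsupp.cons_zero]
    omega
  have h2 : (MvPolynomial.finSuccEquiv k 1 g).coeff e =
      MvPolynomial.C (g.coeff (Finsupp.single 0 e)) := by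
    ext m
    rw [MvPolynomial.finSuccEquiv_coeff_coeff, MvPolynomial.coeff_C]
    by_cases hm : m = 0
    · subst hm
      rw [Finsupp.cons_zero_eq_single_zero]
      simp
    · rw [if_neg (Ne.symm hm)]
      apply coeff_eq_zero_of_lt hdeg
      have h0 : m 0 ≠ 0 := by
        intro h0
        apply hm
        apply Finsupp.ext
        intro i
        have : i = 0 := Subsingleton.elim _ _
        rw [this, h0]; rfl
      have hc1 : (m.cons e) 1 = m 0 := by
        have : (1 : Fin 2) = Fin.succ 0 := rfl
        rw [this, Finsupp.cons_succ]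
      rw [Finsupp.cons_zero, hc1]
      omega
  have h3 : ∀ j, e < j → (Phi k g).coeff j = 0 := by
    intro j hj
    rw [Phi_coeff, h1 j hj, map_zero]
  have h4 : (Phi k g).coeff e = Polynomial.C (g.coeff (Finsupp.single 0 e)) := by
    rw [Phi_coeff, h2]
    simp
  have h5 : (Phi k g).natDegree = e := by
    apply Polynomial.natDegree_eq_of_le_of_coeff_ne_zero
    · rw [Polynomial.natDegree_le_iff_coeff_eq_zero]
      exact h3
    · rw [h4]
      simpa using hb
  refine ⟨h5, ?_⟩
  rw [Polynomial.leadingCoeff, h5, h4]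

/-- the shear `X₁ ↦ X₁ + c X₀`. -/
noncomputable def shear (c : k) : MvPolynomial (Fin 2) k ≃ₐ[k] MvPolynomial (Fin 2) k :=
  AlgEquiv.ofAlgHom
    (MvPolynomial.aeval ![MvPolynomial.X 0, MvPolynomial.X 1 + MvPolynomial.C c * MvPolynomial.X 0])
    (MvPolynomial.aeval ![MvPolynomial.X 0, MvPolynomial.X 1 - MvPolynomial.C c * MvPolynomial.X 0])
    (by
      apply MvPolynomial.algHom_ext
      intro i
      fin_cases i <;> simp)
    (by
      apply MvPolynomial.algHom_ext
      intro i
      fin_cases i <;> simp)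

theorem shear_apply (c : k) (f : MvPolynomial (Fin 2) k) :
    shear c f = MvPolynomial.aeval
      ![MvPolynomial.X 0, MvPolynomial.X 1 + MvPolynomial.C c * MvPolynomial.X 0] f := rfl

theorem aeval_shear {K : Type*} [Field K] [Algebra k K] (c : k) (v u : K)
    (f : MvPolynomial (Fin 2) k) :
    MvPolynomial.aeval ![v, u] (shear c f) = MvPolynomial.aeval ![v, u + algebraMap k K c * v] f := by
  have h : (MvPolynomial.aeval ![v, u]).comp (shear c).toAlgHom =
      MvPolynomial.aeval ![v, u + algebraMap k K c * v] := by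
    apply MvPolynomial.algHom_ext
    intro i
    fin_cases i <;> simp [shear_apply]
  exact AlgHom.congr_fun h f

theorem totalDegree_shear_le (c : k) (f : MvPolynomial (Fin 2) k) :
    (shear c f).totalDegree ≤ f.totalDegree := by
  rw [shear_apply, MvPolynomial.aeval_def, MvPolynomial.eval₂_eq']
  apply MvPolynomial.totalDegree_finsetSum_le
  intro m hm
  have hm' := MvPolynomial.le_totalDegree hm
  rw [sum_fin_two] at hm'
  rw [Fin.prod_univ_two]
  simp only [Matrix.cons_val_zero, Matrix.cons_val_one]
  have h1 : (MvPolynomial.X 0 ^ m 0 : MvPolynomial (Fin 2) k).totalDegree ≤ m 0 := by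
    refine (MvPolynomial.totalDegree_pow _ _).trans ?_
    rw [MvPolynomial.totalDegree_X, mul_one]
  have h2 : ((MvPolynomial.X 1 + MvPolynomial.C c * MvPolynomial.X 0) ^ m 1 :
      MvPolynomial (Fin 2) k).totalDegree ≤ m 1 := by
    refine (MvPolynomial.totalDegree_pow _ _).trans ?_
    have : (MvPolynomial.X 1 + MvPolynomial.C c * MvPolynomial.X 0 :
        MvPolynomial (Fin 2) k).totalDegree ≤ 1 := by
      refine (MvPolynomial.totalDegree_add _ _).trans (max_le ?_ ?_)
      · rw [MvPolynomial.totalDegree_X]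
      · refine (MvPolynomial.totalDegree_mul _ _).trans ?_
        rw [MvPolynomial.totalDegree_C, MvPolynomial.totalDegree_X]
    calc m 1 * _ ≤ m 1 * 1 := Nat.mul_le_mul_left _ this
      _ = m 1 := mul_one _
  refine (MvPolynomial.totalDegree_mul _ _).trans ?_
  have h0 : ((algebraMap k (MvPolynomial (Fin 2) k)) (MvPolynomial.coeff m f)).totalDegree = 0 :=
    MvPolynomial.totalDegree_C _
  rw [h0, zero_add]
  refine (MvPolynomial.totalDegree_mul _ _).trans ?_
  omega

/-- coefficient of `X₀ ^ n` via `X₁ ↦ 0`. -/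
theorem coeff_aeval_X_zero (g : MvPolynomial (Fin 2) k) (n : ℕ) :
    (MvPolynomial.aeval ![(Polynomial.X : k[X]), 0] g).coeff n = g.coeff (Finsupp.single 0 n) := by
  induction g using MvPolynomial.induction_on' with
  | add p q hp hq => rw [map_add, Polynomial.coeff_add, MvPolynomial.coeff_add, hp, hq]
  | monomial m a =>
    rw [MvPolynomial.aeval_monomial, MvPolynomial.coeff_monomial]
    rw [Finsupp.prod_fintype _ _ (fun _ => pow_zero _), Fin.prod_univ_two]
    simp only [Matrix.cons_val_zero, Matrix.cons_val_one]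
    by_cases h1 : m 1 = 0
    · rw [h1, pow_zero, mul_one]
      rw [Polynomial.algebraMap_eq, Polynomial.coeff_C_mul_X_pow]
      have hiff : (m = Finsupp.single 0 n) ↔ n = m 0 := by
        constructor
        · intro h; rw [h]; simp
        · intro h
          ext i
          fin_cases i
          · simp [h]
          · simpa using h1
      by_cases hn : n = m 0
      · rw [if_pos hn, if_pos (hiff.mpr hn)]
      · rw [if_neg hn, if_neg (fun h => hn (hiff.mp h))]
    · rw [zero_pow h1, mul_zero, mul_zero, Polynomial.coeff_zero]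
      rw [if_neg]
      intro h
      apply h1
      rw [h]
      simp

/-- the polynomial `c ↦ ` coefficient of `X₀ ^ e` in `shear c f`. -/
noncomputable def hpoly (f : MvPolynomial (Fin 2) k) (e : ℕ) : k[X] :=
  ∑ m ∈ f.support,
    if e = m 0 + m 1 then Polynomial.C (f.coeff m) * Polynomial.X ^ (m 1) else 0

theorem coeff_shear (c : k) (f : MvPolynomial (Fin 2) k) (e : ℕ) :
    (shear c f).coeff (Finsupp.single 0 e) = (hpoly f e).eval c := by
  rw [← coeff_aeval_X_zero]
  have h : (MvPolynomial.aeval ![(Polynomial.X : k[X]), 0]).comp (shear c).toAlgHom =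
      MvPolynomial.aeval ![(Polynomial.X : k[X]), Polynomial.C c * Polynomial.X] := by
    apply MvPolynomial.algHom_ext
    intro i
    fin_cases i <;> simp [shear_apply, Polynomial.algebraMap_eq]
  have h' : MvPolynomial.aeval ![(Polynomial.X : k[X]), 0] (shear c f) =
      MvPolynomial.aeval ![(Polynomial.X : k[X]), Polynomial.C c * Polynomial.X] f :=
    AlgHom.congr_fun h f
  rw [h', MvPolynomial.aeval_def, MvPolynomial.eval₂_eq', Polynomial.finset_sum_coeff, hpoly,
    Polynomial.eval_finset_sum]
  apply Finset.sum_congr rfl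
  intro m _
  rw [Fin.prod_univ_two]
  simp only [Matrix.cons_val_zero, Matrix.cons_val_one]
  have : (algebraMap k k[X]) (MvPolynomial.coeff m f) *
      (Polynomial.X ^ m 0 * (Polynomial.C c * Polynomial.X) ^ m 1) =
      Polynomial.C (MvPolynomial.coeff m f * c ^ m 1) * Polynomial.X ^ (m 0 + m 1) := by
    rw [mul_pow, ← Polynomial.C_pow, pow_add, Polynomial.C_mul, Polynomial.algebraMap_eq]
    ring
  rw [this, Polynomial.coeff_C_mul_X_pow]
  by_cases he : e = m 0 + m 1
  · rw [if_pos he, if_pos he]
    simp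
  · rw [if_neg he, if_neg he]
    simp

theorem hpoly_ne_zero {f : MvPolynomial (Fin 2) k} (hf : f ≠ 0) : hpoly f f.totalDegree ≠ 0 := by
  classical
  have hne : f.support.Nonempty := by
    rw [Finset.nonempty_iff_ne_empty]
    intro h
    exact hf (MvPolynomial.support_eq_empty.mp h)
  obtain ⟨m₀, hm₀, hsup⟩ := Finset.exists_mem_eq_sup f.support hne (fun s => s.sum fun _ e => e)
  have hdeg : f.totalDegree = m₀ 0 + m₀ 1 := by
    rw [MvPolynomial.totalDegree, hsup, sum_fin_two]
  intro h0
  have hc : (hpoly f f.totalDegree).coeff (m₀ 1) = f.coeff m₀ := by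
    rw [hpoly, Polynomial.finset_sum_coeff]
    rw [Finset.sum_eq_single m₀]
    · rw [if_pos hdeg, Polynomial.coeff_C_mul_X_pow, if_pos rfl]
    · intro m _ hmne
      by_cases he : f.totalDegree = m 0 + m 1
      · rw [if_pos he, Polynomial.coeff_C_mul_X_pow]
        rw [if_neg]
        intro h1
        apply hmne
        ext i
        fin_cases i
        · simp only [Fin.zero_eta]
          omega
        · simp only [Fin.mk_one]
          omega
      · rw [if_neg he, Polynomial.coeff_zero]
    · intro h; exact absurd hm₀ h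
  rw [h0, Polynomial.coeff_zero] at hc
  exact (MvPolynomial.mem_support_iff.mp hm₀) hc.symm

/-- over an infinite field some shear has nonzero `X₀ ^ e` coefficient, `e` the total degree. -/
theorem exists_shear [Infinite k] {f : MvPolynomial (Fin 2) k} (hf : f ≠ 0) :
    ∃ c : k, (shear c f).coeff (Finsupp.single 0 f.totalDegree) ≠ 0 := by
  by_contra hcon
  push_neg at hcon
  apply hpoly_ne_zero hf
  apply Polynomial.funext
  intro c
  rw [← coeff_shear, hcon c, Polynomial.eval_zero]

theorem totalDegree_pos_of_irreducible {f : MvPolynomial (Fin 2) k} (hf : Irreducible f) :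
    0 < f.totalDegree := by
  rw [Nat.pos_iff_ne_zero]
  intro h0
  rw [MvPolynomial.totalDegree_eq_zero_iff_eq_C] at h0
  by_cases ha : MvPolynomial.coeff 0 f = 0
  · rw [ha, map_zero] at h0
    exact hf.ne_zero h0
  · apply hf.not_isUnit
    rw [h0]
    exact (IsUnit.mk0 _ ha).map MvPolynomial.C

end Groth.Agent.H81.PlaneAlg
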