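import Groth.Agent.H81.RatPlace
import Groth.Agent.H81.PlaneAlg
import Groth.Agent.H27.MapDivOne
import Groth.Agent.H55.FFDeg
import Mathlib

/-!
Degree of a plane model: for `g(v, u) = 0` with `g` of total degree `≤ e` and nonzero `X₀ ^ e`
coefficient, the divisor of the map `(1 : v : u)` is the pole divisor of `u`, of degree `e`.
-/

set_option autoImplicit false

namespace Groth.Agent.H81.PlaneDeg

open FunFld Polynomial IntermediateField WithZero

variable {k K : Type*} [Field k] [Field K] [Algebra k K]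

theorem val_le (Q : Place k K) {g : MvPolynomial (Fin 2) k} {e : ℕ} (hdeg : g.totalDegree ≤ e)
    (hb : g.coeff (Finsupp.single 0 e) ≠ 0) (v u : K)
    (hg : MvPolynomial.aeval ![v, u] g = 0) : Q.1 v ≤ max 1 (Q.1 u) := by
  classical
  by_contra hcon
  rw [not_le, max_lt_iff] at hcon
  obtain ⟨h1a, hba⟩ := hcon
  set a := Q.1 v with ha
  set b := Q.1 u with hb'
  have ha0 : 0 < a := lt_trans zero_lt_one h1a
  rw [MvPolynomial.aeval_def, MvPolynomial.eval₂_eq'] at hg
  have hmem : Finsupp.single 0 e ∈ g.support := MvPolynomial.mem_support_iff.mpr hb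
  rw [← Finset.add_sum_erase _ _ hmem] at hg
  have hterm : Q.1 (algebraMap k K (g.coeff (Finsupp.single 0 e)) *
      ∏ i, ![v, u] i ^ (Finsupp.single (0 : Fin 2) e) i) = a ^ e := by
    rw [map_mul, RatPlace.val_const Q hb, one_mul, Fin.prod_univ_two]
    simp [ha]
  have hrest : Q.1 (∑ m ∈ g.support.erase (Finsupp.single 0 e),
      algebraMap k K (g.coeff m) * ∏ i, ![v, u] i ^ m i) < a ^ e := by
    apply Valuation.map_sum_lt _ (pow_ne_zero _ ha0.ne')
    intro m hm
    rw [Finset.mem_erase] at hm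
    obtain ⟨hmne, hms⟩ := hm
    have hle := MvPolynomial.le_totalDegree hms
    rw [PlaneAlg.sum_fin_two] at hle
    have hle' : m 0 + m 1 ≤ e := hle.trans hdeg
    rw [map_mul, Fin.prod_univ_two, map_mul, map_pow, map_pow]
    simp only [Matrix.cons_val_zero, Matrix.cons_val_one]
    have hc : Q.1 (algebraMap k K (g.coeff m)) ≤ 1 := Q.2.1 _
    have hlt : a ^ m 0 * b ^ m 1 < a ^ e := by
      by_cases hm1 : m 1 = 0
      · have hm0 : m 0 ≠ e := by
          intro h
          apply hmne
          ext i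
          fin_cases i
          · simp [h]
          · simp [hm1]
        rw [hm1, pow_zero, mul_one]
        exact pow_lt_pow_right₀ h1a (by omega)
      · have hlt1 : b ^ m 1 < a ^ m 1 := pow_lt_pow_left₀ hba zero_le' hm1
        calc a ^ m 0 * b ^ m 1 < a ^ m 0 * a ^ m 1 :=
              mul_lt_mul_of_pos_left hlt1 (pow_pos ha0 _)
          _ = a ^ (m 0 + m 1) := (pow_add _ _ _).symm
          _ ≤ a ^ e := pow_le_pow_right₀ h1a.le hle'
    calc Q.1 (algebraMap k K (g.coeff m)) * (a ^ m 0 * b ^ m 1)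
        ≤ 1 * (a ^ m 0 * b ^ m 1) := mul_le_mul' hc le_rfl
      _ = a ^ m 0 * b ^ m 1 := one_mul _
      _ < a ^ e := hlt
  have heq := eq_neg_of_add_eq_zero_left hg
  rw [heq, Valuation.map_neg] at hterm
  rw [hterm] at hrest
  exact lt_irrefl _ hrest

theorem exp_max_eq (Q : Place k K) (u : K) :
    exp (max (-(Q.ord u)) 0) = max 1 (Q.1 u) := by
  by_cases hu0 : u = 0
  · subst hu0
    simp [Place.ord]
  · have hne : Q.1 u ≠ 0 := (Valuation.ne_zero_iff _).mpr hu0
    have h1 : Q.1 u = exp (-(Q.ord u)) := by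
      rw [Place.ord, neg_neg, exp_log hne]
    rw [h1]
    rcases le_total (-(Q.ord u)) 0 with h | h
    · rw [max_eq_right h, max_eq_left]
      · exact exp_zero
      · rw [← exp_zero, exp_le_exp]; exact h
    · rw [max_eq_left h, max_eq_right]
      rw [← exp_zero, exp_le_exp]; exact h

theorem mapDiv_eq_poleDiv (hK : IsFunctionField k K) {g : MvPolynomial (Fin 2) k} {e : ℕ}
    (hdeg : g.totalDegree ≤ e) (hb : g.coeff (Finsupp.single 0 e) ≠ 0) (v u : K)
    (hg : MvPolynomial.aeval ![v, u] g = 0) :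
    mapDiv k ![(1 : K), v, u] = H55.poleDiv k u := by
  ext Q
  rw [H55.poleDiv_apply hK]
  have hv := val_le Q hdeg hb v u hg
  have hkey := exp_max_eq Q u
  apply H27.MapDivOne.mapDiv_eq_of_val hK _ 0 rfl Q
  · intro i
    rw [hkey]
    fin_cases i
    · simp
    · simpa using hv
    · simp
  · rw [hkey]
    rcases le_total (Q.1 u) 1 with h | h
    · exact ⟨0, by simp [max_eq_left h]⟩
    · exact ⟨2, by simp [max_eq_right h]⟩

theorem transcendental_u (hK : IsFunctionField k K) {g : MvPolynomial (Fin 2) k} {e : ℕ}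
    (hdeg : g.totalDegree ≤ e) (hb : g.coeff (Finsupp.single 0 e) ≠ 0) (v u : K)
    (hg : MvPolynomial.aeval ![v, u] g = 0)
    (hgen : IntermediateField.adjoin k ({v, u} : Set K) = ⊤) : Transcendental k u := by
  intro halg
  have hFF := H55.G.isFF1_of_isFunctionField hK
  have hu1 : ∀ Q : Place k K, Q.1 u ≤ 1 := fun Q => by
    by_cases hu0 : u = 0
    · simp [hu0]
    · exact (H55.G.val_eq_one_of_isAlgebraic Q hu0 halg).le
  have hv1 : ∀ Q : Place k K, Q.1 v ≤ 1 := fun Q =>
    (val_le Q hdeg hb v u hg).trans (max_le le_rfl (hu1 Q))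
  have hvalg : IsAlgebraic k v := by
    by_contra hv
    obtain ⟨P, hP⟩ := H55.G.exists_pole hFF v hv
    exact absurd (hv1 P) (not_le.mpr hP)
  obtain ⟨⟨t, ht, -⟩, -⟩ := hK
  apply ht
  have halgK : Algebra.IsAlgebraic k (IntermediateField.adjoin k ({v, u} : Set K)) :=
    IntermediateField.isAlgebraic_adjoin (by
      intro z hz
      rcases hz with rfl | hz
      · exact hvalg.isIntegral
      · rw [Set.mem_singleton_iff] at hz
        subst hz
        exact halg.isIntegral)
  have htm : t ∈ IntermediateField.adjoin k ({v, u} : Set K) := by rw [hgen]; trivial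
  have h := halgK.isAlgebraic ⟨t, htm⟩
  have h2 := h.algHom (IntermediateField.adjoin k ({v, u} : Set K)).val
  simpa using h2

theorem finrank_eq (hK : IsFunctionField k K) {g : MvPolynomial (Fin 2) k} (hirr : Irreducible g)
    {e : ℕ} (hdeg : g.totalDegree ≤ e) (hb : g.coeff (Finsupp.single 0 e) ≠ 0) (v u : K)
    (hg : MvPolynomial.aeval ![v, u] g = 0) (hu : Transcendental k u)
    (htop : IntermediateField.adjoin k⟮u⟯ ({v} : Set K) = ⊤) :
    Module.finrank k⟮u⟯ K = e := by
  haveI := H55.ff_finite hK hu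
  letI algAK : Algebra k[X] K := (Polynomial.aeval u : k[X] →ₐ[k] K).toRingHom.toAlgebra
  letI algAF : Algebra k[X] k⟮u⟯ :=
    (Polynomial.aeval (RatPlace.gen (k := k) u) : k[X] →ₐ[k] k⟮u⟯).toRingHom.toAlgebra
  haveI : IsScalarTower k[X] k⟮u⟯ K :=
    IsScalarTower.of_algebraMap_eq (fun p => (RatPlace.coe_aeval_gen u p).symm)
  have hinj : Function.Injective (algebraMap k[X] k⟮u⟯) :=
    transcendental_iff_injective.mp (RatPlace.transcendental_gen hu)
  haveI : FaithfulSMul k[X] k⟮u⟯ := (faithfulSMul_iff_algebraMap_injective _ _).mpr hinj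
  haveI : IsFractionRing k[X] k⟮u⟯ :=
    IsFractionRing.of_field _ _ (fun z => RatPlace.exists_frac u z)
  obtain ⟨hnd, hlc⟩ := PlaneAlg.Phi_natDegree hdeg hb
  have hGirr : Irreducible (PlaneAlg.Phi k g) :=
    (MulEquiv.irreducible_iff (PlaneAlg.Phi k)).mpr hirr
  have hv : Polynomial.aeval v (PlaneAlg.Phi k g) = 0 := by
    rw [Polynomial.aeval_def]
    exact (PlaneAlg.eval₂_Phi u v g).trans hg
  have hunit : IsUnit (PlaneAlg.Phi k g).leadingCoeff := by
    rw [hlc]
    exact (IsUnit.mk0 _ hb).map Polynomial.C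
  have h := PlaneAlg.natDegree_minpoly_eq (A := k[X]) (F' := k⟮u⟯) v (PlaneAlg.Phi k g) hGirr
    hunit hv
  rw [hnd] at h
  rw [← h]
  exact ((Field.primitive_element_iff_minpoly_natDegree_eq k⟮u⟯ v).mp htop).symm

/-- degree of a plane model over an infinite constant field. -/
theorem deg_mapDiv [Infinite k] (hK : IsFunctionField k K) (x y : K)
    (hxy : IntermediateField.adjoin k ({x, y} : Set K) = ⊤) (f : MvPolynomial (Fin 2) k)
    (hf : Irreducible f) (hfxy : MvPolynomial.aeval ![x, y] f = 0) :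
    (mapDiv k ![(1 : K), x, y]).deg = f.totalDegree := by
  obtain ⟨c, hc⟩ := PlaneAlg.exists_shear hf.ne_zero
  set g := PlaneAlg.shear c f with hgdef
  set e := f.totalDegree with he
  have hdeg : g.totalDegree ≤ e := PlaneAlg.totalDegree_shear_le c f
  have hirr : Irreducible g := (MulEquiv.irreducible_iff (PlaneAlg.shear c)).mpr hf
  set u := y - algebraMap k K c * x with hu
  have hg : MvPolynomial.aeval ![x, u] g = 0 := by
    rw [hgdef, PlaneAlg.aeval_shear]
    have : u + algebraMap k K c * x = y := by rw [hu]; ring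
    rw [this]
    exact hfxy
  have hgen : IntermediateField.adjoin k ({x, u} : Set K) = ⊤ := by
    rw [eq_top_iff, ← hxy, IntermediateField.adjoin_le_iff]
    intro z hz
    rcases hz with rfl | hz
    · exact IntermediateField.subset_adjoin k _ (by simp)
    · rw [Set.mem_singleton_iff] at hz
      rw [hz]
      have h1 : u ∈ IntermediateField.adjoin k ({x, u} : Set K) :=
        IntermediateField.subset_adjoin k _ (by simp)
      have h2 : x ∈ IntermediateField.adjoin k ({x, u} : Set K) :=
        IntermediateField.subset_adjoin k _ (by simp)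
      have : y = u + algebraMap k K c * x := by rw [hu]; ring
      rw [this]
      exact add_mem h1 (mul_mem (IntermediateField.algebraMap_mem _ c) h2)
  have hutr := transcendental_u hK hdeg hc x u hg hgen
  have htop : IntermediateField.adjoin k⟮u⟯ ({x} : Set K) = ⊤ := by
    apply (IntermediateField.restrictScalars_eq_top_iff (K := k)).mp
    rw [IntermediateField.adjoin_adjoin_left, ← hgen]
    congr 1
    ext z
    simp [or_comm]
  have hcoord : mapDiv k ![(1 : K), x, u] = mapDiv k ![(1 : K), x, y] := by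
    let A : Matrix (Fin 3) (Fin 3) k := !![1, 0, 0; 0, 1, 0; 0, c, 1]
    have hA : A.det ≠ 0 := by
      simp [A, Matrix.det_fin_three]
    have hu3 : ∀ i, ∑ j, algebraMap k K (A i j) * ![(1 : K), x, u] j = ![(1 : K), x, y] i := by
      intro i
      fin_cases i
      · simp [A, Fin.sum_univ_three]
      · simp [A, Fin.sum_univ_three]
      · simp [A, Fin.sum_univ_three, hu]
    have h := H27.MapDivOne.mapDiv_coord_change_eq hK A hA x y ![(1 : K), x, u] hu3 (by simp)
    have e1 : (![(1 : K), x, u] 1 / ![(1 : K), x, u] 0) = x := by simp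
    have e2 : (![(1 : K), x, u] 2 / ![(1 : K), x, u] 0) = u := by simp
    have e3 : (![(1 : K), x, u] 0) = 1 := by simp
    rw [e1, e2, e3] at h
    have hd : FunFld.div k (1 : K) = 0 := by
      have := H55.div_const hK (1 : k)
      rwa [map_one] at this
    rw [h, hd, add_zero]
  rw [← hcoord, mapDiv_eq_poleDiv hK hdeg hc x u hg, H55.deg_poleDiv hK u hutr,
    finrank_eq hK hirr hdeg hc x u hg hutr htop]

end Groth.Agent.H81.PlaneDeg
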