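import Groth.Agent.H36.IdealMulAffine
import Groth.Agent.H9.ComapIdeal
import Groth.Agent.H8.QCohPush

/-!
# `I · f_* F = f_* ((f⁻¹ I) · F)` for affine `f` (helper81)
-/

set_option autoImplicit false
set_option linter.style.haveILetI false
universe u
open CategoryTheory CategoryTheory.Limits AlgebraicGeometry TopologicalSpace Opposite

namespace Groth.Agent.H81.IdealMulPush

variable {Y X : Scheme.{u}}

/-- identity map from sections of the pushforward to sections of `F`. -/
def toF (f : Y ⟶ X) (F : Y.Modules) (W : X.Opens)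
    (x : Γ((Scheme.Modules.pushforward f).obj F, W)) : Γ(F, f ⁻¹ᵁ W) := x

/-- identity map from sections of `F` to sections of the pushforward. -/
def ofF (f : Y ⟶ X) (F : Y.Modules) (W : X.Opens) (x : Γ(F, f ⁻¹ᵁ W)) :
    Γ((Scheme.Modules.pushforward f).obj F, W) := x

theorem toF_add (f : Y ⟶ X) (F : Y.Modules) (W : X.Opens)
    (x y : Γ((Scheme.Modules.pushforward f).obj F, W)) :
    toF f F W (x + y) = toF f F W x + toF f F W y := rfl

theorem toF_smul (f : Y ⟶ X) (F : Y.Modules) (W : X.Opens) (a : Γ(X, W))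
    (x : Γ((Scheme.Modules.pushforward f).obj F, W)) :
    toF f F W (a • x) = (f.app W a) • toF f F W x := rfl

theorem ofF_add (f : Y ⟶ X) (F : Y.Modules) (W : X.Opens) (x y : Γ(F, f ⁻¹ᵁ W)) :
    ofF f F W (x + y) = ofF f F W x + ofF f F W y := rfl

theorem ofF_zero (f : Y ⟶ X) (F : Y.Modules) (W : X.Opens) : ofF f F W 0 = 0 := rfl

theorem ofF_smul (f : Y ⟶ X) (F : Y.Modules) (W : X.Opens) (a : Γ(X, W)) (x : Γ(F, f ⁻¹ᵁ W)) :
    ofF f F W ((f.app W a) • x) = a • ofF f F W x := rfl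

theorem ofF_toF (f : Y ⟶ X) (F : Y.Modules) (W : X.Opens)
    (x : Γ((Scheme.Modules.pushforward f).obj F, W)) : ofF f F W (toF f F W x) = x := rfl

theorem toF_map (f : Y ⟶ X) {K F : Y.Modules} (φ : K ⟶ F) (W : X.Opens)
    (t : Γ((Scheme.Modules.pushforward f).obj K, W)) :
    toF f F W (Scheme.Modules.Hom.app ((Scheme.Modules.pushforward f).map φ) W t) =
      Scheme.Modules.Hom.app φ (f ⁻¹ᵁ W) (toF f K W t) := rfl

theorem toF_mem (f : Y ⟶ X) (F : Y.Modules) (W : X.Opens) (I : Ideal Γ(X, W))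
    (J : Ideal Γ(Y, f ⁻¹ᵁ W)) (hJ : ∀ a ∈ I, (f.app W).hom a ∈ J)
    (s : Γ((Scheme.Modules.pushforward f).obj F, W))
    (hs : s ∈ I • (⊤ : Submodule Γ(X, W) Γ((Scheme.Modules.pushforward f).obj F, W))) :
    toF f F W s ∈ J • (⊤ : Submodule Γ(Y, f ⁻¹ᵁ W) Γ(F, f ⁻¹ᵁ W)) := by
  refine Submodule.smul_induction_on hs ?_ ?_
  · intro a ha x _
    rw [toF_smul]
    exact Submodule.smul_mem_smul (hJ a ha) Submodule.mem_top
  · intro x y hx hy
    rw [toF_add]
    exact Submodule.add_mem _ hx hy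

theorem ofF_mem (f : Y ⟶ X) (F : Y.Modules) (W : X.Opens) (I : Ideal Γ(X, W))
    (t : Γ(F, f ⁻¹ᵁ W))
    (ht : t ∈ (I.map (f.app W).hom) • (⊤ : Submodule Γ(Y, f ⁻¹ᵁ W) Γ(F, f ⁻¹ᵁ W))) :
    ofF f F W t ∈ I • (⊤ : Submodule Γ(X, W) Γ((Scheme.Modules.pushforward f).obj F, W)) := by
  have key : ∀ b ∈ I.map (f.app W).hom, ∀ x : Γ(F, f ⁻¹ᵁ W), ofF f F W (b • x) ∈
      I • (⊤ : Submodule Γ(X, W) Γ((Scheme.Modules.pushforward f).obj F, W)) := by
    intro b hb
    refine Submodule.span_induction ?_ ?_ ?_ ?_ hb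
    · rintro _ ⟨a, ha, rfl⟩ x
      have h1 := ofF_smul f F W a x
      rw [h1]
      exact Submodule.smul_mem_smul ha Submodule.mem_top
    · intro x
      rw [zero_smul, ofF_zero]
      exact Submodule.zero_mem _
    · intro b₁ b₂ _ _ h₁ h₂ x
      rw [add_smul, ofF_add]
      exact Submodule.add_mem _ (h₁ x) (h₂ x)
    · intro c b' _ h' x
      rw [smul_eq_mul, mul_comm, mul_smul]
      exact h' (c • x)
  refine Submodule.smul_induction_on ht ?_ ?_
  · intro b hb x _
    exact key b hb x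
  · intro x y hx hy
    rw [ofF_add]
    exact Submodule.add_mem _ hx hy

theorem comap_ideal_preimage (f : Y ⟶ X) [IsAffineHom f] (I : X.IdealSheafData)
    (W : X.affineOpens) :
    (I.comap f).ideal ⟨f ⁻¹ᵁ W.1, W.2.preimage f⟩ = (I.ideal W).map (f.app W.1).hom := by
  rw [Groth.Agent.H9.comap_ideal f I W ⟨f ⁻¹ᵁ W.1, W.2.preimage f⟩ le_rfl]
  have h1 : f.appLE W.1 (f ⁻¹ᵁ W.1) le_rfl = f.app W.1 := (Scheme.Hom.app_eq_appLE f).symm
  rw [h1]

open Groth.Agent.H36.IdealMul in
theorem exists_iso (f : Y ⟶ X) [IsAffineHom f]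
    (F : Y.Modules) [F.IsQuasicoherent] (I : X.IdealSheafData) :
    ∃ e : (Dual3.idealMul I).obj ((Scheme.Modules.pushforward f).obj F) ≅
        (Scheme.Modules.pushforward f).obj ((Dual3.idealMul (I.comap f)).obj F),
      e.hom ≫ (Scheme.Modules.pushforward f).map (Dual3.idealMulι (I.comap f) F) =
        Dual3.idealMulι I ((Scheme.Modules.pushforward f).obj F) := by
  haveI hPq : ((Scheme.Modules.pushforward f).obj F).IsQuasicoherent :=
    Groth.Agent.H8.isQuasicoherent_pushforward f F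
  haveI hKq : ((Dual3.idealMul (I.comap f)).obj F).IsQuasicoherent :=
    isQuasicoherent_idealMul (I.comap f) F
  haveI hBq : ((Scheme.Modules.pushforward f).obj
      ((Dual3.idealMul (I.comap f)).obj F)).IsQuasicoherent :=
    Groth.Agent.H8.isQuasicoherent_pushforward f _
  haveI hAq : ((Dual3.idealMul I).obj ((Scheme.Modules.pushforward f).obj F)).IsQuasicoherent :=
    isQuasicoherent_idealMul I _
  let a := Dual3.idealMulι I ((Scheme.Modules.pushforward f).obj F)
  let b := (Scheme.Modules.pushforward f).map (Dual3.idealMulι (I.comap f) F)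
  let u' := unitJ (I.comap f) F
  have hw : Dual3.idealMulι (I.comap f) F ≫ u' = 0 := idealMulι_comp_unit (I.comap f) F
  have hb : IsLimit (KernelFork.ofι ((Scheme.Modules.pushforward f).map
      (Dual3.idealMulι (I.comap f) F)) (by rw [← Functor.map_comp, hw, Functor.map_zero]) :
      Fork ((Scheme.Modules.pushforward f).map u') 0) :=
    isLimitForkMapOfIsLimit' (Scheme.Modules.pushforward f) hw (kernelIsKernel u')
  haveI : Mono b := mono_of_isLimit_fork hb
  -- `b` factors through `a`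
  have hb0 : b ≫ unitJ I ((Scheme.Modules.pushforward f).obj F) = 0 := by
    apply hom_eq_zero_of_affine_cover _ Set.univ (exists_affine_mem X)
    intro W _ t
    show Scheme.Modules.Hom.app (unitJ I ((Scheme.Modules.pushforward f).obj F)) W.1
      (Scheme.Modules.Hom.app b W.1 t) = 0
    rw [unit_app_eq_zero_iff]
    have h1 := idealMulι_app_mem (I.comap f) F ⟨f ⁻¹ᵁ W.1, W.2.preimage f⟩
      (toF f ((Dual3.idealMul (I.comap f)).obj F) W.1 t)
    rw [comap_ideal_preimage] at h1
    have h2 := ofF_mem f F W.1 (I.ideal W) _ h1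
    rw [← toF_map, ofF_toF] at h2
    exact h2
  -- `a` factors through `b`
  have ha0 : a ≫ (Scheme.Modules.pushforward f).map u' = 0 := by
    apply hom_eq_zero_of_affine_cover _ Set.univ (exists_affine_mem X)
    intro W _ t
    have h1 := idealMulι_app_mem I ((Scheme.Modules.pushforward f).obj F) W t
    have h2 := toF_mem f F W.1 (I.ideal W) ((I.comap f).ideal ⟨f ⁻¹ᵁ W.1, W.2.preimage f⟩)
      (by
        intro a ha
        rw [comap_ideal_preimage]
        exact Ideal.mem_map_of_mem _ ha) _ h1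
    have h3 := (unit_app_eq_zero_iff (I.comap f) F ⟨f ⁻¹ᵁ W.1, W.2.preimage f⟩ _).mpr h2
    exact h3
  let e' : (Scheme.Modules.pushforward f).obj ((Dual3.idealMul (I.comap f)).obj F) ⟶
      (Dual3.idealMul I).obj ((Scheme.Modules.pushforward f).obj F) :=
    kernel.lift _ b hb0
  have he' : e' ≫ a = b := kernel.lift_ι _ _ _
  obtain ⟨e, he⟩ := Fork.IsLimit.lift' hb a ha0
  have he : e ≫ b = a := he
  refine ⟨⟨e, e', ?_, ?_⟩, he⟩
  · rw [← cancel_mono a, Category.assoc, he', he, Category.id_comp]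
  · rw [← cancel_mono b, Category.assoc, he, he', Category.id_comp]

end Groth.Agent.H81.IdealMulPush
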