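import Mathlib
import Groth.Prelude.Def_SGA1

/-!
# (FLAT) for S2920 (helper79's squad)

An affine morphism is flat as soon as `Γ(Y, V) ⟶ Γ(X, p⁻¹V)` is flat for every affine open `V`.
-/

set_option autoImplicit false
universe u
open CategoryTheory CategoryTheory.Limits AlgebraicGeometry

namespace Groth.Agent.H81.FreeFlat_FLAT

/-- (FLAT) -/
theorem flat_of_forall_app {X Y : Scheme.{u}} (p : X ⟶ Y) [IsAffineHom p]
    (h : ∀ V : Y.Opens, IsAffineOpen V → (p.app V).hom.Flat) : Flat p := by
  rw [IsZariskiLocalAtTarget.iff_of_iSup_eq_top (P := @Flat) (fun V : Y.affineOpens => V.1)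
    (iSup_affineOpens_eq_top Y)]
  intro V
  haveI : IsAffine (V.1 : Y.Opens).toScheme := V.2
  haveI : IsAffine (p ⁻¹ᵁ V.1).toScheme := V.2.preimage p
  rw [HasRingHomProperty.iff_of_isAffine (P := @Flat)]
  rw [Scheme.Hom.appTop, morphismRestrict_app]
  have h1 : (p.app (V.1.ι ''ᵁ ⊤)).hom.Flat := by
    apply h
    have : V.1.ι ''ᵁ ⊤ = V.1 := by simp
    rw [this]
    exact V.2
  have h2 : (X.presheaf.map (eqToHom (image_morphismRestrict_preimage p V.1 ⊤)).op).hom.Flat := by
    apply RingHom.Flat.of_bijective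
    exact ConcreteCategory.bijective_of_isIso _
  exact RingHom.Flat.comp h1 h2

end Groth.Agent.H81.FreeFlat_FLAT
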