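import Mathlib

/-!
# (KER) for S16394 (helper74's squad)

For a morphism `ψ : X ⟶ A` of `S`-schemes into a separated `S`-group scheme, the locus where `ψ` is
trivial is cut out by an ideal sheaf `I` on `X`: a `T`-point `x` of `X` satisfies `x ≫ ψ = 1` iff
`I ≤ ker x`.
-/

set_option autoImplicit false

universe u

open CategoryTheory MonoidalCategory CartesianMonoidalCategory MonObj GrpObj AlgebraicGeometry

namespace Groth.Agent.H81.JM_KER

theorem exists_kernel_idealSheaf {S : Scheme.{u}} (X A : Over S) [GrpObj A] [IsSeparated A.hom]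
    (ψ : X ⟶ A) :
    ∃ I : X.left.IdealSheafData, ∀ (T : Over S) (x : T ⟶ X), x ≫ ψ = 1 ↔ I ≤ x.left.ker := by
  -- the unit section
  let e : S ⟶ A.left := (η[A] : 𝟙_ (Over S) ⟶ A).left
  have he : e ≫ A.hom = 𝟙 S := Over.w (η[A] : 𝟙_ (Over S) ⟶ A)
  haveI : IsClosedImmersion (e ≫ A.hom) := by rw [he]; infer_instance
  haveI : IsClosedImmersion e := IsClosedImmersion.of_comp e A.hom
  haveI : IsClosedImmersion (Limits.pullback.fst ψ.left e) :=
    MorphismProperty.pullback_fst _ _ ‹_›
  have hone : ∀ T : Over S, (1 : T ⟶ A).left = T.hom ≫ e := by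
    intro T
    rw [Hom.one_def]
    rfl
  refine ⟨(Limits.pullback.fst ψ.left e).ker, fun T x => ⟨fun h => ?_, fun h => ?_⟩⟩
  · have h1 : x.left ≫ ψ.left = T.hom ≫ e := by
      rw [← hone T, ← h]
      rfl
    have h2 : x.left = Limits.pullback.lift x.left T.hom h1 ≫ Limits.pullback.fst ψ.left e :=
      (Limits.pullback.lift_fst _ _ _).symm
    rw [h2]
    exact Scheme.Hom.le_ker_comp _ _
  · let l : T.left ⟶ Limits.pullback ψ.left e :=
      IsClosedImmersion.lift (Limits.pullback.fst ψ.left e) x.left h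
    have hl : l ≫ Limits.pullback.fst ψ.left e = x.left := IsClosedImmersion.lift_fac _ _ h
    have h3 : l ≫ Limits.pullback.snd ψ.left e = T.hom := by
      calc l ≫ Limits.pullback.snd ψ.left e
          = l ≫ Limits.pullback.snd ψ.left e ≫ e ≫ A.hom := by rw [he, Category.comp_id]
        _ = l ≫ (Limits.pullback.fst ψ.left e ≫ ψ.left) ≫ A.hom := by
            rw [Limits.pullback.condition, Category.assoc]
        _ = x.left ≫ ψ.left ≫ A.hom := by
            rw [Category.assoc, ← Category.assoc l, hl]
        _ = T.hom := by rw [Over.w ψ, Over.w x]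
    apply Over.OverMorphism.ext
    rw [hone T, ← h3, Category.assoc, ← Limits.pullback.condition, ← Category.assoc, hl]
    rfl

end Groth.Agent.H81.JM_KER
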