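import Mathlib

/-!
# Minor elements in Artin–Schreier families (helper81)

* `Red p G` : every exponent of every monomial of `G` is `< p`.
* `exists_red` : division by the triangular monic system `X_j ^ p - c_j X_j - d_j`.
* `red_eq_zero` : a reduced polynomial in the minor elements `a_{i₀} u_j - a_j u_{i₀}` which lies in
  the Artin–Schreier ideal vanishes (grid vanishing over an algebraic closure).
* `ker_eq` : the kernel of `Z_j ↦ z_j` is generated by the Artin–Schreier relations of the minors.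
-/

set_option autoImplicit false

namespace Groth.Agent.H81.WildMinor

open MvPolynomial

section Division

variable {σ : Type*} {R : Type*} [CommRing R]

/-- every exponent of every monomial is `< p`. -/
def Red (p : ℕ) (G : MvPolynomial σ R) : Prop := ∀ m ∈ G.support, ∀ j, m j < p

lemma Red.add {p : ℕ} {G H : MvPolynomial σ R} (hG : Red p G) (hH : Red p H) :
    Red p (G + H) := by
  classical
  intro m hm j
  rcases Finset.mem_union.1 (MvPolynomial.support_add hm) with h | h
  · exact hG m h j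
  · exact hH m h j

lemma red_monomial {p : ℕ} (β : σ →₀ ℕ) (c : R) (h : ∀ j, β j < p) :
    Red p (monomial β c : MvPolynomial σ R) := by
  classical
  intro m hm j
  have := MvPolynomial.support_monomial_subset hm
  rw [Finset.mem_singleton] at this
  subst this; exact h j

lemma monomial_red (p : ℕ) (hp : 2 ≤ p) (c d : σ → R) :
    ∀ (N : ℕ) (β : σ →₀ ℕ) (e : R), β.degree = N →
      ∃ G : MvPolynomial σ R, Red p G ∧ monomial β e - G ∈
        Ideal.span (Set.range fun j => (X j ^ p - C (c j) * X j - C (d j) : MvPolynomial σ R)) := by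
  intro N
  induction N using Nat.strong_induction_on with
  | _ N ih =>
    intro β e hβ
    by_cases hlt : ∀ j, β j < p
    · exact ⟨monomial β e, red_monomial β e hlt, by simp⟩
    · push_neg at hlt
      obtain ⟨j, hj⟩ := hlt
      have hle : Finsupp.single j p ≤ β := Finsupp.single_le_iff.2 hj
      obtain ⟨β', rfl⟩ : ∃ β', β = β' + Finsupp.single j p :=
        ⟨β - Finsupp.single j p, (tsub_add_cancel_of_le hle).symm⟩
      have hdeg : N = β'.degree + p := by
        rw [← hβ, map_add, Finsupp.degree_single]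
      obtain ⟨G1, hG1, hm1⟩ := ih (β' + Finsupp.single j 1).degree
        (by rw [map_add, Finsupp.degree_single]; omega) (β' + Finsupp.single j 1) (e * c j) rfl
      obtain ⟨G2, hG2, hm2⟩ := ih β'.degree (by omega) β' (e * d j) rfl
      refine ⟨G1 + G2, hG1.add hG2, ?_⟩
      have key : monomial (β' + Finsupp.single j p) e - (G1 + G2) =
          monomial β' e * (X j ^ p - C (c j) * X j - C (d j)) +
            (monomial (β' + Finsupp.single j 1) (e * c j) - G1) +
            (monomial β' (e * d j) - G2) := by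
        rw [monomial_add_single, monomial_add_single, pow_one, mul_comm e (c j),
          mul_comm e (d j), ← C_mul_monomial, ← C_mul_monomial]
        ring
      rw [key]
      exact Ideal.add_mem _ (Ideal.add_mem _
        (Ideal.mul_mem_left _ _ (Ideal.subset_span ⟨j, rfl⟩)) hm1) hm2

lemma exists_red (p : ℕ) (hp : 2 ≤ p) (c d : σ → R) (F : MvPolynomial σ R) :
    ∃ G : MvPolynomial σ R, Red p G ∧ F - G ∈
      Ideal.span (Set.range fun j => (X j ^ p - C (c j) * X j - C (d j) : MvPolynomial σ R)) := by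
  refine MvPolynomial.induction_on' F ?_ ?_
  · intro β e
    exact monomial_red p hp c d _ β e rfl
  · rintro F1 F2 ⟨G1, hG1, hm1⟩ ⟨G2, hG2, hm2⟩
    refine ⟨G1 + G2, hG1.add hG2, ?_⟩
    have : F1 + F2 - (G1 + G2) = (F1 - G1) + (F2 - G2) := by ring
    rw [this]; exact Ideal.add_mem _ hm1 hm2

end Division

lemma natCast_pow_char (L : Type*) [CommSemiring L] (p : ℕ) [Fact p.Prime] [CharP L p] (s : ℕ) :
    (s : L) ^ p = s := by
  induction s with
  | zero => simp [(Fact.out : p.Prime).ne_zero]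
  | succ s ih => rw [Nat.cast_succ, add_pow_char, ih, one_pow]

section Vanish

variable {R : Type*} [CommRing R] [IsDomain R] {ι : Type*} [Finite ι]

/-- grid vanishing: a reduced polynomial in the minor elements that lies in the Artin–Schreier
ideal is zero. -/
theorem red_eq_zero (p : ℕ) [Fact p.Prime] [CharP R p] (i₀ : ι) (b a x : ι → R)
    (hb : ∀ i, b i ≠ 0) (ha0 : a i₀ ≠ 0)
    (G : MvPolynomial {j : ι // j ≠ i₀} R) (hG : Red p G)
    (hker : aeval (fun j : {j : ι // j ≠ i₀} =>
        (C (a i₀) * X j.1 - C (a j.1) * X i₀ : MvPolynomial ι R)) G ∈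
      Ideal.span (Set.range fun i =>
        (X i ^ p - C (b i ^ (p - 1)) * X i - C (x i) : MvPolynomial ι R))) :
    G = 0 := by
  classical
  have hp : p.Prime := Fact.out
  let K := FractionRing R
  let L := AlgebraicClosure K
  let φ : R →+* L := (algebraMap K L).comp (algebraMap R K)
  have hφ : Function.Injective φ :=
    (algebraMap K L).injective.comp (IsFractionRing.injective R K)
  haveI : CharP L p := charP_of_injective_ringHom hφ p
  -- roots
  have hroot : ∀ i, ∃ ρ : L, ρ ^ p - φ (b i) ^ (p - 1) * ρ - φ (x i) = 0 := by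
    intro i
    have hdeg : (Polynomial.X ^ p - (Polynomial.C (φ (b i) ^ (p - 1)) * Polynomial.X +
        Polynomial.C (φ (x i))) : Polynomial L).degree ≠ 0 := by
      rw [Polynomial.degree_sub_eq_left_of_degree_lt]
      · rw [Polynomial.degree_X_pow]; exact_mod_cast hp.ne_zero
      · rw [Polynomial.degree_X_pow]
        exact lt_of_le_of_lt Polynomial.degree_linear_le (by exact_mod_cast hp.one_lt)
    obtain ⟨ρ, hρ⟩ := IsAlgClosed.exists_root _ hdeg
    refine ⟨ρ, ?_⟩
    have h := hρ
    simp only [Polynomial.IsRoot.def, Polynomial.eval_sub, Polynomial.eval_pow, Polynomial.eval_X,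
      Polynomial.eval_add, Polynomial.eval_mul, Polynomial.eval_C] at h
    linear_combination h
  choose ρ hρ using hroot
  have hshift : ∀ (s : ι → ℕ) (i : ι), (ρ i + (s i : L) * φ (b i)) ^ p -
      φ (b i) ^ (p - 1) * (ρ i + (s i : L) * φ (b i)) - φ (x i) = 0 := by
    intro s i
    have h2 : φ (b i) ^ p = φ (b i) ^ (p - 1) * φ (b i) := by
      rw [← pow_succ]; congr 1; have := hp.pos; omega
    rw [add_pow_char, mul_pow, natCast_pow_char L p, h2]
    linear_combination hρ i
  -- evaluation kills the ideal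
  have hkill : ∀ (s : ι → ℕ), ∀ f ∈ Ideal.span (Set.range fun i =>
      (X i ^ p - C (b i ^ (p - 1)) * X i - C (x i) : MvPolynomial ι R)),
      eval₂Hom φ (fun i => ρ i + (s i : L) * φ (b i)) f = 0 := by
    intro s f hf
    have hle : Ideal.span (Set.range fun i =>
        (X i ^ p - C (b i ^ (p - 1)) * X i - C (x i) : MvPolynomial ι R)) ≤
        RingHom.ker (eval₂Hom φ (fun i => ρ i + (s i : L) * φ (b i))) := by
      rw [Ideal.span_le]
      rintro _ ⟨i, rfl⟩
      rw [SetLike.mem_coe, RingHom.mem_ker]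
      simp only [map_sub, map_mul, map_pow, coe_eval₂Hom, eval₂_X, eval₂_C]
      exact hshift s i
    exact hle hf
  -- composition
  have hcomp : ∀ (s : ι → ℕ) (F : MvPolynomial {j : ι // j ≠ i₀} R),
      eval₂Hom φ (fun i => ρ i + (s i : L) * φ (b i))
        (aeval (fun j : {j : ι // j ≠ i₀} =>
          (C (a i₀) * X j.1 - C (a j.1) * X i₀ : MvPolynomial ι R)) F) =
      eval (fun j : {j : ι // j ≠ i₀} => φ (a i₀) * (ρ j.1 + (s j.1 : L) * φ (b j.1)) -
        φ (a j.1) * (ρ i₀ + (s i₀ : L) * φ (b i₀))) (map φ F) := by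
    intro s F
    rw [eval_map]
    have hh : (eval₂Hom φ (fun i => ρ i + (s i : L) * φ (b i))).comp
        ((aeval (fun j : {j : ι // j ≠ i₀} =>
          (C (a i₀) * X j.1 - C (a j.1) * X i₀ : MvPolynomial ι R)) :
            MvPolynomial {j : ι // j ≠ i₀} R →ₐ[R] MvPolynomial ι R) : _ →+* _) =
        eval₂Hom φ (fun j : {j : ι // j ≠ i₀} =>
          φ (a i₀) * (ρ j.1 + (s j.1 : L) * φ (b j.1)) -
            φ (a j.1) * (ρ i₀ + (s i₀ : L) * φ (b i₀))) := by
      apply MvPolynomial.ringHom_ext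
      · intro r
        simp [MvPolynomial.algebraMap_eq]
      · intro j
        simp
    exact DFunLike.congr_fun hh F
  have hGL : map φ G = 0 := by
    apply MvPolynomial.eq_zero_of_eval_zero_at_prod_finset (map φ G)
      (fun j : {j : ι // j ≠ i₀} => (Finset.range p).image
        (fun t : ℕ => φ (a i₀) * (ρ j.1 + (t : L) * φ (b j.1)) - φ (a j.1) * ρ i₀))
    · intro j
      rw [Finset.card_image_of_injOn, Finset.card_range]
      · rw [degreeOf_lt_iff hp.pos]
        intro m hm
        exact hG m (support_map_subset _ _ hm) j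
      · intro t ht t' ht' hEq
        simp only [Finset.coe_range, Set.mem_Iio] at ht ht'
        have h1 : ((t : L) - (t' : L)) * (φ (a i₀) * φ (b j.1)) = 0 := by
          linear_combination hEq
        have h2 : φ (a i₀) * φ (b j.1) ≠ 0 :=
          mul_ne_zero ((map_ne_zero_iff φ hφ).2 ha0) ((map_ne_zero_iff φ hφ).2 (hb j.1))
        have h3 : (t : L) = (t' : L) := sub_eq_zero.1 ((mul_eq_zero.1 h1).resolve_right h2)
        exact CharP.natCast_injOn_Iio L p ht ht' h3
    · intro y hy
      have hex : ∀ j : {j : ι // j ≠ i₀}, ∃ t : ℕ,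
          φ (a i₀) * (ρ j.1 + (t : L) * φ (b j.1)) - φ (a j.1) * ρ i₀ = y j := by
        intro j
        obtain ⟨t, -, ht⟩ := Finset.mem_image.1 (hy j)
        exact ⟨t, ht⟩
      choose t ht using hex
      let s : ι → ℕ := fun i => if h : i ≠ i₀ then t ⟨i, h⟩ else 0
      have hs0 : s i₀ = 0 := by simp [s]
      have hsj : ∀ j : {j : ι // j ≠ i₀}, s j.1 = t j := by
        intro j; simp [s, j.2]
      have hζ : (fun j : {j : ι // j ≠ i₀} => φ (a i₀) * (ρ j.1 + (s j.1 : L) * φ (b j.1)) -
          φ (a j.1) * (ρ i₀ + (s i₀ : L) * φ (b i₀))) = y := by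
        funext j
        rw [hs0, hsj, ← ht j]
        simp
      rw [← hζ, ← hcomp s G]
      exact hkill s _ hker
  exact MvPolynomial.map_injective φ hφ (by rw [hGL, map_zero])

end Vanish

section Main

variable {R : Type*} [CommRing R] {ι : Type*}

lemma aeval_r (p : ℕ) [Fact p.Prime] [CharP R p] (i₀ : ι) (a x : ι → R) (μ : R)
    (j : {j : ι // j ≠ i₀}) :
    aeval (fun j : {j : ι // j ≠ i₀} => (C (a i₀) * X j.1 - C (a j.1) * X i₀ : MvPolynomial ι R))
      (X j ^ p - C ((μ * a i₀ * a j.1) ^ (p - 1)) * X j -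
        C (a i₀ ^ p * x j.1 - a j.1 ^ p * x i₀) : MvPolynomial {j : ι // j ≠ i₀} R) =
    C (a i₀ ^ p) * (X j.1 ^ p - C ((μ * a j.1) ^ (p - 1)) * X j.1 - C (x j.1)) -
      C (a j.1 ^ p) * (X i₀ ^ p - C ((μ * a i₀) ^ (p - 1)) * X i₀ - C (x i₀)) := by
  haveI : CharP (MvPolynomial ι R) p := inferInstance
  obtain ⟨q, hq⟩ : ∃ q, p = q + 1 :=
    ⟨p - 1, (Nat.succ_pred_eq_of_pos (Fact.out : p.Prime).pos).symm⟩
  simp only [map_sub, map_mul, map_pow, aeval_X, aeval_C, MvPolynomial.algebraMap_eq]
  rw [sub_pow_char]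
  subst hq
  simp only [Nat.add_sub_cancel]
  ring

variable [IsDomain R] [Finite ι]

theorem ker_eq (p : ℕ) [Fact p.Prime] [CharP R p] (i₀ : ι) (a x : ι → R) (μ : R)
    (hμ : μ ≠ 0) (ha : ∀ i, a i ≠ 0) :
    RingHom.ker (aeval (fun j : {j : ι // j ≠ i₀} =>
        algebraMap R (MvPolynomial ι R ⧸ Ideal.span (Set.range fun i =>
          (X i ^ p - C ((μ * a i) ^ (p - 1)) * X i - C (x i) : MvPolynomial ι R))) (a i₀) *
          Ideal.Quotient.mk _ (X j.1) -
        algebraMap R (MvPolynomial ι R ⧸ Ideal.span (Set.range fun i =>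
          (X i ^ p - C ((μ * a i) ^ (p - 1)) * X i - C (x i) : MvPolynomial ι R))) (a j.1) *
          Ideal.Quotient.mk _ (X i₀)) :
      MvPolynomial {j : ι // j ≠ i₀} R →ₐ[R] (MvPolynomial ι R ⧸ Ideal.span (Set.range fun i =>
          (X i ^ p - C ((μ * a i) ^ (p - 1)) * X i - C (x i) : MvPolynomial ι R)))) =
    Ideal.span (Set.range fun j : {j : ι // j ≠ i₀} =>
      (X j ^ p - C ((μ * a i₀ * a j.1) ^ (p - 1)) * X j -
        C (a i₀ ^ p * x j.1 - a j.1 ^ p * x i₀) : MvPolynomial {j : ι // j ≠ i₀} R)) := by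
  classical
  have hp : p.Prime := Fact.out
  set I : Ideal (MvPolynomial ι R) := Ideal.span (Set.range fun i =>
    (X i ^ p - C ((μ * a i) ^ (p - 1)) * X i - C (x i) : MvPolynomial ι R)) with hI
  set z' : {j : ι // j ≠ i₀} → MvPolynomial ι R :=
    fun j => C (a i₀) * X j.1 - C (a j.1) * X i₀ with hz'
  have hz : ∀ F : MvPolynomial {j : ι // j ≠ i₀} R,
      aeval (fun j : {j : ι // j ≠ i₀} =>
        algebraMap R (MvPolynomial ι R ⧸ I) (a i₀) * Ideal.Quotient.mk I (X j.1) -
        algebraMap R (MvPolynomial ι R ⧸ I) (a j.1) * Ideal.Quotient.mk I (X i₀)) F =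
      Ideal.Quotient.mk I (aeval z' F) := by
    intro F
    have hh : (Ideal.Quotient.mkₐ R I).comp (aeval z') =
        aeval (fun j : {j : ι // j ≠ i₀} =>
          algebraMap R (MvPolynomial ι R ⧸ I) (a i₀) * Ideal.Quotient.mk I (X j.1) -
          algebraMap R (MvPolynomial ι R ⧸ I) (a j.1) * Ideal.Quotient.mk I (X i₀)) := by
      apply MvPolynomial.algHom_ext
      intro j
      simp only [AlgHom.comp_apply, aeval_X, Ideal.Quotient.mkₐ_eq_mk, hz', map_sub, map_mul]
      rw [← Ideal.Quotient.mk_algebraMap, ← Ideal.Quotient.mk_algebraMap,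
        MvPolynomial.algebraMap_eq]
    rw [← hh]; rfl
  have hge : Ideal.span (Set.range fun j : {j : ι // j ≠ i₀} =>
      (X j ^ p - C ((μ * a i₀ * a j.1) ^ (p - 1)) * X j -
        C (a i₀ ^ p * x j.1 - a j.1 ^ p * x i₀) : MvPolynomial {j : ι // j ≠ i₀} R)) ≤
      RingHom.ker (aeval (fun j : {j : ι // j ≠ i₀} =>
        algebraMap R (MvPolynomial ι R ⧸ I) (a i₀) * Ideal.Quotient.mk I (X j.1) -
        algebraMap R (MvPolynomial ι R ⧸ I) (a j.1) * Ideal.Quotient.mk I (X i₀)) :
        MvPolynomial {j : ι // j ≠ i₀} R →ₐ[R] (MvPolynomial ι R ⧸ I)) := by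
    rw [Ideal.span_le]
    rintro _ ⟨j, rfl⟩
    rw [SetLike.mem_coe, RingHom.mem_ker, hz, Ideal.Quotient.eq_zero_iff_mem, hz',
      aeval_r p i₀ a x μ j]
    exact Ideal.sub_mem _ (Ideal.mul_mem_left _ _ (Ideal.subset_span ⟨j.1, rfl⟩))
      (Ideal.mul_mem_left _ _ (Ideal.subset_span ⟨i₀, rfl⟩))
  apply le_antisymm _ hge
  intro F hF
  obtain ⟨G, hG, hFG⟩ := exists_red p hp.two_le (fun j : {j : ι // j ≠ i₀} =>
    (μ * a i₀ * a j.1) ^ (p - 1)) (fun j => a i₀ ^ p * x j.1 - a j.1 ^ p * x i₀) F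
  have hGker : G ∈ RingHom.ker (aeval (fun j : {j : ι // j ≠ i₀} =>
        algebraMap R (MvPolynomial ι R ⧸ I) (a i₀) * Ideal.Quotient.mk I (X j.1) -
        algebraMap R (MvPolynomial ι R ⧸ I) (a j.1) * Ideal.Quotient.mk I (X i₀)) :
        MvPolynomial {j : ι // j ≠ i₀} R →ₐ[R] (MvPolynomial ι R ⧸ I)) := by
    have h1 := hge hFG
    have h2 : G = F - (F - G) := by ring
    rw [h2]
    exact Ideal.sub_mem _ hF h1
  rw [RingHom.mem_ker, hz, Ideal.Quotient.eq_zero_iff_mem] at hGker
  have hG0 : G = 0 := red_eq_zero p i₀ (fun i => μ * a i) a x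
    (fun i => mul_ne_zero hμ (ha i)) (ha i₀) G hG hGker
  rw [hG0, sub_zero] at hFG
  exact hFG

end Main

end Groth.Agent.H81.WildMinor
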