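import Mathlib
import Groth.Agent.H81.WildMinor

/-!
# Quotients `R[u_i] / (u_i ^ p - c_i u_i - d_i)` (helper81)

The quotient is identified, via `PiTensorProduct` of `AdjoinRoot`s, with a free `R`-module with
basis the reduced monomials.

* `Phi` : `MvPolynomial ι R →ₐ[R] ⨂ AdjoinRoot (fpoly i)`.
* `indep` : a reduced polynomial lying in the ideal is zero.
* `lift_bijective`, `equivT : (MvPolynomial ι R ⧸ Iid) ≃ₗ[R] T`, `free`, `finrank_eq`,
  `algebraMap_injective`.
-/

set_option autoImplicit false

namespace Groth.Agent.H81.ASQuot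

open MvPolynomial Groth.Agent.H81.WildMinor
open scoped TensorProduct

variable {R : Type*} [CommRing R] {ι : Type*} [Fintype ι] [DecidableEq ι]

/-- the univariate polynomial `T ^ p - (c T + d)`. -/
noncomputable def fpoly (p : ℕ) (c d : R) : Polynomial R :=
  Polynomial.X ^ p - (Polynomial.C c * Polynomial.X + Polynomial.C d)

lemma fpoly_monic {p : ℕ} (hp : 2 ≤ p) (c d : R) : (fpoly p c d).Monic := by
  apply Polynomial.monic_X_pow_sub
  exact lt_of_le_of_lt Polynomial.degree_linear_le (by exact_mod_cast hp)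

lemma fpoly_natDegree [Nontrivial R] {p : ℕ} (hp : 2 ≤ p) (c d : R) :
    (fpoly p c d).natDegree = p := by
  unfold fpoly
  rw [Polynomial.natDegree_sub_eq_left_of_natDegree_lt, Polynomial.natDegree_X_pow]
  rw [Polynomial.natDegree_X_pow]
  exact lt_of_le_of_lt Polynomial.natDegree_linear_le (by omega)

variable (p : ℕ) (c d : ι → R)

/-- the ideal. -/
noncomputable def Iid : Ideal (MvPolynomial ι R) :=
  Ideal.span (Set.range fun i => (X i ^ p - C (c i) * X i - C (d i) : MvPolynomial ι R))

/-- the tensor product of the `AdjoinRoot`s. -/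
abbrev T : Type _ := ⨂[R] i, AdjoinRoot (fpoly p (c i) (d i))

/-- the comparison map. -/
noncomputable def Phi : MvPolynomial ι R →ₐ[R] T p c d :=
  aeval (fun i => PiTensorProduct.singleAlgHom (R := R)
    (A := fun i => AdjoinRoot (fpoly p (c i) (d i))) i (AdjoinRoot.root (fpoly p (c i) (d i))))

lemma root_rel (i : ι) :
    AdjoinRoot.root (fpoly p (c i) (d i)) ^ p -
      algebraMap R (AdjoinRoot (fpoly p (c i) (d i))) (c i) * AdjoinRoot.root (fpoly p (c i) (d i)) -
      algebraMap R (AdjoinRoot (fpoly p (c i) (d i))) (d i) = 0 := by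
  have h := AdjoinRoot.mk_self (f := fpoly p (c i) (d i))
  conv at h => lhs; arg 2; unfold fpoly
  simp only [map_sub, map_add, map_mul, map_pow, AdjoinRoot.mk_X, AdjoinRoot.mk_C] at h
  rw [AdjoinRoot.algebraMap_eq]
  linear_combination h

lemma Phi_gen (i : ι) : Phi p c d (X i ^ p - C (c i) * X i - C (d i)) = 0 := by
  unfold Phi
  simp only [map_sub, map_mul, map_pow, aeval_X, aeval_C]
  rw [← AlgHom.commutes (PiTensorProduct.singleAlgHom (R := R)
    (A := fun i => AdjoinRoot (fpoly p (c i) (d i))) i) (c i),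
    ← AlgHom.commutes (PiTensorProduct.singleAlgHom (R := R)
    (A := fun i => AdjoinRoot (fpoly p (c i) (d i))) i) (d i),
    ← map_pow, ← map_mul, ← map_sub, ← map_sub, root_rel, map_zero]

lemma Phi_mem {F : MvPolynomial ι R} (hF : F ∈ Iid p c d) : Phi p c d F = 0 := by
  have hle : Iid p c d ≤ RingHom.ker (Phi p c d) := by
    unfold Iid
    rw [Ideal.span_le]
    rintro _ ⟨i, rfl⟩
    rw [SetLike.mem_coe, RingHom.mem_ker]
    exact Phi_gen p c d i
  exact hle hF

variable [Nontrivial R] {p} (hp : 2 ≤ p)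

/-- power basis of `AdjoinRoot (fpoly ..)` indexed by `Fin p`. -/
noncomputable def bas (i : ι) : Module.Basis (Fin p) R (AdjoinRoot (fpoly p (c i) (d i))) :=
  ((AdjoinRoot.powerBasis' (fpoly_monic hp (c i) (d i))).basis).reindex
    (finCongr (by rw [AdjoinRoot.powerBasis'_dim, fpoly_natDegree hp]))

lemma bas_apply (i : ι) (t : Fin p) :
    bas c d hp i t = AdjoinRoot.root (fpoly p (c i) (d i)) ^ (t : ℕ) := by
  unfold bas
  rw [Module.Basis.reindex_apply, PowerBasis.basis_eq_pow]
  simp

/-- the tensor basis. -/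
noncomputable def B : Module.Basis (ι → Fin p) R (T p c d) :=
  Basis.piTensorProduct (fun i => bas c d hp i)

lemma Phi_mono (α : ι → Fin p) :
    Phi p c d (∏ i, X i ^ (α i : ℕ)) = B c d hp α := by
  unfold B
  rw [Basis.piTensorProduct_apply]
  unfold Phi
  rw [map_prod]
  simp only [map_pow, aeval_X]
  have h1 : ∀ i, (PiTensorProduct.singleAlgHom (R := R)
      (A := fun i => AdjoinRoot (fpoly p (c i) (d i))) i
      (AdjoinRoot.root (fpoly p (c i) (d i)))) ^ (α i : ℕ) =
      PiTensorProduct.tprod R (Pi.mulSingle i (AdjoinRoot.root (fpoly p (c i) (d i)) ^ (α i : ℕ))) := by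
    intro i
    rw [← map_pow]
    rfl
  simp only [h1]
  rw [← PiTensorProduct.tprod_prod, Finset.univ_prod_mulSingle]
  congr 1
  funext i
  rw [bas_apply]

lemma red_decomp (G : MvPolynomial ι R) (hG : Red p G) :
    G = ∑ α : ι → Fin p,
      C (coeff (Finsupp.equivFunOnFinite.symm (fun i => (α i : ℕ))) G) * ∏ i, X i ^ (α i : ℕ) := by
  classical
  have hmono : ∀ α : ι → Fin p,
      C (coeff (Finsupp.equivFunOnFinite.symm (fun i => (α i : ℕ))) G) * ∏ i, X i ^ (α i : ℕ) =
      monomial (Finsupp.equivFunOnFinite.symm (fun i => (α i : ℕ)))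
        (coeff (Finsupp.equivFunOnFinite.symm (fun i => (α i : ℕ))) G) := by
    intro α
    rw [MvPolynomial.monomial_eq, Finsupp.prod_fintype]
    · simp
    · intro i; simp
  ext m
  rw [coeff_sum]
  simp only [hmono, coeff_monomial]
  by_cases hm : ∀ i, m i < p
  · rw [Finset.sum_eq_single (fun i => (⟨m i, hm i⟩ : Fin p))]
    · have hmm : Finsupp.equivFunOnFinite.symm (fun i => ((⟨m i, hm i⟩ : Fin p) : ℕ)) = m := by
        ext i; simp
      rw [hmm, if_pos rfl]
    · intro α _ hne
      rw [if_neg]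
      intro h
      apply hne
      funext i
      ext
      simp [← h]
    · intro h; exact absurd (Finset.mem_univ _) h
  · have h0 : coeff m G = 0 := by
      by_contra h
      exact hm (hG m (mem_support_iff.2 h))
    rw [h0]
    symm
    apply Finset.sum_eq_zero
    intro α _
    rw [if_neg]
    intro h
    apply hm
    intro i
    rw [← h]
    simp

/-- the induced map on the quotient. -/
noncomputable def lift : (MvPolynomial ι R ⧸ Iid p c d) →ₐ[R] T p c d :=
  Ideal.Quotient.liftₐ (Iid p c d) (Phi p c d) (fun _ h => Phi_mem p c d h)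

lemma lift_mk (F : MvPolynomial ι R) :
    lift (p := p) c d (Ideal.Quotient.mk (Iid p c d) F) = Phi p c d F := rfl

include hp

/-- independence: a reduced polynomial in the kernel of `Phi` is zero. -/
theorem indep' (G : MvPolynomial ι R) (hG : Red p G) (h0 : Phi p c d G = 0) : G = 0 := by
  classical
  have hdec := red_decomp G hG
  have hΦ : Phi p c d G = ∑ α : ι → Fin p,
      coeff (Finsupp.equivFunOnFinite.symm (fun i => (α i : ℕ))) G • B c d hp α := by
    conv_lhs => rw [hdec]
    rw [map_sum]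
    refine Finset.sum_congr rfl (fun α _ => ?_)
    rw [map_mul, Phi_mono c d hp, Algebra.smul_def]
    congr 1
    unfold Phi
    rw [aeval_C]
  rw [hΦ] at h0
  have hz := Fintype.linearIndependent_iff.1 (B c d hp).linearIndependent _ h0
  rw [hdec]
  apply Finset.sum_eq_zero
  intro α _
  rw [hz α, map_zero, zero_mul]

theorem indep (G : MvPolynomial ι R) (hG : Red p G) (hI : G ∈ Iid p c d) : G = 0 :=
  indep' c d hp G hG (Phi_mem p c d hI)

theorem lift_bijective : Function.Bijective (lift (p := p) c d) := by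
  constructor
  · rw [injective_iff_map_eq_zero]
    intro a ha
    obtain ⟨F, rfl⟩ := Ideal.Quotient.mk_surjective a
    obtain ⟨G, hG, hFG⟩ := exists_red p hp c d F
    have hFG' : F - G ∈ Iid p c d := hFG
    have h1 : Phi p c d G = 0 := by
      have h2 : Phi p c d (F - G) = 0 := Phi_mem p c d hFG'
      rw [lift_mk] at ha
      rw [map_sub, ha, zero_sub, neg_eq_zero] at h2
      exact h2
    have hG0 := indep' c d hp G hG h1
    rw [hG0, sub_zero] at hFG'
    exact Ideal.Quotient.eq_zero_iff_mem.2 hFG'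
  · intro y
    have hy : y ∈ (⊤ : Submodule R (T p c d)) := trivial
    rw [← (B c d hp).span_eq] at hy
    refine Submodule.span_induction ?_ ?_ ?_ ?_ hy
    · rintro _ ⟨α, rfl⟩
      exact ⟨Ideal.Quotient.mk _ (∏ i, X i ^ (α i : ℕ)), by rw [lift_mk, Phi_mono c d hp]⟩
    · exact ⟨0, map_zero _⟩
    · rintro x y _ _ ⟨a, rfl⟩ ⟨b, rfl⟩
      exact ⟨a + b, map_add _ _ _⟩
    · rintro r x _ ⟨a, rfl⟩
      exact ⟨r • a, map_smul _ _ _⟩

/-- the linear equivalence with the tensor product. -/
noncomputable def equivT : (MvPolynomial ι R ⧸ Iid p c d) ≃ₗ[R] T p c d :=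
  LinearEquiv.ofBijective (lift (p := p) c d).toLinearMap (lift_bijective c d hp)

/-- the monomial basis of the quotient. -/
noncomputable def basisQ : Module.Basis (ι → Fin p) R (MvPolynomial ι R ⧸ Iid p c d) :=
  (B c d hp).map (equivT c d hp).symm

lemma basisQ_apply (α : ι → Fin p) :
    basisQ c d hp α = Ideal.Quotient.mk (Iid p c d) (∏ i, X i ^ (α i : ℕ)) := by
  unfold basisQ
  rw [Module.Basis.map_apply, LinearEquiv.symm_apply_eq]
  simp only [equivT, LinearEquiv.ofBijective_apply, AlgHom.toLinearMap_apply]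
  rw [lift_mk, Phi_mono c d hp]

theorem free : Module.Free R (MvPolynomial ι R ⧸ Iid p c d) :=
  Module.Free.of_basis (basisQ c d hp)

theorem finite : Module.Finite R (MvPolynomial ι R ⧸ Iid p c d) :=
  Module.Finite.of_basis (basisQ c d hp)

theorem finrank_eq : Module.finrank R (MvPolynomial ι R ⧸ Iid p c d) = p ^ Fintype.card ι := by
  rw [Module.finrank_eq_card_basis (basisQ c d hp)]
  simp

theorem algebraMap_injective :
    Function.Injective (algebraMap R (MvPolynomial ι R ⧸ Iid p c d)) := by
  rw [injective_iff_map_eq_zero]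
  intro r hr
  have hp0 : 0 < p := by omega
  have hb : basisQ c d hp (fun _ => (⟨0, hp0⟩ : Fin p)) = 1 := by
    rw [basisQ_apply]
    simp
  have h1 : r • (1 : MvPolynomial ι R ⧸ Iid p c d) = 0 :=
    (Algebra.algebraMap_eq_smul_one r).symm.trans hr
  rw [← hb] at h1
  have h2 := congrArg (fun v => (basisQ c d hp).repr v (fun _ => (⟨0, hp0⟩ : Fin p))) h1
  simpa using h2

end Groth.Agent.H81.ASQuot
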