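import Mathlib
import Groth.Agent.H81.ASQuot
import Groth.Agent.H54.IntegralDim
import Groth.Agent.H23.RegularLocal
import Groth.Agent.H7.CompleteDVRSection

/-!
# `R[u_i]/(u_i^p - c_i u_i - d_i)` over a local ring `R` with `c_i ∈ 𝔪`, `(d_i) = 𝔪` (helper81)

* `U` : the ideal generated by the classes of the variables; `U_isMaximal`, `isLocalRing`,
  `maximalIdeal_eq`, `ringKrullDim_eq`, `isRegularLocalRing`, `isDomain`, `isAdicComplete`.
-/

set_option autoImplicit false

namespace Groth.Agent.H81.ASLocal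

open MvPolynomial IsLocalRing Groth.Agent.H81.ASQuot

universe u

variable {R : Type u} [CommRing R] [IsLocalRing R] {ι : Type} [Fintype ι] [DecidableEq ι]

/-- the ideal generated by the classes of the variables. -/
noncomputable def U (p : ℕ) (c d : ι → R) : Ideal (MvPolynomial ι R ⧸ Iid p c d) :=
  Ideal.map (Ideal.Quotient.mk (Iid p c d)) (Ideal.span (Set.range (X : ι → MvPolynomial ι R)))

variable {p : ℕ} (c d : ι → R)

lemma mk_X_mem_U (i : ι) : Ideal.Quotient.mk (Iid p c d) (X i) ∈ U p c d :=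
  Ideal.mem_map_of_mem _ (Ideal.subset_span ⟨i, rfl⟩)

lemma u_pow_eq (i : ι) :
    (Ideal.Quotient.mk (Iid p c d) (X i)) ^ p =
      algebraMap R (MvPolynomial ι R ⧸ Iid p c d) (c i) * Ideal.Quotient.mk (Iid p c d) (X i) +
        algebraMap R (MvPolynomial ι R ⧸ Iid p c d) (d i) := by
  have h : Ideal.Quotient.mk (Iid p c d) (X i ^ p - C (c i) * X i - C (d i)) = 0 :=
    Ideal.Quotient.eq_zero_iff_mem.2 (Ideal.subset_span ⟨i, rfl⟩)
  simp only [map_sub, map_mul, map_pow] at h
  have e1 : ∀ r : R, (Ideal.Quotient.mk (Iid p c d)) (C r) =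
      algebraMap R (MvPolynomial ι R ⧸ Iid p c d) r := fun r => rfl
  rw [e1, e1] at h
  linear_combination h

variable (hp : 2 ≤ p) (hc : ∀ i, c i ∈ maximalIdeal R)
  (hd : Ideal.span (Set.range d) = maximalIdeal R)

include hp in
lemma algebraMap_d_mem_U (i : ι) :
    algebraMap R (MvPolynomial ι R ⧸ Iid p c d) (d i) ∈ U p c d := by
  have h := u_pow_eq (p := p) c d i
  have h2 : algebraMap R (MvPolynomial ι R ⧸ Iid p c d) (d i) =
      (Ideal.Quotient.mk (Iid p c d) (X i)) ^ p -
      algebraMap R (MvPolynomial ι R ⧸ Iid p c d) (c i) * Ideal.Quotient.mk (Iid p c d) (X i) := by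
    rw [h]; ring
  rw [h2]
  exact Ideal.sub_mem _ (Ideal.pow_mem_of_mem _ (mk_X_mem_U c d i) p (by omega))
    (Ideal.mul_mem_left _ _ (mk_X_mem_U c d i))

include hp hd in
lemma algebraMap_mem_U {r : R} (hr : r ∈ maximalIdeal R) :
    algebraMap R (MvPolynomial ι R ⧸ Iid p c d) r ∈ U p c d := by
  have hle : Ideal.map (algebraMap R (MvPolynomial ι R ⧸ Iid p c d)) (maximalIdeal R) ≤ U p c d := by
    rw [← hd, Ideal.map_span, Ideal.span_le]
    rintro _ ⟨_, ⟨i, rfl⟩, rfl⟩
    exact algebraMap_d_mem_U c d hp i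
  exact hle (Ideal.mem_map_of_mem _ hr)

/-- the augmentation on polynomials. -/
noncomputable def eps0 : MvPolynomial ι R →+* ResidueField R :=
  eval₂Hom (residue R) (fun _ => 0)

lemma eps0_apply (F : MvPolynomial ι R) : eps0 (ι := ι) F = residue R (constantCoeff F) :=
  eval₂Hom_zero'_apply _ _

include hp hd in
lemma eps0_mem {F : MvPolynomial ι R} (hF : F ∈ Iid p c d) : eps0 F = 0 := by
  have hle : Iid p c d ≤ RingHom.ker (eps0 (R := R) (ι := ι)) := by
    unfold Iid
    rw [Ideal.span_le]
    rintro _ ⟨i, rfl⟩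
    rw [SetLike.mem_coe, RingHom.mem_ker, eps0_apply]
    have hdi : residue R (d i) = 0 := by
      rw [residue_eq_zero_iff, ← hd]
      exact Ideal.subset_span ⟨i, rfl⟩
    have hp0 : p ≠ 0 := by omega
    simp [hdi, hp0]
  exact hle hF

/-- the augmentation. -/
noncomputable def eps : (MvPolynomial ι R ⧸ Iid p c d) →+* ResidueField R :=
  Ideal.Quotient.lift (Iid p c d) eps0 (fun _ h => eps0_mem c d hp hd h)

include hp hd in
lemma eps_surjective : Function.Surjective (eps c d hp hd) := by
  intro y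
  obtain ⟨r, rfl⟩ := residue_surjective y
  refine ⟨Ideal.Quotient.mk _ (C r), ?_⟩
  simp [eps, eps0_apply]

include hp hd in
lemma ker_eps : RingHom.ker (eps c d hp hd) = U p c d := by
  classical
  apply le_antisymm
  · intro a ha
    obtain ⟨F, rfl⟩ := Ideal.Quotient.mk_surjective a
    rw [RingHom.mem_ker] at ha
    have ha' : residue R (constantCoeff F) = 0 := by
      rw [← eps0_apply]; exact ha
    rw [residue_eq_zero_iff] at ha'
    have hF' : F - C (constantCoeff F) ∈ Ideal.span (Set.range (X : ι → MvPolynomial ι R)) := by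
      rw [← Set.image_univ, MvPolynomial.mem_ideal_span_X_image]
      intro m hm
      have hm0 : m ≠ 0 := by
        rintro rfl
        rw [mem_support_iff] at hm
        apply hm
        simp [constantCoeff_eq]
      obtain ⟨i, hi⟩ : ∃ i, m i ≠ 0 := by
        by_contra h
        push_neg at h
        exact hm0 (Finsupp.ext h)
      exact ⟨i, Set.mem_univ _, hi⟩
    have h2 : F = C (constantCoeff F) + (F - C (constantCoeff F)) := by ring
    rw [h2, map_add]
    exact Ideal.add_mem _ (algebraMap_mem_U c d hp hd ha') (Ideal.mem_map_of_mem _ hF')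
  · unfold U
    rw [Ideal.map_le_iff_le_comap, Ideal.span_le]
    rintro _ ⟨i, rfl⟩
    rw [SetLike.mem_coe, Ideal.mem_comap, RingHom.mem_ker]
    simp [eps, eps0_apply]

include hp hd in
theorem U_isMaximal : (U p c d).IsMaximal := by
  rw [← ker_eps c d hp hd]
  exact RingHom.ker_isMaximal_of_surjective _ (eps_surjective c d hp hd)

include hp hc hd in
theorem eq_U_of_isMaximal (M : Ideal (MvPolynomial ι R ⧸ Iid p c d)) (hM : M.IsMaximal) :
    M = U p c d := by
  haveI := ASQuot.finite c d hp
  haveI : Algebra.IsIntegral R (MvPolynomial ι R ⧸ Iid p c d) := Algebra.IsIntegral.of_finite _ _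
  have hcomap : M.comap (algebraMap R (MvPolynomial ι R ⧸ Iid p c d)) = maximalIdeal R :=
    IsLocalRing.eq_maximalIdeal (Ideal.isMaximal_comap_of_isIntegral_of_isMaximal M)
  have hmem : ∀ r ∈ maximalIdeal R, algebraMap R (MvPolynomial ι R ⧸ Iid p c d) r ∈ M := by
    intro r hr
    rw [← hcomap] at hr
    exact hr
  have hle : U p c d ≤ M := by
    unfold U
    rw [Ideal.map_le_iff_le_comap, Ideal.span_le]
    rintro _ ⟨i, rfl⟩
    rw [SetLike.mem_coe, Ideal.mem_comap]
    have h := u_pow_eq (p := p) c d i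
    have h3 : (Ideal.Quotient.mk (Iid p c d) (X i)) ^ p ∈ M := by
      rw [h]
      refine Ideal.add_mem _ (Ideal.mul_mem_right _ _ (hmem _ (hc i))) (hmem _ ?_)
      rw [← hd]; exact Ideal.subset_span ⟨i, rfl⟩
    exact hM.isPrime.mem_of_pow_mem p h3
  exact ((U_isMaximal c d hp hd).eq_of_le hM.ne_top hle).symm

include hp hc hd in
theorem isLocalRing : IsLocalRing (MvPolynomial ι R ⧸ Iid p c d) :=
  IsLocalRing.of_unique_max_ideal ⟨U p c d, U_isMaximal c d hp hd,
    fun M hM => eq_U_of_isMaximal c d hp hc hd M hM⟩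

include hp hd in
theorem maximalIdeal_eq [IsLocalRing (MvPolynomial ι R ⧸ Iid p c d)] :
    maximalIdeal (MvPolynomial ι R ⧸ Iid p c d) = U p c d :=
  (IsLocalRing.eq_maximalIdeal (U_isMaximal c d hp hd)).symm

include hp in
theorem ringKrullDim_eq :
    ringKrullDim (MvPolynomial ι R ⧸ Iid p c d) = ringKrullDim R := by
  haveI := ASQuot.finite c d hp
  haveI : Algebra.IsIntegral R (MvPolynomial ι R ⧸ Iid p c d) := Algebra.IsIntegral.of_finite _ _
  exact Groth.Agent.H54.ringKrullDim_eq_of_isIntegral_of_injective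
    (ASQuot.algebraMap_injective c d hp)

lemma U_eq_span : U p c d =
    Ideal.span (Set.range fun i => Ideal.Quotient.mk (Iid p c d) (X i)) := by
  unfold U
  rw [Ideal.map_span, ← Set.range_comp]
  rfl

variable [IsNoetherianRing R]

include hp hc hd in
theorem isRegularLocalRing (hdim : ringKrullDim R = (Fintype.card ι : ℕ)) :
    IsRegularLocalRing (MvPolynomial ι R ⧸ Iid p c d) := by
  haveI := isLocalRing c d hp hc hd
  haveI : IsNoetherianRing (MvPolynomial ι R ⧸ Iid p c d) := inferInstance
  apply IsRegularLocalRing.of_spanFinrank_maximalIdeal_le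
  rw [ringKrullDim_eq c d hp, hdim, maximalIdeal_eq c d hp hd, U_eq_span]
  have h1 := Submodule.spanFinrank_span_le_ncard_of_finite
    (R := MvPolynomial ι R ⧸ Iid p c d)
    (Set.finite_range fun i => Ideal.Quotient.mk (Iid p c d) (X i))
  have h2 : (Set.range fun i => Ideal.Quotient.mk (Iid p c d) (X i)).ncard ≤ Fintype.card ι := by
    rw [← Set.image_univ]
    refine (Set.ncard_image_le Set.finite_univ).trans ?_
    rw [Set.ncard_univ, Nat.card_eq_fintype_card]
  exact_mod_cast h1.trans h2

include hp hc hd in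
theorem isDomain (hdim : ringKrullDim R = (Fintype.card ι : ℕ)) :
    IsDomain (MvPolynomial ι R ⧸ Iid p c d) := by
  haveI := isRegularLocalRing c d hp hc hd hdim
  exact Groth.Agent.H23.isDomain_of_isRegularLocalRing _

include hp hc hd in
theorem isAdicComplete [IsAdicComplete (maximalIdeal R) R] :
    IsAdicComplete (U p c d) (MvPolynomial ι R ⧸ Iid p c d) := by
  haveI := isLocalRing c d hp hc hd
  haveI := ASQuot.finite c d hp
  rw [← maximalIdeal_eq c d hp hd]
  exact Groth.Agent.H7.isAdicComplete_of_finite_local R _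

end Groth.Agent.H81.ASLocal
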