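import Mathlib
import Groth.Agent.H81.ASLocal
import Groth.Agent.H15.PSRegular
import Groth.Agent.H61.PowerSeriesComplete

/-!
# The Artin–Schreier family over `k[[x_1..x_n]]` (helper81)
-/

set_option autoImplicit false

namespace Groth.Agent.H81.WildAS

open MvPolynomial IsLocalRing Groth.Agent.H81.ASQuot Groth.Agent.H81.ASLocal

universe u

variable (k : Type u) [Field k] (n : ℕ)

instance isRegularLocalRing_R : IsRegularLocalRing (MvPowerSeries (Fin n) k) :=
  Groth.Agent.H15.PSRegular.isRegularLocalRing_mvPowerSeries n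

theorem hd_R : Ideal.span (Set.range fun i : Fin n =>
    (MvPowerSeries.X i : MvPowerSeries (Fin n) k)) = maximalIdeal (MvPowerSeries (Fin n) k) := by
  rw [Groth.Agent.H15.PSRegular.maximalIdeal_mvPowerSeries_eq (Λ := k) n,
    IsLocalRing.maximalIdeal_eq_bot, Ideal.map_bot, bot_sup_eq]

theorem hdim_R : ringKrullDim (MvPowerSeries (Fin n) k) = (Fintype.card (Fin n) : ℕ) := by
  rw [Groth.Agent.H15.PSRegular.ringKrullDim_mvPowerSeries (Λ := k) n,
    ringKrullDim_eq_zero_of_field, zero_add, Fintype.card_fin]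

variable {k n}

theorem mem_max_of_constantCoeff {f : MvPowerSeries (Fin n) k}
    (hf : MvPowerSeries.constantCoeff f = 0) : f ∈ maximalIdeal (MvPowerSeries (Fin n) k) := by
  rw [mem_maximalIdeal, mem_nonunits_iff, MvPowerSeries.isUnit_iff_constantCoeff, hf]
  exact not_isUnit_zero

theorem hc_R {p : ℕ} (hp : 2 ≤ p) (a : Fin n → MvPowerSeries (Fin n) k)
    (ham : ∀ i, MvPowerSeries.constantCoeff (a i) = 0) (i : Fin n) :
    a i ^ (p - 1) ∈ maximalIdeal (MvPowerSeries (Fin n) k) :=
  Ideal.pow_mem_of_mem _ (mem_max_of_constantCoeff (ham i)) _ (by omega)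

instance isAdicComplete_R : IsAdicComplete (maximalIdeal (MvPowerSeries (Fin n) k))
    (MvPowerSeries (Fin n) k) := by
  haveI : IsAdicComplete (maximalIdeal k) k := by
    rw [IsLocalRing.maximalIdeal_eq_bot]
    infer_instance
  exact Groth.Agent.H61.PS.isAdicComplete

end Groth.Agent.H81.WildAS
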