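import Mathlib
import Groth.Prelude.Def_FEt
import Groth.Prelude.Def_Flatn

/-!
# (THK) for S1149 (helper79's squad)

The base change of a square-zero thickening `Spec (A ⧸ I) ⟶ Spec A` along a morphism from an
affine scheme is a closed immersion with nilpotent kernel.
-/

set_option autoImplicit false

universe u

open CategoryTheory CategoryTheory.Limits AlgebraicGeometry Opposite TensorProduct

namespace Groth.Agent.H81.IntHom_THK

theorem isNilpotent_ker_of_isPullback {A : Type u} [CommRing A] (I : Ideal A) (hI : I ^ 2 = ⊥)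
    {P P₀ : Scheme.{u}} [IsAffine P] (q : P ⟶ Spec (.of A)) (t : P₀ ⟶ P)
    (q₀ : P₀ ⟶ Spec (.of (A ⧸ I)))
    (h : IsPullback t q₀ q (Spec.map (CommRingCat.ofHom (Ideal.Quotient.mk I)))) :
    IsClosedImmersion t ∧ IsNilpotent t.ker := by
  have hci : IsClosedImmersion t := by
    have h0 : IsClosedImmersion (Spec.map (CommRingCat.ofHom (Ideal.Quotient.mk I))) :=
      IsClosedImmersion.spec_of_surjective _ Ideal.Quotient.mk_surjective
    exact MorphismProperty.of_isPullback h.flip h0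
  refine ⟨hci, 2, ?_⟩
  -- the ring map `A → Γ(P)`
  let ψ : CommRingCat.of A ⟶ Γ(P, ⊤) := (Scheme.ΓSpecIso (.of A)).inv ≫ q.appTop
  have hq : q = P.isoSpec.hom ≫ Spec.map ψ := by
    have h1 := Scheme.isoSpec_hom_naturality q
    rw [Scheme.isoSpec_Spec_hom] at h1
    have h2 : Spec.map (Scheme.ΓSpecIso (CommRingCat.of A)).hom ≫
        Spec.map (Scheme.ΓSpecIso (CommRingCat.of A)).inv = 𝟙 _ := by
      rw [← Spec.map_comp, Iso.inv_hom_id, Spec.map_id]
    calc q = (q ≫ Spec.map (Scheme.ΓSpecIso (CommRingCat.of A)).hom) ≫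
          Spec.map (Scheme.ΓSpecIso (CommRingCat.of A)).inv := by
            rw [Category.assoc, h2, Category.comp_id]
      _ = P.isoSpec.hom ≫ Spec.map ψ := by
            rw [← h1, Category.assoc, ← Spec.map_comp]
  let J : Ideal Γ(P, ⊤) := I.map ψ.hom
  let π : Γ(P, ⊤) ⟶ CommRingCat.of (Γ(P, ⊤) ⧸ J) := CommRingCat.ofHom (Ideal.Quotient.mk J)
  let ρ : CommRingCat.of (A ⧸ I) ⟶ CommRingCat.of (Γ(P, ⊤) ⧸ J) :=
    CommRingCat.ofHom (Ideal.quotientMap J ψ.hom Ideal.le_comap_map)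
  have hρ : CommRingCat.ofHom (Ideal.Quotient.mk I) ≫ ρ = ψ ≫ π := by
    ext x
    rfl
  let a : Spec (CommRingCat.of (Γ(P, ⊤) ⧸ J)) ⟶ P := Spec.map π ≫ P.isoSpec.inv
  have ha : a ≫ P.isoSpec.hom = Spec.map π := by
    simp only [a, Category.assoc, Iso.inv_hom_id, Category.comp_id]
  have hab : a ≫ q = Spec.map ρ ≫ Spec.map (CommRingCat.ofHom (Ideal.Quotient.mk I)) := by
    rw [hq, ← Category.assoc, ha, ← Spec.map_comp, ← Spec.map_comp, hρ]
  let s : Spec (CommRingCat.of (Γ(P, ⊤) ⧸ J)) ⟶ P₀ := h.lift a (Spec.map ρ) hab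
  have hs : s ≫ t = a := h.lift_fst _ _ _
  -- kernel of `t.appTop` is contained in `J`
  have key : ∀ x : Γ(P, ⊤), t.appTop.hom x = 0 → x ∈ J := by
    intro x hx
    have h1 : a.appTop.hom x = 0 := by
      rw [← hs, Scheme.Hom.comp_appTop]
      change s.appTop.hom (t.appTop.hom x) = 0
      rw [hx, map_zero]
    have h2 := congr($(congrArg Scheme.Hom.appTop ha).hom ((Scheme.ΓSpecIso Γ(P, ⊤)).inv.hom x))
    have h3 := congr($(Scheme.ΓSpecIso_naturality π).hom ((Scheme.ΓSpecIso Γ(P, ⊤)).inv.hom x))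
    rw [Scheme.Hom.comp_appTop] at h2
    simp only [CommRingCat.hom_comp, RingHom.coe_comp, Function.comp_apply] at h2 h3
    have h4 : (P.isoSpec.hom.appTop).hom ((Scheme.ΓSpecIso Γ(P, ⊤)).inv.hom x) = x := by
      have : P.isoSpec.hom.appTop = (Scheme.ΓSpecIso Γ(P, ⊤)).hom := by
        rw [Scheme.isoSpec_hom]
        exact Scheme.toSpecΓ_appTop P
      rw [this]
      exact congr($((Scheme.ΓSpecIso Γ(P, ⊤)).inv_hom_id).hom x)
    have h5 : (Scheme.ΓSpecIso Γ(P, ⊤)).hom.hom ((Scheme.ΓSpecIso Γ(P, ⊤)).inv.hom x) = x :=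
      congr($((Scheme.ΓSpecIso Γ(P, ⊤)).inv_hom_id).hom x)
    rw [h4] at h2
    rw [h5] at h3
    rw [← h2, h1, map_zero] at h3
    exact Ideal.Quotient.eq_zero_iff_mem.mp h3.symm
  have hJ : J * J = ⊥ := by
    change I.map ψ.hom * I.map ψ.hom = ⊥
    rw [← Ideal.map_mul, ← pow_two, hI, Ideal.map_bot]
  rw [pow_two]
  apply Scheme.IdealSheafData.ext_of_isAffine
  change t.ker.ideal ⟨⊤, _⟩ * t.ker.ideal ⟨⊤, _⟩ = ⊥
  rw [Scheme.Hom.ker_apply, eq_bot_iff, Ideal.mul_le]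
  intro x hx y hy
  rw [Ideal.mem_bot]
  have hx' : x ∈ J := key x hx
  have hy' : y ∈ J := key y hy
  have : x * y ∈ J * J := Ideal.mul_mem_mul hx' hy'
  rwa [hJ, Ideal.mem_bot] at this

end Groth.Agent.H81.IntHom_THK
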