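import Mathlib
import Groth.Agent.H81.ASQuot

/-!
# Automorphisms of `R[u_i]/(u_i^p - a_i^(p-1) u_i - d_i)` in characteristic `p` (helper81)
-/

set_option autoImplicit false

namespace Groth.Agent.H81.ASAut

open MvPolynomial Groth.Agent.H81.ASQuot Groth.Agent.H81.WildMinor

universe u

section Gen

variable {R : Type u} [CommRing R] {ι : Type} (p : ℕ) (c d : ι → R)

lemma u_pow_gen (i : ι) :
    (Ideal.Quotient.mk (Iid p c d) (X i)) ^ p =
      algebraMap R (MvPolynomial ι R ⧸ Iid p c d) (c i) * Ideal.Quotient.mk (Iid p c d) (X i) +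
        algebraMap R (MvPolynomial ι R ⧸ Iid p c d) (d i) := by
  have h : Ideal.Quotient.mk (Iid p c d) (X i ^ p - C (c i) * X i - C (d i)) = 0 :=
    Ideal.Quotient.eq_zero_iff_mem.2 (Ideal.subset_span ⟨i, rfl⟩)
  simp only [map_sub, map_mul, map_pow] at h
  have e1 : ∀ r : R, (Ideal.Quotient.mk (Iid p c d)) (C r) =
      algebraMap R (MvPolynomial ι R ⧸ Iid p c d) r := fun r => rfl
  rw [e1, e1] at h
  linear_combination h

end Gen

/-- root counting: solutions of `y ^ p = α ^ (p-1) y` in a domain of characteristic `p`. -/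
theorem exists_nat_mul_of_pow_eq {B : Type*} [CommRing B] [IsDomain B] (p : ℕ) [Fact p.Prime]
    [CharP B p] {α y : B} (hα : α ≠ 0) (hy : y ^ p = α ^ (p - 1) * y) :
    ∃ t : ℕ, t < p ∧ y = (t : B) * α := by
  classical
  have hp : p.Prime := Fact.out
  set g : Polynomial B := Polynomial.X ^ p - Polynomial.C (α ^ (p - 1)) * Polynomial.X with hg
  have hdeg : g.natDegree = p := by
    rw [hg, Polynomial.natDegree_sub_eq_left_of_natDegree_lt, Polynomial.natDegree_X_pow]
    rw [Polynomial.natDegree_X_pow]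
    exact lt_of_le_of_lt (Polynomial.natDegree_C_mul_le _ _)
      (by rw [Polynomial.natDegree_X]; exact hp.one_lt)
  have hg0 : g ≠ 0 := by
    intro h
    rw [h, Polynomial.natDegree_zero] at hdeg
    exact hp.ne_zero hdeg.symm
  have hαp : α ^ p = α ^ (p - 1) * α := by
    rw [← pow_succ]; congr 1; have := hp.pos; omega
  let S : Finset B := (Finset.range p).image (fun t : ℕ => (t : B) * α)
  have hScard : S.card = p := by
    rw [Finset.card_image_of_injOn, Finset.card_range]
    intro t ht t' ht' hEq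
    simp only [Finset.coe_range, Set.mem_Iio] at ht ht'
    have h3 : (t : B) = (t' : B) := mul_right_cancel₀ hα hEq
    exact CharP.natCast_injOn_Iio B p ht ht' h3
  have hSsub : S ⊆ g.roots.toFinset := by
    intro z hz
    obtain ⟨t, -, rfl⟩ := Finset.mem_image.1 hz
    rw [Multiset.mem_toFinset, Polynomial.mem_roots hg0, Polynomial.IsRoot.def, hg]
    simp only [Polynomial.eval_sub, Polynomial.eval_pow, Polynomial.eval_X, Polynomial.eval_mul,
      Polynomial.eval_C]
    rw [mul_pow, natCast_pow_char B p, hαp]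
    ring
  have hle : g.roots.toFinset.card ≤ S.card := by
    rw [hScard]
    exact (Multiset.toFinset_card_le _).trans ((Polynomial.card_roots' g).trans hdeg.le)
  have hEq : S = g.roots.toFinset := Finset.eq_of_subset_of_card_le hSsub hle
  have hyroot : y ∈ g.roots.toFinset := by
    rw [Multiset.mem_toFinset, Polynomial.mem_roots hg0, Polynomial.IsRoot.def, hg]
    simp only [Polynomial.eval_sub, Polynomial.eval_pow, Polynomial.eval_X, Polynomial.eval_mul,
      Polynomial.eval_C]
    rw [hy, sub_self]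
  rw [← hEq] at hyroot
  obtain ⟨t, ht, rfl⟩ := Finset.mem_image.1 hyroot
  exact ⟨t, Finset.mem_range.1 ht, rfl⟩

section Main

variable {R : Type u} [CommRing R] [IsDomain R] {ι : Type} [Fintype ι] [DecidableEq ι]
variable (p : ℕ) [hpp : Fact p.Prime] [CharP R p] (a d : ι → R)

/-- the quotient algebra. -/
abbrev Aq : Type u := MvPolynomial ι R ⧸ Iid p (fun i => a i ^ (p - 1)) d

/-- the class of the `i`-th variable. -/
noncomputable def uu (i : ι) : Aq p a d := Ideal.Quotient.mk _ (X i)

include hpp in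
lemma two_le : 2 ≤ p := hpp.out.two_le

lemma algebraMap_inj : Function.Injective (algebraMap R (Aq p a d)) :=
  ASQuot.algebraMap_injective _ _ (two_le p)

instance charP_Aq : CharP (Aq p a d) p :=
  charP_of_injective_algebraMap (algebraMap_inj p a d) p

lemma uu_pow (i : ι) : uu p a d i ^ p =
    algebraMap R (Aq p a d) (a i) ^ (p - 1) * uu p a d i + algebraMap R (Aq p a d) (d i) := by
  unfold uu
  rw [u_pow_gen, map_pow]

lemma al_pow (i : ι) : algebraMap R (Aq p a d) (a i) ^ p =
    algebraMap R (Aq p a d) (a i) ^ (p - 1) * algebraMap R (Aq p a d) (a i) := by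
  rw [← pow_succ]; congr 1; have := hpp.out.pos; omega

/-- substitution `u_i ↦ u_i + s_i a_i` on polynomials. -/
noncomputable def tau0 (s : ι → ℕ) : MvPolynomial ι R →ₐ[R] Aq p a d :=
  aeval (fun i => uu p a d i + algebraMap R (Aq p a d) ((s i : R) * a i))

lemma tau0_gen (s : ι → ℕ) (i : ι) :
    tau0 p a d s (X i ^ p - C (a i ^ (p - 1)) * X i - C (d i)) = 0 := by
  unfold tau0
  simp only [map_sub, map_mul, map_pow, map_natCast, aeval_X, aeval_C]
  rw [add_pow_char, mul_pow, natCast_pow_char (Aq p a d) p, uu_pow, al_pow]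
  ring

lemma tau0_mem (s : ι → ℕ) {F : MvPolynomial ι R}
    (hF : F ∈ Iid p (fun i => a i ^ (p - 1)) d) : tau0 p a d s F = 0 := by
  have hle : Iid p (fun i => a i ^ (p - 1)) d ≤ RingHom.ker (tau0 p a d s) := by
    unfold Iid
    rw [Ideal.span_le]
    rintro _ ⟨i, rfl⟩
    rw [SetLike.mem_coe, RingHom.mem_ker]
    exact tau0_gen p a d s i
  exact hle hF

/-- the endomorphism `u_i ↦ u_i + s_i a_i`. -/
noncomputable def tau (s : ι → ℕ) : Aq p a d →ₐ[R] Aq p a d :=
  Ideal.Quotient.liftₐ _ (tau0 p a d s) (fun _ h => tau0_mem p a d s h)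

lemma tau_mk (s : ι → ℕ) (F : MvPolynomial ι R) :
    tau p a d s (Ideal.Quotient.mk _ F) = tau0 p a d s F := rfl

lemma tau_uu (s : ι → ℕ) (i : ι) :
    tau p a d s (uu p a d i) = uu p a d i + algebraMap R (Aq p a d) ((s i : R) * a i) := by
  unfold uu
  rw [tau_mk]
  unfold tau0
  rw [aeval_X]
  rfl

lemma algHom_ext_uu {B : Type*} [Semiring B] [Algebra R B] {f g : Aq p a d →ₐ[R] B}
    (h : ∀ i, f (uu p a d i) = g (uu p a d i)) : f = g := by
  apply Ideal.Quotient.algHom_ext
  apply MvPolynomial.algHom_ext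
  intro i
  exact h i

lemma tau_comp (s s' : ι → ℕ) : (tau p a d s).comp (tau p a d s') = tau p a d (s + s') := by
  apply algHom_ext_uu
  intro i
  rw [AlgHom.comp_apply, tau_uu, map_add, tau_uu, AlgHom.commutes, tau_uu]
  simp only [Pi.add_apply, Nat.cast_add, map_add, map_mul, add_mul]
  ring

lemma tau_congr {s s' : ι → ℕ} (h : ∀ i, (s i : R) = (s' i : R)) : tau p a d s = tau p a d s' := by
  apply algHom_ext_uu
  intro i
  rw [tau_uu, tau_uu, h i]

lemma tau_zero : tau p a d (fun _ => 0) = AlgHom.id R (Aq p a d) := by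
  apply algHom_ext_uu
  intro i
  rw [tau_uu]
  simp

lemma tau_inv (s : ι → ℕ) :
    (tau p a d s).comp (tau p a d (fun i => (p - 1) * s i)) = AlgHom.id R (Aq p a d) := by
  rw [tau_comp, ← tau_zero]
  apply tau_congr
  intro i
  have hp1 : p - 1 + 1 = p := by have := hpp.out.pos; omega
  have : s i + (p - 1) * s i = p * s i := by
    calc s i + (p - 1) * s i = (p - 1 + 1) * s i := by ring
      _ = p * s i := by rw [hp1]
  simp only [Pi.add_apply]
  rw [this, Nat.cast_mul, CharP.cast_eq_zero, zero_mul, Nat.cast_zero]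

lemma tau_inv' (s : ι → ℕ) :
    (tau p a d (fun i => (p - 1) * s i)).comp (tau p a d s) = AlgHom.id R (Aq p a d) := by
  rw [tau_comp, add_comm, ← tau_comp]
  exact tau_inv p a d s

/-- the automorphism `u_i ↦ u_i + s_i a_i`. -/
noncomputable def sigma (s : ι → ℕ) : Aq p a d ≃ₐ[R] Aq p a d :=
  AlgEquiv.ofAlgHom (tau p a d s) (tau p a d (fun i => (p - 1) * s i))
    (tau_inv p a d s) (tau_inv' p a d s)

lemma sigma_apply (s : ι → ℕ) (x : Aq p a d) : sigma p a d s x = tau p a d s x := rfl

lemma sigma_uu (s : ι → ℕ) (i : ι) :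
    sigma p a d s (uu p a d i) = uu p a d i + algebraMap R (Aq p a d) ((s i : R) * a i) :=
  tau_uu p a d s i

lemma algEquiv_ext_uu {σ τ : Aq p a d ≃ₐ[R] Aq p a d}
    (h : ∀ i, σ (uu p a d i) = τ (uu p a d i)) : σ = τ := by
  have h2 : (σ : Aq p a d →ₐ[R] Aq p a d) = (τ : Aq p a d →ₐ[R] Aq p a d) :=
    algHom_ext_uu p a d h
  exact AlgEquiv.ext (fun x => DFunLike.congr_fun h2 x)

variable (ha : ∀ i, a i ≠ 0)

include ha in
lemma sigma_injective :
    Function.Injective (fun t : ι → Fin p => sigma p a d (fun i => (t i : ℕ))) := by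
  intro t t' h
  funext i
  have h1 := DFunLike.congr_fun h (uu p a d i)
  simp only [sigma_uu] at h1
  have h2 := algebraMap_inj p a d (add_left_cancel h1)
  have h3 : (((t i : ℕ)) : R) = (((t' i : ℕ)) : R) := mul_right_cancel₀ (ha i) h2
  exact Fin.ext (CharP.natCast_injOn_Iio R p (t i).2 (t' i).2 h3)

include ha in
/-- classification of the images of the generators. -/
lemma exists_shift [IsDomain (Aq p a d)] (σ : Aq p a d ≃ₐ[R] Aq p a d) (i : ι) :
    ∃ t : ℕ, t < p ∧ σ (uu p a d i) = uu p a d i + algebraMap R (Aq p a d) ((t : R) * a i) := by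
  have h1 : σ (uu p a d i) ^ p =
      algebraMap R (Aq p a d) (a i) ^ (p - 1) * σ (uu p a d i) + algebraMap R (Aq p a d) (d i) := by
    rw [← map_pow, uu_pow, map_add, map_mul, map_pow, AlgEquiv.commutes, AlgEquiv.commutes]
  have h2 : (σ (uu p a d i) - uu p a d i) ^ p =
      algebraMap R (Aq p a d) (a i) ^ (p - 1) * (σ (uu p a d i) - uu p a d i) := by
    rw [sub_pow_char, h1, uu_pow]
    ring
  have hα : algebraMap R (Aq p a d) (a i) ≠ 0 := by
    intro h
    exact ha i (algebraMap_inj p a d (h.trans (map_zero _).symm))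
  obtain ⟨t, ht, hy⟩ := exists_nat_mul_of_pow_eq p hα h2
  refine ⟨t, ht, ?_⟩
  rw [map_mul, map_natCast, ← hy]
  ring

include ha in
lemma sigma_surjective [IsDomain (Aq p a d)] :
    Function.Surjective (fun t : ι → Fin p => sigma p a d (fun i => (t i : ℕ))) := by
  intro σ
  choose t ht hσ using exists_shift p a d ha σ
  refine ⟨fun i => ⟨t i, ht i⟩, ?_⟩
  apply algEquiv_ext_uu
  intro i
  rw [sigma_uu, hσ i]

include ha in
theorem card_aut [IsDomain (Aq p a d)] :
    Nat.card (Aq p a d ≃ₐ[R] Aq p a d) = p ^ Fintype.card ι := by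
  rw [← Nat.card_eq_of_bijective _ ⟨sigma_injective p a d ha, sigma_surjective p a d ha⟩,
    Nat.card_eq_fintype_card, Fintype.card_fun, Fintype.card_fin]

include ha in
theorem aut_comm [IsDomain (Aq p a d)] (σ τ : Aq p a d ≃ₐ[R] Aq p a d) : σ * τ = τ * σ := by
  apply algEquiv_ext_uu
  intro i
  obtain ⟨t, -, hσ⟩ := exists_shift p a d ha σ i
  obtain ⟨t', -, hτ⟩ := exists_shift p a d ha τ i
  rw [AlgEquiv.mul_apply, AlgEquiv.mul_apply, hτ, hσ, map_add, map_add, hσ, hτ,
    AlgEquiv.commutes, AlgEquiv.commutes]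
  ring

include ha in
theorem aut_pow [IsDomain (Aq p a d)] (σ : Aq p a d ≃ₐ[R] Aq p a d) : σ ^ p = 1 := by
  apply algEquiv_ext_uu
  intro i
  obtain ⟨t, -, hσ⟩ := exists_shift p a d ha σ i
  have hm : ∀ m : ℕ, (σ ^ m) (uu p a d i) =
      uu p a d i + algebraMap R (Aq p a d) ((m : R) * ((t : R) * a i)) := by
    intro m
    induction m with
    | zero => simp
    | succ m ih =>
      rw [pow_succ, AlgEquiv.mul_apply, hσ, map_add, ih, AlgEquiv.commutes]
      simp only [Nat.cast_succ, map_add, map_mul, add_mul, one_mul]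
      ring
  rw [hm p, CharP.cast_eq_zero, zero_mul, map_zero, add_zero, AlgEquiv.one_apply]

include ha in
/-- an element fixed by all the `sigma s` comes from `R`. -/
theorem fixed_mem_range (b : Aq p a d) (hb : ∀ s : ι → ℕ, sigma p a d s b = b) :
    b ∈ Set.range (algebraMap R (Aq p a d)) := by
  classical
  have hp : p.Prime := hpp.out
  obtain ⟨F, rfl⟩ := Ideal.Quotient.mk_surjective b
  obtain ⟨G, hG, hFG⟩ := exists_red p hp.two_le (fun i => a i ^ (p - 1)) d F
  have hFG' : Ideal.Quotient.mk (Iid p (fun i => a i ^ (p - 1)) d) F =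
      Ideal.Quotient.mk (Iid p (fun i => a i ^ (p - 1)) d) G :=
    Ideal.Quotient.eq.2 hFG
  rw [hFG'] at hb ⊢
  -- the algebraic closure
  let K := FractionRing R
  let L := AlgebraicClosure K
  let φ : R →+* L := (algebraMap K L).comp (algebraMap R K)
  have hφ : Function.Injective φ :=
    (algebraMap K L).injective.comp (IsFractionRing.injective R K)
  haveI : CharP L p := charP_of_injective_ringHom hφ p
  have hroot : ∀ i, ∃ ρ : L, ρ ^ p - φ (a i) ^ (p - 1) * ρ - φ (d i) = 0 := by
    intro i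
    have hdeg : (Polynomial.X ^ p - (Polynomial.C (φ (a i) ^ (p - 1)) * Polynomial.X +
        Polynomial.C (φ (d i))) : Polynomial L).degree ≠ 0 := by
      rw [Polynomial.degree_sub_eq_left_of_degree_lt]
      · rw [Polynomial.degree_X_pow]; exact_mod_cast hp.ne_zero
      · rw [Polynomial.degree_X_pow]
        exact lt_of_le_of_lt Polynomial.degree_linear_le (by exact_mod_cast hp.one_lt)
    obtain ⟨ρ, hρ⟩ := IsAlgClosed.exists_root _ hdeg
    refine ⟨ρ, ?_⟩
    have h := hρ
    simp only [Polynomial.IsRoot.def, Polynomial.eval_sub, Polynomial.eval_pow, Polynomial.eval_X,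
      Polynomial.eval_add, Polynomial.eval_mul, Polynomial.eval_C] at h
    linear_combination h
  choose ρ hρ using hroot
  have hshift : ∀ (s : ι → ℕ) (i : ι), (ρ i + (s i : L) * φ (a i)) ^ p -
      φ (a i) ^ (p - 1) * (ρ i + (s i : L) * φ (a i)) - φ (d i) = 0 := by
    intro s i
    have h2 : φ (a i) ^ p = φ (a i) ^ (p - 1) * φ (a i) := by
      rw [← pow_succ]; congr 1; have := hp.pos; omega
    rw [add_pow_char, mul_pow, natCast_pow_char L p, h2]
    linear_combination hρ i
  have hkill : ∀ (s : ι → ℕ), ∀ f ∈ Iid p (fun i => a i ^ (p - 1)) d,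
      eval₂Hom φ (fun i => ρ i + (s i : L) * φ (a i)) f = 0 := by
    intro s f hf
    have hle : Iid p (fun i => a i ^ (p - 1)) d ≤
        RingHom.ker (eval₂Hom φ (fun i => ρ i + (s i : L) * φ (a i))) := by
      unfold Iid
      rw [Ideal.span_le]
      rintro _ ⟨i, rfl⟩
      rw [SetLike.mem_coe, RingHom.mem_ker]
      simp only [map_sub, map_mul, map_pow, coe_eval₂Hom, eval₂_X, eval₂_C]
      exact hshift s i
    exact hle hf
  -- evaluation on the quotient at the base root tuple
  let E : Aq p a d →+* L := Ideal.Quotient.lift _ (eval₂Hom φ (fun i => ρ i + ((0 : ℕ) : L) * φ (a i)))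
    (hkill (fun _ => 0))
  have hE_mk : ∀ f : MvPolynomial ι R, E (Ideal.Quotient.mk _ f) =
      eval₂Hom φ (fun i => ρ i + ((0 : ℕ) : L) * φ (a i)) f := fun f => rfl
  have hcomp : ∀ (s : ι → ℕ) (f : MvPolynomial ι R),
      E (tau0 p a d s f) = eval₂Hom φ (fun i => ρ i + (s i : L) * φ (a i)) f := by
    intro s f
    have hh : E.comp ((tau0 p a d s : MvPolynomial ι R →ₐ[R] Aq p a d) : _ →+* _) =
        eval₂Hom φ (fun i => ρ i + (s i : L) * φ (a i)) := by
      apply MvPolynomial.ringHom_ext
      · intro r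
        have : (tau0 p a d s) (C r) = Ideal.Quotient.mk _ (C r) := by
          unfold tau0
          rw [aeval_C]; rfl
        simp only [RingHom.comp_apply, RingHom.coe_coe, this, hE_mk, coe_eval₂Hom, eval₂_C]
      · intro i
        have h1 : (tau0 p a d s) (X i) =
            Ideal.Quotient.mk _ (X i + C ((s i : R) * a i)) := by
          unfold tau0
          rw [aeval_X, map_add]; rfl
        simp only [RingHom.comp_apply, RingHom.coe_coe, h1, hE_mk, coe_eval₂Hom, eval₂_X,
          eval₂_C, eval₂_add, map_mul, map_natCast]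
        simp
    exact DFunLike.congr_fun hh f
  have hinv : ∀ s : ι → ℕ, eval (fun i => ρ i + (s i : L) * φ (a i)) (map φ G) =
      eval (fun i => ρ i + ((0 : ℕ) : L) * φ (a i)) (map φ G) := by
    intro s
    rw [eval_map, eval_map]
    have h1 := hb s
    rw [sigma_apply, tau_mk] at h1
    have h2 := congrArg E h1
    rw [hcomp, hE_mk] at h2
    exact h2
  set e : L := eval (fun i => ρ i + ((0 : ℕ) : L) * φ (a i)) (map φ G) with he
  have hH : map φ G - C e = 0 := by
    apply MvPolynomial.eq_zero_of_eval_zero_at_prod_finset (map φ G - C e)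
      (fun i : ι => (Finset.range p).image (fun t : ℕ => ρ i + (t : L) * φ (a i)))
    · intro i
      rw [Finset.card_image_of_injOn, Finset.card_range]
      · refine lt_of_le_of_lt (degreeOf_sub_le i _ _) ?_
        rw [degreeOf_C, max_lt_iff]
        refine ⟨?_, hp.pos⟩
        rw [degreeOf_lt_iff hp.pos]
        intro m hm
        exact hG m (support_map_subset _ _ hm) i
      · intro t ht t' ht' hEq
        simp only [Finset.coe_range, Set.mem_Iio] at ht ht'
        have h2 : φ (a i) ≠ 0 := (map_ne_zero_iff φ hφ).2 (ha i)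
        have h3 : (t : L) = (t' : L) := mul_right_cancel₀ h2 (add_left_cancel hEq)
        exact CharP.natCast_injOn_Iio L p ht ht' h3
    · intro y hy
      have hex : ∀ i : ι, ∃ t : ℕ, ρ i + (t : L) * φ (a i) = y i := by
        intro i
        obtain ⟨t, -, ht⟩ := Finset.mem_image.1 (hy i)
        exact ⟨t, ht⟩
      choose t ht using hex
      have hy' : y = fun i => ρ i + (t i : L) * φ (a i) := by
        funext i; exact (ht i).symm
      rw [hy', map_sub, eval_C, hinv t, sub_self]
  have hcoef : ∀ m : ι →₀ ℕ, m ≠ 0 → coeff m G = 0 := by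
    intro m hm
    have h1 : coeff m (map φ G) = coeff m (C e : MvPolynomial ι L) := by
      rw [sub_eq_zero.1 hH]
    rw [coeff_map, coeff_C, if_neg (Ne.symm hm)] at h1
    exact hφ (h1.trans (map_zero φ).symm)
  have hGC : G = C (coeff 0 G) := by
    ext m
    by_cases hm : m = 0
    · subst hm; simp
    · rw [hcoef m hm, coeff_C, if_neg (Ne.symm hm)]
  refine ⟨coeff 0 G, ?_⟩
  conv_rhs => rw [hGC]
  rfl


end Main

end Groth.Agent.H81.ASAut
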