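import Mathlib
import Groth.Agent.H81.WildMinor

/-!
# Grid-vanishing tools (helper81)

* `grid_zero` : a reduced polynomial vanishing on a grid `y0 + ℕ • g` (char `p`, `g i ≠ 0`) is zero.
* `G1`, `support_G1`, `eval_G1` : specialisation of one variable, by hand.
* `partial_const` : a reduced polynomial whose values on the grid do not depend on the `i₀`-th
  grid coordinate does not involve the variable `i₀`.
* `exists_roots`, `shift_root` : Artin–Schreier roots in an algebraically closed field.
-/

set_option autoImplicit false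

namespace Groth.Agent.H81.ASGrid

open MvPolynomial Groth.Agent.H81.WildMinor

variable {L : Type*} [Field L] {ι : Type*} [Fintype ι] [DecidableEq ι]

theorem grid_zero (p : ℕ) [Fact p.Prime] [CharP L p] (H : MvPolynomial ι L) (hH : Red p H)
    (y0 g : ι → L) (hg : ∀ i, g i ≠ 0)
    (h : ∀ s : ι → ℕ, eval (fun i => y0 i + (s i : L) * g i) H = 0) : H = 0 := by
  classical
  have hp : p.Prime := Fact.out
  apply MvPolynomial.eq_zero_of_eval_zero_at_prod_finset H
    (fun i : ι => (Finset.range p).image (fun t : ℕ => y0 i + (t : L) * g i))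
  · intro i
    rw [Finset.card_image_of_injOn, Finset.card_range]
    · rw [degreeOf_lt_iff hp.pos]
      intro m hm
      exact hH m hm i
    · intro t ht t' ht' hEq
      simp only [Finset.coe_range, Set.mem_Iio] at ht ht'
      have h3 : (t : L) = (t' : L) := mul_right_cancel₀ (hg i) (add_left_cancel hEq)
      exact CharP.natCast_injOn_Iio L p ht ht' h3
  · intro y hy
    have hex : ∀ i : ι, ∃ t : ℕ, y0 i + (t : L) * g i = y i := by
      intro i
      obtain ⟨t, -, ht⟩ := Finset.mem_image.1 (hy i)
      exact ⟨t, ht⟩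
    choose t ht using hex
    have hy' : y = fun i => y0 i + (t i : L) * g i := by
      funext i; exact (ht i).symm
    rw [hy']
    exact h t

/-- specialisation of the variable `i₀` to `r`, written by hand. -/
noncomputable def G1 (r : L) (i₀ : ι) (H : MvPolynomial ι L) : MvPolynomial ι L :=
  ∑ m ∈ H.support, monomial (m.erase i₀) (coeff m H * r ^ (m i₀))

lemma support_G1 (r : L) (i₀ : ι) (H : MvPolynomial ι L) {m' : ι →₀ ℕ}
    (hm' : m' ∈ (G1 r i₀ H).support) : ∃ m ∈ H.support, m' = m.erase i₀ := by
  classical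
  unfold G1 at hm'
  have h1 := MvPolynomial.support_sum hm'
  rw [Finset.mem_biUnion] at h1
  obtain ⟨m, hm, h2⟩ := h1
  have h3 := MvPolynomial.support_monomial_subset h2
  rw [Finset.mem_singleton] at h3
  exact ⟨m, hm, h3⟩

lemma eval_G1 (r : L) (i₀ : ι) (H : MvPolynomial ι L) (y : ι → L) :
    eval y (G1 r i₀ H) = eval (Function.update y i₀ r) H := by
  classical
  unfold G1
  rw [map_sum, eval_eq' (Function.update y i₀ r) H]
  refine Finset.sum_congr rfl (fun m _ => ?_)
  rw [eval_monomial, Finsupp.prod_fintype _ _ (fun i => pow_zero _)]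
  rw [← Finset.mul_prod_erase Finset.univ (fun i => y i ^ (m.erase i₀) i) (Finset.mem_univ i₀),
    ← Finset.mul_prod_erase Finset.univ (fun i => Function.update y i₀ r i ^ m i)
      (Finset.mem_univ i₀)]
  simp only [Finsupp.erase_same, pow_zero, one_mul, Function.update_self]
  have h1 : ∏ x ∈ Finset.univ.erase i₀, y x ^ (m.erase i₀) x =
      ∏ x ∈ Finset.univ.erase i₀, Function.update y i₀ r x ^ m x := by
    refine Finset.prod_congr rfl (fun x hx => ?_)
    have hx' : x ≠ i₀ := Finset.ne_of_mem_erase hx
    rw [Finsupp.erase_ne hx', Function.update_of_ne hx']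
  rw [h1]
  ring

theorem partial_const (p : ℕ) [Fact p.Prime] [CharP L p] (H : MvPolynomial ι L) (hH : Red p H)
    (y0 g : ι → L) (hg : ∀ i, g i ≠ 0) (i₀ : ι)
    (h : ∀ (s : ι → ℕ) (t : ℕ),
      eval (fun i => y0 i + ((Function.update s i₀ t) i : L) * g i) H =
        eval (fun i => y0 i + ((Function.update s i₀ 0) i : L) * g i) H) :
    ∀ m ∈ H.support, m i₀ = 0 := by
  classical
  have hV : H - G1 (y0 i₀) i₀ H = 0 := by
    refine grid_zero p _ ?_ y0 g hg ?_
    · intro m hm j
      have h1 := MvPolynomial.support_sub _ _ _ hm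
      rcases Finset.mem_union.1 h1 with h2 | h2
      · exact hH m h2 j
      · obtain ⟨m', hm', rfl⟩ := support_G1 _ _ _ h2
        by_cases hj : j = i₀
        · subst hj; rw [Finsupp.erase_same]; exact (Fact.out : p.Prime).pos
        · rw [Finsupp.erase_ne hj]; exact hH m' hm' j
    · intro s
      rw [map_sub, eval_G1, sub_eq_zero]
      have h1 := h s (s i₀)
      rw [Function.update_eq_self] at h1
      rw [h1]
      congr 2
      funext i
      by_cases hi : i = i₀
      · subst hi; simp
      · simp [Function.update_of_ne hi]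
  intro m hm
  by_contra hne
  have h1 : H = G1 (y0 i₀) i₀ H := sub_eq_zero.1 hV
  rw [h1] at hm
  obtain ⟨m', -, rfl⟩ := support_G1 _ _ _ hm
  exact hne Finsupp.erase_same

section Roots

variable [IsAlgClosed L]

lemma exists_root (p : ℕ) [Fact p.Prime] (α δ : L) :
    ∃ ρ : L, ρ ^ p - α ^ (p - 1) * ρ - δ = 0 := by
  have hp : p.Prime := Fact.out
  have hdeg : (Polynomial.X ^ p - (Polynomial.C (α ^ (p - 1)) * Polynomial.X +
      Polynomial.C δ) : Polynomial L).degree ≠ 0 := by
    rw [Polynomial.degree_sub_eq_left_of_degree_lt]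
    · rw [Polynomial.degree_X_pow]; exact_mod_cast hp.ne_zero
    · rw [Polynomial.degree_X_pow]
      exact lt_of_le_of_lt Polynomial.degree_linear_le (by exact_mod_cast hp.one_lt)
  obtain ⟨ρ, hρ⟩ := IsAlgClosed.exists_root _ hdeg
  refine ⟨ρ, ?_⟩
  have h := hρ
  simp only [Polynomial.IsRoot.def, Polynomial.eval_sub, Polynomial.eval_pow, Polynomial.eval_X,
    Polynomial.eval_add, Polynomial.eval_mul, Polynomial.eval_C] at h
  linear_combination h

end Roots

lemma shift_root (p : ℕ) [Fact p.Prime] [CharP L p] {α δ ρ : L}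
    (hρ : ρ ^ p - α ^ (p - 1) * ρ - δ = 0) (s : ℕ) :
    (ρ + (s : L) * α) ^ p - α ^ (p - 1) * (ρ + (s : L) * α) - δ = 0 := by
  have hp : p.Prime := Fact.out
  have h2 : α ^ p = α ^ (p - 1) * α := by
    rw [← pow_succ]; congr 1; have := hp.pos; omega
  rw [add_pow_char, mul_pow, natCast_pow_char L p, h2]
  linear_combination hρ

end Groth.Agent.H81.ASGrid
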