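import Mathlib
import Groth.Agent.H81.ASAut
import Groth.Agent.H81.ASGrid

/-!
# Evaluation of `R[u]/(u_i^p - a_i^(p-1) u_i - d_i)` at root tuples (helper81)
-/

set_option autoImplicit false

namespace Groth.Agent.H81.ASEval

open MvPolynomial Groth.Agent.H81.ASQuot Groth.Agent.H81.WildMinor Groth.Agent.H81.ASAut
  Groth.Agent.H81.ASGrid

universe u

variable (R : Type u) [CommRing R] [IsDomain R]

/-- algebraic closure of the fraction field. -/
abbrev LL : Type u := AlgebraicClosure (FractionRing R)

/-- the embedding. -/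
noncomputable def phi : R →+* LL R :=
  (algebraMap (FractionRing R) (LL R)).comp (algebraMap R (FractionRing R))

lemma phi_injective : Function.Injective (phi R) :=
  (algebraMap (FractionRing R) (LL R)).injective.comp (IsFractionRing.injective R (FractionRing R))

instance charP_LL (p : ℕ) [CharP R p] : CharP (LL R) p :=
  charP_of_injective_ringHom (phi_injective R) p

variable {R} {ι : Type} [Fintype ι] [DecidableEq ι]
variable (p : ℕ) [hpp : Fact p.Prime] [CharP R p] (a d : ι → R)

/-- root tuples. -/
def IsRootTuple (ρ : ι → LL R) : Prop :=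
  ∀ i, ρ i ^ p - phi R (a i) ^ (p - 1) * ρ i - phi R (d i) = 0

lemma exists_rootTuple : ∃ ρ : ι → LL R, IsRootTuple p a d ρ := by
  have h : ∀ i, ∃ ρ : LL R, ρ ^ p - phi R (a i) ^ (p - 1) * ρ - phi R (d i) = 0 :=
    fun i => exists_root p _ _
  choose ρ hρ using h
  exact ⟨ρ, hρ⟩

variable {p a d}

lemma IsRootTuple.shift {ρ : ι → LL R} (hρ : IsRootTuple p a d ρ) (s : ι → ℕ) :
    IsRootTuple p a d (fun i => ρ i + (s i : LL R) * phi R (a i)) :=
  fun i => shift_root p (hρ i) (s i)

lemma IsRootTuple.kill {ρ : ι → LL R} (hρ : IsRootTuple p a d ρ) {f : MvPolynomial ι R}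
    (hf : f ∈ Iid p (fun i => a i ^ (p - 1)) d) : eval₂Hom (phi R) ρ f = 0 := by
  have hle : Iid p (fun i => a i ^ (p - 1)) d ≤ RingHom.ker (eval₂Hom (phi R) ρ) := by
    unfold Iid
    rw [Ideal.span_le]
    rintro _ ⟨i, rfl⟩
    rw [SetLike.mem_coe, RingHom.mem_ker]
    simp only [map_sub, map_mul, map_pow, coe_eval₂Hom, eval₂_X, eval₂_C]
    exact hρ i
  exact hle hf

lemma IsRootTuple.eval_eq {ρ : ι → LL R} (hρ : IsRootTuple p a d ρ) {f f' : MvPolynomial ι R}
    (h : Ideal.Quotient.mk (Iid p (fun i => a i ^ (p - 1)) d) f =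
      Ideal.Quotient.mk (Iid p (fun i => a i ^ (p - 1)) d) f') :
    eval₂Hom (phi R) ρ f = eval₂Hom (phi R) ρ f' := by
  have h1 := hρ.kill (Ideal.Quotient.eq.1 h)
  rw [map_sub, sub_eq_zero] at h1
  exact h1

variable (p a d)

/-- polynomial-level substitution `X_i ↦ X_i + s_i a_i`. -/
noncomputable def subP (s : ι → ℕ) : MvPolynomial ι R →ₐ[R] MvPolynomial ι R :=
  aeval (fun i => X i + C ((s i : R) * a i))

lemma tau0_eq_mk_subP (s : ι → ℕ) (f : MvPolynomial ι R) :
    tau0 p a d s f = Ideal.Quotient.mk (Iid p (fun i => a i ^ (p - 1)) d) (subP a s f) := by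
  have hh : (Ideal.Quotient.mkₐ R (Iid p (fun i => a i ^ (p - 1)) d)).comp (subP a s) =
      tau0 p a d s := by
    apply MvPolynomial.algHom_ext
    intro i
    unfold subP tau0 uu
    rw [AlgHom.comp_apply, aeval_X, aeval_X, Ideal.Quotient.mkₐ_eq_mk, map_add]
    rfl
  rw [← hh]; rfl

lemma eval_subP (ρ : ι → LL R) (s : ι → ℕ) (f : MvPolynomial ι R) :
    eval₂Hom (phi R) ρ (subP a s f) =
      eval₂Hom (phi R) (fun i => ρ i + (s i : LL R) * phi R (a i)) f := by
  have hh : (eval₂Hom (phi R) ρ).comp ((subP a s : MvPolynomial ι R →ₐ[R] MvPolynomial ι R) :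
      MvPolynomial ι R →+* MvPolynomial ι R) =
      eval₂Hom (phi R) (fun i => ρ i + (s i : LL R) * phi R (a i)) := by
    apply MvPolynomial.ringHom_ext
    · intro r
      simp [subP]
    · intro i
      simp [subP]
  exact DFunLike.congr_fun hh f

variable {p a d}

/-- invariance under `sigma s` gives invariance of values under the shift. -/
lemma eval_shift_of_fixed {ρ : ι → LL R} (hρ : IsRootTuple p a d ρ) (s : ι → ℕ)
    (G : MvPolynomial ι R)
    (hfix : sigma p a d s (Ideal.Quotient.mk _ G) = Ideal.Quotient.mk _ G) :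
    eval (fun i => ρ i + (s i : LL R) * phi R (a i)) (map (phi R) G) =
      eval ρ (map (phi R) G) := by
  rw [eval_map, eval_map]
  rw [sigma_apply, tau_mk, tau0_eq_mk_subP] at hfix
  have h1 := hρ.eval_eq hfix
  rw [eval_subP] at h1
  exact h1

variable (ha : ∀ i, a i ≠ 0)

include ha in
/-- an element fixed by the shift in the single variable `i₀` does not involve `u_{i₀}`. -/
theorem partial_fixed (i₀ : ι) (G : MvPolynomial ι R) (hG : Red p G)
    (hfix : sigma p a d (fun i => if i = i₀ then 1 else 0) (Ideal.Quotient.mk _ G) =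
      Ideal.Quotient.mk _ G) :
    ∀ m ∈ G.support, m i₀ = 0 := by
  classical
  obtain ⟨ρ, hρ⟩ := exists_rootTuple p a d
  -- fixed by all multiples
  have hfixt : ∀ t : ℕ, sigma p a d (fun i => if i = i₀ then t else 0) (Ideal.Quotient.mk _ G) =
      Ideal.Quotient.mk _ G := by
    intro t
    induction t with
    | zero =>
      have : (fun i : ι => if i = i₀ then 0 else 0) = fun _ => 0 := by funext i; simp
      rw [sigma_apply, this, tau_zero]; rfl
    | succ t ih =>
      have hs : (fun i : ι => if i = i₀ then t + 1 else 0) =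
          (fun i : ι => if i = i₀ then t else 0) + (fun i : ι => if i = i₀ then 1 else 0) := by
        funext i
        by_cases hi : i = i₀ <;> simp [hi]
      rw [sigma_apply, hs, ← tau_comp, AlgHom.comp_apply]
      rw [sigma_apply] at hfix ih
      rw [hfix, ih]
  have hsupp : ∀ m ∈ (map (phi R) G).support, m i₀ = 0 := by
    apply partial_const p (map (phi R) G) _ ρ (fun i => phi R (a i))
      (fun i => (map_ne_zero_iff (phi R) (phi_injective R)).2 (ha i)) i₀
    · intro s t
      have hρ' := hρ.shift (Function.update s i₀ 0)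
      have h1 := eval_shift_of_fixed hρ' (fun i => if i = i₀ then t else 0) G (hfixt t)
      rw [← h1]
      congr 2
      funext i
      by_cases hi : i = i₀
      · subst hi; simp
      · simp [Function.update_of_ne hi, hi]
    · intro m hm j
      exact hG m (support_map_subset _ _ hm) j
  intro m hm
  have hm' : m ∈ (map (phi R) G).support := by
    rw [mem_support_iff, coeff_map]
    rw [mem_support_iff] at hm
    exact (map_ne_zero_iff (phi R) (phi_injective R)).2 hm
  exact hsupp m hm'

end Groth.Agent.H81.ASEval
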