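import Mathlib
import Groth.Agent.H81.ASLocal
import Groth.Agent.H63.Length

/-!
# Fixed point ideal and its colength for `R[u_i]/(u_i^p - c_i u_i - d_i)` (helper81)

* `fix_eq` : for an `R`-automorphism `σ` with `σ u_i = u_i + a_i`, the ideal generated by all
  `σ t - t` is the extension of `(a_i)`.
* `map_le_U_pow` : the extension of the maximal ideal lies in `U ^ p` when `c_i = α_i^(p-1)`.
* `length_eq` : `length_A (A / 𝔞 A) = p ^ card ι * length_R (R / 𝔞)`.
-/

set_option autoImplicit false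

namespace Groth.Agent.H81.ASFixLen

open MvPolynomial IsLocalRing Groth.Agent.H81.ASQuot Groth.Agent.H81.ASLocal

universe u

section fix

variable {R : Type u} [CommRing R] {ι : Type} [Fintype ι] [DecidableEq ι]
  {p : ℕ} (c d : ι → R) (a : ι → R)

/-- the fixed point ideal equals the extension of `(a_i)`. -/
theorem fix_eq (σ : (MvPolynomial ι R ⧸ Iid p c d) ≃ₐ[R] (MvPolynomial ι R ⧸ Iid p c d))
    (hσ : ∀ i, σ (Ideal.Quotient.mk (Iid p c d) (X i)) =
      Ideal.Quotient.mk (Iid p c d) (X i) + algebraMap R (MvPolynomial ι R ⧸ Iid p c d) (a i)) :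
    Ideal.span (Set.range fun t : MvPolynomial ι R ⧸ Iid p c d => σ t - t) =
      Ideal.map (algebraMap R (MvPolynomial ι R ⧸ Iid p c d)) (Ideal.span (Set.range a)) := by
  apply le_antisymm
  · rw [Ideal.span_le]
    rintro _ ⟨t, rfl⟩
    obtain ⟨F, rfl⟩ := Ideal.Quotient.mk_surjective t
    rw [SetLike.mem_coe]
    show σ (Ideal.Quotient.mk (Iid p c d) F) - Ideal.Quotient.mk (Iid p c d) F ∈
      Ideal.map (algebraMap R (MvPolynomial ι R ⧸ Iid p c d)) (Ideal.span (Set.range a))
    induction F using MvPolynomial.induction_on with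
    | C r =>
      have h1 : (Ideal.Quotient.mk (Iid p c d)) (C r) =
          algebraMap R (MvPolynomial ι R ⧸ Iid p c d) r := rfl
      rw [h1, AlgEquiv.commutes, sub_self]
      exact Ideal.zero_mem _
    | add F G hF hG =>
      rw [map_add, map_add]
      have h1 : σ (Ideal.Quotient.mk (Iid p c d) F) + σ (Ideal.Quotient.mk (Iid p c d) G) -
          (Ideal.Quotient.mk (Iid p c d) F + Ideal.Quotient.mk (Iid p c d) G) =
          (σ (Ideal.Quotient.mk (Iid p c d) F) - Ideal.Quotient.mk (Iid p c d) F) +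
          (σ (Ideal.Quotient.mk (Iid p c d) G) - Ideal.Quotient.mk (Iid p c d) G) := by ring
      rw [h1]
      exact Ideal.add_mem _ hF hG
    | mul_X F i hF =>
      rw [map_mul, map_mul, hσ]
      have h1 : σ (Ideal.Quotient.mk (Iid p c d) F) * (Ideal.Quotient.mk (Iid p c d) (X i) +
          algebraMap R (MvPolynomial ι R ⧸ Iid p c d) (a i)) -
          Ideal.Quotient.mk (Iid p c d) F * Ideal.Quotient.mk (Iid p c d) (X i) =
          (σ (Ideal.Quotient.mk (Iid p c d) F) - Ideal.Quotient.mk (Iid p c d) F) *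
            Ideal.Quotient.mk (Iid p c d) (X i) +
          σ (Ideal.Quotient.mk (Iid p c d) F) *
            algebraMap R (MvPolynomial ι R ⧸ Iid p c d) (a i) := by ring
      rw [h1]
      exact Ideal.add_mem _ (Ideal.mul_mem_right _ _ hF)
        (Ideal.mul_mem_left _ _ (Ideal.mem_map_of_mem _ (Ideal.subset_span ⟨i, rfl⟩)))
  · rw [Ideal.map_span, Ideal.span_le]
    rintro _ ⟨_, ⟨i, rfl⟩, rfl⟩
    have h1 : algebraMap R (MvPolynomial ι R ⧸ Iid p c d) (a i) =
        σ (Ideal.Quotient.mk (Iid p c d) (X i)) - Ideal.Quotient.mk (Iid p c d) (X i) := by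
      rw [hσ]; ring
    rw [h1]
    exact Ideal.subset_span ⟨_, rfl⟩

end fix

section loc

variable {R : Type u} [CommRing R] [IsLocalRing R] {ι : Type} [Fintype ι] [DecidableEq ι]
  {p : ℕ} (c d : ι → R)

/-- the extension of the maximal ideal lies in `U ^ p` when `c_i = α_i ^ (p-1)`, `α_i ∈ 𝔪`. -/
theorem map_le_U_pow (hp : 2 ≤ p) (hd : Ideal.span (Set.range d) = maximalIdeal R)
    (α : ι → R) (hα : ∀ i, α i ∈ maximalIdeal R) (hc : ∀ i, c i = α i ^ (p - 1)) :
    Ideal.map (algebraMap R (MvPolynomial ι R ⧸ Iid p c d)) (maximalIdeal R) ≤ U p c d ^ p := by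
  rw [← hd, Ideal.map_span, Ideal.span_le]
  rintro _ ⟨_, ⟨i, rfl⟩, rfl⟩
  have h := u_pow_eq (p := p) c d i
  have h2 : algebraMap R (MvPolynomial ι R ⧸ Iid p c d) (d i) =
      (Ideal.Quotient.mk (Iid p c d) (X i)) ^ p -
      algebraMap R (MvPolynomial ι R ⧸ Iid p c d) (α i) ^ (p - 1) *
        Ideal.Quotient.mk (Iid p c d) (X i) := by
    rw [h, hc, map_pow]; ring
  rw [SetLike.mem_coe, h2]
  refine Ideal.sub_mem _ (Ideal.pow_mem_pow (mk_X_mem_U c d i) p) ?_
  have h3 : algebraMap R (MvPolynomial ι R ⧸ Iid p c d) (α i) ^ (p - 1) *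
      Ideal.Quotient.mk (Iid p c d) (X i) ∈ U p c d ^ (p - 1) * U p c d :=
    Ideal.mul_mem_mul (Ideal.pow_mem_pow (algebraMap_mem_U c d hp hd (hα i)) _) (mk_X_mem_U c d i)
  have h5 : p - 1 + 1 = p := by omega
  have h4 : U p c d ^ p = U p c d ^ (p - 1) * U p c d := by
    have h6 := pow_succ (U p c d) (p - 1)
    rwa [h5] at h6
  rw [h4]
  exact h3

/-- `length_A (A / 𝔞 A) = p ^ card ι * length_R (R / 𝔞)`. -/
theorem length_eq (hp : 2 ≤ p) (hc : ∀ i, c i ∈ maximalIdeal R)
    (hd : Ideal.span (Set.range d) = maximalIdeal R) (𝔞 : Ideal R) :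
    Module.length (MvPolynomial ι R ⧸ Iid p c d)
      ((MvPolynomial ι R ⧸ Iid p c d) ⧸
        Ideal.map (algebraMap R (MvPolynomial ι R ⧸ Iid p c d)) 𝔞) =
      (p ^ Fintype.card ι : ℕ∞) * Module.length R (R ⧸ 𝔞) := by
  haveI := ASLocal.isLocalRing c d hp hc hd
  letI : Algebra (MvPolynomial ι R ⧸ Iid p c d) (ResidueField R) := (eps c d hp hd).toAlgebra
  haveI : IsScalarTower R (MvPolynomial ι R ⧸ Iid p c d) (ResidueField R) :=
    IsScalarTower.of_algebraMap_eq (R := R) (S := MvPolynomial ι R ⧸ Iid p c d)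
      (A := ResidueField R) (fun r => by
      show algebraMap R (ResidueField R) r = eps0 (C r)
      rw [eps0_apply, constantCoeff_C]; rfl)
  have hres : Function.Surjective
      (algebraMap (MvPolynomial ι R ⧸ Iid p c d) (ResidueField R)) := eps_surjective c d hp hd
  have h1 := Groth.Agent.H63.length_restrictScalars R (A := MvPolynomial ι R ⧸ Iid p c d)
    (k := ResidueField R) (M := (MvPolynomial ι R ⧸ Iid p c d) ⧸
        Ideal.map (algebraMap R (MvPolynomial ι R ⧸ Iid p c d)) 𝔞) hres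
  have hk : Module.length R (ResidueField R) = 1 := by
    rw [Module.length_eq_one_iff, isSimpleModule_iff_quot_maximal]
    exact ⟨maximalIdeal R, inferInstance, ⟨LinearEquiv.refl _ _⟩⟩
  rw [hk, one_mul] at h1
  rw [h1]
  have e1 := (Submodule.Quotient.restrictScalarsEquiv R
    (Ideal.map (algebraMap R (MvPolynomial ι R ⧸ Iid p c d)) 𝔞)).symm
  have e1' := Submodule.quotEquivOfEq _ _
    (Ideal.smul_top_eq_map (S := MvPolynomial ι R ⧸ Iid p c d) 𝔞).symm
  have e2 := TensorProduct.quotTensorEquivQuotSMul (MvPolynomial ι R ⧸ Iid p c d) 𝔞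
  have e3 := LinearEquiv.lTensor (R ⧸ 𝔞) (basisQ c d hp).equivFun
  have e4 := TensorProduct.piScalarRight R R (R ⧸ 𝔞) (ι → Fin p)
  rw [e1.length_eq, e1'.length_eq, ← e2.length_eq, e3.length_eq, e4.length_eq, Module.length_pi,
    ENat.card_eq_coe_fintype_card, Fintype.card_fun, Fintype.card_fin]
  push_cast
  rfl

end loc

end Groth.Agent.H81.ASFixLen
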