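import Mathlib
import Groth.Agent.H81.ASQuot

/-!
# The top-coefficient Frobenius form on `R[u_i]/(u_i^p - c_i u_i - d_i)` (helper81)

* `lam` : the coefficient of `∏ u_i^(p-1)` in the monomial basis.
* `top_prod` : product formula for products of reduced one-variable polynomials.
* `lam_shift` : `lam` is invariant under `R`-algebra endomorphisms translating the generators.
* `pair_inj`, `pair_surj` : the pairing `(x, y) ↦ lam (x y)` is perfect.
-/

set_option autoImplicit false

namespace Groth.Agent.H81.ASFrob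

open MvPolynomial Groth.Agent.H81.ASQuot

universe u

variable {R : Type u} [CommRing R] [Nontrivial R] {ι : Type} [Fintype ι] [DecidableEq ι]
/-- the top index. -/
def top (ι : Type) {p : ℕ} (hp : 2 ≤ p) : ι → Fin p := fun _ => ⟨p - 1, by omega⟩

variable (p : ℕ) (c d : ι → R)

/-- the class of the `i`-th variable. -/
noncomputable def uq (i : ι) : MvPolynomial ι R ⧸ Iid p c d := Ideal.Quotient.mk _ (X i)

/-- the one-variable dual polynomials. -/
noncomputable def bd1 (i : ι) (γ : Fin p) : Polynomial R :=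
  Polynomial.X ^ (p - 1 - (γ : ℕ)) - (if (γ : ℕ) = 0 then Polynomial.C (c i) else 0)

variable {p} (hp : 2 ≤ p)

omit [Nontrivial R] [Fintype ι] [DecidableEq ι] in
lemma uq_pow (i : ι) : uq p c d i ^ p =
    algebraMap R (MvPolynomial ι R ⧸ Iid p c d) (c i) * uq p c d i +
      algebraMap R (MvPolynomial ι R ⧸ Iid p c d) (d i) := by
  have h : Ideal.Quotient.mk (Iid p c d) (X i ^ p - C (c i) * X i - C (d i)) = 0 :=
    Ideal.Quotient.eq_zero_iff_mem.2 (Ideal.subset_span ⟨i, rfl⟩)
  simp only [map_sub, map_mul, map_pow] at h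
  have e1 : ∀ r : R, (Ideal.Quotient.mk (Iid p c d)) (C r) =
      algebraMap R (MvPolynomial ι R ⧸ Iid p c d) r := fun r => rfl
  rw [e1, e1] at h
  unfold uq
  linear_combination h

/-- the top-coefficient form. -/
noncomputable def lam : (MvPolynomial ι R ⧸ Iid p c d) →ₗ[R] R :=
  (basisQ c d hp).coord (top ι hp)

lemma basisQ_eq_prod (β : ι → Fin p) : basisQ c d hp β = ∏ i, uq p c d i ^ (β i : ℕ) := by
  rw [basisQ_apply, map_prod]
  refine Finset.prod_congr rfl (fun i _ => ?_)
  rw [map_pow]; rfl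

lemma lam_basisQ (β : ι → Fin p) :
    lam c d hp (basisQ c d hp β) = if β = top ι hp then 1 else 0 := by
  unfold lam
  rw [Module.Basis.coord_apply, Module.Basis.repr_self, Finsupp.single_apply]

theorem top_prod (ρ : ι → Polynomial R) (hρ : ∀ i, (ρ i).natDegree < p) :
    lam c d hp (∏ i, Polynomial.aeval (uq p c d i) (ρ i)) = ∏ i, (ρ i).coeff (p - 1) := by
  have h1 : ∀ i, Polynomial.aeval (uq p c d i) (ρ i) =
      ∑ j : Fin p, (ρ i).coeff j • uq p c d i ^ (j : ℕ) := by
    intro i
    rw [Polynomial.aeval_eq_sum_range' (hρ i), Finset.sum_range]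
  rw [Finset.prod_congr rfl (fun i _ => h1 i), Finset.prod_univ_sum, Fintype.piFinset_univ, map_sum]
  have h2 : ∀ β : ι → Fin p, lam c d hp (∏ i, (ρ i).coeff (β i) • uq p c d i ^ (β i : ℕ)) =
      if β = top ι hp then ∏ i, (ρ i).coeff (β i) else 0 := by
    intro β
    rw [Finset.prod_smul, ← basisQ_eq_prod c d hp, map_smul, lam_basisQ]
    by_cases h : β = top ι hp
    · rw [if_pos h, if_pos h, smul_eq_mul, mul_one]
    · rw [if_neg h, if_neg h, smul_zero]
  rw [Finset.sum_congr rfl (fun β _ => h2 β), Finset.sum_ite_eq' Finset.univ (top ι hp),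
    if_pos (Finset.mem_univ _)]
  rfl

theorem lam_shift (τ : (MvPolynomial ι R ⧸ Iid p c d) →ₐ[R] (MvPolynomial ι R ⧸ Iid p c d))
    (e : ι → R)
    (hτ : ∀ i, τ (uq p c d i) = uq p c d i + algebraMap R (MvPolynomial ι R ⧸ Iid p c d) (e i))
    (x : MvPolynomial ι R ⧸ Iid p c d) : lam c d hp (τ x) = lam c d hp x := by
  have hmain : (lam c d hp).comp τ.toLinearMap = lam c d hp := by
    apply (basisQ c d hp).ext
    intro β
    rw [LinearMap.comp_apply, AlgHom.toLinearMap_apply, lam_basisQ, basisQ_eq_prod, map_prod]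
    have h1 : ∀ i, τ (uq p c d i ^ (β i : ℕ)) = Polynomial.aeval (uq p c d i)
        ((Polynomial.X + Polynomial.C (e i)) ^ (β i : ℕ)) := by
      intro i
      rw [map_pow, hτ, map_pow, map_add, Polynomial.aeval_X, Polynomial.aeval_C]
    have hdeg : ∀ i, ((Polynomial.X + Polynomial.C (e i)) ^ (β i : ℕ)).natDegree = (β i : ℕ) := by
      intro i
      rw [Polynomial.Monic.natDegree_pow (Polynomial.monic_X_add_C (e i)),
        Polynomial.natDegree_X_add_C, mul_one]
    rw [Finset.prod_congr rfl (fun i _ => h1 i), top_prod]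
    · by_cases hβ : β = top ι hp
      · rw [if_pos hβ]
        apply Finset.prod_eq_one
        intro i _
        have hm : ((Polynomial.X + Polynomial.C (e i)) ^ (β i : ℕ)).Monic :=
          (Polynomial.monic_X_add_C (e i)).pow _
        have h2 : (β i : ℕ) = p - 1 := by rw [hβ]; rfl
        have h3 := hm.coeff_natDegree
        rw [hdeg i, h2] at h3
        rw [h2]
        exact h3
      · rw [if_neg hβ]
        obtain ⟨i, hi⟩ : ∃ i, β i ≠ top ι hp i := by
          by_contra h
          push_neg at h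
          exact hβ (funext h)
        apply Finset.prod_eq_zero (Finset.mem_univ i)
        apply Polynomial.coeff_eq_zero_of_natDegree_lt
        rw [hdeg i]
        have h4 : (β i : ℕ) ≠ p - 1 := fun h => hi (Fin.ext h)
        have h5 := (β i).2
        omega
    · intro i
      rw [hdeg i]
      exact (β i).2
  exact LinearMap.congr_fun hmain x

include hp in
lemma dual1 (i : ι) (β γ : Fin p) :
    ∃ ρ : Polynomial R, ρ.natDegree < p ∧
      Polynomial.aeval (uq p c d i) ρ =
        uq p c d i ^ (β : ℕ) * Polynomial.aeval (uq p c d i) (bd1 p c i γ) ∧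
      ρ.coeff (p - 1) = if β = γ then 1 else 0 := by
  have hβ := β.2
  have hγ := γ.2
  have hrel := uq_pow (p := p) c d i
  by_cases hγ0 : (γ : ℕ) = 0
  · have hbd : bd1 p c i γ = Polynomial.X ^ (p - 1) - Polynomial.C (c i) := by
      unfold bd1; rw [if_pos hγ0, hγ0, Nat.sub_zero]
    rw [hbd]
    by_cases hβ0 : (β : ℕ) = 0
    · refine ⟨Polynomial.X ^ (p - 1) - Polynomial.C (c i), ?_, ?_, ?_⟩
      · refine lt_of_le_of_lt (Polynomial.natDegree_sub_le _ _) ?_
        rw [Polynomial.natDegree_X_pow, Polynomial.natDegree_C]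
        omega
      · rw [hβ0, pow_zero, one_mul]
      · rw [Polynomial.coeff_sub, Polynomial.coeff_X_pow, if_pos rfl, Polynomial.coeff_C,
          if_neg (by omega), sub_zero, if_pos (Fin.ext (by omega))]
    · refine ⟨Polynomial.C (d i) * Polynomial.X ^ ((β : ℕ) - 1), ?_, ?_, ?_⟩
      · refine lt_of_le_of_lt (Polynomial.natDegree_C_mul_X_pow_le _ _) (by omega)
      · rw [map_mul, Polynomial.aeval_C, map_pow, Polynomial.aeval_X, map_sub, map_pow,
          Polynomial.aeval_X, Polynomial.aeval_C]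
        have h1 : uq p c d i ^ (β : ℕ) = uq p c d i ^ ((β : ℕ) - 1) * uq p c d i := by
          rw [← pow_succ]; congr 1; omega
        have h2 : uq p c d i ^ p = uq p c d i ^ (p - 1) * uq p c d i := by
          rw [← pow_succ]; congr 1; omega
        rw [h1]
        rw [h2] at hrel
        linear_combination (-(uq p c d i ^ ((β : ℕ) - 1))) * hrel
      · rw [Polynomial.coeff_C_mul_X_pow, if_neg (by omega), if_neg]
        intro h; apply hβ0; rw [h]; exact hγ0
  · have hbd : bd1 p c i γ = Polynomial.X ^ (p - 1 - (γ : ℕ)) := by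
      unfold bd1; rw [if_neg hγ0, sub_zero]
    rw [hbd]
    by_cases hle : (β : ℕ) ≤ (γ : ℕ)
    · refine ⟨Polynomial.X ^ ((β : ℕ) + (p - 1 - (γ : ℕ))), ?_, ?_, ?_⟩
      · rw [Polynomial.natDegree_X_pow]; omega
      · rw [map_pow, map_pow, Polynomial.aeval_X, pow_add]
      · rw [Polynomial.coeff_X_pow]
        by_cases hbg : β = γ
        · rw [if_pos hbg, if_pos]
          rw [hbg]; omega
        · rw [if_neg hbg, if_neg]
          intro h
          apply hbg
          apply Fin.ext
          omega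
    · push_neg at hle
      obtain ⟨e, he⟩ : ∃ e : ℕ, (β : ℕ) = (γ : ℕ) + e + 1 :=
        ⟨(β : ℕ) - (γ : ℕ) - 1, by omega⟩
      refine ⟨Polynomial.C (c i) * Polynomial.X ^ (e + 1) +
        Polynomial.C (d i) * Polynomial.X ^ e, ?_, ?_, ?_⟩
      · refine lt_of_le_of_lt (Polynomial.natDegree_add_le _ _) ?_
        refine max_lt ?_ ?_
        · exact lt_of_le_of_lt (Polynomial.natDegree_C_mul_X_pow_le _ _) (by omega)
        · exact lt_of_le_of_lt (Polynomial.natDegree_C_mul_X_pow_le _ _) (by omega)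
      · rw [map_add, map_mul, map_mul, Polynomial.aeval_C, Polynomial.aeval_C, map_pow, map_pow,
          map_pow, Polynomial.aeval_X, ← pow_add]
        have h1 : (β : ℕ) + (p - 1 - (γ : ℕ)) = e + p := by omega
        have h2 : uq p c d i ^ (e + p) = uq p c d i ^ e * uq p c d i ^ p := pow_add _ _ _
        rw [h1, h2, hrel]
        ring
      · rw [Polynomial.coeff_add, Polynomial.coeff_C_mul_X_pow, Polynomial.coeff_C_mul_X_pow,
          if_neg (by omega), if_neg (by omega), add_zero, if_neg]
        intro h; rw [h] at hle; exact lt_irrefl _ hle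

/-- the dual family. -/
noncomputable def bdual (γ : ι → Fin p) : MvPolynomial ι R ⧸ Iid p c d :=
  ∏ i, Polynomial.aeval (uq p c d i) (bd1 p c i (γ i))

theorem lam_basisQ_mul_bdual (β γ : ι → Fin p) :
    lam c d hp (basisQ c d hp β * bdual c d γ) = if β = γ then 1 else 0 := by
  choose ρ hρ1 hρ2 hρ3 using fun i => dual1 c d hp i (β i) (γ i)
  rw [basisQ_eq_prod, bdual, ← Finset.prod_mul_distrib,
    Finset.prod_congr rfl (fun i _ => (hρ2 i).symm), top_prod c d hp ρ hρ1,
    Finset.prod_congr rfl (fun i _ => hρ3 i), Fintype.prod_boole]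
  by_cases h : β = γ
  · rw [if_pos h, if_pos (fun i => congrFun h i)]
  · rw [if_neg h, if_neg (fun h' => h (funext h'))]

theorem pair_inj (x : MvPolynomial ι R ⧸ Iid p c d)
    (h : ∀ y, lam c d hp (y * x) = 0) : x = 0 := by
  apply (basisQ c d hp).ext_elem
  intro γ
  rw [map_zero, Finsupp.zero_apply]
  have h1 := h (bdual c d γ)
  rw [← (basisQ c d hp).sum_repr x, Finset.mul_sum, map_sum] at h1
  have h2 : ∀ β, lam c d hp (bdual c d γ * ((basisQ c d hp).repr x β • basisQ c d hp β)) =
      if β = γ then (basisQ c d hp).repr x β else 0 := by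
    intro β
    rw [mul_smul_comm, map_smul, mul_comm, lam_basisQ_mul_bdual]
    by_cases hb : β = γ
    · rw [if_pos hb, if_pos hb, smul_eq_mul, mul_one]
    · rw [if_neg hb, if_neg hb, smul_zero]
  rw [Finset.sum_congr rfl (fun β _ => h2 β), Finset.sum_ite_eq' Finset.univ γ,
    if_pos (Finset.mem_univ _)] at h1
  exact h1

theorem pair_surj (ℓ : (MvPolynomial ι R ⧸ Iid p c d) →ₗ[R] R) :
    ∃ z : MvPolynomial ι R ⧸ Iid p c d, ∀ y, ℓ y = lam c d hp (y * z) := by
  refine ⟨∑ γ, ℓ (basisQ c d hp γ) • bdual c d γ, ?_⟩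
  have hmain : ℓ = (lam c d hp).comp
      (LinearMap.mulRight R (∑ γ, ℓ (basisQ c d hp γ) • bdual c d γ)) := by
    apply (basisQ c d hp).ext
    intro β
    rw [LinearMap.comp_apply, LinearMap.mulRight_apply, Finset.mul_sum, map_sum]
    have h2 : ∀ γ, lam c d hp (basisQ c d hp β * (ℓ (basisQ c d hp γ) • bdual c d γ)) =
        if β = γ then ℓ (basisQ c d hp γ) else 0 := by
      intro γ
      rw [mul_smul_comm, map_smul, lam_basisQ_mul_bdual]
      by_cases hb : β = γ
      · rw [if_pos hb, if_pos hb, smul_eq_mul, mul_one]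
      · rw [if_neg hb, if_neg hb, smul_zero]
    rw [Finset.sum_congr rfl (fun γ _ => h2 γ), Finset.sum_ite_eq Finset.univ β,
      if_pos (Finset.mem_univ _)]
  intro y
  exact LinearMap.congr_fun hmain y

end Groth.Agent.H81.ASFrob
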