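import Mathlib
import Groth.Agent.H81.ASEval

/-!
# Invariants of the hyperplane subgroups `H_s` on `R[u]/(u_i^p - b_i^(p-1) u_i - d_i)` (helper81)

`zz w = Σ w_i u_i` with `w_i b_i = g_i β` (`g_i ∈ ℕ`).  `ker_aeval_zz` : the kernel of `R[T] → A`,
`T ↦ zz w` is generated by `T^p - β^(p-1) T - Σ w_i^p d_i`.  `fixed_mem_range_zz` : elements fixed by
all shifts `κ` with `Σ κ_i g_i ≡ 0 (p)` are polynomials in `zz w` (under a divisibility hypothesis).
-/

set_option autoImplicit false

namespace Groth.Agent.H81.ASInvS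

open MvPolynomial Groth.Agent.H81.ASQuot Groth.Agent.H81.WildMinor Groth.Agent.H81.ASAut
  Groth.Agent.H81.ASGrid Groth.Agent.H81.ASEval

universe u

variable {R : Type u} [CommRing R] [IsDomain R] {ι : Type} [Fintype ι] [DecidableEq ι]
variable (p : ℕ) [hpp : Fact p.Prime] [CharP R p] (b d : ι → R)

/-- evaluation at a root tuple. -/
noncomputable def ev {ρ : ι → LL R} (hρ : IsRootTuple p b d ρ) : Aq p b d →+* LL R :=
  Ideal.Quotient.lift _ (eval₂Hom (phi R) ρ) (fun _ hf => hρ.kill hf)

variable {ρ : ι → LL R} (hρ : IsRootTuple p b d ρ)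

lemma ev_mk (f : MvPolynomial ι R) :
    ev p b d hρ (Ideal.Quotient.mk _ f) = eval₂Hom (phi R) ρ f := rfl

lemma ev_alg (r : R) : ev p b d hρ (algebraMap R (Aq p b d) r) = phi R r := by
  show ev p b d hρ (Ideal.Quotient.mk _ (C r)) = _
  rw [ev_mk]; simp

lemma ev_comp_alg : (ev p b d hρ).comp (algebraMap R (Aq p b d)) = phi R :=
  RingHom.ext (fun r => ev_alg p b d hρ r)

lemma ev_uu (i : ι) : ev p b d hρ (uu p b d i) = ρ i := by
  unfold uu; rw [ev_mk]; simp

lemma ev_sigma (s : ι → ℕ) (x : Aq p b d) :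
    ev p b d hρ (sigma p b d s x) = ev p b d (hρ.shift s) x := by
  obtain ⟨f, rfl⟩ := Ideal.Quotient.mk_surjective x
  rw [sigma_apply, tau_mk, tau0_eq_mk_subP, ev_mk, ev_mk, eval_subP]

/-- the linear form `Σ w_i u_i`. -/
noncomputable def zz (w : ι → R) : Aq p b d := ∑ i, algebraMap R (Aq p b d) (w i) * uu p b d i

variable (w : ι → R) (g : ι → ℕ) (β : R)

lemma ev_zz : ev p b d hρ (zz p b d w) = ∑ i, phi R (w i) * ρ i := by
  unfold zz
  rw [map_sum]
  refine Finset.sum_congr rfl (fun i _ => ?_)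
  rw [map_mul, ev_alg, ev_uu]

variable (hwb : ∀ i, w i * b i = (g i : R) * β)

include hwb in
lemma ev_shift_zz (ν : ι → ℕ) :
    ev p b d (hρ.shift ν) (zz p b d w) =
      ev p b d hρ (zz p b d w) + ((∑ i, ν i * g i : ℕ) : LL R) * phi R β := by
  rw [ev_zz, ev_zz]
  have h1 : ∀ i, phi R (w i) * (ρ i + (ν i : LL R) * phi R (b i)) =
      phi R (w i) * ρ i + ((ν i * g i : ℕ) : LL R) * phi R β := by
    intro i
    have h := congrArg (phi R) (hwb i)
    rw [map_mul, map_mul, map_natCast] at h
    push_cast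
    linear_combination (ν i : LL R) * h
  rw [Finset.sum_congr rfl (fun i _ => h1 i), Finset.sum_add_distrib, ← Finset.sum_mul,
    Nat.cast_sum]

include hwb in
lemma sigma_zz (κ : ι → ℕ) :
    sigma p b d κ (zz p b d w) =
      zz p b d w + algebraMap R (Aq p b d) (((∑ i, κ i * g i : ℕ) : R) * β) := by
  unfold zz
  rw [map_sum]
  have h1 : ∀ i, sigma p b d κ (algebraMap R (Aq p b d) (w i) * uu p b d i) =
      algebraMap R (Aq p b d) (w i) * uu p b d i +
        algebraMap R (Aq p b d) (((κ i * g i : ℕ) : R) * β) := by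
    intro i
    rw [map_mul, AlgEquiv.commutes, sigma_uu, mul_add, ← map_mul]
    congr 2
    push_cast
    linear_combination (κ i : R) * hwb i
  rw [Finset.sum_congr rfl (fun i _ => h1 i), Finset.sum_add_distrib, ← map_sum, ← Finset.sum_mul,
    Nat.cast_sum]

/-- the polynomial `T^p - β^(p-1) T - e`. -/
noncomputable def fz (β e : R) : Polynomial R :=
  Polynomial.X ^ p - Polynomial.C (β ^ (p - 1)) * Polynomial.X - Polynomial.C e

lemma fz_monic (e : R) : (fz p β e).Monic := by
  have hp : p.Prime := hpp.out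
  unfold fz
  have h1 : (Polynomial.X ^ p - Polynomial.C (β ^ (p - 1)) * Polynomial.X - Polynomial.C e :
      Polynomial R) = Polynomial.X ^ p - (Polynomial.C (β ^ (p - 1)) * Polynomial.X +
        Polynomial.C e) := by ring
  rw [h1]
  apply Polynomial.monic_X_pow_sub
  exact lt_of_le_of_lt Polynomial.degree_linear_le (by exact_mod_cast hp.one_lt)

variable (hb : ∀ i, b i ≠ 0)

include hb hwb in
lemma hw_pow (i : ι) : w i ^ p * b i ^ (p - 1) = β ^ (p - 1) * w i := by
  have hp : p.Prime := hpp.out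
  have h1 : p - 1 + 1 = p := Nat.sub_add_cancel hp.one_le
  apply mul_right_cancel₀ (hb i)
  have h2 : w i ^ p * b i ^ (p - 1) * b i = (w i * b i) ^ p := by
    rw [mul_pow, mul_assoc, ← pow_succ, h1]
  have h3 : β ^ (p - 1) * w i * b i = β ^ (p - 1) * (w i * b i) := by ring
  rw [h2, h3, hwb i, mul_pow, natCast_pow_char R p]
  have h4 : β ^ p = β ^ (p - 1) * β := by rw [← pow_succ, h1]
  rw [h4]; ring

include hb hwb in
theorem aeval_zz_fz :
    Polynomial.aeval (zz p b d w) (fz p β (∑ i, w i ^ p * d i)) = 0 := by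
  unfold fz
  rw [map_sub, map_sub, map_mul, map_pow, Polynomial.aeval_X, Polynomial.aeval_C,
    Polynomial.aeval_C]
  have h1 : zz p b d w ^ p =
      ∑ i, (algebraMap R (Aq p b d) (β ^ (p - 1)) * (algebraMap R (Aq p b d) (w i) * uu p b d i) +
        algebraMap R (Aq p b d) (w i ^ p * d i)) := by
    unfold zz
    rw [sum_pow_char]
    refine Finset.sum_congr rfl (fun i _ => ?_)
    rw [mul_pow, uu_pow, ← map_pow, ← map_pow]
    have h5 := hw_pow p b w g β hwb hb i
    have h6 : algebraMap R (Aq p b d) (w i ^ p) * algebraMap R (Aq p b d) (b i ^ (p - 1)) =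
        algebraMap R (Aq p b d) (β ^ (p - 1)) * algebraMap R (Aq p b d) (w i) := by
      rw [← map_mul, ← map_mul, h5]
    rw [map_mul]
    linear_combination uu p b d i * h6
  rw [h1, Finset.sum_add_distrib, ← Finset.mul_sum, ← map_sum]
  unfold zz
  ring

include hb hwb in
theorem ker_aeval_zz (hβ : β ≠ 0) (i0 : ι) (hg0 : (g i0 : R) ≠ 0) :
    RingHom.ker (Polynomial.aeval (zz p b d w) : Polynomial R →ₐ[R] Aq p b d) =
      Ideal.span {fz p β (∑ i, w i ^ p * d i)} := by
  classical
  have hp : p.Prime := hpp.out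
  have hmonic := fz_monic p β (∑ i, w i ^ p * d i)
  have hzero := aeval_zz_fz p b d w g β hwb hb
  apply le_antisymm
  · intro F hF
    rw [RingHom.mem_ker] at hF
    set f := fz p β (∑ i, w i ^ p * d i) with hf
    have hr : Polynomial.aeval (zz p b d w) (F %ₘ f) = 0 := by
      have h1 := Polynomial.modByMonic_add_div F f
      have h2 := congrArg (Polynomial.aeval (zz p b d w)) h1
      rw [map_add, map_mul, hzero, zero_mul, add_zero, hF] at h2
      exact h2
    have hfdeg : f.natDegree = p := by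
      have h1 : f = Polynomial.X ^ p - (Polynomial.C (β ^ (p - 1)) * Polynomial.X +
          Polynomial.C (∑ i, w i ^ p * d i)) := by rw [hf]; unfold fz; ring
      rw [h1, Polynomial.natDegree_sub_eq_left_of_natDegree_lt, Polynomial.natDegree_X_pow]
      rw [Polynomial.natDegree_X_pow]
      exact lt_of_le_of_lt Polynomial.natDegree_linear_le hp.one_lt
    have hne1 : f ≠ 1 := by
      intro h
      rw [h, Polynomial.natDegree_one] at hfdeg
      exact hp.ne_zero hfdeg.symm
    have hrdeg : (F %ₘ f).natDegree < p := by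
      rw [← hfdeg]
      exact Polynomial.natDegree_modByMonic_lt F hmonic hne1
    have hr0 : F %ₘ f = 0 := by
      obtain ⟨ρ, hρ⟩ := exists_rootTuple p b d
      have hφ := phi_injective R
      have hg0' : ((g i0 : ℕ) : LL R) ≠ 0 := by
        rw [← map_natCast (phi R)]
        exact (map_ne_zero_iff (phi R) hφ).2 hg0
      have hβ' : phi R β ≠ 0 := (map_ne_zero_iff (phi R) hφ).2 hβ
      have hmap : (F %ₘ f).map (phi R) = 0 := by
        apply Polynomial.eq_zero_of_natDegree_lt_card_of_eval_eq_zero' _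
          ((Finset.range p).image (fun m : ℕ =>
            ev p b d hρ (zz p b d w) + ((m * g i0 : ℕ) : LL R) * phi R β))
        · intro x hx
          obtain ⟨m, -, rfl⟩ := Finset.mem_image.1 hx
          have h1 := ev_shift_zz p b d hρ w g β hwb (fun i => if i = i0 then m else 0)
          have h2 : (∑ i, (if i = i0 then m else 0) * g i : ℕ) = m * g i0 := by
            rw [Finset.sum_eq_single i0]
            · simp
            · intro j _ hj; simp [hj]
            · intro h; exact absurd (Finset.mem_univ _) h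
          rw [h2] at h1
          have h5 : ev p b d (hρ.shift (fun i => if i = i0 then m else 0))
              (Polynomial.aeval (zz p b d w) (F %ₘ f)) = 0 := by rw [hr, map_zero]
          rw [Polynomial.aeval_def, Polynomial.hom_eval₂, ev_comp_alg] at h5
          rw [Polynomial.eval_map, ← h1]
          exact h5
        · rw [Finset.card_image_of_injOn, Finset.card_range]
          · exact lt_of_le_of_lt Polynomial.natDegree_map_le hrdeg
          · intro m hm m' hm' hEq
            simp only [Finset.coe_range, Set.mem_Iio] at hm hm'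
            have h3 : ((m * g i0 : ℕ) : LL R) = ((m' * g i0 : ℕ) : LL R) :=
              mul_right_cancel₀ hβ' (add_left_cancel hEq)
            push_cast at h3
            have h4 : (m : LL R) = (m' : LL R) := mul_right_cancel₀ hg0' h3
            exact CharP.natCast_injOn_Iio (LL R) p hm hm' h4
      exact Polynomial.map_injective (phi R) hφ (by rw [hmap, Polynomial.map_zero])
    rw [Ideal.mem_span_singleton]
    exact (Polynomial.modByMonic_eq_zero_iff_dvd hmonic).1 hr0
  · rw [Ideal.span_le, Set.singleton_subset_iff, SetLike.mem_coe, RingHom.mem_ker]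
    exact hzero

section Fixed

/-- the linear form as a polynomial. -/
noncomputable def Lp {S : Type*} [CommSemiring S] (w : ι → S) : MvPolynomial ι S :=
  ∑ i, C (w i) * X i

omit [IsDomain R] [DecidableEq ι] [CharP R p] in
lemma mk_Lp : Ideal.Quotient.mk (Iid p (fun i => b i ^ (p - 1)) d) (Lp w) = zz p b d w := by
  unfold Lp zz uu
  rw [map_sum]
  refine Finset.sum_congr rfl (fun i _ => ?_)
  rw [map_mul]; rfl

lemma map_Lp {S T : Type*} [CommSemiring S] [CommSemiring T] (f : S →+* T) (w : ι → S) :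
    map f (Lp w) = Lp (fun i => f (w i)) := by
  unfold Lp
  rw [map_sum]
  refine Finset.sum_congr rfl (fun i _ => ?_)
  rw [map_mul, map_C, map_X]

lemma red_zero {S : Type*} [CommRing S] : Red p (0 : MvPolynomial ι S) := by
  intro m hm
  simp at hm

lemma red_sum {S : Type*} [CommRing S] {κ : Type*} (s : Finset κ) (F : κ → MvPolynomial ι S)
    (h : ∀ j ∈ s, Red p (F j)) : Red p (∑ j ∈ s, F j) := by
  classical
  induction s using Finset.induction_on with
  | empty => rw [Finset.sum_empty]; exact red_zero p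
  | insert a s ha ih =>
    rw [Finset.sum_insert ha]
    exact Red.add (h a (Finset.mem_insert_self a s))
      (ih (fun j hj => h j (Finset.mem_insert_of_mem hj)))

lemma red_sub {S : Type*} [CommRing S] {G H : MvPolynomial ι S} (hG : Red p G) (hH : Red p H) :
    Red p (G - H) := by
  classical
  intro m hm j
  rcases Finset.mem_union.1 (MvPolynomial.support_sub _ _ _ hm) with h | h
  · exact hG m h j
  · exact hH m h j

lemma red_C_mul_Lp_pow {S : Type*} [CommRing S] [Nontrivial S] (w : ι → S) (c : S) {j : ℕ}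
    (hj : j < p) : Red p (C c * Lp w ^ j) := by
  classical
  intro m hm i
  have h0 : (Lp w).totalDegree ≤ 1 := by
    unfold Lp
    apply totalDegree_finsetSum_le
    intro i _
    refine (totalDegree_mul _ _).trans ?_
    rw [totalDegree_C, zero_add, totalDegree_X]
  have h1 : (C c * Lp w ^ j).totalDegree ≤ j := by
    refine (totalDegree_mul _ _).trans ?_
    rw [totalDegree_C, zero_add]
    refine (totalDegree_pow _ _).trans ?_
    calc j * (Lp w).totalDegree ≤ j * 1 := Nat.mul_le_mul_left j h0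
      _ = j := mul_one j
  have h2 : (m.sum fun _ e => e) ≤ j := (le_totalDegree hm).trans h1
  have h3 : m i ≤ m.sum fun _ e => e := by
    by_cases hi : m i = 0
    · rw [hi]; exact Nat.zero_le _
    · rw [Finsupp.sum]
      exact Finset.single_le_sum (f := fun i => m i) (fun _ _ => Nat.zero_le _)
        (Finsupp.mem_support_iff.2 hi)
  omega

/-- restriction to the `i`-th coordinate line. -/
noncomputable def psi {S : Type*} [CommSemiring S] (i : ι) :
    MvPolynomial ι S →ₐ[S] Polynomial S :=
  aeval (fun l => if l = i then Polynomial.X else 0)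

lemma psi_Lp {S : Type*} [CommSemiring S] (i : ι) (w : ι → S) :
    psi i (Lp w) = Polynomial.C (w i) * Polynomial.X := by
  unfold psi Lp
  rw [map_sum, Finset.sum_eq_single i]
  · rw [map_mul, aeval_C, aeval_X, if_pos rfl]; rfl
  · intro l _ hl
    rw [map_mul, aeval_X, if_neg hl, mul_zero]
  · intro h; exact absurd (Finset.mem_univ _) h

lemma psi_map {S T : Type*} [CommSemiring S] [CommSemiring T] (f : S →+* T) (i : ι)
    (P : MvPolynomial ι S) : psi i (map f P) = (psi i P).map f := by
  have hh : ((psi (S := T) i : MvPolynomial ι T →ₐ[T] Polynomial T) :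
      MvPolynomial ι T →+* Polynomial T).comp (map f) =
      (Polynomial.mapRingHom f).comp ((psi (S := S) i : MvPolynomial ι S →ₐ[S] Polynomial S) :
        MvPolynomial ι S →+* Polynomial S) := by
    apply MvPolynomial.ringHom_ext
    · intro r
      simp [psi]
    · intro l
      by_cases hl : l = i <;> simp [psi, hl]
  exact DFunLike.congr_fun hh P

include hb hwb in
theorem fixed_mem_range_zz (hβ : β ≠ 0) (i0 : ι) (hg0 : (g i0 : R) ≠ 0) (hw0 : w i0 ≠ 0)
    (hdiv : ∀ (j : ℕ) (gg : ι → R), (∀ i, gg i * w i0 ^ j = gg i0 * w i ^ j) → w i0 ^ j ∣ gg i0)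
    (t : Aq p b d)
    (hfix : ∀ κ : ι → ℕ, ((∑ i, κ i * g i : ℕ) : R) = 0 → sigma p b d κ t = t) :
    t ∈ (Polynomial.aeval (zz p b d w) : Polynomial R →ₐ[R] Aq p b d).range := by
  classical
  have hp : p.Prime := hpp.out
  obtain ⟨F, rfl⟩ := Ideal.Quotient.mk_surjective t
  obtain ⟨G, hG, hFG⟩ := exists_red p hp.two_le (fun i => b i ^ (p - 1)) d F
  have hFG' : Ideal.Quotient.mk (Iid p (fun i => b i ^ (p - 1)) d) F =
      Ideal.Quotient.mk (Iid p (fun i => b i ^ (p - 1)) d) G := Ideal.Quotient.eq.2 hFG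
  rw [hFG'] at hfix ⊢
  obtain ⟨ρ, hρ⟩ := exists_rootTuple p b d
  have hφ := phi_injective R
  have hβ' : phi R β ≠ 0 := (map_ne_zero_iff (phi R) hφ).2 hβ
  have hb' : ∀ i, phi R (b i) ≠ 0 := fun i => (map_ne_zero_iff (phi R) hφ).2 (hb i)
  have hw0' : phi R (w i0) ≠ 0 := (map_ne_zero_iff (phi R) hφ).2 hw0
  have hcastR : ∀ N : ℕ, (N : R) = ((N % p : ℕ) : R) := fun N =>
    (CharP.natCast_eq_natCast R p).2 (Nat.mod_modEq N p).symm
  have hcastL : ∀ N : ℕ, (N : LL R) = ((N % p : ℕ) : LL R) := fun N =>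
    (CharP.natCast_eq_natCast (LL R) p).2 (Nat.mod_modEq N p).symm
  have hRL : ∀ N N' : ℕ, (N : R) = (N' : R) → (N : LL R) = (N' : LL R) := by
    intro N N' h
    have := congrArg (phi R) h
    rwa [map_natCast, map_natCast] at this
  -- the values on the grid
  let pt : (ι → ℕ) → ι → LL R := fun ν i => ρ i + (ν i : LL R) * phi R (b i)
  let V : (ι → ℕ) → LL R := fun ν => eval (pt ν) (map (phi R) G)
  have key : ∀ N N' : ℕ, (N : R) = (N' : R) → ((N' + (p - 1) * N : ℕ) : R) = 0 := by
    intro N N' h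
    rw [Nat.cast_add, Nat.cast_mul, Nat.cast_sub hp.one_le, ← h, CharP.cast_eq_zero R p]
    push_cast; ring
  have hV : ∀ ν ν' : ι → ℕ,
      ((∑ i, ν i * g i : ℕ) : R) = ((∑ i, ν' i * g i : ℕ) : R) → V ν = V ν' := by
    intro ν ν' h
    have hκ : ((∑ i, (ν' i + (p - 1) * ν i) * g i : ℕ) : R) = 0 := by
      have h1 : (∑ i, (ν' i + (p - 1) * ν i) * g i : ℕ) =
          (∑ i, ν' i * g i) + (p - 1) * ∑ i, ν i * g i := by
        rw [Finset.mul_sum, ← Finset.sum_add_distrib]
        refine Finset.sum_congr rfl (fun i _ => ?_)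
        ring
      rw [h1]
      exact key _ _ h
    have h1 := eval_shift_of_fixed (hρ.shift ν) (fun i => ν' i + (p - 1) * ν i) G
      (hfix (fun i => ν' i + (p - 1) * ν i) hκ)
    have h2 : (fun i => ρ i + (ν i : LL R) * phi R (b i) +
        ((ν' i + (p - 1) * ν i : ℕ) : LL R) * phi R (b i)) = pt ν' := by
      funext i
      show _ = ρ i + (ν' i : LL R) * phi R (b i)
      have h3 : ((ν' i + (p - 1) * ν i : ℕ) : LL R) = (ν' i : LL R) - (ν i : LL R) := by
        rw [Nat.cast_add, Nat.cast_mul, Nat.cast_sub hp.one_le, CharP.cast_eq_zero (LL R) p]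
        push_cast; ring
      rw [h3]; ring
    rw [h2] at h1
    exact h1.symm
  -- values of the linear form
  have hL : ∀ ν : ι → ℕ, eval (pt ν) (map (phi R) (Lp w)) =
      ev p b d hρ (zz p b d w) + ((∑ i, ν i * g i : ℕ) : LL R) * phi R β := by
    intro ν
    rw [← ev_shift_zz p b d hρ w g β hwb ν, ← mk_Lp p b d w, ev_mk, eval_map]
    rfl
  -- inverse of g i0 mod p
  obtain ⟨c, hc⟩ : ∃ c : ℕ, ((c * g i0 : ℕ) : R) = 1 := by
    have hnd : ¬ p ∣ g i0 := fun h => hg0 ((CharP.cast_eq_zero_iff R p (g i0)).2 h)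
    have hcop : Nat.Coprime (g i0) p := ((Nat.Prime.coprime_iff_not_dvd hp).2 hnd).symm
    obtain ⟨c, -, hc⟩ := Nat.exists_mul_mod_eq_one_of_coprime hcop hp.one_lt
    refine ⟨c, ?_⟩
    rw [hcastR, mul_comm, hc, Nat.cast_one]
  let rep : ℕ → ι → ℕ := fun m i => if i = i0 then m * c else 0
  have hrep : ∀ m : ℕ, ((∑ i, rep m i * g i : ℕ) : R) = (m : R) := by
    intro m
    have h1 : (∑ i, rep m i * g i : ℕ) = m * (c * g i0) := by
      rw [Finset.sum_eq_single i0]
      · simp [rep, mul_assoc]
      · intro j _ hj; simp [rep, hj]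
      · intro h; exact absurd (Finset.mem_univ _) h
    rw [h1, Nat.cast_mul, hc, mul_one]
  -- interpolation
  let x : ℕ → LL R := fun m => ev p b d hρ (zz p b d w) + (m : LL R) * phi R β
  have hxinj : Set.InjOn x (Finset.range p : Set ℕ) := by
    intro m hm m' hm' hEq
    simp only [Finset.coe_range, Set.mem_Iio] at hm hm'
    have h3 : (m : LL R) = (m' : LL R) := mul_right_cancel₀ hβ' (add_left_cancel hEq)
    exact CharP.natCast_injOn_Iio (LL R) p hm hm' h3
  let Λ : Polynomial (LL R) := Lagrange.interpolate (Finset.range p) x (fun m => V (rep m))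
  have hΛnat : Λ.natDegree < p := by
    have h1 : Λ.degree < ((Finset.range p).card : WithBot ℕ) :=
      Lagrange.degree_interpolate_lt _ hxinj
    rw [Finset.card_range] at h1
    by_cases h0 : Λ = 0
    · rw [h0, Polynomial.natDegree_zero]; exact hp.pos
    · exact (Polynomial.natDegree_lt_iff_degree_lt h0).2 h1
  have hΛV : ∀ ν : ι → ℕ, V ν = Λ.eval (eval (pt ν) (map (phi R) (Lp w))) := by
    intro ν
    have hm : (∑ i, ν i * g i) % p ∈ Finset.range p :=
      Finset.mem_range.2 (Nat.mod_lt _ hp.pos)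
    have h1 : V ν = V (rep ((∑ i, ν i * g i) % p)) := by
      apply hV
      rw [hrep, ← hcastR]
    have h2 : eval (pt ν) (map (phi R) (Lp w)) = x ((∑ i, ν i * g i) % p) := by
      rw [hL, hcastL]
    rw [h1, h2]
    exact (Lagrange.eval_interpolate_at_node (fun m => V (rep m)) hxinj hm).symm
  -- the interpolating polynomial in the linear form
  let Hs : MvPolynomial ι (LL R) :=
    ∑ j ∈ Finset.range p, C (Λ.coeff j) * (map (phi R) (Lp w)) ^ j
  have hHs_eval : ∀ y : ι → LL R, eval y Hs = Λ.eval (eval y (map (phi R) (Lp w))) := by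
    intro y
    rw [Polynomial.eval_eq_sum_range' hΛnat]
    simp only [Hs, map_sum, map_mul, map_pow, eval_C]
  have hredHs : Red p Hs := by
    apply red_sum
    intro j hj
    rw [map_Lp]
    exact red_C_mul_Lp_pow p _ _ (Finset.mem_range.1 hj)
  have hredG : Red p (map (phi R) G) := fun m hm j => hG m (support_map_subset _ _ hm) j
  have hH0 : map (phi R) G - Hs = 0 := by
    refine grid_zero p _ (red_sub p hredG hredHs) ρ (fun i => phi R (b i)) hb' ?_
    intro ν
    rw [map_sub, hHs_eval, sub_eq_zero]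
    exact hΛV ν
  have hGH : map (phi R) G = Hs := sub_eq_zero.1 hH0
  -- coefficients along the coordinate lines
  let gg : ℕ → ι → R := fun j i => (psi i G).coeff j
  have hgg : ∀ (i : ι) (j : ℕ), j < p → phi R (gg j i) = Λ.coeff j * phi R (w i) ^ j := by
    intro i j hj
    have h1 := congrArg (fun P => (psi i P).coeff j) hGH
    simp only [psi_map, Polynomial.coeff_map] at h1
    rw [h1]
    simp only [Hs, map_sum, map_mul, map_pow, psi_map, psi_Lp, Polynomial.finsetSum_coeff]
    rw [Finset.sum_eq_single j]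
    · have h2 : psi i (C (Λ.coeff j) : MvPolynomial ι (LL R)) = Polynomial.C (Λ.coeff j) := by
        unfold psi; rw [aeval_C]; rfl
      rw [h2, Polynomial.map_mul, Polynomial.map_C, Polynomial.map_X, mul_pow, ← Polynomial.C_pow,
        ← mul_assoc, ← Polynomial.C_mul, Polynomial.coeff_C_mul_X_pow, if_pos rfl]
    · intro j' _ hj'
      have h2 : psi i (C (Λ.coeff j') : MvPolynomial ι (LL R)) = Polynomial.C (Λ.coeff j') := by
        unfold psi; rw [aeval_C]; rfl
      rw [h2, Polynomial.map_mul, Polynomial.map_C, Polynomial.map_X, mul_pow, ← Polynomial.C_pow,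
        ← mul_assoc, ← Polynomial.C_mul, Polynomial.coeff_C_mul_X_pow, if_neg (Ne.symm hj')]
    · intro h; exact absurd (Finset.mem_range.2 hj) h
  -- divisibility
  have hex : ∀ j : ℕ, ∃ r : R, j < p → gg j i0 = w i0 ^ j * r := by
    intro j
    by_cases hj : j < p
    · have hrel : ∀ i, gg j i * w i0 ^ j = gg j i0 * w i ^ j := by
        intro i
        apply hφ
        rw [map_mul, map_mul, map_pow, map_pow, hgg i j hj, hgg i0 j hj]
        ring
      obtain ⟨r, hr⟩ := hdiv j (gg j) hrel
      exact ⟨r, fun _ => hr⟩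
    · exact ⟨0, fun h => absurd h hj⟩
  choose rr hrr using hex
  have hΛrr : ∀ j, j < p → Λ.coeff j = phi R (rr j) := by
    intro j hj
    have h1 := hgg i0 j hj
    rw [hrr j hj, map_mul, map_pow] at h1
    have h2 : phi R (w i0) ^ j ≠ 0 := pow_ne_zero _ hw0'
    apply mul_right_cancel₀ h2
    rw [← h1]; ring
  have hGfinal : G = ∑ j ∈ Finset.range p, C (rr j) * Lp w ^ j := by
    apply MvPolynomial.map_injective (phi R) hφ
    rw [hGH, map_sum]
    refine Finset.sum_congr rfl (fun j hj => ?_)
    rw [map_mul, map_pow, map_C, hΛrr j (Finset.mem_range.1 hj)]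
  refine ⟨∑ j ∈ Finset.range p, Polynomial.C (rr j) * Polynomial.X ^ j, ?_⟩
  show Polynomial.aeval (zz p b d w) (∑ j ∈ Finset.range p, Polynomial.C (rr j) * Polynomial.X ^ j) =
    Ideal.Quotient.mk _ G
  rw [hGfinal, map_sum, map_sum]
  refine Finset.sum_congr rfl (fun j _ => ?_)
  rw [map_mul, map_pow, Polynomial.aeval_C, Polynomial.aeval_X, map_mul, map_pow, mk_Lp]
  rfl

end Fixed

end Groth.Agent.H81.ASInvS
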