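import Mathlib
import Groth.Agent.H81.ASInvS

/-!
# Bridging lemmas for the `H_s`-invariants (helper81)

* `prod_ofFn_eq_sigma` : a list product of powers of the coordinate shifts is `sigma`.
* `dvd_of_rel` : the divisibility input of `ASInvS.fixed_mem_range_zz` in a UFD with pairwise
  coprime `a_i`.
-/

set_option autoImplicit false

namespace Groth.Agent.H81.ASInvS2

open MvPolynomial Groth.Agent.H81.ASQuot Groth.Agent.H81.ASAut

universe u

section Shift

variable {R : Type u} [CommRing R] [IsDomain R] {ι : Type} [Fintype ι] [DecidableEq ι]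
variable (p : ℕ) [hpp : Fact p.Prime] [CharP R p] (b d : ι → R)

/-- `τ` translates the generators by `e`. -/
def IsShift (τ : Aq p b d ≃ₐ[R] Aq p b d) (e : ι → R) : Prop :=
  ∀ j, τ (uu p b d j) = uu p b d j + algebraMap R (Aq p b d) (e j)

variable {p b d}

lemma isShift_one : IsShift p b d 1 0 := by
  intro j
  simp

lemma IsShift.mul {τ τ' : Aq p b d ≃ₐ[R] Aq p b d} {e e' : ι → R}
    (h : IsShift p b d τ e) (h' : IsShift p b d τ' e') : IsShift p b d (τ * τ') (e + e') := by
  intro j
  rw [AlgEquiv.mul_apply, h' j, map_add, h j, AlgEquiv.commutes, Pi.add_apply, map_add, add_assoc]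

lemma IsShift.pow {τ : Aq p b d ≃ₐ[R] Aq p b d} {e : ι → R}
    (h : IsShift p b d τ e) (m : ℕ) : IsShift p b d (τ ^ m) (m • e) := by
  induction m with
  | zero => rw [pow_zero, zero_smul]; exact isShift_one
  | succ m ih =>
    rw [pow_succ, succ_nsmul]
    exact ih.mul h

lemma isShift_list_prod {κ : Type*} (f : κ → Aq p b d ≃ₐ[R] Aq p b d) (e : κ → ι → R)
    (h : ∀ i, IsShift p b d (f i) (e i)) (l : List κ) :
    IsShift p b d (l.map f).prod (l.map e).sum := by
  induction l with
  | nil => simpa using isShift_one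
  | cons a l ih =>
    rw [List.map_cons, List.prod_cons, List.map_cons, List.sum_cons]
    exact (h a).mul ih

end Shift

section Fin

variable {R : Type u} [CommRing R] [IsDomain R] {n : ℕ}
variable (p : ℕ) [hpp : Fact p.Prime] [CharP R p] (b d : Fin n → R)

theorem prod_ofFn_eq_sigma (σ : Fin n → (Aq p b d ≃ₐ[R] Aq p b d))
    (hσ : ∀ i j, σ i (uu p b d j) =
      uu p b d j + (if i = j then algebraMap R (Aq p b d) (b i) else 0))
    (m : Fin n → ℕ) :
    (List.ofFn (fun i : Fin n => σ i ^ m i)).prod = sigma p b d m := by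
  have h1 : ∀ i, IsShift p b d (σ i) (fun j => if i = j then b i else 0) := by
    intro i j
    rw [hσ i j]
    show _ = uu p b d j + algebraMap R (Aq p b d) (if i = j then b i else 0)
    by_cases hij : i = j
    · rw [if_pos hij, if_pos hij]
    · rw [if_neg hij, if_neg hij, map_zero]
  have h2 : ∀ i, IsShift p b d (σ i ^ m i) (m i • fun j => if i = j then b i else 0) :=
    fun i => (h1 i).pow (m i)
  have h3 := isShift_list_prod (fun i : Fin n => σ i ^ m i)
    (fun i => m i • fun j => if i = j then b i else 0) h2 (List.finRange n)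
  rw [← List.ofFn_eq_map, ← List.ofFn_eq_map, List.sum_ofFn] at h3
  apply algEquiv_ext_uu
  intro j
  rw [h3 j, sigma_uu]
  congr 2
  rw [Finset.sum_apply, Finset.sum_eq_single j]
  · simp
  · intro i _ hij
    simp [hij]
  · intro h; exact absurd (Finset.mem_univ _) h

end Fin

section Dvd

variable {R : Type u} [CommRing R] [IsDomain R] [UniqueFactorizationMonoid R]
  {ι : Type} [DecidableEq ι]

theorem dvd_of_rel (a cu : ι → R) (hcop : ∀ i j, i ≠ j → IsRelPrime (a i) (a j))
    (S : Finset ι) (hcu : ∀ i ∈ S, IsUnit (cu i)) (w : ι → R)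
    (hw : ∀ i ∈ S, w i = cu i * ∏ l ∈ S.erase i, a l) (i0 : ι) (hi0 : i0 ∈ S)
    (j : ℕ) (gg : ι → R) (hrel : ∀ i, gg i * w i0 ^ j = gg i0 * w i ^ j) :
    w i0 ^ j ∣ gg i0 := by
  rw [hw i0 hi0, mul_pow, ((hcu i0 hi0).pow j).mul_left_dvd, ← Finset.prod_pow]
  apply Finset.prod_dvd_of_isRelPrime
  · intro l _ l' _ hll'
    exact (hcop l l' hll').pow
  · intro l hl
    have hlS : l ∈ S := Finset.mem_of_mem_erase hl
    have h1 : a l ^ j ∣ w i0 ^ j := by
      apply pow_dvd_pow_of_dvd
      rw [hw i0 hi0]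
      exact Dvd.dvd.mul_left (Finset.dvd_prod_of_mem _ hl) _
    have h2 : a l ^ j ∣ gg i0 * w l ^ j := by
      rw [← hrel l]
      exact Dvd.dvd.mul_left h1 _
    have h3 : IsRelPrime (a l) (w l) := by
      rw [hw l hlS]
      refine IsRelPrime.mul_right (hcu l hlS).isRelPrime_right ?_
      apply IsRelPrime.prod_right
      intro l' hl'
      exact hcop l l' (Finset.ne_of_mem_erase hl').symm
    exact (h3.pow (m := j) (n := j)).dvd_of_dvd_mul_right h2

end Dvd

end Groth.Agent.H81.ASInvS2
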