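import Groth.Agent.H81.PlaneHom
import Mathlib

/-!
Base change of the relation ideal of an affine model along a field extension of the constants, and
the consequences for `k' ⊗ K`.
-/

set_option autoImplicit false

namespace Groth.Agent.H81.AbsIrr

open MvPolynomial TensorProduct

section KL

variable {k k' K σ : Type*} [Field k] [Field k'] [Algebra k k'] [Field K] [Algebra k K]

theorem aeval_map_tmul (v : σ → K) (g : MvPolynomial σ k) :
    aeval (fun i => (1 : k') ⊗ₜ[k] v i) (MvPolynomial.map (algebraMap k k') g) =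
      (1 : k') ⊗ₜ[k] aeval v g := by
  induction g using MvPolynomial.induction_on with
  | C a =>
    rw [map_C, aeval_C, aeval_C, Algebra.TensorProduct.algebraMap_apply,
      Algebra.algebraMap_self_apply, Algebra.TensorProduct.tmul_one_eq_one_tmul]
  | add p q hp hq => rw [map_add, map_add, hp, hq, map_add, tmul_add]
  | mul_X p i hp =>
    rw [map_mul, map_mul, hp, map_X, aeval_X, map_mul, aeval_X,
      Algebra.TensorProduct.tmul_mul_tmul, one_mul]

/-- the relation ideal after extension of constants is the extension of the relation ideal. -/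
theorem ker_baseChange (v : σ → K) :
    RingHom.ker (aeval (fun i => (1 : k') ⊗ₜ[k] v i) :
      MvPolynomial σ k' →ₐ[k'] k' ⊗[k] K) =
      Ideal.map (MvPolynomial.map (algebraMap k k'))
        (RingHom.ker (aeval v : MvPolynomial σ k →ₐ[k] K)) := by
  apply le_antisymm
  · intro G hG
    rw [RingHom.mem_ker] at hG
    obtain ⟨φl, hφl⟩ : ∃ φl : MvPolynomial σ k →ₗ[k] K,
        φl = (aeval v : MvPolynomial σ k →ₐ[k] K).toLinearMap := ⟨_, rfl⟩
    have hE : ∀ t : k' ⊗[k] MvPolynomial σ k,
        aeval (fun i => (1 : k') ⊗ₜ[k] v i) (algebraTensorAlgEquiv k k' t) =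
          φl.lTensor k' t := by
      intro t
      induction t using TensorProduct.induction_on with
      | zero => simp
      | tmul c g =>
        rw [algebraTensorAlgEquiv_tmul, map_smul, aeval_map_tmul, LinearMap.lTensor_tmul, hφl,
          TensorProduct.smul_tmul', smul_eq_mul, mul_one]
        rfl
      | add t1 t2 h1 h2 => rw [map_add, map_add, h1, h2, map_add]
    have hexact := Module.Flat.lTensor_exact k' (LinearMap.exact_subtype_ker_map φl)
    have h0 : φl.lTensor k' ((algebraTensorAlgEquiv k k').symm G) = 0 := by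
      rw [← hE, AlgEquiv.apply_symm_apply, hG]
    obtain ⟨s, hs⟩ := (hexact _).mp h0
    have hmem : ∀ s : k' ⊗[k] ↥(LinearMap.ker φl),
        algebraTensorAlgEquiv k k' ((LinearMap.ker φl).subtype.lTensor k' s) ∈
          Ideal.map (MvPolynomial.map (algebraMap k k'))
            (RingHom.ker (aeval v : MvPolynomial σ k →ₐ[k] K)) := by
      intro s
      induction s using TensorProduct.induction_on with
      | zero => simp
      | tmul c g =>
        rw [LinearMap.lTensor_tmul, algebraTensorAlgEquiv_tmul, Submodule.subtype_apply,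
          MvPolynomial.smul_eq_C_mul]
        apply Ideal.mul_mem_left
        apply Ideal.mem_map_of_mem
        rw [RingHom.mem_ker]
        have h1 : φl g.1 = 0 := LinearMap.mem_ker.mp g.2
        subst hφl
        exact h1
      | add s1 s2 h1 h2 =>
        rw [map_add, map_add]
        exact Ideal.add_mem _ h1 h2
    have h2 := hmem s
    rw [hs, AlgEquiv.apply_symm_apply] at h2
    exact h2
  · rw [Ideal.map_le_iff_le_comap]
    intro g hg
    rw [Ideal.mem_comap, RingHom.mem_ker, aeval_map_tmul, RingHom.mem_ker.mp hg, tmul_zero]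

/-- if the extended relation ideal is prime, `k' ⊗ K` has no zero divisors. -/
theorem tensor_noZeroDiv (v : σ → K)
    (hfrac : ∀ z : K, ∃ b1 ∈ (aeval v : MvPolynomial σ k →ₐ[k] K).range,
      ∃ b2 ∈ (aeval v : MvPolynomial σ k →ₐ[k] K).range, b2 ≠ 0 ∧ z * b2 = b1)
    (hprime : (RingHom.ker (aeval (fun i => (1 : k') ⊗ₜ[k] v i) :
      MvPolynomial σ k' →ₐ[k'] k' ⊗[k] K)).IsPrime) :
    ∀ t1 t2 : k' ⊗[k] K, t1 * t2 = 0 → t1 = 0 ∨ t2 = 0 := by
  have hden : ∀ t : k' ⊗[k] K, ∃ B : MvPolynomial σ k, aeval v B ≠ 0 ∧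
      ∃ G : MvPolynomial σ k', t * ((1 : k') ⊗ₜ[k] aeval v B) =
        aeval (fun i => (1 : k') ⊗ₜ[k] v i) G := by
    intro t
    induction t using TensorProduct.induction_on with
    | zero => exact ⟨1, by rw [map_one]; exact one_ne_zero, 0, by rw [zero_mul, map_zero]⟩
    | tmul c z =>
      obtain ⟨b1, hb1, b2, hb2, hb20, hz⟩ := hfrac z
      obtain ⟨U, rfl⟩ := (AlgHom.mem_range _).mp hb1
      obtain ⟨B, rfl⟩ := (AlgHom.mem_range _).mp hb2
      refine ⟨B, hb20, C c * MvPolynomial.map (algebraMap k k') U, ?_⟩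
      rw [Algebra.TensorProduct.tmul_mul_tmul, mul_one, hz, map_mul, aeval_map_tmul, aeval_C,
        Algebra.TensorProduct.algebraMap_apply, Algebra.algebraMap_self_apply,
        Algebra.TensorProduct.tmul_mul_tmul, one_mul, mul_one]
    | add t1 t2 h1 h2 =>
      obtain ⟨B1, hB1, G1, hG1⟩ := h1
      obtain ⟨B2, hB2, G2, hG2⟩ := h2
      refine ⟨B1 * B2, by rw [map_mul]; exact mul_ne_zero hB1 hB2,
        G1 * MvPolynomial.map (algebraMap k k') B2 +
          G2 * MvPolynomial.map (algebraMap k k') B1, ?_⟩
      have e : (1 : k') ⊗ₜ[k] (aeval v B1 * aeval v B2) =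
          ((1 : k') ⊗ₜ[k] aeval v B1) * ((1 : k') ⊗ₜ[k] aeval v B2) := by
        rw [Algebra.TensorProduct.tmul_mul_tmul, one_mul]
      simp only [map_add, map_mul]
      rw [aeval_map_tmul, aeval_map_tmul, ← hG1, ← hG2, e]
      ring
  intro t1 t2 h12
  obtain ⟨B1, hB1, G1, hG1⟩ := hden t1
  obtain ⟨B2, hB2, G2, hG2⟩ := hden t2
  have hunit : ∀ b : K, b ≠ 0 → ∀ t : k' ⊗[k] K, t * ((1 : k') ⊗ₜ[k] b) = 0 → t = 0 := by
    intro b hb t ht
    have h1 : t * ((1 : k') ⊗ₜ[k] b) * ((1 : k') ⊗ₜ[k] b⁻¹) = 0 := by rw [ht, zero_mul]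
    rw [mul_assoc, Algebra.TensorProduct.tmul_mul_tmul, one_mul, mul_inv_cancel₀ hb,
      ← Algebra.TensorProduct.one_def, mul_one] at h1
    exact h1
  have hprod : G1 * G2 ∈ RingHom.ker (aeval (fun i => (1 : k') ⊗ₜ[k] v i) :
      MvPolynomial σ k' →ₐ[k'] k' ⊗[k] K) := by
    rw [RingHom.mem_ker, map_mul, ← hG1, ← hG2]
    calc t1 * ((1 : k') ⊗ₜ[k] aeval v B1) * (t2 * ((1 : k') ⊗ₜ[k] aeval v B2))
        = (t1 * t2) * (((1 : k') ⊗ₜ[k] aeval v B1) * ((1 : k') ⊗ₜ[k] aeval v B2)) := by ring
      _ = 0 := by rw [h12, zero_mul]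
  rcases hprime.mem_or_mem hprod with h | h
  · left
    rw [RingHom.mem_ker, ← hG1] at h
    exact hunit _ hB1 _ h
  · right
    rw [RingHom.mem_ker, ← hG2] at h
    exact hunit _ hB2 _ h

/-- a finite-dimensional tensor product without zero divisors is a field. -/
theorem isField_tensor [FiniteDimensional k k']
    (hdom : ∀ t1 t2 : k' ⊗[k] K, t1 * t2 = 0 → t1 = 0 ∨ t2 = 0) : IsField (k' ⊗[k] K) := by
  have hpos : 0 < Module.finrank K (K ⊗[k] k') := by
    rw [Module.finrank_baseChange]
    exact Module.finrank_pos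
  haveI : Nontrivial (K ⊗[k] k') := Module.nontrivial_of_finrank_pos (R := K) hpos
  haveI : NoZeroDivisors (K ⊗[k] k') := by
    refine ⟨fun {a b} hab => ?_⟩
    have h1 : (Algebra.TensorProduct.comm k K k') a * (Algebra.TensorProduct.comm k K k') b = 0 := by
      rw [← map_mul, hab, map_zero]
    rcases hdom _ _ h1 with h | h
    · left
      exact (Algebra.TensorProduct.comm k K k').injective (by rw [h, map_zero])
    · right
      exact (Algebra.TensorProduct.comm k K k').injective (by rw [h, map_zero])
  haveI : IsDomain (K ⊗[k] k') := NoZeroDivisors.to_isDomain _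
  have hF : IsField (K ⊗[k] k') := isField_of_isIntegral_of_isField' (R := K) (Field.toIsField K)
  exact (Algebra.TensorProduct.comm k k' K).toMulEquiv.isField hF

end KL

section FF

universe u v

variable {k : Type u} {K : Type v} [Field k] [Field K] [Algebra k K]

/-- if all finite extensions of the constants stay fields after tensoring with `K`, then `k` is
algebraically closed in `K`. -/
theorem mem_range_of_isAlgebraic
    (hgeo : ∀ (k' : Type u) [Field k'] [Algebra k k'], FiniteDimensional k k' →
      IsField (k' ⊗[k] K))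
    (α : K) (hα : IsAlgebraic k α) : α ∈ Set.range (algebraMap k K) := by
  have hint : IsIntegral k α := hα.isIntegral
  obtain ⟨p, hp⟩ : ∃ p, p = minpoly k α := ⟨_, rfl⟩
  have hpirr : Irreducible p := hp ▸ minpoly.irreducible hint
  haveI : Fact (Irreducible p) := ⟨hpirr⟩
  have hfd : FiniteDimensional k (AdjoinRoot p) := (AdjoinRoot.powerBasis hpirr.ne_zero).finite
  have hF := hgeo (AdjoinRoot p) hfd
  have hF' : IsField (K ⊗[k] AdjoinRoot p) :=
    (Algebra.TensorProduct.comm k K (AdjoinRoot p)).toMulEquiv.isField hF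
  have hroot : Polynomial.eval₂ (algebraMap k K) α p = 0 := by
    rw [← Polynomial.aeval_def, hp]
    exact minpoly.aeval k α
  obtain ⟨ι, -⟩ : ∃ ι : AdjoinRoot p →ₐ[k] K, True :=
    ⟨AdjoinRoot.liftAlgHom p (Algebra.ofId k K) α hroot, trivial⟩
  obtain ⟨μ, -⟩ : ∃ μ : K ⊗[k] AdjoinRoot p →ₐ[K] K, True :=
    ⟨Algebra.TensorProduct.productLeftAlgHom (AlgHom.id K K) ι, trivial⟩
  have hinj : Function.Injective μ := by
    rw [injective_iff_map_eq_zero]
    intro t ht
    by_contra ht0
    obtain ⟨t', ht'⟩ := hF'.mul_inv_cancel ht0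
    have h1 := congrArg μ ht'
    rw [map_mul, ht, zero_mul, map_one] at h1
    exact zero_ne_one h1
  have hle : Module.finrank K (K ⊗[k] AdjoinRoot p) ≤ Module.finrank K K :=
    LinearMap.finrank_le_finrank_of_injective (f := μ.toLinearMap) hinj
  rw [Module.finrank_baseChange, Module.finrank_self,
    (AdjoinRoot.powerBasis hpirr.ne_zero).finrank, AdjoinRoot.powerBasis_dim] at hle
  have hpos : 0 < p.natDegree := hp ▸ minpoly.natDegree_pos hint
  have h1 : (minpoly k α).natDegree = 1 := by
    rw [← hp]
    omega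
  obtain ⟨c, hc⟩ := minpoly.natDegree_eq_one_iff.mp h1
  exact ⟨c, hc⟩

/-- a nonzero relation with transcendental second coordinate makes the first coordinate algebraic
over the rational function field of the second. -/
theorem isAlgebraic_of_relation {u v : K} (hu : Transcendental k u)
    (g : MvPolynomial (Fin 2) k) (hg0 : g ≠ 0) (hg : aeval ![v, u] g = 0) :
    IsAlgebraic (IntermediateField.adjoin k ({u} : Set K)) v := by
  obtain ⟨ρ, hρ⟩ : ∃ ρ : Polynomial k →+* IntermediateField.adjoin k ({u} : Set K),
      ∀ q, ρ q = Polynomial.aeval (RatPlace.gen (k := k) u) q :=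
    ⟨(Polynomial.aeval (RatPlace.gen (k := k) u) :
      Polynomial k →ₐ[k] IntermediateField.adjoin k ({u} : Set K)).toRingHom, fun q => rfl⟩
  have hinj : Function.Injective ρ := by
    intro a b hab
    rw [hρ, hρ] at hab
    exact transcendental_iff_injective.mp (RatPlace.transcendental_gen hu) hab
  refine ⟨(PlaneAlg.Phi k g).map ρ, ?_, ?_⟩
  · intro h
    apply hg0
    have h1 : PlaneAlg.Phi k g = 0 := by
      apply Polynomial.map_injective ρ hinj
      rw [h, Polynomial.map_zero]
    have h2 := congrArg (PlaneAlg.Phi k).symm h1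
    rwa [AlgEquiv.symm_apply_apply, map_zero] at h2
  · rw [Polynomial.aeval_def, Polynomial.eval₂_map]
    have hcomp : (algebraMap (IntermediateField.adjoin k ({u} : Set K)) K).comp ρ =
        ((Polynomial.aeval u : Polynomial k →ₐ[k] K) : Polynomial k →+* K) :=
      RingHom.ext fun q => by
        rw [RingHom.comp_apply, hρ]
        exact RatPlace.algebraMap_aeval_gen u q
    rw [hcomp]
    exact (PlaneAlg.eval₂_Phi u v g).trans hg

/-- the relation ideal of a pair with transcendental second coordinate is generated by any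
irreducible relation (Gauss's lemma). -/
theorem ker_eq_span_of_transcendental {u v : K} (hu : Transcendental k u)
    (F : MvPolynomial (Fin 2) k) (hF : Irreducible F) (hFuv : aeval ![v, u] F = 0) :
    RingHom.ker (aeval ![v, u] : MvPolynomial (Fin 2) k →ₐ[k] K) = Ideal.span {F} := by
  apply le_antisymm
  · intro G hG
    rw [RingHom.mem_ker] at hG
    rw [Ideal.mem_span_singleton]
    letI algRK : Algebra (Polynomial k) K :=
      (Polynomial.aeval u : Polynomial k →ₐ[k] K).toRingHom.toAlgebra
    have hinj : Function.Injective (algebraMap (Polynomial k) K) :=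
      transcendental_iff_injective.mp hu
    letI algLK : Algebra (FractionRing (Polynomial k)) K :=
      (IsFractionRing.lift hinj : FractionRing (Polynomial k) →+* K).toAlgebra
    haveI : IsScalarTower (Polynomial k) (FractionRing (Polynomial k)) K :=
      IsScalarTower.of_algebraMap_eq fun r => (IsFractionRing.lift_algebraMap hinj r).symm
    have hPv : Polynomial.aeval v (PlaneAlg.Phi k F) = 0 := by
      rw [Polynomial.aeval_def]
      exact (PlaneAlg.eval₂_Phi u v F).trans hFuv
    have hQv : Polynomial.aeval v (PlaneAlg.Phi k G) = 0 := by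
      rw [Polynomial.aeval_def]
      exact (PlaneAlg.eval₂_Phi u v G).trans hG
    have hPirr : Irreducible (PlaneAlg.Phi k F) :=
      (MulEquiv.irreducible_iff (PlaneAlg.Phi k)).mpr hF
    have hdeg : (PlaneAlg.Phi k F).natDegree ≠ 0 := by
      intro h0
      have h1 := Polynomial.eq_C_of_natDegree_eq_zero h0
      rw [h1, Polynomial.aeval_C] at hPv
      have h2 : (PlaneAlg.Phi k F).coeff 0 = 0 := hinj (by rw [hPv, map_zero])
      rw [h2, map_zero] at h1
      exact hPirr.ne_zero h1
    have hprim : (PlaneAlg.Phi k F).IsPrimitive := hPirr.isPrimitive hdeg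
    have hPL : Irreducible ((PlaneAlg.Phi k F).map
        (algebraMap (Polynomial k) (FractionRing (Polynomial k)))) :=
      (hprim.irreducible_iff_irreducible_map_fraction_map).mp hPirr
    have hPLv : Polynomial.aeval v ((PlaneAlg.Phi k F).map
        (algebraMap (Polynomial k) (FractionRing (Polynomial k)))) = 0 := by
      rw [Polynomial.aeval_map_algebraMap]
      exact hPv
    have hQLv : Polynomial.aeval v ((PlaneAlg.Phi k G).map
        (algebraMap (Polynomial k) (FractionRing (Polynomial k)))) = 0 := by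
      rw [Polynomial.aeval_map_algebraMap]
      exact hQv
    obtain ⟨w, hw⟩ := minpoly.dvd (FractionRing (Polynomial k)) v hPLv
    have hnu : ¬ IsUnit (minpoly (FractionRing (Polynomial k)) v) := minpoly.not_isUnit _ v
    have hwu : IsUnit w := (hPL.isUnit_or_isUnit hw).resolve_left hnu
    have hQL := minpoly.dvd (FractionRing (Polynomial k)) v hQLv
    have hPQ : (PlaneAlg.Phi k F).map (algebraMap (Polynomial k) (FractionRing (Polynomial k))) ∣
        (PlaneAlg.Phi k G).map (algebraMap (Polynomial k) (FractionRing (Polynomial k))) := by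
      rw [hw]
      exact (IsUnit.mul_right_dvd hwu).mpr hQL
    have hdvd := hprim.dvd_of_fraction_map_dvd_fraction_map hPQ
    exact (map_dvd_iff (PlaneAlg.Phi k)).mp hdvd
  · rw [Ideal.span_le]
    intro h hh
    rw [Set.mem_singleton_iff] at hh
    rw [hh]
    exact hFuv

/-- for a plane model with principal relation ideal and algebraically closed constants, one of the
coordinates is transcendental. -/
theorem exists_transcendental
    (hconst : ∀ α : K, IsAlgebraic k α → α ∈ Set.range (algebraMap k K)) (x y : K)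
    (f : MvPolynomial (Fin 2) k) (hf : Irreducible f)
    (hker : RingHom.ker (aeval ![x, y] : MvPolynomial (Fin 2) k →ₐ[k] K) = Ideal.span {f}) :
    Transcendental k x ∨ Transcendental k y := by
  by_contra hcon
  rw [not_or] at hcon
  have hx : IsAlgebraic k x := not_not.mp hcon.1
  have hy : IsAlgebraic k y := not_not.mp hcon.2
  obtain ⟨c0, hc0⟩ := hconst x hx
  obtain ⟨c1, hc1⟩ := hconst y hy
  have h0 : (X 0 - C c0 : MvPolynomial (Fin 2) k) ∈ Ideal.span {f} := by
    rw [← hker, RingHom.mem_ker, map_sub, aeval_X, aeval_C, hc0]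
    simp
  have h1 : (X 1 - C c1 : MvPolynomial (Fin 2) k) ∈ Ideal.span {f} := by
    rw [← hker, RingHom.mem_ker, map_sub, aeval_X, aeval_C, hc1]
    simp
  rw [Ideal.mem_span_singleton] at h0 h1
  have hC : ∀ c : k, PlaneAlg.Phi k (C c) = Polynomial.C (Polynomial.C c) := by
    intro c
    have h2 := (PlaneAlg.Phi k).commutes c
    rw [Polynomial.algebraMap_apply, Polynomial.algebraMap_apply] at h2
    exact h2
  have hP0 : PlaneAlg.Phi k f ∣ Polynomial.X - Polynomial.C (Polynomial.C c0) := by
    have h2 := map_dvd (PlaneAlg.Phi k) h0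
    rwa [map_sub, PlaneAlg.Phi_X0, hC] at h2
  have hP1 : PlaneAlg.Phi k f ∣ Polynomial.C (Polynomial.X - Polynomial.C c1) := by
    have h2 := map_dvd (PlaneAlg.Phi k) h1
    rwa [map_sub, PlaneAlg.Phi_X1, hC, ← Polynomial.C_sub] at h2
  have hne : (Polynomial.C (Polynomial.X - Polynomial.C c1) : Polynomial (Polynomial k)) ≠ 0 := by
    rw [Ne, Polynomial.C_eq_zero]
    exact Polynomial.X_sub_C_ne_zero c1
  have hdeg : (PlaneAlg.Phi k f).natDegree = 0 := by
    have h2 := Polynomial.natDegree_le_of_dvd hP1 hne
    rw [Polynomial.natDegree_C] at h2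
    omega
  have hconstP := Polynomial.eq_C_of_natDegree_eq_zero hdeg
  rw [hconstP, Polynomial.C_dvd_iff_dvd_coeff] at hP0
  have h2 := hP0 1
  rw [Polynomial.coeff_sub, Polynomial.coeff_X_one, Polynomial.coeff_C_succ, sub_zero] at h2
  have hu : IsUnit ((PlaneAlg.Phi k f).coeff 0) := isUnit_of_dvd_one h2
  have hu2 : IsUnit (PlaneAlg.Phi k f) := by
    rw [hconstP]
    exact hu.map Polynomial.C
  have hu3 : IsUnit f := (MulEquiv.isUnit_map (PlaneAlg.Phi k).toMulEquiv).mp hu2
  exact hf.not_isUnit hu3

/-- finite-dimensionality over `k(t)` of `K = k(t, s)` with `s` algebraic over `k(t)`. -/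
theorem finiteDimensional_of_adjoin_pair {t s : K}
    (hts : IntermediateField.adjoin k ({t, s} : Set K) = ⊤)
    (hs : IsAlgebraic (IntermediateField.adjoin k ({t} : Set K)) s) :
    FiniteDimensional (IntermediateField.adjoin k ({t} : Set K)) K := by
  have htop : IntermediateField.adjoin (IntermediateField.adjoin k ({t} : Set K))
      ({s} : Set K) = ⊤ := by
    rw [← IntermediateField.restrictScalars_eq_top_iff (K := k),
      IntermediateField.adjoin_simple_adjoin_simple]
    exact hts
  have hfin : FiniteDimensional (IntermediateField.adjoin k ({t} : Set K))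
      (IntermediateField.adjoin (IntermediateField.adjoin k ({t} : Set K)) ({s} : Set K)) :=
    IntermediateField.adjoin.finiteDimensional hs.isIntegral
  rw [htop] at hfin
  exact Module.Finite.equiv (IntermediateField.topEquiv
    (F := IntermediateField.adjoin k ({t} : Set K)) (E := K)).toLinearEquiv

/-- a plane model with irreducible principal relation ideal and algebraically closed constants is a
function field of one variable. -/
theorem isFunctionField_of_plane
    (hconst : ∀ α : K, IsAlgebraic k α → α ∈ Set.range (algebraMap k K)) (x y : K)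
    (hxy : IntermediateField.adjoin k ({x, y} : Set K) = ⊤)
    (f : MvPolynomial (Fin 2) k) (hf : Irreducible f)
    (hker : RingHom.ker (aeval ![x, y] : MvPolynomial (Fin 2) k →ₐ[k] K) = Ideal.span {f}) :
    FunFld.IsFunctionField k K := by
  refine ⟨?_, hconst⟩
  have hf0 := hf.ne_zero
  have hfxy : aeval ![x, y] f = 0 := by
    have h1 : f ∈ RingHom.ker (aeval ![x, y] : MvPolynomial (Fin 2) k →ₐ[k] K) := by
      rw [hker]
      exact Ideal.mem_span_singleton_self f
    exact h1
  rcases exists_transcendental hconst x y f hf hker with hx | hy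
  · obtain ⟨g, hgdef⟩ : ∃ g, g = rename (Equiv.swap (0 : Fin 2) 1) f := ⟨_, rfl⟩
    have hg0 : g ≠ 0 := by
      rw [hgdef]
      intro h
      apply hf0
      apply rename_injective _ (Equiv.injective (Equiv.swap (0 : Fin 2) 1))
      rw [h, map_zero]
    have hg : aeval ![y, x] g = 0 := by
      rw [hgdef, aeval_rename]
      have h1 : ![y, x] ∘ (Equiv.swap (0 : Fin 2) 1) = ![x, y] := by
        funext i
        fin_cases i
        · simp
        · simp
      rw [h1]
      exact hfxy
    have halg := isAlgebraic_of_relation hx g hg0 hg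
    exact ⟨x, hx, finiteDimensional_of_adjoin_pair hxy halg⟩
  · have halg := isAlgebraic_of_relation hy f hf0 hfxy
    have hyx : IntermediateField.adjoin k ({y, x} : Set K) = ⊤ := by
      rw [Set.pair_comm]
      exact hxy
    exact ⟨y, hy, finiteDimensional_of_adjoin_pair hyx halg⟩

end FF

end Groth.Agent.H81.AbsIrr
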