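import Groth.Agent.H27.Sep
import Mathlib.RingTheory.Smooth.AdicCompletion
import Mathlib.RingTheory.Etale.Field
import Mathlib.RingTheory.AdicCompletion.Completeness
import Mathlib.FieldTheory.RatFunc.AsPolynomial

/-! Existence of the total Hasse derivative with respect to a separating transcendental element,
in any characteristic: `k(s) → K⟦T⟧`, `s ↦ s + T`, extended along the formally étale `K / k(s)`. -/

set_option autoImplicit false

namespace Groth.Agent.H81.HasseExist

open Polynomial IntermediateField

variable {k K : Type*} [Field k] [Field K] [Algebra k K]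

/-- `p ↦ p(s + T)`. -/
noncomputable def polyMap (s : K) : k[X] →ₐ[k] PowerSeries K :=
  Polynomial.aeval (PowerSeries.C s + PowerSeries.X)

theorem constantCoeff_polyMap (s : K) (p : k[X]) :
    PowerSeries.constantCoeff (polyMap s p) = Polynomial.aeval s p := by
  unfold polyMap
  rw [Polynomial.aeval_def, Polynomial.hom_eval₂, Polynomial.aeval_def]
  have h1 : (PowerSeries.constantCoeff (R := K)).comp (algebraMap k (PowerSeries K))
      = algebraMap k K := by
    ext c
    rw [RingHom.comp_apply, PowerSeries.algebraMap_apply, PowerSeries.constantCoeff_C]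
  have h2 : PowerSeries.constantCoeff (PowerSeries.C s + PowerSeries.X : PowerSeries K) = s := by
    simp
  rw [h1, h2]

theorem isUnit_polyMap (s : K) (hs : Transcendental k s) (p : nonZeroDivisors k[X]) :
    IsUnit (polyMap s (p : k[X])) := by
  rw [PowerSeries.isUnit_iff_constantCoeff, constantCoeff_polyMap]
  apply IsUnit.mk0
  intro h
  exact (nonZeroDivisors.ne_zero p.2) ((transcendental_iff.1 hs) _ h)

noncomputable def ratMap (s : K) (hs : Transcendental k s) : RatFunc k →ₐ[k] PowerSeries K :=
  IsLocalization.liftAlgHom (M := nonZeroDivisors k[X]) (f := polyMap s) (isUnit_polyMap s hs)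

theorem ratMap_algebraMap (s : K) (hs : Transcendental k s) (p : k[X]) :
    ratMap s hs (algebraMap k[X] (RatFunc k) p) = polyMap s p := by
  unfold ratMap
  rw [IsLocalization.liftAlgHom_apply, IsLocalization.lift_eq]
  rfl

noncomputable def H0 (s : K) (hs : Transcendental k s) : k⟮s⟯ →ₐ[k] PowerSeries K :=
  (ratMap s hs).comp (RatFunc.algEquivOfTranscendental s hs).symm.toAlgHom

theorem H0_gen (s : K) (hs : Transcendental k s) :
    H0 s hs (AdjoinSimple.gen k s) = PowerSeries.C s + PowerSeries.X := by
  unfold H0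
  rw [AlgHom.comp_apply]
  have : (RatFunc.algEquivOfTranscendental s hs).symm.toAlgHom (AdjoinSimple.gen k s)
      = (RatFunc.X : RatFunc k) := RatFunc.algEquivOfTranscendental_symm_gen s hs
  rw [this, ← RatFunc.algebraMap_X, ratMap_algebraMap]
  unfold polyMap
  rw [Polynomial.aeval_X]

theorem constantCoeff_ratMap (s : K) (hs : Transcendental k s) (u : RatFunc k) :
    PowerSeries.constantCoeff (ratMap s hs u)
      = algebraMap k⟮s⟯ K (RatFunc.algEquivOfTranscendental s hs u) := by
  have h : (PowerSeries.constantCoeff (R := K)).comp (ratMap s hs).toRingHom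
      = (algebraMap k⟮s⟯ K).comp (RatFunc.algEquivOfTranscendental s hs).toAlgHom.toRingHom := by
    apply IsLocalization.ringHom_ext (nonZeroDivisors k[X])
    refine RingHom.ext fun p => ?_
    show PowerSeries.constantCoeff (ratMap s hs (algebraMap k[X] (RatFunc k) p))
      = algebraMap k⟮s⟯ K (RatFunc.algEquivOfTranscendental s hs (algebraMap k[X] (RatFunc k) p))
    rw [ratMap_algebraMap, constantCoeff_polyMap, RatFunc.algEquivOfTranscendental_algebraMap,
      ← Polynomial.aeval_algebraMap_apply, AdjoinSimple.algebraMap_gen]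
  exact RingHom.congr_fun h u

theorem constantCoeff_H0 (s : K) (hs : Transcendental k s) (a : k⟮s⟯) :
    PowerSeries.constantCoeff (H0 s hs a) = (a : K) := by
  unfold H0
  rw [AlgHom.comp_apply, constantCoeff_ratMap]
  show algebraMap k⟮s⟯ K ((RatFunc.algEquivOfTranscendental s hs)
    ((RatFunc.algEquivOfTranscendental s hs).symm a)) = (a : K)
  rw [AlgEquiv.apply_symm_apply]
  rfl

/-- Type synonym for `K⟦T⟧`, to carry the `k(s)`-algebra structure `s ↦ s + T`. -/
def PSF (K : Type*) [Field K] : Type _ := PowerSeries K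

noncomputable instance (K : Type*) [Field K] : CommRing (PSF K) :=
  inferInstanceAs (CommRing (PowerSeries K))

/-- The variable, in the synonym. -/
noncomputable def XX (K : Type*) [Field K] : PSF K := (PowerSeries.X : PowerSeries K)

theorem mk_eq_mk_iff (I : Ideal (PSF K)) (hI : I = Ideal.span {XX K})
    (u v : PSF K) :
    Ideal.Quotient.mk I u = Ideal.Quotient.mk I v ↔
      PowerSeries.constantCoeff (u : PowerSeries K) = PowerSeries.constantCoeff (v : PowerSeries K) := by
  rw [Ideal.Quotient.eq, hI, Ideal.mem_span_singleton]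
  have key : ∀ a b : PowerSeries K, (PowerSeries.X : PowerSeries K) ∣ (a - b) ↔
      PowerSeries.constantCoeff a = PowerSeries.constantCoeff b := fun a b => by
    rw [PowerSeries.X_dvd_iff, map_sub, sub_eq_zero]
  exact key u v

/-- Existence of a total Hasse derivative with respect to a separating transcendental `s`. -/
theorem exists_hasse (s : K) (hs : Transcendental k s) [Algebra.IsSeparable k⟮s⟯ K] :
    ∃ H : K →ₐ[k] PowerSeries K, LocRes.IsHasseFamily s H := by
  letI alg : Algebra k⟮s⟯ (PSF K) := RingHom.toAlgebra (H0 s hs).toRingHom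
  obtain ⟨I, hI⟩ : ∃ I : Ideal (PSF K), I = Ideal.span {XX K} :=
    ⟨_, rfl⟩
  haveI : IsAdicComplete I (PSF K) := by
    rw [hI]
    exact inferInstanceAs
      (IsAdicComplete (Ideal.span {(PowerSeries.X : PowerSeries K)}) (PowerSeries K))
  haveI : Algebra.FormallyEtale k⟮s⟯ K := Algebra.FormallyEtale.of_isSeparable _ _
  let f : K →ₐ[k⟮s⟯] (PSF K ⧸ I) :=
    { toRingHom := (Ideal.Quotient.mk I).comp (PowerSeries.C : K →+* PowerSeries K)
      commutes' := by
        intro a
        show Ideal.Quotient.mk I (PowerSeries.C (a : K) : PSF K)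
          = Ideal.Quotient.mk I ((H0 s hs a : PowerSeries K) : PSF K)
        rw [mk_eq_mk_iff I hI, PowerSeries.constantCoeff_C, constantCoeff_H0] }
  obtain ⟨g, hg⟩ := Algebra.FormallySmooth.exists_mkₐ_comp_eq_of_isAdicComplete (I := I) f
  have hgC : ∀ y : K, PowerSeries.constantCoeff (g y : PowerSeries K) = y := by
    intro y
    have h1 := AlgHom.congr_fun hg y
    have h2 : Ideal.Quotient.mk I (g y) = Ideal.Quotient.mk I (PowerSeries.C y : PSF K) := h1
    rw [mk_eq_mk_iff I hI, PowerSeries.constantCoeff_C] at h2
    exact h2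
  refine ⟨{ toRingHom := (g.toRingHom : K →+* PowerSeries K), commutes' := ?_ }, ?_, hgC⟩
  · intro c
    have h1 : algebraMap k K c = algebraMap k⟮s⟯ K (algebraMap k k⟮s⟯ c) :=
      IsScalarTower.algebraMap_apply k k⟮s⟯ K c
    show (g (algebraMap k K c) : PowerSeries K) = algebraMap k (PowerSeries K) c
    rw [h1, g.commutes]
    show (H0 s hs) (algebraMap k k⟮s⟯ c) = _
    rw [(H0 s hs).commutes]
  · show (g s : PowerSeries K) = PowerSeries.C s + PowerSeries.X
    have h1 : s = algebraMap k⟮s⟯ K (AdjoinSimple.gen k s) :=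
      (AdjoinSimple.algebraMap_gen k s).symm
    have h2 : (g s : PowerSeries K) = g (algebraMap k⟮s⟯ K (AdjoinSimple.gen k s)) := by
      rw [← h1]
    rw [h2, g.commutes]
    exact H0_gen s hs

end Groth.Agent.H81.HasseExist
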