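import Groth.Agent.S12618
import Groth.Agent.H81.HasseExist
import Groth.Agent.H27.Tate.ExistsExp

/-! Finiteness of the automorphism group of a function field of genus `> 1` (characteristic `0`
or `> 2g - 2`), via the action on Weierstrass points. -/

set_option autoImplicit false

namespace Groth.Agent.H81.AutFin

open FunFld WithZero IntermediateField Groth.Agent.H55 Groth.Agent.H81.Weier

variable {k K : Type*} [Field k] [IsAlgClosed k] [Field K] [Algebra k K]

/-- A Hasse family exists on any function field over an algebraically closed field. -/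
theorem exists_hasse_ff (hK : IsFunctionField k K) :
    ∃ (s : K) (H : K →ₐ[k] PowerSeries K), LocRes.IsHasseFamily s H := by
  have hK' : IsFunctionField k K := hK
  obtain ⟨x, hx, -⟩ := hK.1
  obtain ⟨P, -⟩ := exists_zero hK' x hx
  obtain ⟨t, ht⟩ := P.2.2 (exp (-1 : ℤ))
  have hg1 := Groth.Agent.S11000.result k K hK'
  have hfr := finrank_kaehler hK' hg1
  have hdt := Groth.Agent.H27.Sep.D_ne_zero_of_val hK' P ht
  haveI := Groth.Agent.H27.Sep.isSeparable_of_D_ne_zero hK' hfr hdt
  have httr : Transcendental k t := by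
    rw [ff_transcendental_iff hK']
    rintro ⟨c, rfl⟩
    by_cases hc : c = 0
    · rw [hc, map_zero, map_zero] at ht
      exact exp_ne_zero ht.symm
    · rw [pl_val_const P hc] at ht
      have : (1 : WithZero (Multiplicative ℤ)) = exp (0 : ℤ) := rfl
      rw [this, exp_inj] at ht
      omega
  obtain ⟨H, hH⟩ := Groth.Agent.H81.HasseExist.exists_hasse t httr
  exact ⟨t, H, hH⟩

theorem not_isGap_comap (P : Place k K) (σ : K ≃ₐ[k] K) (m : ℤ)
    (h : ¬ IsGap (comapEquiv P σ) m) : ¬ IsGap P m := by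
  obtain ⟨f, hf0, hfP, hfQ⟩ := exists_of_not_isGap _ h
  have hσf0 : σ f ≠ 0 := by
    intro h0
    apply hf0
    have := congrArg σ.symm h0
    rwa [σ.symm_apply_apply, map_zero] at this
  refine not_isGap_of_exists P hσf0 ?_ ?_
  · have : (comapEquiv P σ).ord f = P.ord (σ f) := by
      unfold Place.ord
      rw [comapEquiv_apply]
    rw [← this]
    exact hfP
  · intro Q hQ
    have hne : comapEquiv Q σ ≠ comapEquiv P σ := by
      intro h'
      apply hQ
      have h1 := comapEquiv_symm Q σ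
      have h2 := comapEquiv_symm P σ
      rw [h'] at h1
      rw [← h1, h2]
    have : (comapEquiv Q σ).ord f = Q.ord (σ f) := by
      unfold Place.ord
      rw [comapEquiv_apply]
    rw [← this]
    exact hfQ _ hne

theorem isGap_comap (P : Place k K) (σ : K ≃ₐ[k] K) (m : ℤ) :
    IsGap (comapEquiv P σ) m ↔ IsGap P m := by
  constructor
  · intro h
    by_contra h'
    have : ¬ IsGap (comapEquiv (comapEquiv P σ) σ.symm) m := by
      rw [comapEquiv_symm]
      exact h'
    exact not_isGap_comap _ σ.symm m this h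
  · intro h
    by_contra h'
    exact not_isGap_comap P σ m h' h

/-- Intrinsic Weierstrass points: some `m ≤ g` is a non-gap. -/
def IsWP (P : Place k K) : Prop :=
  ∃ m : ℕ, 1 ≤ m ∧ m ≤ genus k K ∧ ¬ IsGap P (m : ℤ)

theorem isWP_comap (P : Place k K) (σ : K ≃ₐ[k] K) : IsWP (comapEquiv P σ) ↔ IsWP P := by
  unfold IsWP
  simp only [isGap_comap]

theorem succ_le_of_strictMono {n : ℕ} (J' : Fin n → ℕ) (hmono : StrictMono J')
    (hpos : ∀ l, 0 < J' l) : ∀ (m : ℕ) (hm : m < n), m + 1 ≤ J' ⟨m, hm⟩ := by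
  intro m
  induction m with
  | zero =>
    intro hm
    have := hpos ⟨0, hm⟩
    omega
  | succ m ih =>
    intro hm
    have h1 := ih (by omega)
    have h2 : J' ⟨m, by omega⟩ < J' ⟨m + 1, hm⟩ := hmono (by simp [Fin.lt_def])
    omega

theorem eq_succ_of_range {n : ℕ} (J' : Fin n → ℕ) (hmono : StrictMono J')
    (hpos : ∀ l, 0 < J' l) (hr : ∀ j : ℕ, 1 ≤ j → j ≤ n → j ∈ Set.range J') :
    ∀ (m : ℕ) (hm : m < n), J' ⟨m, hm⟩ = m + 1 := by
  intro m
  induction m using Nat.strong_induction_on with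
  | _ m ih =>
    intro hm
    have hge := succ_le_of_strictMono J' hmono hpos m hm
    obtain ⟨i, hi⟩ := hr (m + 1) (by omega) (by omega)
    rcases lt_trichotomy (i : ℕ) m with h | h | h
    · have := ih i h i.2
      have h3 : J' ⟨(i : ℕ), i.2⟩ = J' i := rfl
      omega
    · have : i = ⟨m, hm⟩ := Fin.ext h
      rw [← this]
      exact hi
    · have h2 : J' ⟨m, hm⟩ < J' i := hmono (by simp [Fin.lt_def, h])
      omega

/-- The weight at `P` is nonzero exactly at the intrinsic Weierstrass points. -/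
theorem weight_ne_zero_iff (hK : IsFunctionField k K) (P : Place k K) {n : ℕ}
    (hn : n + 1 = genus k K) (J' : Fin n → ℕ) (hmono : StrictMono J')
    (hpos : ∀ l, 0 < J' l)
    (hgap : ∀ j : ℕ, 1 ≤ j → (j ∈ Set.range J' ↔ IsGap P ((j : ℤ) + 1))) :
    (∑ l, ((J' l : ℤ) - (((l : ℕ) + 1 : ℕ) : ℤ))) ≠ 0 ↔ IsWP P := by
  have hge : ∀ l : Fin n, (l : ℕ) + 1 ≤ J' l := fun l =>
    succ_le_of_strictMono J' hmono hpos l l.2
  have hdeg1 := deg_eq_one_of_isAlgClosed hK P
  have hgap1 : IsGap P 1 := isGap_one_of_genus_pos P hK hdeg1 (by omega)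
  constructor
  · intro hne
    by_contra hwp
    apply hne
    have hr : ∀ j : ℕ, 1 ≤ j → j ≤ n → j ∈ Set.range J' := by
      intro j hj1 hjn
      rw [hgap j hj1]
      by_contra hng
      apply hwp
      refine ⟨j + 1, by omega, by omega, ?_⟩
      push_cast
      exact hng
    have hall := eq_succ_of_range J' hmono hpos hr
    refine Finset.sum_eq_zero (fun l _ => ?_)
    have := hall l l.2
    have h3 : J' ⟨(l : ℕ), l.2⟩ = J' l := rfl
    push_cast
    omega
  · rintro ⟨m, hm1, hmg, hng⟩ hsum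
    have hterm : ∀ l ∈ (Finset.univ : Finset (Fin n)),
        (0 : ℤ) ≤ (J' l : ℤ) - (((l : ℕ) + 1 : ℕ) : ℤ) := by
      intro l _
      have := hge l
      push_cast
      omega
    have hall := (Finset.sum_eq_zero_iff_of_nonneg hterm).1 hsum
    rcases Nat.eq_or_lt_of_le hm1 with h | h
    · apply hng
      rw [← h]
      exact_mod_cast hgap1
    · apply hng
      have hm2 : m - 2 < n := by omega
      have h1 := hall ⟨m - 2, hm2⟩ (Finset.mem_univ _)
      have h2 : J' ⟨m - 2, hm2⟩ = m - 1 := by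
        push_cast at h1
        have h3 : ((⟨m - 2, hm2⟩ : Fin n) : ℕ) = m - 2 := rfl
        omega
      have h4 := (hgap (m - 1) (by omega)).1 ⟨⟨m - 2, hm2⟩, h2⟩
      have h5 : (((m - 1 : ℕ) : ℤ) + 1) = (m : ℤ) := by omega
      rw [h5] at h4
      exact h4

theorem finite_fix (hK : IsFunctionField k K) (x : K) (hx2 : Module.finrank k⟮x⟯ K = 2) :
    {σ : K ≃ₐ[k] K | σ x = x}.Finite := by
  haveI : FiniteDimensional k⟮x⟯ K := Module.finite_of_finrank_pos (by omega)
  have hxtr : Transcendental k x := transcendental_of_finite_adjoin hK x inferInstance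
  let Θ : {σ : K ≃ₐ[k] K | σ x = x} → (K →ₐ[k⟮x⟯] K) := fun σ =>
    { toRingHom := ((σ.1 : K ≃ₐ[k] K) : K →+* K)
      commutes' := fun a => fixes_adjoin σ.1 x hxtr σ.2 a.2 }
  have hinj : Function.Injective Θ := by
    intro σ σ' h
    apply Subtype.ext
    ext w
    exact DFunLike.congr_fun h w
  haveI : Finite (K →ₐ[k⟮x⟯] K) := inferInstance
  exact Set.finite_coe_iff.1 (Finite.of_injective Θ hinj)

/-- Finiteness of the automorphism group. -/
theorem finite_aut (hK : IsFunctionField k K) (hg : 1 < genus k K)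
    (hchar : ringChar k = 0 ∨ 2 * genus k K - 2 < ringChar k) : Finite (K ≃ₐ[k] K) := by
  classical
  obtain ⟨C, hC⟩ := exists_canonical hK
  have hellC := (ell_canonical hK hC).1
  haveI := L_finite hK C
  obtain ⟨n, hn⟩ : ∃ n, n + 1 = genus k K := ⟨genus k K - 1, by omega⟩
  have hfin : Module.finrank k (L C) = n + 1 := by
    rw [hn]
    exact hellC
  obtain ⟨b⟩ : Nonempty (Module.Basis (Fin (n + 1)) k (L C)) :=
    ⟨Module.finBasisOfFinrankEq k (L C) hfin⟩
  obtain ⟨φ, hφdef⟩ : ∃ φ : Fin (n + 1) → K, φ = fun i => ((b i : L C) : K) := ⟨_, rfl⟩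
  have hφ : LinearIndependent k φ := by
    have h1 := b.linearIndependent
    have h2 := h1.map' (L C).subtype (Submodule.ker_subtype _)
    rw [hφdef]
    exact h2
  have hspan : Submodule.span k (Set.range φ) = L C := by
    have h1 : Set.range φ = (L C).subtype '' Set.range b := by
      rw [← Set.range_comp, hφdef]
      rfl
    rw [h1, Submodule.span_image, b.span_eq, Submodule.map_top, Submodule.range_subtype]
  obtain ⟨s, H, hH⟩ := exists_hasse_ff hK
  have hJ := orders_succ hK hg hchar hC φ hφ hspan s H hH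
  choose Φ hΦ using fun P : Place k K => Groth.Agent.H27.ExistsExp.exists_expansion hK P
  have hmain := Groth.Agent.S12618.result k K hK hg hchar C hC φ hφ hspan s H hH _ hJ Φ hΦ
  obtain ⟨W, hW⟩ : ∃ W : Divisor k K,
      W = wDiv (AlgHom.id k K) H Φ s φ (fun l : Fin n => (l : ℕ) + 1) := ⟨_, rfl⟩
  rw [← hW] at hmain
  have hWP : ∀ P, W P ≠ 0 ↔ IsWP P := by
    intro P
    obtain ⟨J', hmono, hpos, hgap, hWP⟩ := local_data hK hg hchar hC φ hφ hspan s H hH Φ hΦ P
    rw [hW, hWP]
    exact weight_ne_zero_iff hK P hn J' hmono hpos hgap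
  obtain ⟨T, hT⟩ : ∃ T : Set (Place k K), T = {P | W P ≠ 0} := ⟨_, rfl⟩
  have hTmem : ∀ P, P ∈ T ↔ W P ≠ 0 := fun P => by rw [hT]; rfl
  have hTfin : T.Finite := by
    have : T = ↑W.support := by
      ext P
      rw [hTmem, Finset.mem_coe, Finsupp.mem_support_iff]
    rw [this]
    exact W.support.finite_toSet
  have hTinv : ∀ (σ : K ≃ₐ[k] K) (P : Place k K), P ∈ T → comapEquiv P σ ∈ T := by
    intro σ P hP
    rw [hTmem, hWP, isWP_comap, ← hWP, ← hTmem]
    exact hP
  have hN : {σ : K ≃ₐ[k] K | ∀ P : Place k K, W P ≠ 0 →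
      IsFixedPt (σ : K →ₐ[k] K) P}.Finite := by
    rcases hmain with ⟨-, h⟩ | ⟨-, x, hx2, h⟩
    · exact (Set.finite_singleton AlgEquiv.refl).subset (fun σ hσ => h σ hσ)
    · have : {σ : K ≃ₐ[k] K | ∀ P : Place k K, W P ≠ 0 → IsFixedPt (σ : K →ₐ[k] K) P}
          = {σ : K ≃ₐ[k] K | σ x = x} := by
        ext σ
        exact h σ
      rw [this]
      exact finite_fix hK x hx2
  haveI : Finite T := hTfin.to_subtype
  let Ψ : (K ≃ₐ[k] K) → (T → T) := fun σ P => ⟨comapEquiv P.1 σ, hTinv σ P.1 P.2⟩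
  have hfib : ∀ b ∈ (Set.univ : Set (T → T)), (Ψ ⁻¹' {b}).Finite := by
    intro b _
    by_cases hne : (Ψ ⁻¹' {b}).Nonempty
    · obtain ⟨σ₀, hσ₀⟩ := hne
      refine (hN.image (fun ν => σ₀.trans ν)).subset ?_
      intro σ' hσ'
      rw [Set.mem_preimage, Set.mem_singleton_iff] at hσ' hσ₀
      refine ⟨σ₀.symm.trans σ', ?_, ?_⟩
      · intro P hP z hz
        have h1 : Ψ σ' = Ψ σ₀ := by rw [hσ', hσ₀]
        have h2 : comapEquiv P σ' = comapEquiv P σ₀ :=
          congrArg Subtype.val (congrFun h1 ⟨P, (hTmem P).2 hP⟩)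
        have h3 : P.1 (σ' (σ₀.symm z)) = P.1 (σ₀ (σ₀.symm z)) := by
          rw [← comapEquiv_apply P σ', ← comapEquiv_apply P σ₀, h2]
        rw [σ₀.apply_symm_apply] at h3
        show P.1 (σ' (σ₀.symm z)) < 1
        rw [h3]
        exact hz
      · ext w
        simp
    · rw [Set.not_nonempty_iff_eq_empty] at hne
      rw [hne]
      exact Set.finite_empty
  have := Set.Finite.preimage' (f := Ψ) Set.finite_univ hfib
  rw [Set.preimage_univ] at this
  exact Set.finite_univ_iff.1 this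

end Groth.Agent.H81.AutFin
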