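import Groth.Agent.H81.ModHomology
import Mathlib.Algebra.Homology.Homotopy
import Mathlib.LinearAlgebra.FreeModule.Basic
import Mathlib.Algebra.Module.Projective

/-!
Splitting of degreewise short exact sequences of chain complexes `0 → A' → A → A'' → 0`
with `A' → A` a quasi-isomorphism and `A''` degreewise projective.
-/

set_option autoImplicit false

universe v u

open CategoryTheory

namespace Groth.Agent.H81

variable {R : Type u} [Ring R]

section Elementwise

variable {K L : ChainComplex (ModuleCat.{v} R) ℕ} (φ : K ⟶ L) [QuasiIso φ]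

theorem qi_mono (j : ℕ) : Mono (HomologicalComplex.homologyMap φ j) := by
  have : IsIso (HomologicalComplex.homologyMap φ j) :=
    (quasiIsoAt_iff_isIso_homologyMap φ j).mp inferInstance
  infer_instance

theorem qi_epi (j : ℕ) : Epi (HomologicalComplex.homologyMap φ j) := by
  have : IsIso (HomologicalComplex.homologyMap φ j) :=
    (quasiIsoAt_iff_isIso_homologyMap φ j).mp inferInstance
  infer_instance

/-- injectivity on homology, in degree `q` (elementwise) -/
theorem qi_mono_elem (q : ℕ) (x : K.X q) (hx : (K.d q (q - 1)).hom x = 0)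
    (y : L.X (q + 1)) (hy : (φ.f q).hom x = (L.d (q + 1) q).hom y) :
    ∃ x₁ : K.X (q + 1), x = (K.d (q + 1) q).hom x₁ := by
  have hk : (ComplexShape.down ℕ).next q = q - 1 := by
    cases q with
    | zero => exact ChainComplex.next_nat_zero
    | succ n => exact ChainComplex.next_nat_succ n
  exact (mono_homologyMap_iff_elem φ (q + 1) q (q - 1) (ChainComplex.prev ℕ q) hk).mp
    (qi_mono φ q) x hx ⟨y, hy⟩

/-- surjectivity on homology, in degree `q` (elementwise) -/
theorem qi_epi_elem (q : ℕ) (y : L.X q) (hy : (L.d q (q - 1)).hom y = 0) :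
    ∃ x : K.X q, (K.d q (q - 1)).hom x = 0 ∧
      ∃ y₁ : L.X (q + 1), y = (φ.f q).hom x + (L.d (q + 1) q).hom y₁ := by
  have hk : (ComplexShape.down ℕ).next q = q - 1 := by
    cases q with
    | zero => exact ChainComplex.next_nat_zero
    | succ n => exact ChainComplex.next_nat_succ n
  exact (epi_homologyMap_iff_elem φ (q + 1) q (q - 1) (ChainComplex.prev ℕ q) hk).mp
    (qi_epi φ q) y hy

end Elementwise

section Acyclic

variable {A' A A'' : ChainComplex (ModuleCat.{v} R) ℕ} (f : A' ⟶ A) (p : A ⟶ A'')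
  (hf : ∀ q, Function.Injective (f.f q).hom) (hp : ∀ q, Function.Surjective (p.f q).hom)
  (hfp : ∀ q, Function.Exact (f.f q).hom (p.f q).hom) [QuasiIso f]

include hf hp hfp in
/-- the quotient complex is acyclic (elementwise) -/
theorem acyclic_quot (q : ℕ) (y : A''.X q) (hy : (A''.d q (q - 1)).hom y = 0) :
    ∃ z : A''.X (q + 1), (A''.d (q + 1) q).hom z = y := by
  obtain ⟨x, rfl⟩ := hp q y
  -- `d x` lies in the image of `f`
  have h1 : (p.f (q - 1)).hom ((A.d q (q - 1)).hom x) = 0 := by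
    rw [comm_apply]; exact hy
  obtain ⟨b, hb⟩ := (hfp (q - 1) _).mp h1
  -- `b` is a cycle
  have hbcyc : (A'.d (q - 1) (q - 1 - 1)).hom b = 0 := by
    apply hf (q - 1 - 1)
    rw [comm_apply, hb, d_comp_d_apply, map_zero]
  -- `b` is a boundary
  have hbdry : ∃ a : A'.X q, b = (A'.d q (q - 1)).hom a := by
    cases q with
    | zero =>
      refine ⟨0, ?_⟩
      have h0 : A.d 0 (0 - 1) = 0 := A.shape _ _ (by simp)
      apply hf (0 - 1)
      rw [hb, h0, map_zero, map_zero]
      rfl
    | succ n =>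
      exact qi_mono_elem f n b hbcyc x hb
  obtain ⟨a, ha⟩ := hbdry
  -- `x - f a` is a cycle
  have hcyc : (A.d q (q - 1)).hom (x - (f.f q).hom a) = 0 := by
    rw [map_sub, ← comm_apply, ← ha, hb, sub_self]
  obtain ⟨x', -, x₁, hx₁⟩ := qi_epi_elem f q _ hcyc
  refine ⟨(p.f (q + 1)).hom x₁, ?_⟩
  rw [← comm_apply]
  have hpf : ∀ w, (p.f q).hom ((f.f q).hom w) = 0 := fun w => (hfp q _).mpr ⟨w, rfl⟩
  have : x = (f.f q).hom (a + x') + (A.d (q + 1) q).hom x₁ := by
    rw [map_add, add_assoc, ← hx₁]; abel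
  rw [this, map_add, hpf, zero_add]

end Acyclic

section Contraction

variable (Q : ChainComplex (ModuleCat.{v} R) ℕ) [∀ q, Module.Projective R (Q.X q)]
  (hacyc : ∀ (q : ℕ) (y : Q.X q), (Q.d q (q - 1)).hom y = 0 →
    ∃ z : Q.X (q + 1), (Q.d (q + 1) q).hom z = y)

include hacyc in
theorem lift_cycles (q : ℕ) (θ : Q.X q →ₗ[R] Q.X q)
    (hθ : ∀ y, (Q.d q (q - 1)).hom (θ y) = 0) :
    ∃ s : Q.X q →ₗ[R] Q.X (q + 1), ∀ y, (Q.d (q + 1) q).hom (s y) = θ y := by
  let Z := LinearMap.ker (Q.d q (q - 1)).hom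
  let dZ : Q.X (q + 1) →ₗ[R] Z :=
    (Q.d (q + 1) q).hom.codRestrict Z (fun z => by
      rw [LinearMap.mem_ker]; exact d_comp_d_apply Q _ _ _ z)
  let θZ : Q.X q →ₗ[R] Z := θ.codRestrict Z (fun y => by rw [LinearMap.mem_ker]; exact hθ y)
  have hsurj : Function.Surjective dZ := by
    rintro ⟨y, hy⟩
    obtain ⟨z, hz⟩ := hacyc q y (LinearMap.mem_ker.mp hy)
    exact ⟨z, Subtype.ext hz⟩
  obtain ⟨h, hh⟩ := Module.projective_lifting_property dZ θZ hsurj
  refine ⟨h, fun y => ?_⟩
  have := congrArg Subtype.val (LinearMap.congr_fun hh y)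
  exact this

/-- auxiliary type for the recursive construction of a contraction -/
def ContrStep (q : ℕ) : Type v :=
  {s : Q.X q →ₗ[R] Q.X (q + 1) //
    ∀ z : Q.X (q + 1), (Q.d (q + 1) q).hom (s ((Q.d (q + 1) q).hom z)) = (Q.d (q + 1) q).hom z}

include hacyc in
theorem contr_zero : ∃ t : ContrStep Q 0, ∀ y : Q.X 0, (Q.d 1 0).hom (t.1 y) = y := by
  have h0 : Q.d 0 (0 - 1) = 0 := Q.shape _ _ (by simp)
  obtain ⟨s, hs⟩ := lift_cycles Q hacyc 0 LinearMap.id (fun y => by rw [h0]; rfl)
  exact ⟨⟨s, fun z => hs _⟩, hs⟩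

include hacyc in
theorem contr_succ (q : ℕ) (t : ContrStep Q q) :
    ∃ t' : ContrStep Q (q + 1),
      ∀ y : Q.X (q + 1), (Q.d (q + 2) (q + 1)).hom (t'.1 y) + t.1 ((Q.d (q + 1) q).hom y) = y := by
  obtain ⟨s, hs⟩ := lift_cycles Q hacyc (q + 1) (LinearMap.id - t.1 ∘ₗ (Q.d (q + 1) q).hom)
    (fun y => by
      show (Q.d (q + 1) q).hom (y - t.1 ((Q.d (q + 1) q).hom y)) = 0
      rw [map_sub, t.2, sub_self])
  have hs' : ∀ y, (Q.d (q + 2) (q + 1)).hom (s y) = y - t.1 ((Q.d (q + 1) q).hom y) := hs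
  refine ⟨⟨s, fun z => ?_⟩, fun y => ?_⟩
  · rw [hs', d_comp_d_apply, map_zero, sub_zero]
  · rw [hs']; abel

include hacyc in
/-- a contracting homotopy of an acyclic complex of projective modules -/
theorem exists_contraction :
    ∃ s : ∀ q, Q.X q →ₗ[R] Q.X (q + 1), (∀ y : Q.X 0, (Q.d 1 0).hom (s 0 y) = y) ∧
      ∀ (q : ℕ) (y : Q.X (q + 1)),
        (Q.d (q + 2) (q + 1)).hom (s (q + 1) y) + s q ((Q.d (q + 1) q).hom y) = y := by
  classical
  let seq : ∀ q, ContrStep Q q := fun q =>
    Nat.rec (Classical.choose (contr_zero Q hacyc))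
      (fun n t => Classical.choose (contr_succ Q hacyc n t)) q
  refine ⟨fun q => (seq q).1, Classical.choose_spec (contr_zero Q hacyc), fun q y => ?_⟩
  exact Classical.choose_spec (contr_succ Q hacyc q (seq q)) y

end Contraction

section Section

variable {A A'' : ChainComplex (ModuleCat.{v} R) ℕ} (p : A ⟶ A'')

/-- the components of the chain section built from linear sections and a contraction -/
noncomputable def sectMap (σ : ∀ q, A''.X q →ₗ[R] A.X q) (s : ∀ q, A''.X q →ₗ[R] A''.X (q + 1)) :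
    (q : ℕ) → (A''.X q →ₗ[R] A.X q)
  | 0 => (A.d 1 0).hom ∘ₗ σ 1 ∘ₗ s 0
  | (n + 1) => σ (n + 1) ∘ₗ s n ∘ₗ (A''.d (n + 1) n).hom +
      (A.d (n + 2) (n + 1)).hom ∘ₗ σ (n + 2) ∘ₗ s (n + 1)

variable [∀ q, Module.Projective R (A''.X q)]

/-- a chain map section of a degreewise surjective chain map onto a contractible complex of
projective modules -/
theorem exists_chain_section (hp : ∀ q, Function.Surjective (p.f q).hom)
    (s : ∀ q, A''.X q →ₗ[R] A''.X (q + 1))
    (hs0 : ∀ y : A''.X 0, (A''.d 1 0).hom (s 0 y) = y)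
    (hs : ∀ (q : ℕ) (y : A''.X (q + 1)),
      (A''.d (q + 2) (q + 1)).hom (s (q + 1) y) + s q ((A''.d (q + 1) q).hom y) = y) :
    ∃ h : A'' ⟶ A, ∀ (q : ℕ) (y : A''.X q), (p.f q).hom ((h.f q).hom y) = y := by
  have hσ : ∀ q, ∃ σ : A''.X q →ₗ[R] A.X q, ∀ y, (p.f q).hom (σ y) = y := by
    intro q
    obtain ⟨σ, hσ⟩ := Module.projective_lifting_property (p.f q).hom LinearMap.id (hp q)
    exact ⟨σ, fun y => LinearMap.congr_fun hσ y⟩
  choose σ hσ using hσ
  let h : A'' ⟶ A :=
    { f := fun q => ModuleCat.ofHom (sectMap σ s q)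
      comm' := by
        intro i j hij
        have hij' : j + 1 = i := hij
        subst hij'
        apply ModuleCat.hom_ext
        ext y
        simp only [ModuleCat.hom_comp, ModuleCat.hom_ofHom, LinearMap.comp_apply]
        cases j with
        | zero =>
          simp only [sectMap, LinearMap.add_apply, LinearMap.comp_apply, map_add]
          rw [d_comp_d_apply, add_zero]
        | succ m =>
          simp only [sectMap, LinearMap.add_apply, LinearMap.comp_apply, map_add]
          rw [d_comp_d_apply, d_comp_d_apply, add_zero, map_zero, map_zero, zero_add] }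
  refine ⟨h, fun q y => ?_⟩
  show (p.f q).hom (sectMap σ s q y) = y
  cases q with
  | zero =>
    simp only [sectMap, LinearMap.comp_apply]
    rw [comm_apply, hσ, hs0]
  | succ n =>
    simp only [sectMap, LinearMap.add_apply, LinearMap.comp_apply, map_add]
    rw [comm_apply, hσ, hσ]
    exact (add_comm _ _).trans (hs n y)

end Section

end Groth.Agent.H81
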