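import Mathlib
import Groth.Prelude.Def_LocRes

/-!
Existence of a total Hasse derivative (Taylor homomorphism `exp (X D)`) in characteristic zero,
for a derivation `D` of a field `K` over `k` with `D s = 1`.
-/

set_option autoImplicit false

namespace Groth.Agent.H81.CZH

open Finset PowerSeries

variable {k K : Type*} [Field k] [Field K] [Algebra k K]

theorem iter_leibniz (D : Derivation k K K) (n : ℕ) (p q : K) :
    D^[n] (p * q) = ∑ i ∈ range n.succ, (n.choose i • (D^[n - i] p * D^[i] q)) := by
  induction n with
  | zero => simp [Finset.range]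
  | succ n IH =>
    calc
      D^[n + 1] (p * q) = D (∑ i ∈ range n.succ, n.choose i • (D^[n - i] p * D^[i] q)) := by
        rw [Function.iterate_succ_apply', IH]
      _ = (∑ i ∈ range n.succ, n.choose i • (D^[n - i + 1] p * D^[i] q)) +
          ∑ i ∈ range n.succ, n.choose i • (D^[n - i] p * D^[i + 1] q) := by
        rw [map_sum, ← sum_add_distrib]
        refine sum_congr rfl fun i _ => ?_
        rw [map_nsmul, Derivation.leibniz, Function.iterate_succ_apply',
          Function.iterate_succ_apply', smul_eq_mul, smul_eq_mul, ← smul_add]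
        congr 1
        ring
      _ = (∑ i ∈ range n.succ, n.choose i.succ • (D^[n - i] p * D^[i + 1] q)) +
              1 • (D^[n + 1] p * D^[0] q) +
            ∑ i ∈ range n.succ, n.choose i • (D^[n - i] p * D^[i + 1] q) := ?_
      _ = ((∑ i ∈ range n.succ, n.choose i • (D^[n - i] p * D^[i + 1] q)) +
              ∑ i ∈ range n.succ, n.choose i.succ • (D^[n - i] p * D^[i + 1] q)) +
            1 • (D^[n + 1] p * D^[0] q) := by
        rw [add_comm, add_assoc]
      _ = (∑ i ∈ range n.succ,
              (n + 1).choose (i + 1) • (D^[n + 1 - (i + 1)] p * D^[i + 1] q)) +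
            1 • (D^[n + 1] p * D^[0] q) := by
        simp_rw [Nat.choose_succ_succ, Nat.succ_sub_succ, add_smul, sum_add_distrib]
      _ = ∑ i ∈ range n.succ.succ, n.succ.choose i • (D^[n.succ - i] p * D^[i] q) := by
        rw [sum_range_succ' _ n.succ, Nat.choose_zero_right, tsub_zero]
    congr
    refine (sum_range_succ' _ _).trans (congr_arg₂ (· + ·) ?_ ?_)
    · rw [sum_range_succ, Nat.choose_succ_self, zero_smul, add_zero]
      refine sum_congr rfl fun i hi => ?_
      rw [mem_range] at hi
      congr
      omega
    · rw [Nat.choose_zero_right, tsub_zero]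

theorem iter_algebraMap (D : Derivation k K K) (n : ℕ) (c : k) :
    D^[n + 1] (algebraMap k K c) = 0 := by
  rw [Function.iterate_succ_apply, Derivation.map_algebraMap, iterate_map_zero]

/-- The `n`-th coefficient `D^n y / n!` of the Taylor expansion. -/
noncomputable def hcoef (D : Derivation k K K) (n : ℕ) (y : K) : K :=
  ((n.factorial : K))⁻¹ * D^[n] y

theorem hcoef_zero (D : Derivation k K K) (y : K) : hcoef D 0 y = y := by
  simp [hcoef]

theorem hcoef_algebraMap (D : Derivation k K K) (n : ℕ) (c : k) :
    hcoef D (n + 1) (algebraMap k K c) = 0 := by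
  rw [hcoef, iter_algebraMap, mul_zero]

theorem hcoef_add (D : Derivation k K K) (n : ℕ) (a b : K) :
    hcoef D n (a + b) = hcoef D n a + hcoef D n b := by
  rw [hcoef, hcoef, hcoef, iterate_map_add, mul_add]

theorem hcoef_mul [CharZero K] (D : Derivation k K K) (n : ℕ) (a b : K) :
    hcoef D n (a * b) = ∑ i ∈ range (n + 1), hcoef D i a * hcoef D (n - i) b := by
  unfold hcoef
  rw [mul_comm a b, iter_leibniz, Finset.mul_sum]
  refine sum_congr rfl fun i hi => ?_
  rw [mem_range] at hi
  have hi' : i ≤ n := by omega
  have h1 : ((n.factorial : ℕ) : K) ≠ 0 := Nat.cast_ne_zero.2 (Nat.factorial_ne_zero _)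
  have h2 : ((i.factorial : ℕ) : K) ≠ 0 := Nat.cast_ne_zero.2 (Nat.factorial_ne_zero _)
  have h3 : (((n - i).factorial : ℕ) : K) ≠ 0 := Nat.cast_ne_zero.2 (Nat.factorial_ne_zero _)
  rw [nsmul_eq_mul, Nat.cast_choose K hi']
  field_simp

/-- The Taylor homomorphism `exp (X D)` of a derivation in characteristic zero. -/
noncomputable def expHom [CharZero K] (D : Derivation k K K) : K →ₐ[k] PowerSeries K where
  toFun y := PowerSeries.mk fun n => hcoef D n y
  map_one' := by
    ext n
    rw [coeff_mk, coeff_one]
    cases n with
    | zero => simp [hcoef_zero]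
    | succ n =>
      have := hcoef_algebraMap D n (1 : k)
      rw [map_one] at this
      simp [this]
  map_mul' a b := by
    ext n
    rw [coeff_mk, coeff_mul, Finset.Nat.sum_antidiagonal_eq_sum_range_succ
      (fun i j => coeff i (PowerSeries.mk fun n => hcoef D n a) *
        coeff j (PowerSeries.mk fun n => hcoef D n b)) n, hcoef_mul]
    refine sum_congr rfl fun i _ => ?_
    rw [coeff_mk, coeff_mk]
  map_zero' := by
    ext n
    rw [coeff_mk, map_zero, hcoef, iterate_map_zero, mul_zero]
  map_add' a b := by
    ext n
    rw [coeff_mk, map_add, coeff_mk, coeff_mk, hcoef_add]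
  commutes' c := by
    ext n
    rw [coeff_mk, PowerSeries.algebraMap_apply, coeff_C]
    cases n with
    | zero => simp [hcoef_zero]
    | succ n => simp [hcoef_algebraMap]

theorem expHom_coeff [CharZero K] (D : Derivation k K K) (n : ℕ) (y : K) :
    coeff n (expHom D y) = hcoef D n y := by
  show coeff n (PowerSeries.mk fun m => hcoef D m y) = hcoef D n y
  rw [coeff_mk]

theorem isHasseFamily_expHom [CharZero K] (D : Derivation k K K) {s : K} (hs : D s = 1) :
    LocRes.IsHasseFamily s (expHom D) := by
  constructor
  · ext n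
    rw [expHom_coeff, map_add, coeff_C]
    rcases n with _ | _ | n
    · simp [hcoef_zero]
    · simp [hcoef, hs, coeff_X]
    · have h1 : D^[n + 1 + 1] s = 0 := by
        rw [Function.iterate_succ_apply, hs]
        have := iter_algebraMap D n (1 : k)
        rwa [map_one] at this
      rw [hcoef, h1, mul_zero, coeff_X]
      simp
  · intro y
    rw [← coeff_zero_eq_constantCoeff_apply, expHom_coeff, hcoef_zero]

/-- In characteristic zero, any element with nonzero differential carries a total Hasse
derivative. -/
theorem exists_hasse_of_D_ne_zero [CharZero K] {s : K}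
    (hs : KaehlerDifferential.D k K s ≠ 0) :
    ∃ H : K →ₐ[k] PowerSeries K, LocRes.IsHasseFamily s H := by
  obtain ⟨f, hf⟩ := Module.Projective.exists_dual_eq_one K hs
  refine ⟨expHom (f.compDer (KaehlerDifferential.D k K)), isHasseFamily_expHom _ ?_⟩
  exact hf

end Groth.Agent.H81.CZH
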