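import Mathlib.RingTheory.Ideal.KrullsHeightTheorem
import Mathlib.RingTheory.TensorProduct.Free
import Mathlib.LinearAlgebra.Determinant
import Mathlib.LinearAlgebra.Dimension.Free
import Mathlib.RingTheory.LocalProperties.Exactness
import Mathlib.RingTheory.LocalRing.Module
import Mathlib.RingTheory.Flat.Stability
import Mathlib.Tactic

/-!
# helper81: a linear map of finite projective modules over a Noetherian ring which is bijective
at all primes of height `≤ 1` (after base change to a field) is bijective.
-/

set_option autoImplicit false
universe u v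
open TensorProduct

namespace Groth.Agent.H81.CodimOneIso

/-- The hypothesis: at every prime of height `≤ 1` there is a field-valued point with that kernel
at which the base change of `ψ` is bijective. -/
def FibrewiseBij {R : Type u} [CommRing R] {M N : Type v} [AddCommGroup M] [Module R M]
    [AddCommGroup N] [Module R N] (ψ : M →ₗ[R] N) : Prop :=
  ∀ p : Ideal R, p.IsPrime → p.height ≤ 1 →
    ∃ (K : Type u) (_ : CommRing K) (_ : Algebra R K), IsField K ∧
      RingHom.ker (algebraMap R K) = p ∧ Function.Bijective (ψ.baseChange K)

theorem bijective_of_free {R : Type u} [CommRing R] [IsNoetherianRing R]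
    {M N : Type v} [AddCommGroup M] [Module R M] [AddCommGroup N] [Module R N]
    [Module.Free R M] [Module.Finite R M] [Module.Free R N] [Module.Finite R N]
    (ψ : M →ₗ[R] N) (h : FibrewiseBij ψ) : Function.Bijective ψ := by
  rcases subsingleton_or_nontrivial R with hR | hR
  · haveI : Subsingleton M := Module.subsingleton R M
    haveI : Subsingleton N := Module.subsingleton R N
    exact ⟨fun a b _ => Subsingleton.elim _ _, fun y => ⟨0, Subsingleton.elim _ _⟩⟩
  have hrank : Module.finrank R M = Module.finrank R N := by
    obtain ⟨p₀, hp₀⟩ := Ideal.nonempty_minimalPrimes (show (⊥ : Ideal R) ≠ ⊤ from bot_ne_top)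
    haveI := hp₀.1.1
    have hht : p₀.height ≤ 1 := by
      have : p₀.height = 0 := Ideal.height_eq_zero_iff.mpr hp₀
      rw [this]; exact zero_le_one
    obtain ⟨K, _, _, hK, -, hbij⟩ := h p₀ hp₀.1.1 hht
    haveI := hK.nontrivial
    have e := LinearEquiv.ofBijective (ψ.baseChange K) hbij
    have := e.finrank_eq
    rwa [Module.finrank_baseChange, Module.finrank_baseChange] at this
  let bM := Module.finBasis R M
  let bN := (Module.finBasis R N).reindex (finCongr hrank.symm)
  set T := LinearMap.toMatrix bM bN ψ with hT
  have hunit : IsUnit T.det := by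
    by_contra hnu
    have hI : Ideal.span {T.det} ≠ ⊤ := by rwa [Ne, Ideal.span_singleton_eq_top]
    obtain ⟨p, hp⟩ := Ideal.nonempty_minimalPrimes hI
    have hpp := hp.1.1
    have hht : p.height ≤ 1 := Ideal.height_le_one_of_isPrincipal_of_mem_minimalPrimes _ p hp
    obtain ⟨K, _, _, hK, hker, hbij⟩ := h p hpp hht
    haveI := hK.nontrivial
    have hdet : algebraMap R K T.det = 0 := by
      rw [← RingHom.mem_ker, hker]; exact hp.1.2 (Ideal.subset_span rfl)
    let e := LinearEquiv.ofBijective (ψ.baseChange K) hbij
    have hu := LinearEquiv.isUnit_det e (Algebra.TensorProduct.basis K bM)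
      (Algebra.TensorProduct.basis K bN)
    have h1 : LinearMap.toMatrix (Algebra.TensorProduct.basis K bM)
        (Algebra.TensorProduct.basis K bN) (e : _ →ₗ[K] _) =
        T.map (algebraMap R K) := LinearMap.toMatrix_baseChange K ψ bM bN
    rw [h1, ← RingHom.mapMatrix_apply, ← RingHom.map_det, hdet] at hu
    exact not_isUnit_zero hu
  have := (LinearEquiv.ofIsUnitDet hunit).bijective
  rwa [← LinearEquiv.coe_coe, LinearEquiv.coe_ofIsUnitDet] at this

end Groth.Agent.H81.CodimOneIso
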