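import Groth.Agent.H81.CodimOneIso1
import Mathlib.RingTheory.Localization.BaseChange
import Mathlib.RingTheory.Localization.AtPrime.Basic

/-!
# helper81: codimension-one criterion for bijectivity, projective case (localization)
-/

set_option autoImplicit false
universe u v
open TensorProduct

namespace Groth.Agent.H81.CodimOneIso

section Transport

variable {A : Type u} [CommRing A] (q : Ideal A) [q.IsPrime]
  {M N : Type v} [AddCommGroup M] [Module A M] [AddCommGroup N] [Module A N]

/-- compatibility of double base change with `cancelBaseChange`. -/
theorem baseChange_baseChange_comm (R' : Type u) [CommRing R'] [Algebra A R']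
    (K : Type u) [CommRing K] [Algebra A K] [Algebra R' K] [IsScalarTower A R' K]
    (ψ : M →ₗ[A] N) (x : K ⊗[R'] (R' ⊗[A] M)) :
    TensorProduct.AlgebraTensorModule.cancelBaseChange A R' K K N
      (((ψ.baseChange R').baseChange K) x) =
    (ψ.baseChange K) (TensorProduct.AlgebraTensorModule.cancelBaseChange A R' K K M x) := by
  induction x using TensorProduct.induction_on with
  | zero => simp
  | add x y hx hy => simp only [map_add, hx, hy]
  | tmul k y =>
    induction y using TensorProduct.induction_on with
    | zero => simp
    | add x y hx hy => simp only [tmul_add, map_add, hx, hy]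
    | tmul r m => simp

theorem fibrewiseBij_localization (ψ : M →ₗ[A] N) (h : FibrewiseBij ψ) :
    FibrewiseBij (ψ.baseChange (Localization.AtPrime q)) := by
  intro p' hp' hht
  set R' := Localization.AtPrime q with hR'
  have hpprime : (p'.under A).IsPrime := Ideal.comap_isPrime _ _
  have hheight : (p'.under A).height ≤ 1 := by
    rw [IsLocalization.height_under q.primeCompl p']; exact hht
  obtain ⟨K, fK, aK, hK, hker, hbij⟩ := h (p'.under A) hpprime hheight
  -- `p'.under A ≤ q`
  have hle : p'.under A ≤ q := by
    have h1 : p' ≤ IsLocalRing.maximalIdeal R' := IsLocalRing.le_maximalIdeal hp'.ne_top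
    have h2 : (IsLocalRing.maximalIdeal R').under A = q :=
      Localization.AtPrime.under_maximalIdeal
    exact (Ideal.comap_mono h1).trans h2.le
  have hunits : ∀ y : q.primeCompl, IsUnit (algebraMap A K y) := by
    intro y
    have : algebraMap A K y ≠ 0 := by
      intro h0
      have : (y : A) ∈ RingHom.ker (algebraMap A K) := h0
      rw [hker] at this
      exact y.2 (hle this)
    exact isUnit_iff_exists_inv.mpr (hK.mul_inv_cancel this)
  letI algR'K : Algebra R' K := (IsLocalization.lift (M := q.primeCompl) hunits).toAlgebra
  haveI : IsScalarTower A R' K := IsScalarTower.of_algebraMap_eq (fun a => by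
    rw [RingHom.algebraMap_toAlgebra, IsLocalization.lift_eq])
  refine ⟨K, fK, algR'K, hK, ?_, ?_⟩
  · ext x
    obtain ⟨a, s, rfl⟩ := IsLocalization.exists_mk'_eq q.primeCompl x
    rw [RingHom.mem_ker, RingHom.algebraMap_toAlgebra, IsLocalization.lift_mk'_spec,
      IsLocalization.mk'_mem_iff]
    constructor
    · intro h0
      have h1 : algebraMap A K a = 0 := by rw [h0, mul_zero]
      have : a ∈ RingHom.ker (algebraMap A K) := h1
      rw [hker] at this
      exact this
    · intro ha
      have : a ∈ RingHom.ker (algebraMap A K) := by rw [hker]; exact ha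
      have h1 : algebraMap A K a = 0 := this
      rw [h1, mul_zero]
  · let cM := TensorProduct.AlgebraTensorModule.cancelBaseChange A R' K K M
    let cN := TensorProduct.AlgebraTensorModule.cancelBaseChange A R' K K N
    have hcomm : ∀ x, cN (((ψ.baseChange R').baseChange K) x) = (ψ.baseChange K) (cM x) :=
      baseChange_baseChange_comm R' K ψ
    have hfun : ⇑((ψ.baseChange R').baseChange K) = ⇑cN.symm ∘ ⇑(ψ.baseChange K) ∘ ⇑cM := by
      funext x
      simp only [Function.comp_apply]
      rw [← hcomm, LinearEquiv.symm_apply_apply]
    rw [hfun]
    exact cN.symm.bijective.comp (hbij.comp cM.bijective)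

end Transport

/-- **Codimension-one criterion.** A linear map of finite flat modules over a Noetherian ring
which is fibrewise bijective at all primes of height `≤ 1` is bijective. -/
theorem bijective_of_flat {A : Type u} [CommRing A] [IsNoetherianRing A]
    {M N : Type v} [AddCommGroup M] [Module A M] [AddCommGroup N] [Module A N]
    [Module.Finite A M] [Module.Flat A M] [Module.Finite A N] [Module.Flat A N]
    (ψ : M →ₗ[A] N) (h : FibrewiseBij ψ) : Function.Bijective ψ := by
  refine bijective_of_isLocalized_maximal
    (fun P _ => Localization.AtPrime P ⊗[A] M)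
    (fun P _ => TensorProduct.mk A (Localization.AtPrime P) M 1)
    (fun P _ => Localization.AtPrime P ⊗[A] N)
    (fun P _ => TensorProduct.mk A (Localization.AtPrime P) N 1) ψ ?_
  intro P hP
  haveI : Module.Free (Localization.AtPrime P) (Localization.AtPrime P ⊗[A] M) :=
    Module.free_of_flat_of_isLocalRing
  haveI : Module.Free (Localization.AtPrime P) (Localization.AtPrime P ⊗[A] N) :=
    Module.free_of_flat_of_isLocalRing
  have hb := bijective_of_free (ψ.baseChange (Localization.AtPrime P))
    (fibrewiseBij_localization P ψ h)
  have hmap : IsLocalizedModule.map P.primeCompl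
      (TensorProduct.mk A (Localization.AtPrime P) M 1)
      (TensorProduct.mk A (Localization.AtPrime P) N 1) ψ =
      (ψ.baseChange (Localization.AtPrime P)).restrictScalars A := by
    apply IsLocalizedModule.ext P.primeCompl (TensorProduct.mk A (Localization.AtPrime P) M 1)
      (IsLocalizedModule.map_units (TensorProduct.mk A (Localization.AtPrime P) N 1))
    ext m
    have := IsLocalizedModule.map_apply P.primeCompl
      (TensorProduct.mk A (Localization.AtPrime P) M 1)
      (TensorProduct.mk A (Localization.AtPrime P) N 1) ψ m
    simpa using this
  rw [hmap]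
  exact hb

end Groth.Agent.H81.CodimOneIso
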