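import Groth.Agent.H81.CodimOneIso2
import Mathlib.Algebra.Category.Ring.Constructions
import Mathlib.CategoryTheory.Limits.Shapes.Pullback.IsPullback.Basic

/-!
# helper81: pushout squares of commutative rings and base change of linear maps
-/

set_option autoImplicit false
universe u
open TensorProduct CategoryTheory CategoryTheory.Limits

namespace Groth.Agent.H81.CodimOneIso

variable {R C B D : CommRingCat.{u}} {α : R ⟶ C} {β : R ⟶ B} {γ : C ⟶ D} {δ : B ⟶ D}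

/-- (after helper68) a pushout square of commutative rings is a tensor product. -/
theorem pushout_tensor_iso (h : IsPushout α β γ δ) :
    letI := α.hom.toAlgebra
    letI := β.hom.toAlgebra
    ∃ e : (C ⊗[R] B) ≃+* D, ∀ (c : C) (b : B), e (c ⊗ₜ[R] b) = γ.hom c * δ.hom b := by
  letI := α.hom.toAlgebra
  letI := β.hom.toAlgebra
  have hT : IsPushout α β
      (CommRingCat.ofHom (Algebra.TensorProduct.includeLeftRingHom : C →+* C ⊗[R] B))
      (CommRingCat.ofHom (Algebra.TensorProduct.includeRight.toRingHom : B →+* C ⊗[R] B)) :=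
    CommRingCat.isPushout_tensorProduct R C B
  have h1 := IsPushout.inl_isoIsPushout_hom _ _ hT h
  have h2 := IsPushout.inr_isoIsPushout_hom _ _ hT h
  refine ⟨(hT.isoIsPushout _ _ h).commRingCatIsoToRingEquiv, fun c b => ?_⟩
  have e1 : (hT.isoIsPushout _ _ h).hom.hom (c ⊗ₜ[R] (1 : B)) = γ.hom c := congr($(h1).hom c)
  have e2 : (hT.isoIsPushout _ _ h).hom.hom ((1 : C) ⊗ₜ[R] b) = δ.hom b := congr($(h2).hom b)
  have e3 : (c ⊗ₜ[R] b : C ⊗[R] B) = (c ⊗ₜ[R] (1 : B)) * ((1 : C) ⊗ₜ[R] b) := by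
    rw [Algebra.TensorProduct.tmul_mul_tmul, mul_one, one_mul]
  change (hT.isoIsPushout _ _ h).hom.hom (c ⊗ₜ[R] b) = _
  rw [e3, map_mul, e1, e2]

/-- Two pushout squares over the same `A ⟶ K`, a compatible map `ψ : B₂ ⟶ B₁` and a compatible
isomorphism of the pushouts: the base change of `ψ` to `K` is bijective. -/
theorem baseChange_bijective_of_isPushout {A K B₁ B₂ D₁ D₂ : CommRingCat.{u}}
    {θ : A ⟶ K} {α₁ : A ⟶ B₁} {α₂ : A ⟶ B₂} {γ₁ : B₁ ⟶ D₁} {δ₁ : K ⟶ D₁}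
    {γ₂ : B₂ ⟶ D₂} {δ₂ : K ⟶ D₂}
    (h₁ : IsPushout θ α₁ δ₁ γ₁) (h₂ : IsPushout θ α₂ δ₂ γ₂)
    (ψ : B₂ ⟶ B₁) (hψ : α₂ ≫ ψ = α₁) (c : D₂ ⟶ D₁) [IsIso c]
    (hc1 : γ₂ ≫ c = ψ ≫ γ₁) (hc2 : δ₂ ≫ c = δ₁) :
    letI := θ.hom.toAlgebra
    letI := α₁.hom.toAlgebra
    letI := α₂.hom.toAlgebra
    ∀ ψl : B₂ →ₗ[A] B₁, (∀ b, ψl b = ψ.hom b) → Function.Bijective (ψl.baseChange K) := by
  letI := θ.hom.toAlgebra
  letI := α₁.hom.toAlgebra
  letI := α₂.hom.toAlgebra
  intro ψl hψl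
  obtain ⟨e₁, he₁⟩ := pushout_tensor_iso h₁
  obtain ⟨e₂, he₂⟩ := pushout_tensor_iso h₂
  have hcbij : Function.Bijective c.hom := (ConcreteCategory.isIso_iff_bijective c).mp inferInstance
  have key : ∀ x : K ⊗[A] B₂, c.hom (e₂ x) = e₁ (ψl.baseChange K x) := by
    intro x
    induction x using TensorProduct.induction_on with
    | zero => simp
    | add x y hx hy => simp only [map_add, hx, hy]
    | tmul k b =>
      rw [he₂, LinearMap.baseChange_tmul, he₁, map_mul, hψl]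
      have e1 : c.hom (δ₂.hom k) = δ₁.hom k := congr($(hc2).hom k)
      have e2 : c.hom (γ₂.hom b) = γ₁.hom (ψ.hom b) := congr($(hc1).hom b)
      rw [e1, e2]
  have hfun : ⇑(ψl.baseChange K) = ⇑e₁.symm ∘ ⇑c.hom ∘ ⇑e₂ := by
    funext x
    simp only [Function.comp_apply]
    rw [key, RingEquiv.symm_apply_apply]
  rw [hfun]
  exact e₁.symm.bijective.comp (hcbij.comp e₂.bijective)

end Groth.Agent.H81.CodimOneIso
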