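import Groth.Agent.H81.HomExt2

/-!
# helper81: extension of morphisms across a Hartogs open, gluing
-/

set_option autoImplicit false
universe u
open CategoryTheory CategoryTheory.Limits AlgebraicGeometry

namespace Groth.Agent.H81.HomExt

variable {S G₁ G₂ : Scheme.{u}}

theorem isOpenCover_preimage_affineOpens (f₁ : G₁ ⟶ S) :
    TopologicalSpace.IsOpenCover (fun i : S.affineOpens => f₁ ⁻¹ᵁ i.1) := by
  refine TopologicalSpace.IsOpenCover.mk (eq_top_iff.mpr ?_)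
  intro x _
  rw [TopologicalSpace.Opens.mem_iSup]
  obtain ⟨i, hi⟩ := S.isBasis_affineOpens.isOpenCover.exists_mem (f₁ x)
  exact ⟨i, hi⟩

/-- Abstract extension theorem: `V₁ ⊆ G₁` a quasi-compact scheme-theoretically dense open with
the Hartogs property on affine opens; `G₁, G₂` affine over `S`. -/
theorem existsUnique_ext (f₁ : G₁ ⟶ S) (f₂ : G₂ ⟶ S) [IsAffineHom f₁] [IsAffineHom f₂]
    (V₁ : G₁.Opens) [QuasiCompact V₁.ι] [IsSchemeTheoreticallyDominant V₁.ι]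
    (hbij : ∀ X : G₁.Opens, IsAffineOpen X → Function.Bijective (V₁.ι.app X).hom)
    (g : (V₁ : Scheme.{u}) ⟶ G₂) (hg : g ≫ f₂ = V₁.ι ≫ f₁) :
    ∃! φ : G₁ ⟶ G₂, φ ≫ f₂ = f₁ ∧ V₁.ι ≫ φ = g := by
  have hloc : ∀ i : S.affineOpens, ∃ φ : ((f₁ ⁻¹ᵁ i.1 : G₁.Opens) : Scheme.{u}) ⟶ G₂,
      φ ≫ f₂ = (f₁ ⁻¹ᵁ i.1).ι ≫ f₁ ∧
      ∀ (T : Scheme.{u}) (p : T ⟶ ((f₁ ⁻¹ᵁ i.1 : G₁.Opens) : Scheme.{u}))
        (q : T ⟶ (V₁ : Scheme.{u})), p ≫ (f₁ ⁻¹ᵁ i.1).ι = q ≫ V₁.ι → p ≫ φ = q ≫ g :=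
    fun i => local_ext f₁ f₂ V₁ g hg i.1 i.2 (i.2.preimage f₂) (hbij _ (i.2.preimage f₁))
  choose φi hφa hφb using hloc
  have hV₁ : ∀ {P W : Scheme.{u}} (jj : W ⟶ P) [IsSchemeTheoreticallyDominant jj]
      [QuasiCompact jj] (V : P.Opens) (t : Γ(P, V)), jj.app V t = 0 → t = 0 :=
    fun jj _ _ V t ht => Scheme.Hom.app_injective jj V (ht.trans (map_zero _).symm)
  let 𝒰 : G₁.OpenCover := G₁.openCoverOfIsOpenCover (fun i : S.affineOpens => f₁ ⁻¹ᵁ i.1)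
    (isOpenCover_preimage_affineOpens f₁)
  have compat : ∀ i j : S.affineOpens,
      pullback.fst (𝒰.f i) (𝒰.f j) ≫ φi i = pullback.snd (𝒰.f i) (𝒰.f j) ≫ φi j := by
    intro i j
    change pullback.fst (f₁ ⁻¹ᵁ i.1).ι (f₁ ⁻¹ᵁ j.1).ι ≫ φi i =
      pullback.snd (f₁ ⁻¹ᵁ i.1).ι (f₁ ⁻¹ᵁ j.1).ι ≫ φi j
    set fst := pullback.fst (f₁ ⁻¹ᵁ i.1).ι (f₁ ⁻¹ᵁ j.1).ι with hfst
    set snd := pullback.snd (f₁ ⁻¹ᵁ i.1).ι (f₁ ⁻¹ᵁ j.1).ι with hsnd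
    have hcond : fst ≫ (f₁ ⁻¹ᵁ i.1).ι = snd ≫ (f₁ ⁻¹ᵁ j.1).ι := pullback.condition
    set jj := pullback.fst (fst ≫ (f₁ ⁻¹ᵁ i.1).ι) V₁.ι with hjj
    set π₂ := pullback.snd (fst ≫ (f₁ ⁻¹ᵁ i.1).ι) V₁.ι with hπ₂
    have hcond2 : jj ≫ fst ≫ (f₁ ⁻¹ᵁ i.1).ι = π₂ ≫ V₁.ι := pullback.condition
    refine Groth.Agent.H24.hom_ext_of_schematicallyDominant f₂ jj (hV₁ jj) _ _ ?_ ?_
    · rw [Category.assoc, Category.assoc, hφa i, hφa j, ← Category.assoc, hcond, Category.assoc]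
    · have h1 : (jj ≫ fst) ≫ φi i = π₂ ≫ g :=
        hφb i _ (jj ≫ fst) π₂ (by rw [Category.assoc, hcond2])
      have h2 : (jj ≫ snd) ≫ φi j = π₂ ≫ g :=
        hφb j _ (jj ≫ snd) π₂ (by rw [Category.assoc, ← hcond, hcond2])
      rw [← Category.assoc, ← Category.assoc, h1, h2]
  let φ : G₁ ⟶ G₂ := 𝒰.glueMorphisms φi compat
  have hφι : ∀ i : S.affineOpens, (f₁ ⁻¹ᵁ i.1).ι ≫ φ = φi i :=
    fun i => 𝒰.ι_glueMorphisms φi compat i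
  have hφ1 : φ ≫ f₂ = f₁ := by
    refine 𝒰.hom_ext _ _ (fun i => ?_)
    change (f₁ ⁻¹ᵁ i.1).ι ≫ φ ≫ f₂ = (f₁ ⁻¹ᵁ i.1).ι ≫ f₁
    rw [← Category.assoc, hφι, hφa]
  have hφ2 : V₁.ι ≫ φ = g := by
    refine Scheme.hom_ext_of_forall _ _ (fun x => ?_)
    obtain ⟨i, hi⟩ := S.isBasis_affineOpens.isOpenCover.exists_mem (f₁ (V₁.ι x))
    refine ⟨V₁.ι ⁻¹ᵁ (f₁ ⁻¹ᵁ i.1), hi, ?_⟩
    have e := morphismRestrict_ι V₁.ι (f₁ ⁻¹ᵁ i.1)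
    rw [← Category.assoc, ← e, Category.assoc, hφι]
    exact hφb i _ _ _ e
  refine ⟨φ, ⟨hφ1, hφ2⟩, ?_⟩
  rintro φ' ⟨h1, h2⟩
  exact Groth.Agent.H24.hom_ext_of_schematicallyDominant f₂ V₁.ι (hV₁ V₁.ι) _ _
    (by rw [h1, hφ1]) (by rw [h2, hφ2])

end Groth.Agent.H81.HomExt
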