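import Groth.Agent.H81.CodimOneIso3
import Groth.Agent.H81.HomExt3
import Mathlib.AlgebraicGeometry.ResidueField
import Mathlib.AlgebraicGeometry.Morphisms.Flat
import Mathlib.AlgebraicGeometry.Morphisms.Finite

/-!
# helper81: fibres over points of an affine open and pushout squares of sections
-/

set_option autoImplicit false
universe u
open CategoryTheory CategoryTheory.Limits AlgebraicGeometry TensorProduct

namespace Groth.Agent.H81.CodimOneIso

variable {S X : Scheme.{u}}

theorem top_le_preimage (W : S.Opens) (s : S) (hs : s ∈ W) :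
    (⊤ : (Spec (S.residueField s)).Opens) ≤ (S.fromSpecResidueField s) ⁻¹ᵁ W := by
  intro t _
  change (S.fromSpecResidueField s) t ∈ W
  rw [Scheme.fromSpecResidueField_apply]
  exact hs

theorem top_le_fst_preimage (q : X ⟶ S) (W : S.Opens) (s : S) (hs : s ∈ W) :
    (⊤ : (pullback q (S.fromSpecResidueField s)).Opens) ≤
      (pullback.fst q (S.fromSpecResidueField s)) ⁻¹ᵁ (q ⁻¹ᵁ W) := by
  intro x _
  change q ((pullback.fst q (S.fromSpecResidueField s)) x) ∈ W
  have e : q ((pullback.fst q (S.fromSpecResidueField s)) x) =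
      (pullback.fst q (S.fromSpecResidueField s) ≫ q) x := rfl
  rw [e, pullback.condition]
  change (S.fromSpecResidueField s) _ ∈ W
  rw [Scheme.fromSpecResidueField_apply]
  exact hs

/-- The sections of the fibre over `s ∈ W` (`W` affine) of an affine morphism are the tensor
product of the sections over `W` with the residue field. -/
theorem isPushout_fibre (q : X ⟶ S) [IsAffineHom q] (W : S.Opens) (hW : IsAffineOpen W)
    (s : S) (hs : s ∈ W) :
    IsPushout ((S.fromSpecResidueField s).appLE W ⊤ (top_le_preimage W s hs))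
      (q.appLE W (q ⁻¹ᵁ W) le_rfl)
      ((pullback.snd q (S.fromSpecResidueField s)).appLE ⊤ ⊤ le_top)
      ((pullback.fst q (S.fromSpecResidueField s)).appLE (q ⁻¹ᵁ W) ⊤
        (top_le_fst_preimage q W s hs)) := by
  have H : IsPullback (pullback.fst q (S.fromSpecResidueField s))
      (pullback.snd q (S.fromSpecResidueField s)) q (S.fromSpecResidueField s) :=
    IsPullback.of_hasPullback _ _
  have hUY : (⊤ : (pullback q (S.fromSpecResidueField s)).Opens) =
      (pullback.fst q (S.fromSpecResidueField s)) ⁻¹ᵁ (q ⁻¹ᵁ W) ⊓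
        (pullback.snd q (S.fromSpecResidueField s)) ⁻¹ᵁ ⊤ := by
    apply le_antisymm
    · exact le_inf (top_le_fst_preimage q W s hs) le_top
    · exact le_top
  have hiso := isIso_pushoutSection_of_isAffineOpen H (top_le_preimage W s hs)
    (le_refl (q ⁻¹ᵁ W)) hUY hW (isAffineOpen_top _) (hW.preimage q)
  exact ((isIso_pushoutSection_iff H (top_le_preimage W s hs) (le_refl (q ⁻¹ᵁ W)) hUY).mp
    hiso).flip

end Groth.Agent.H81.CodimOneIso
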