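import Groth.Agent.H81.CodimOneIso4

/-!
# helper81: the kernel of evaluation at a point and the dimension of the stalk
-/

set_option autoImplicit false
universe u
open CategoryTheory CategoryTheory.Limits AlgebraicGeometry TensorProduct

namespace Groth.Agent.H81.CodimOneIso

variable {S : Scheme.{u}}

theorem isField_Γ_residueField (s : S) : IsField Γ(Spec (S.residueField s), ⊤) :=
  MulEquiv.isField (Field.toIsField (S.residueField s))
    (Scheme.ΓSpecIso (S.residueField s)).commRingCatIsoToRingEquiv.toMulEquiv

theorem appLE_eq_zero_iff (W : S.Opens) (s : S) (hs : s ∈ W) (a : Γ(S, W)) :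
    ((S.fromSpecResidueField s).appLE W ⊤ (top_le_preimage W s hs)).hom a = 0 ↔
      s ∉ S.basicOpen a := by
  have hb := Scheme.basicOpen_appLE (S.fromSpecResidueField s) ⊤ W (top_le_preimage W s hs) a
  haveI : Nonempty (PrimeSpectrum (S.residueField s)) := inferInstance
  obtain ⟨t⟩ : Nonempty (Spec (S.residueField s)) := ‹Nonempty (PrimeSpectrum _)›
  have ht : (S.fromSpecResidueField s) t = s := Scheme.fromSpecResidueField_apply s t
  constructor
  · intro h0 hmem
    change (Spec (S.residueField s)).basicOpen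
      (((S.fromSpecResidueField s).appLE W ⊤ (top_le_preimage W s hs)).hom a) = _ at hb
    rw [h0, Scheme.basicOpen_zero] at hb
    have : t ∈ (⊤ : (Spec (S.residueField s)).Opens) ⊓
        (S.fromSpecResidueField s) ⁻¹ᵁ S.basicOpen a := by
      refine ⟨trivial, ?_⟩
      change (S.fromSpecResidueField s) t ∈ S.basicOpen a
      rw [ht]; exact hmem
    rw [← hb] at this
    exact this
  · intro hmem
    by_contra hne
    have hu : IsUnit (((S.fromSpecResidueField s).appLE W ⊤ (top_le_preimage W s hs)).hom a) :=
      isUnit_iff_exists_inv.mpr ((isField_Γ_residueField s).mul_inv_cancel hne)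
    have h1 := Scheme.basicOpen_of_isUnit _ hu
    change (Spec (S.residueField s)).basicOpen
      (((S.fromSpecResidueField s).appLE W ⊤ (top_le_preimage W s hs)).hom a) = _ at hb
    rw [h1] at hb
    have : t ∈ (⊤ : (Spec (S.residueField s)).Opens) := trivial
    rw [hb] at this
    apply hmem
    have h2 : (S.fromSpecResidueField s) t ∈ S.basicOpen a := this.2
    rwa [ht] at h2

/-- The kernel of evaluation at the point of an affine open corresponding to a prime `y`. -/
theorem ker_appLE_fromSpec (W : S.Opens) (hW : IsAffineOpen W) (y : PrimeSpectrum Γ(S, W))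
    (hs : hW.fromSpec y ∈ W) :
    RingHom.ker ((S.fromSpecResidueField (hW.fromSpec y)).appLE W ⊤
      (top_le_preimage W _ hs)).hom = y.asIdeal := by
  ext a
  rw [RingHom.mem_ker, appLE_eq_zero_iff W _ hs a]
  have h1 : hW.fromSpec y ∈ S.basicOpen a ↔ y ∈ PrimeSpectrum.basicOpen a := by
    rw [← hW.fromSpec_preimage_basicOpen a]
    rfl
  rw [h1, PrimeSpectrum.mem_basicOpen, not_not]

theorem mem_of_fromSpec (W : S.Opens) (hW : IsAffineOpen W) (y : PrimeSpectrum Γ(S, W)) :
    hW.fromSpec y ∈ W := by
  have : hW.fromSpec y ∈ Set.range hW.fromSpec := ⟨y, rfl⟩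
  rwa [hW.range_fromSpec] at this

theorem ringKrullDim_stalk_fromSpec (W : S.Opens) (hW : IsAffineOpen W)
    (y : PrimeSpectrum Γ(S, W)) :
    ringKrullDim (S.presheaf.stalk (hW.fromSpec y)) = y.asIdeal.height := by
  have hs := mem_of_fromSpec W hW y
  letI : Algebra Γ(S, W) (S.presheaf.stalk (hW.fromSpec y)) :=
    TopCat.Presheaf.algebra_section_stalk S.presheaf ⟨hW.fromSpec y, hs⟩
  haveI hloc : IsLocalization.AtPrime (S.presheaf.stalk (hW.fromSpec y)) y.asIdeal :=
    hW.isLocalization_stalk' y hs
  exact IsLocalization.AtPrime.ringKrullDim_eq_height y.asIdeal _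

end Groth.Agent.H81.CodimOneIso
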