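import Groth.Agent.H81.CodimOneIso5
import Mathlib.AlgebraicGeometry.Morphisms.IsIso

/-!
# helper81: a morphism of finite flat schemes over a Noetherian base which is an isomorphism on
the fibres over all points of codimension `≤ 1` is an isomorphism
-/

set_option autoImplicit false
universe u
open CategoryTheory CategoryTheory.Limits AlgebraicGeometry TensorProduct

namespace Groth.Agent.H81.CodimOneIso

variable {S X₁ X₂ : Scheme.{u}}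

/-- The hypothesis on fibres. -/
def FibreIso (p₂ : X₂ ⟶ S) (Ψ : X₁ ⟶ X₂) (s : S) : Prop :=
  ∃ Ψs : pullback (Ψ ≫ p₂) (S.fromSpecResidueField s) ⟶
      pullback p₂ (S.fromSpecResidueField s),
    IsIso Ψs ∧
    Ψs ≫ pullback.fst p₂ (S.fromSpecResidueField s) =
      pullback.fst (Ψ ≫ p₂) (S.fromSpecResidueField s) ≫ Ψ ∧
    Ψs ≫ pullback.snd p₂ (S.fromSpecResidueField s) =
      pullback.snd (Ψ ≫ p₂) (S.fromSpecResidueField s)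

theorem app_bijective_of_fibres [IsLocallyNoetherian S]
    (p₂ : X₂ ⟶ S) (Ψ : X₁ ⟶ X₂) [IsFinite p₂] [Flat p₂] [IsFinite (Ψ ≫ p₂)] [Flat (Ψ ≫ p₂)]
    (hfib : ∀ s : S, ringKrullDim (S.presheaf.stalk s) ≤ 1 → FibreIso p₂ Ψ s)
    (W : S.Opens) (hW : IsAffineOpen W) :
    Function.Bijective (Ψ.app (p₂ ⁻¹ᵁ W)).hom := by
  haveI : IsNoetherianRing Γ(S, W) := IsLocallyNoetherian.component_noetherian ⟨W, hW⟩
  set α₂ : Γ(S, W) ⟶ Γ(X₂, p₂ ⁻¹ᵁ W) := p₂.app W with hα₂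
  set α₁ : Γ(S, W) ⟶ Γ(X₁, (Ψ ≫ p₂) ⁻¹ᵁ W) := (Ψ ≫ p₂).app W with hα₁
  set ψ : Γ(X₂, p₂ ⁻¹ᵁ W) ⟶ Γ(X₁, (Ψ ≫ p₂) ⁻¹ᵁ W) := Ψ.app (p₂ ⁻¹ᵁ W) with hψdef
  have hψ : α₂ ≫ ψ = α₁ := rfl
  letI algA2 : Algebra Γ(S, W) Γ(X₂, p₂ ⁻¹ᵁ W) := α₂.hom.toAlgebra
  letI algA1 : Algebra Γ(S, W) Γ(X₁, (Ψ ≫ p₂) ⁻¹ᵁ W) := α₁.hom.toAlgebra
  haveI : Module.Finite Γ(S, W) Γ(X₂, p₂ ⁻¹ᵁ W) := p₂.finite_app W hW
  haveI : Module.Finite Γ(S, W) Γ(X₁, (Ψ ≫ p₂) ⁻¹ᵁ W) := (Ψ ≫ p₂).finite_app W hW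
  haveI : Module.Flat Γ(S, W) Γ(X₂, p₂ ⁻¹ᵁ W) := by
    have := p₂.flat_appLE hW (hW.preimage p₂) le_rfl
    rwa [Scheme.Hom.appLE_eq_app] at this
  haveI : Module.Flat Γ(S, W) Γ(X₁, (Ψ ≫ p₂) ⁻¹ᵁ W) := by
    have := (Ψ ≫ p₂).flat_appLE hW (hW.preimage (Ψ ≫ p₂)) le_rfl
    rwa [Scheme.Hom.appLE_eq_app] at this
  let ψl : Γ(X₂, p₂ ⁻¹ᵁ W) →ₗ[Γ(S, W)] Γ(X₁, (Ψ ≫ p₂) ⁻¹ᵁ W) :=
    { toFun := ψ.hom
      map_add' := map_add _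
      map_smul' := fun a b => by
        simp only [Algebra.smul_def, RingHom.algebraMap_toAlgebra, map_mul, RingHom.id_apply]
        rfl }
  have hmain : Function.Bijective ψl := by
    apply bijective_of_flat
    intro p hp hht
    let y : PrimeSpectrum Γ(S, W) := ⟨p, hp⟩
    have hs := mem_of_fromSpec W hW y
    have hdim : ringKrullDim (S.presheaf.stalk (hW.fromSpec y)) ≤ 1 := by
      rw [ringKrullDim_stalk_fromSpec W hW y]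
      exact_mod_cast hht
    obtain ⟨Ψs, hiso, h1, h2⟩ := hfib _ hdim
    haveI := hiso
    haveI : IsIso Ψs.appTop := (inferInstance : IsIso (Ψs.app ⊤))
    have sq₂ := isPushout_fibre p₂ W hW _ hs
    have sq₁ := isPushout_fibre (Ψ ≫ p₂) W hW _ hs
    rw [Scheme.Hom.appLE_eq_app] at sq₁ sq₂
    refine ⟨Γ(Spec (S.residueField (hW.fromSpec y)), ⊤), inferInstance,
      ((S.fromSpecResidueField (hW.fromSpec y)).appLE W ⊤ (top_le_preimage W _ hs)).hom.toAlgebra,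
      isField_Γ_residueField _, ker_appLE_fromSpec W hW y hs, ?_⟩
    have hc1 : (pullback.fst p₂ (S.fromSpecResidueField (hW.fromSpec y))).appLE (p₂ ⁻¹ᵁ W) ⊤
          (top_le_fst_preimage p₂ W _ hs) ≫ Ψs.appTop =
        ψ ≫ (pullback.fst (Ψ ≫ p₂) (S.fromSpecResidueField (hW.fromSpec y))).appLE
          ((Ψ ≫ p₂) ⁻¹ᵁ W) ⊤ (top_le_fst_preimage (Ψ ≫ p₂) W _ hs) := by
      have e1 : Ψs.appTop = Ψs.appLE ⊤ ⊤ le_top := by simp [Scheme.Hom.appLE]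
      have e2 := Scheme.Hom.appLE_comp_appLE
        (pullback.fst (Ψ ≫ p₂) (S.fromSpecResidueField (hW.fromSpec y))) Ψ (p₂ ⁻¹ᵁ W)
        ((Ψ ≫ p₂) ⁻¹ᵁ W) ⊤ le_rfl (top_le_fst_preimage (Ψ ≫ p₂) W _ hs)
      have e3 := Scheme.Hom.appLE_comp_appLE Ψs
        (pullback.fst p₂ (S.fromSpecResidueField (hW.fromSpec y))) (p₂ ⁻¹ᵁ W) ⊤ ⊤
        (top_le_fst_preimage p₂ W _ hs) le_top
      rw [hψdef, Scheme.Hom.app_eq_appLE, e1, e3]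
      refine Eq.trans ?_ e2.symm
      simp only [h1]
    have hc2 : (pullback.snd p₂ (S.fromSpecResidueField (hW.fromSpec y))).appLE ⊤ ⊤ le_top ≫
          Ψs.appTop =
        (pullback.snd (Ψ ≫ p₂) (S.fromSpecResidueField (hW.fromSpec y))).appLE ⊤ ⊤ le_top := by
      have e1 : Ψs.appTop = Ψs.appLE ⊤ (Ψs ⁻¹ᵁ ⊤) le_rfl := Scheme.Hom.app_eq_appLE Ψs
      have e3 := Scheme.Hom.appLE_comp_appLE Ψs
        (pullback.snd p₂ (S.fromSpecResidueField (hW.fromSpec y))) ⊤ ⊤ (Ψs ⁻¹ᵁ ⊤) le_top le_rfl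
      rw [e1]
      refine Eq.trans e3 ?_
      simp only [h2]
      rfl
    exact baseChange_bijective_of_isPushout sq₁ sq₂ ψ hψ Ψs.appTop hc1 hc2 ψl (fun b => rfl)
  exact hmain

theorem isIso_of_fibres [IsLocallyNoetherian S]
    (p₂ : X₂ ⟶ S) (Ψ : X₁ ⟶ X₂) [IsFinite p₂] [Flat p₂] [IsFinite (Ψ ≫ p₂)] [Flat (Ψ ≫ p₂)]
    (hfib : ∀ s : S, ringKrullDim (S.presheaf.stalk s) ≤ 1 → FibreIso p₂ Ψ s) : IsIso Ψ := by
  have hbij := app_bijective_of_fibres p₂ Ψ hfib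
  change MorphismProperty.isomorphisms Scheme Ψ
  refine HasAffineProperty.of_iSup_eq_top (P := MorphismProperty.isomorphisms Scheme)
    (fun i : S.affineOpens ↦ ⟨p₂ ⁻¹ᵁ i.1, i.2.preimage p₂⟩) ?_ (fun i ↦ ⟨?_, ?_⟩)
  · exact (Groth.Agent.H81.HomExt.isOpenCover_preimage_affineOpens p₂).iSup_eq_top
  · change IsAffineOpen _
    exact i.2.preimage (Ψ ≫ p₂)
  · change IsIso (Ψ ∣_ (p₂ ⁻¹ᵁ i.1)).appTop
    rw [morphismRestrict_appTop]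
    have h1 : Function.Bijective (Ψ.app ((p₂ ⁻¹ᵁ i.1).ι ''ᵁ ⊤)).hom :=
      Groth.Agent.H81.HomExt.bij_congr Ψ (by simp) (hbij i.1 i.2)
    haveI h3 : IsIso (Ψ.app ((p₂ ⁻¹ᵁ i.1).ι ''ᵁ ⊤)) :=
      (ConcreteCategory.isIso_iff_bijective _).mpr h1
    haveI h4 : IsIso (X₁.presheaf.map
        (eqToHom (image_morphismRestrict_preimage Ψ (p₂ ⁻¹ᵁ i.1) ⊤)).op) := inferInstance
    exact IsIso.comp_isIso' h3 h4

end Groth.Agent.H81.CodimOneIso
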