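import Groth.Agent.H81.CodimOneIso6
import Mathlib.AlgebraicGeometry.Morphisms.Proper

/-!
# helper81: final forms: `isIso_of_fibres'` (with an arbitrary structure map of the source) and
surjectivity of a closed map hitting all points of codimension `≤ 1`.
-/

set_option autoImplicit false
universe u
open CategoryTheory CategoryTheory.Limits AlgebraicGeometry TensorProduct

namespace Groth.Agent.H81.CodimOneIso

variable {S X₁ X₂ : Scheme.{u}}

theorem isIso_of_fibres' [IsLocallyNoetherian S] (p₁ : X₁ ⟶ S) (p₂ : X₂ ⟶ S) (Ψ : X₁ ⟶ X₂)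
    (hΨ : Ψ ≫ p₂ = p₁) [IsFinite p₁] [Flat p₁] [IsFinite p₂] [Flat p₂]
    (hfib : ∀ s : S, ringKrullDim (S.presheaf.stalk s) ≤ 1 →
      ∀ (e₁ : p₁ ≫ 𝟙 S = Ψ ≫ p₂)
        (e₂ : S.fromSpecResidueField s ≫ 𝟙 S = 𝟙 _ ≫ S.fromSpecResidueField s),
      IsIso (pullback.map p₁ (S.fromSpecResidueField s) p₂ (S.fromSpecResidueField s) Ψ (𝟙 _)
        (𝟙 S) e₁ e₂)) : IsIso Ψ := by
  subst hΨ
  refine isIso_of_fibres p₂ Ψ (fun s hs => ?_)
  have e₁ : (Ψ ≫ p₂) ≫ 𝟙 S = Ψ ≫ p₂ := Category.comp_id _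
  have e₂ : S.fromSpecResidueField s ≫ 𝟙 S = 𝟙 _ ≫ S.fromSpecResidueField s :=
    (Category.comp_id _).trans (Category.id_comp _).symm
  refine ⟨pullback.map (Ψ ≫ p₂) (S.fromSpecResidueField s) p₂ (S.fromSpecResidueField s) Ψ (𝟙 _)
    (𝟙 S) e₁ e₂, hfib s hs e₁ e₂, ?_, ?_⟩
  · exact pullback.lift_fst _ _ _
  · rw [pullback.lift_snd, Category.comp_id]

/-- A closed map to a locally Noetherian scheme whose range contains every point with local ring
of dimension `≤ 1` (in fact `0` suffices) is surjective. -/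
theorem surjective_of_codimOne {Y : Scheme.{u}} (f : Y ⟶ S)
    (hclosed : IsClosed (Set.range f))
    (h : ∀ s : S, ringKrullDim (S.presheaf.stalk s) ≤ 1 → s ∈ Set.range f) :
    Function.Surjective f := by
  intro s₀
  by_contra hs₀
  have hs₀' : s₀ ∈ (Set.range f)ᶜ := hs₀
  obtain ⟨_, ⟨W, hW, rfl⟩, hsW, hWU⟩ :=
    S.isBasis_affineOpens.exists_subset_of_mem_open hs₀' hclosed.isOpen_compl
  haveI : Nonempty W := ⟨⟨s₀, hsW⟩⟩
  haveI : Nontrivial Γ(S, W) := inferInstance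
  obtain ⟨p, hp⟩ := Ideal.nonempty_minimalPrimes (show (⊥ : Ideal Γ(S, W)) ≠ ⊤ from bot_ne_top)
  haveI := hp.1.1
  let y : PrimeSpectrum Γ(S, W) := ⟨p, hp.1.1⟩
  have hs := mem_of_fromSpec W hW y
  have hdim : ringKrullDim (S.presheaf.stalk (hW.fromSpec y)) ≤ 1 := by
    rw [ringKrullDim_stalk_fromSpec W hW y]
    have : p.height = 0 := Ideal.height_eq_zero_iff.mpr hp
    change ((p.height : ℕ∞) : WithBot ℕ∞) ≤ 1
    rw [this]
    exact_mod_cast zero_le_one
  exact hWU hs (h _ hdim)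

end Groth.Agent.H81.CodimOneIso
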