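import Groth.Prelude.Def_W4c3irrattreebunCvg
import Mathlib.FieldTheory.AlgebraicClosure
import Mathlib.FieldTheory.IntermediateField.Adjoin.Basic
import Mathlib.FieldTheory.Tower
import Mathlib.RingTheory.Algebraic.Integral

/-!
Covering gonality is insensitive to replacing the base field by the field of constants.
-/

set_option autoImplicit false

universe u

open W4c3irrattreebun

namespace Groth.Agent.H81

variable {k K : Type u} [Field k] [Field K] [Algebra k K]

/-- a diagram over the field of constants is a diagram over the base field -/
noncomputable def restrictDiag {e : ℕ} (D' : CovDiag.{u} (algebraicClosure k K) K e) :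
    CovDiag.{u} k K e :=
  letI algkC : Algebra k D'.KC := ((algebraMap K D'.KC).comp (algebraMap k K)).toAlgebra
  letI algkB : Algebra k D'.KB :=
    ((algebraMap (algebraicClosure k K) D'.KB).comp
      (algebraMap k (algebraicClosure k K))).toAlgebra
  { KC := D'.KC
    KB := D'.KB
    instFieldC := D'.instFieldC
    instFieldB := D'.instFieldB
    algKC := D'.algKC
    algkC := algkC
    towerK := IsScalarTower.of_algebraMap_eq (fun x => rfl)
    algkB := algkB
    algBC := D'.algBC
    towerB := IsScalarTower.of_algebraMap_eq (fun x => by
      have e1 := @IsScalarTower.algebraMap_apply (algebraicClosure k K) D'.KB D'.KC _ _ _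
        D'.algkB D'.algBC D'.algkC D'.towerB (algebraMap k (algebraicClosure k K) x)
      have e2 := @IsScalarTower.algebraMap_apply (algebraicClosure k K) K D'.KC _ _ _
        inferInstance D'.algKC D'.algkC D'.towerK (algebraMap k (algebraicClosure k K) x)
      show algebraMap K D'.KC (algebraMap k K x) = algebraMap D'.KB D'.KC
        (@algebraMap (algebraicClosure k K) D'.KB _ _ D'.algkB
          (algebraMap k (algebraicClosure k K) x))
      rw [← e1, e2]
      rfl)
    finiteK := D'.finiteK
    t := D'.t
    transc := D'.transc
    finiteT := D'.finiteT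
    finrank_eq := D'.finrank_eq }

theorem restrictDiag_sep {e : ℕ} (D' : CovDiag.{u} (algebraicClosure k K) K e)
    (h : Algebra.IsSeparable K D'.KC) : Algebra.IsSeparable K (restrictDiag D').KC := h

section extend

variable {e : ℕ} (D : CovDiag.{u} k K e)

/-- the map from the field of constants to the top field -/
noncomputable def psi : (algebraicClosure k K) →+* D.KC :=
  (algebraMap K D.KC).comp (algebraMap (algebraicClosure k K) K)

/-- the compositum of `KB` and the field of constants inside `KC` -/
noncomputable def KB' : IntermediateField D.KB D.KC :=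
  IntermediateField.adjoin D.KB (Set.range (psi D))

theorem psi_mem (x : algebraicClosure k K) : psi D x ∈ KB' D :=
  IntermediateField.subset_adjoin _ _ ⟨x, rfl⟩

theorem isIntegral_psi (x : algebraicClosure k K) : IsIntegral D.KB (psi D x) := by
  have h1 : IsIntegral k (x : K) := mem_algebraicClosure_iff'.mp x.2
  have h2 : IsIntegral k (algebraMap K D.KC (x : K)) := h1.map (IsScalarTower.toAlgHom k K D.KC)
  exact h2.tower_top

instance isAlgebraic_KB' : Algebra.IsAlgebraic D.KB (KB' D) :=
  IntermediateField.isAlgebraic_adjoin (fun y hy => by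
    obtain ⟨x, rfl⟩ := hy
    exact isIntegral_psi D x)

theorem transc' : Transcendental (KB' D) D.t := by
  intro h
  exact D.transc (h.restrictScalars D.KB)

theorem adjoin_le :
    IntermediateField.adjoin D.KB ({D.t} : Set D.KC) ≤
      (IntermediateField.adjoin (KB' D) ({D.t} : Set D.KC)).restrictScalars D.KB := by
  rw [IntermediateField.adjoin_le_iff]
  intro x hx
  exact IntermediateField.subset_adjoin (KB' D) _ hx

/-- the inclusion `KB(t) → KB'(t)` -/
noncomputable def incl : IntermediateField.adjoin D.KB ({D.t} : Set D.KC) →+*
    IntermediateField.adjoin (KB' D) ({D.t} : Set D.KC) where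
  toFun x := ⟨x.1, adjoin_le D x.2⟩
  map_one' := rfl
  map_mul' _ _ := rfl
  map_zero' := rfl
  map_add' _ _ := rfl

theorem finite_and_le :
    Module.Finite (IntermediateField.adjoin (KB' D) ({D.t} : Set D.KC)) D.KC ∧
      Module.finrank (IntermediateField.adjoin (KB' D) ({D.t} : Set D.KC)) D.KC ≤ e := by
  letI : Algebra (IntermediateField.adjoin D.KB ({D.t} : Set D.KC))
      (IntermediateField.adjoin (KB' D) ({D.t} : Set D.KC)) := (incl D).toAlgebra
  haveI : IsScalarTower (IntermediateField.adjoin D.KB ({D.t} : Set D.KC))
      (IntermediateField.adjoin (KB' D) ({D.t} : Set D.KC)) D.KC :=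
    IsScalarTower.of_algebraMap_eq (fun x => rfl)
  have hfin : Module.Finite (IntermediateField.adjoin (KB' D) ({D.t} : Set D.KC)) D.KC :=
    Module.Finite.of_restrictScalars_finite (IntermediateField.adjoin D.KB ({D.t} : Set D.KC)) _ _
  refine ⟨hfin, ?_⟩
  have hmul := Module.finrank_mul_finrank (IntermediateField.adjoin D.KB ({D.t} : Set D.KC))
    (IntermediateField.adjoin (KB' D) ({D.t} : Set D.KC)) D.KC
  rw [D.finrank_eq] at hmul
  have hpos : 0 < e := by
    rw [← D.finrank_eq]
    exact Module.finrank_pos
  exact Nat.le_of_dvd hpos (Dvd.intro_left _ hmul)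

/-- a diagram over the base field gives a diagram over the field of constants, of degree at most
the original one, with the same top field -/
noncomputable def extendDiag : CovDiag.{u} (algebraicClosure k K) K
    (Module.finrank (IntermediateField.adjoin (KB' D) ({D.t} : Set D.KC)) D.KC) :=
  letI algkC : Algebra (algebraicClosure k K) D.KC := (psi D).toAlgebra
  letI algkB : Algebra (algebraicClosure k K) (KB' D) :=
    ((psi D).codRestrict (KB' D) (psi_mem D)).toAlgebra
  { KC := D.KC
    KB := KB' D
    instFieldC := D.instFieldC
    instFieldB := inferInstance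
    algKC := D.algKC
    algkC := algkC
    towerK := IsScalarTower.of_algebraMap_eq (fun x => rfl)
    algkB := algkB
    algBC := inferInstance
    towerB := IsScalarTower.of_algebraMap_eq (fun x => rfl)
    finiteK := D.finiteK
    t := D.t
    transc := transc' D
    finiteT := (finite_and_le D).1
    finrank_eq := rfl }

theorem extendDiag_sep (h : Algebra.IsSeparable K D.KC) :
    Algebra.IsSeparable K (extendDiag D).KC := h

end extend

/-- comparing infima of two sets of naturals -/
theorem sInf_eq_of_subset_of_forall_exists_le {A A' : Set ℕ} (h1 : A' ⊆ A)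
    (h2 : ∀ e ∈ A, ∃ e' ∈ A', e' ≤ e) : sInf A = sInf A' := by
  rcases A.eq_empty_or_nonempty with hA | hA
  · have hA' : A' = ∅ := Set.subset_eq_empty (hA ▸ h1) rfl
    rw [hA, hA']
  · obtain ⟨e', he', hle⟩ := h2 _ (Nat.sInf_mem hA)
    have hA' : A'.Nonempty := ⟨e', he'⟩
    apply le_antisymm
    · exact Nat.sInf_le (h1 (Nat.sInf_mem hA'))
    · exact (Nat.sInf_le he').trans hle

end Groth.Agent.H81
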