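import Groth.Agent.H81.ModHomology
import Groth.Prelude.Def_W4c3biextchowCx

/-!
Elementwise facts about the groupoid of a chain complex (`W4c3biextchow`).
-/

set_option autoImplicit false

universe v u

open CategoryTheory W4c3biextchow

namespace Groth.Agent.H81

variable {R : Type u} [Ring R] {C D : ChainComplex (ModuleCat.{v} R) ℕ} (f : C ⟶ D)

/-- elementwise criterion for `H₁(f)` mono -/
theorem mono_H1_iff :
    Mono (HomologicalComplex.homologyMap f 1) ↔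
      ∀ x : C.X 1, (C.d 1 0).hom x = 0 → (∃ y : D.X 2, (f.f 1).hom x = (D.d 2 1).hom y) →
        ∃ x₁ : C.X 2, x = (C.d 2 1).hom x₁ :=
  mono_homologyMap_iff_elem f 2 1 0 (ChainComplex.prev ℕ 1) (ChainComplex.next_nat_succ 0)

theorem epi_H1_iff :
    Epi (HomologicalComplex.homologyMap f 1) ↔
      ∀ y : D.X 1, (D.d 1 0).hom y = 0 →
        ∃ x : C.X 1, (C.d 1 0).hom x = 0 ∧ ∃ y₁ : D.X 2, y = (f.f 1).hom x + (D.d 2 1).hom y₁ :=
  epi_homologyMap_iff_elem f 2 1 0 (ChainComplex.prev ℕ 1) (ChainComplex.next_nat_succ 0)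

theorem mono_H0_iff :
    Mono (HomologicalComplex.homologyMap f 0) ↔
      ∀ x : C.X 0, (∃ y : D.X 1, (f.f 0).hom x = (D.d 1 0).hom y) →
        ∃ x₁ : C.X 1, x = (C.d 1 0).hom x₁ := by
  rw [mono_homologyMap_iff_elem f 1 0 0 (ChainComplex.prev ℕ 0) ChainComplex.next_nat_zero]
  have h0 : C.d 0 0 = 0 := C.shape _ _ (by simp)
  constructor
  · intro H x hx
    exact H x (by rw [h0]; rfl) hx
  · intro H x _ hx
    exact H x hx

theorem epi_H0_iff :
    Epi (HomologicalComplex.homologyMap f 0) ↔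
      ∀ y : D.X 0, ∃ x : C.X 0, ∃ y₁ : D.X 1, y = (f.f 0).hom x + (D.d 1 0).hom y₁ := by
  rw [epi_homologyMap_iff_elem f 1 0 0 (ChainComplex.prev ℕ 0) ChainComplex.next_nat_zero]
  have h0 : D.d 0 0 = 0 := D.shape _ _ (by simp)
  constructor
  · intro H y
    obtain ⟨x, -, hx⟩ := H y (by rw [h0]; rfl)
    exact ⟨x, hx⟩
  · intro H y _
    obtain ⟨x, hx⟩ := H y
    have h0' : C.d 0 0 = 0 := C.shape _ _ (by simp)
    exact ⟨x, by rw [h0']; rfl, hx⟩

/-- classes in `Q1` killed by `q1Map` -/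
theorem q1Map_mk_eq_zero_iff (x : C.X 1) :
    q1Map f (Submodule.Quotient.mk x) = 0 ↔ ∃ y : D.X 2, (f.f 1).hom x = (D.d 2 1).hom y := by
  rw [q1Map_mk, Submodule.Quotient.mk_eq_zero, LinearMap.mem_range]
  constructor
  · rintro ⟨y, hy⟩; exact ⟨y, hy.symm⟩
  · rintro ⟨y, hy⟩; exact ⟨y, hy.symm⟩

theorem mk_eq_zero_iff (x : C.X 1) :
    (Submodule.Quotient.mk x : Q1 C) = 0 ↔ ∃ x₁ : C.X 2, x = (C.d 2 1).hom x₁ := by
  rw [Submodule.Quotient.mk_eq_zero, LinearMap.mem_range]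
  constructor
  · rintro ⟨y, hy⟩; exact ⟨y, hy.symm⟩
  · rintro ⟨y, hy⟩; exact ⟨y, hy.symm⟩

end Groth.Agent.H81
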