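import Groth.Agent.H81.DPTransfer

/-!
# Divided powers on a sum of two ideals (S2191)

If `γ` on `I` and `δ` on `J` agree on `I ⊓ J` there is a unique divided power structure on
`I ⊔ J` restricting to both.  The sum/product/homogeneity axioms are checked with exponential
power series; the product and composition rules are transferred from the universal divided power
polynomial algebra `ℤ⟨X, Y⟩`.
-/

set_option autoImplicit false

open Finsupp Module

namespace Groth.Agent.H81.DPPoly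

section

variable {A : Type*} [CommRing A] {I J : Ideal A} (γ : DividedPowers I) (δ : DividedPowers J)

theorem exp_zero' : γ.exp 0 = 1 := by
  ext n
  simp only [DividedPowers.exp, PowerSeries.coeff_mk, PowerSeries.coeff_one]
  by_cases hn : n = 0
  · subst hn
    rw [γ.dpow_zero (zero_mem _), if_pos rfl]
  · rw [γ.dpow_eval_zero hn, if_neg hn]

theorem exp_mul' (a : A) {x : A} (hx : x ∈ I) :
    γ.exp (a * x) = PowerSeries.rescale a (γ.exp x) := by
  ext n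
  rw [PowerSeries.coeff_rescale]
  simp only [DividedPowers.exp, PowerSeries.coeff_mk]
  exact γ.dpow_mul hx

theorem E_wd (h : ∀ (n : ℕ) (x : A), x ∈ I ⊓ J → γ.dpow n x = δ.dpow n x) {x x' y y' : A}
    (hx : x ∈ I) (hx' : x' ∈ I) (hy : y ∈ J) (hy' : y' ∈ J) (hxy : x + y = x' + y') :
    γ.exp x * δ.exp y = γ.exp x' * δ.exp y' := by
  have hz1 : x - x' ∈ I := sub_mem hx hx'
  have hz2 : x - x' ∈ J := by
    have : x - x' = y' - y := by linear_combination hxy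
    rw [this]
    exact sub_mem hy' hy
  have hexp : γ.exp (x - x') = δ.exp (x - x') := by
    ext n
    simp only [DividedPowers.exp, PowerSeries.coeff_mk]
    exact h n _ ⟨hz1, hz2⟩
  have e1 : γ.exp x = γ.exp x' * γ.exp (x - x') := by
    rw [← γ.exp_add hx' hz1]
    congr 1
    ring
  have e2 : δ.exp y' = δ.exp (x - x') * δ.exp y := by
    rw [← δ.exp_add hz2 hy]
    congr 1
    linear_combination -hxy
  rw [e1, e2, hexp]
  ring

open Classical in
/-- the divided power function on `I ⊔ J` -/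
noncomputable def eps (n : ℕ) (z : A) : A :=
  if hz : z ∈ I ⊔ J then
    PowerSeries.coeff n (γ.exp (Submodule.mem_sup.mp hz).choose *
      δ.exp (Submodule.mem_sup.mp hz).choose_spec.2.choose)
  else 0

theorem eps_eq (h : ∀ (n : ℕ) (x : A), x ∈ I ⊓ J → γ.dpow n x = δ.dpow n x) (n : ℕ) {x y : A}
    (hx : x ∈ I) (hy : y ∈ J) :
    eps γ δ n (x + y) = PowerSeries.coeff n (γ.exp x * δ.exp y) := by
  have hz : x + y ∈ I ⊔ J := Submodule.mem_sup.mpr ⟨x, hx, y, hy, rfl⟩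
  unfold eps
  rw [dif_pos hz]
  congr 1
  have h1 := (Submodule.mem_sup.mp hz).choose_spec
  have h2 := h1.2.choose_spec
  exact E_wd γ δ h h1.1 hx h2.1 hy h2.2

theorem eps_left (h : ∀ (n : ℕ) (x : A), x ∈ I ⊓ J → γ.dpow n x = δ.dpow n x) (n : ℕ) {x : A}
    (hx : x ∈ I) : eps γ δ n x = γ.dpow n x := by
  have := eps_eq γ δ h n hx (zero_mem J)
  rw [add_zero, exp_zero', mul_one] at this
  rw [this]
  simp [DividedPowers.exp]

theorem eps_right (h : ∀ (n : ℕ) (x : A), x ∈ I ⊓ J → γ.dpow n x = δ.dpow n x) (n : ℕ) {y : A}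
    (hy : y ∈ J) : eps γ δ n y = δ.dpow n y := by
  have := eps_eq γ δ h n (zero_mem I) hy
  rw [zero_add, exp_zero', one_mul] at this
  rw [this]
  simp [DividedPowers.exp]

theorem eps_null (n : ℕ) {z : A} (hz : z ∉ I ⊔ J) : eps γ δ n z = 0 := by
  unfold eps
  rw [dif_neg hz]

theorem eps_zero (h : ∀ (n : ℕ) (x : A), x ∈ I ⊓ J → γ.dpow n x = δ.dpow n x) {z : A}
    (hz : z ∈ I ⊔ J) : eps γ δ 0 z = 1 := by
  obtain ⟨x, hx, y, hy, rfl⟩ := Submodule.mem_sup.mp hz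
  rw [eps_eq γ δ h 0 hx hy]
  simp [PowerSeries.coeff_mul, DividedPowers.exp, γ.dpow_zero hx, δ.dpow_zero hy]

theorem eps_one (h : ∀ (n : ℕ) (x : A), x ∈ I ⊓ J → γ.dpow n x = δ.dpow n x) {z : A}
    (hz : z ∈ I ⊔ J) : eps γ δ 1 z = z := by
  obtain ⟨x, hx, y, hy, rfl⟩ := Submodule.mem_sup.mp hz
  rw [eps_eq γ δ h 1 hx hy]
  simp [PowerSeries.coeff_mul, Finset.Nat.antidiagonal_succ, DividedPowers.exp, γ.dpow_zero hx,
    δ.dpow_zero hy, γ.dpow_one hx, δ.dpow_one hy]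
  ring

theorem eps_mem (h : ∀ (n : ℕ) (x : A), x ∈ I ⊓ J → γ.dpow n x = δ.dpow n x) {n : ℕ}
    (hn : n ≠ 0) {z : A} (hz : z ∈ I ⊔ J) : eps γ δ n z ∈ I ⊔ J := by
  obtain ⟨x, hx, y, hy, rfl⟩ := Submodule.mem_sup.mp hz
  rw [eps_eq γ δ h n hx hy, PowerSeries.coeff_mul]
  apply Ideal.sum_mem
  intro k hk
  rw [Finset.HasAntidiagonal.mem_antidiagonal] at hk
  simp only [DividedPowers.exp, PowerSeries.coeff_mk]
  by_cases hk1 : k.1 = 0
  · have hk2 : k.2 ≠ 0 := by omega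
    exact Ideal.mul_mem_left _ _ ((le_sup_right : J ≤ I ⊔ J) (δ.dpow_mem hk2 hy))
  · exact Ideal.mul_mem_right _ _ ((le_sup_left : I ≤ I ⊔ J) (γ.dpow_mem hk1 hx))

theorem eps_add (h : ∀ (n : ℕ) (x : A), x ∈ I ⊓ J → γ.dpow n x = δ.dpow n x) (n : ℕ) (z z' : A)
    (hz : z ∈ I ⊔ J) (hz' : z' ∈ I ⊔ J) :
    eps γ δ n (z + z') =
      (Finset.HasAntidiagonal.antidiagonal n).sum fun k => eps γ δ k.1 z * eps γ δ k.2 z' := by
  obtain ⟨x, hx, y, hy, rfl⟩ := Submodule.mem_sup.mp hz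
  obtain ⟨x', hx', y', hy', rfl⟩ := Submodule.mem_sup.mp hz'
  have e : x + y + (x' + y') = (x + x') + (y + y') := by ring
  rw [e, eps_eq γ δ h n (add_mem hx hx') (add_mem hy hy'), γ.exp_add hx hx', δ.exp_add hy hy']
  have e2 : γ.exp x * γ.exp x' * (δ.exp y * δ.exp y') =
      (γ.exp x * δ.exp y) * (γ.exp x' * δ.exp y') := by ring
  rw [e2, PowerSeries.coeff_mul]
  apply Finset.sum_congr rfl
  intro k _
  rw [eps_eq γ δ h _ hx hy, eps_eq γ δ h _ hx' hy']

theorem eps_mul (h : ∀ (n : ℕ) (x : A), x ∈ I ⊓ J → γ.dpow n x = δ.dpow n x) (n : ℕ) (a z : A)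
    (hz : z ∈ I ⊔ J) : eps γ δ n (a * z) = a ^ n * eps γ δ n z := by
  obtain ⟨x, hx, y, hy, rfl⟩ := Submodule.mem_sup.mp hz
  rw [mul_add, eps_eq γ δ h n (Ideal.mul_mem_left _ a hx) (Ideal.mul_mem_left _ a hy),
    exp_mul' γ a hx, exp_mul' δ a hy, ← map_mul, PowerSeries.coeff_rescale, eps_eq γ δ h n hx hy]

/-- the universal situation: for `x ∈ I`, `y ∈ J` a dp algebra mapping onto `x + y` -/
theorem exists_universal (h : ∀ (n : ℕ) (x : A), x ∈ I ⊓ J → γ.dpow n x = δ.dpow n x) {z : A}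
    (hz : z ∈ I ⊔ J) :
    ∃ (Γ : Type) (_ : CommRing Γ) (K : Ideal Γ) (γΓ : DividedPowers K) (Φ : Γ →+* A) (f : Γ),
      f ∈ K ∧ Φ f = z ∧ ∀ w ∈ K, Φ w ∈ I ⊔ J ∧ ∀ n, Φ (γΓ.dpow n w) = eps γ δ n (Φ w) := by
  obtain ⟨x, hx, y, hy, rfl⟩ := Submodule.mem_sup.mp hz
  have hinj : Function.Injective (algebraMap ℤ ℚ) := (algebraMap ℤ ℚ).injective_int
  let D := Model.dpb ℤ ℚ 2 hinj
  obtain ⟨γΓ, hγΓ⟩ := exists_dp_of_injective D (Model.sub ℤ ℚ 2).val.toRingHom
    Subtype.val_injective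
  let t : Fin 2 → ℕ → A := fun i n => if i = 0 then γ.dpow n x else δ.dpow n y
  obtain ⟨Φ, _, hΦb⟩ := exists_ringHom D (Int.castRingHom A) t
    (fun i => by
      simp only [t]
      split_ifs
      · exact γ.dpow_zero hx
      · exact δ.dpow_zero hy)
    (fun i m n => by
      simp only [t]
      split_ifs
      · exact γ.mul_dpow hx
      · exact δ.mul_dpow hy)
  have ht0 : ∀ j, t j 0 = 1 := by
    intro j
    simp only [t]
    split_ifs
    · exact γ.dpow_zero hx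
    · exact δ.dpow_zero hy
  have hΦsingle : ∀ (i : Fin 2) (k : ℕ), Φ (D.b (single i k)) = t i k := by
    intro i k
    rw [hΦb, Finset.prod_eq_single i]
    · rw [Finsupp.single_eq_same]
    · intro j _ hj
      rw [Finsupp.single_apply, if_neg (Ne.symm hj)]
      exact ht0 j
    · intro h'; exact absurd (Finset.mem_univ i) h'
  have htr := transfer D γΓ hγΓ Φ (I ⊔ J) (eps γ δ) (fun w hw => eps_zero γ δ h hw)
    (eps_add γ δ h) (eps_mul γ δ h) (by
      intro i k hk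
      have hk0 : k ≠ 0 := by omega
      rw [hΦsingle]
      by_cases hi : i = 0
      · simp only [t, if_pos hi]
        refine ⟨(le_sup_left : I ≤ I ⊔ J) (γ.dpow_mem hk0 hx), fun n => ?_⟩
        rw [eps_left γ δ h n (γ.dpow_mem hk0 hx), γ.dpow_comp hk0 hx, hΦsingle]
        simp only [t, if_pos hi]
      · simp only [t, if_neg hi]
        refine ⟨(le_sup_right : J ≤ I ⊔ J) (δ.dpow_mem hk0 hy), fun n => ?_⟩
        rw [eps_right γ δ h n (δ.dpow_mem hk0 hy), δ.dpow_comp hk0 hy, hΦsingle]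
        simp only [t, if_neg hi])
  refine ⟨Model.sub ℤ ℚ 2, inferInstance, D.aug, γΓ, Φ, D.b (single 0 1) + D.b (single 1 1),
    add_mem (D.single_mem_aug 0 1 le_rfl) (D.single_mem_aug 1 1 le_rfl), ?_, htr⟩
  rw [map_add, hΦsingle, hΦsingle]
  simp only [t, if_pos rfl, if_neg (show (1 : Fin 2) ≠ 0 by decide)]
  rw [γ.dpow_one hx, δ.dpow_one hy]

/-- the divided power structure on `I ⊔ J` -/
noncomputable def addDP (h : ∀ (n : ℕ) (x : A), x ∈ I ⊓ J → γ.dpow n x = δ.dpow n x) :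
    DividedPowers (I ⊔ J) where
  dpow := eps γ δ
  dpow_null := fun {n x} hx => eps_null γ δ n hx
  dpow_zero := fun {x} hx => eps_zero γ δ h hx
  dpow_one := fun {x} hx => eps_one γ δ h hx
  dpow_mem := fun {n x} hn hx => eps_mem γ δ h hn hx
  dpow_add := fun {n x y} hx hy => eps_add γ δ h n x y hx hy
  dpow_mul := fun {n a x} hx => eps_mul γ δ h n a x hx
  mul_dpow := by
    intro m n x hx
    obtain ⟨Γ, _, K, γΓ, Φ, f, hf, rfl, htr⟩ := exists_universal γ δ h hx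
    rw [← (htr f hf).2 m, ← (htr f hf).2 n, ← (htr f hf).2 (m + n), ← map_mul, γΓ.mul_dpow hf,
      map_mul, map_natCast]
  dpow_comp := by
    intro m n x hn hx
    obtain ⟨Γ, _, K, γΓ, Φ, f, hf, rfl, htr⟩ := exists_universal γ δ h hx
    rw [← (htr f hf).2 n, ← (htr _ (γΓ.dpow_mem hn hf)).2 m, γΓ.dpow_comp hn hf, map_mul,
      map_natCast, (htr f hf).2 (m * n)]

/-- S2191 -/
theorem existsUnique_add (h : ∀ (n : ℕ) (x : A), x ∈ I ⊓ J → γ.dpow n x = δ.dpow n x) :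
    ∃! ε : DividedPowers (I ⊔ J),
      (∀ (n : ℕ) (x : A), x ∈ I → ε.dpow n x = γ.dpow n x) ∧
        (∀ (n : ℕ) (x : A), x ∈ J → ε.dpow n x = δ.dpow n x) := by
  refine ⟨addDP γ δ h, ⟨fun n x hx => eps_left γ δ h n hx, fun n x hx => eps_right γ δ h n hx⟩,
    ?_⟩
  rintro ε' ⟨h1, h2⟩
  apply DividedPowers.ext
  intro n z hz
  obtain ⟨x, hx, y, hy, rfl⟩ := Submodule.mem_sup.mp hz
  rw [ε'.dpow_add ((le_sup_left : I ≤ I ⊔ J) hx) ((le_sup_right : J ≤ I ⊔ J) hy)]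
  show _ = eps γ δ n (x + y)
  rw [eps_eq γ δ h n hx hy, PowerSeries.coeff_mul]
  apply Finset.sum_congr rfl
  intro k _
  rw [h1 _ _ hx, h2 _ _ hy]
  simp [DividedPowers.exp]

end

end Groth.Agent.H81.DPPoly
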