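import Groth.Agent.H81.DPFlat
import Groth.Agent.H81.DPAdd

/-!
# Divided powers on `I P + P_+` for a divided power polynomial algebra `P` over `(R, I, γ)` (S18421)
-/

set_option autoImplicit false

open Finsupp Module

namespace Groth.Agent.H81.DPPoly

universe u v w

section

variable {R : Type u} [CommRing R] {Λ : Type w} {P : Type v} [CommRing P] [Algebra R P]
  (x : Λ → ℕ → P) (hx0 : ∀ l, x l 0 = 1)
  (hxmul : ∀ l n m, x l n * x l m = ((n + m).choose n : P) * x l (n + m))
  (b : Module.Basis (Λ →₀ ℕ) R P) (hb : ∀ e : Λ →₀ ℕ, b e = e.prod (fun l k => x l k))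

include hx0 hxmul hb in
theorem exists_b_mul (e e' : Λ →₀ ℕ) : ∃ c : ℕ, b e * b e' = (c : P) * b (e + e') := by
  classical
  let s := e.support ∪ e'.support
  have h1 : b e = ∏ l ∈ s, x l (e l) := by
    rw [hb]
    exact Finsupp.prod_of_support_subset e Finset.subset_union_left _ (fun l _ => hx0 l)
  have h2 : b e' = ∏ l ∈ s, x l (e' l) := by
    rw [hb]
    exact Finsupp.prod_of_support_subset e' Finset.subset_union_right _ (fun l _ => hx0 l)
  have h3 : b (e + e') = ∏ l ∈ s, x l (e l + e' l) := by
    rw [hb]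
    exact Finsupp.prod_of_support_subset (e + e') Finsupp.support_add _ (fun l _ => hx0 l)
  refine ⟨∏ l ∈ s, (e l + e' l).choose (e l), ?_⟩
  rw [h1, h2, h3, ← Finset.prod_mul_distrib, Nat.cast_prod, ← Finset.prod_mul_distrib]
  apply Finset.prod_congr rfl
  intro l _
  rw [hxmul]

include hx0 hb in
theorem b_mem_Pp {e : Λ →₀ ℕ} (he : e ≠ 0) :
    b e ∈ Ideal.span {y : P | ∃ (l : Λ) (n : ℕ), 1 ≤ n ∧ y = x l n} := by
  obtain ⟨l, hl⟩ : ∃ l, e l ≠ 0 := by
    by_contra h
    push_neg at h
    exact he (Finsupp.ext h)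
  have hmem : l ∈ e.support := Finsupp.mem_support_iff.mpr hl
  have hdvd : x l (e l) ∣ b e := by
    rw [hb]
    exact Finset.dvd_prod_of_mem (fun l => x l (e l)) hmem
  obtain ⟨c, hc⟩ := hdvd
  rw [hc]
  exact Ideal.mul_mem_right _ _ (Ideal.subset_span ⟨l, e l, Nat.one_le_iff_ne_zero.mpr hl, rfl⟩)

include hx0 hxmul hb in
theorem repr_zero_of_mem_Pp {y : P}
    (hy : y ∈ Ideal.span {y : P | ∃ (l : Λ) (n : ℕ), 1 ≤ n ∧ y = x l n}) : b.repr y 0 = 0 := by
  classical
  -- the R-span of the nonconstant basis vectors is an ideal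
  let W : Submodule R P := Submodule.span R (b '' {e | e ≠ 0})
  have hWmul : ∀ (a : P) {w : P}, w ∈ W → a * w ∈ W := by
    intro a w hw
    induction hw using Submodule.span_induction with
    | mem w h =>
      obtain ⟨e, he, rfl⟩ := h
      have ha := b.mem_span a
      induction ha using Submodule.span_induction with
      | mem a h' =>
        obtain ⟨e', rfl⟩ := h'
        obtain ⟨c, hc⟩ := exists_b_mul x hx0 hxmul b hb e' e
        rw [hc, ← nsmul_eq_mul]
        apply Submodule.smul_of_tower_mem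
        apply Submodule.subset_span
        refine ⟨e' + e, ?_, rfl⟩
        intro h0
        apply he
        ext j
        have := DFunLike.congr_fun h0 j
        simp only [Finsupp.add_apply, Finsupp.zero_apply, Nat.add_eq_zero_iff] at this
        simpa using this.2
      | zero => simp
      | add x' y' _ _ hx' hy' => rw [add_mul]; exact add_mem hx' hy'
      | smul r x' _ hx' => rw [smul_mul_assoc]; exact Submodule.smul_mem _ _ hx'
    | zero => simp
    | add x' y' _ _ hx' hy' => rw [mul_add]; exact add_mem hx' hy'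
    | smul r x' _ hx' => rw [mul_smul_comm]; exact Submodule.smul_mem _ _ hx'
  have hW : y ∈ W := by
    induction hy using Submodule.span_induction with
    | mem y h =>
      obtain ⟨l, n, hn, rfl⟩ := h
      have hs : b (single l n) = x l n := by rw [hb, Finsupp.prod_single_index (hx0 l)]
      rw [← hs]
      apply Submodule.subset_span
      refine ⟨single l n, ?_, rfl⟩
      intro h0
      have := DFunLike.congr_fun h0 l
      simp at this
      omega
    | zero => exact zero_mem _
    | add x' y' _ _ hx' hy' => exact add_mem hx' hy'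
    | smul a x' _ hx' => rw [smul_eq_mul]; exact hWmul a hx'
  have hfin : ∀ z ∈ W, b.repr z 0 = 0 := by
    intro z hz
    induction hz using Submodule.span_induction with
    | mem z h =>
      obtain ⟨e, he, rfl⟩ := h
      rw [Basis.repr_self, Finsupp.single_apply, if_neg he]
    | zero => simp
    | add x' y' _ _ hx' hy' => rw [map_add, Finsupp.add_apply, hx', hy', add_zero]
    | smul r x' _ hx' => rw [map_smul, Finsupp.smul_apply, hx', smul_zero]
  exact hfin y hW

theorem repr_mem_of_mem_map {I : Ideal R} {y : P} (hy : y ∈ I.map (algebraMap R P))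
    (e : Λ →₀ ℕ) : b.repr y e ∈ I := by
  classical
  unfold Ideal.map at hy
  induction hy using Submodule.span_induction generalizing e with
  | mem y h =>
    obtain ⟨r, hr, rfl⟩ := h
    rw [Algebra.algebraMap_eq_smul_one, map_smul, Finsupp.smul_apply, smul_eq_mul]
    exact Ideal.mul_mem_right _ _ hr
  | zero => simp
  | add x' y' _ _ hx' hy' => rw [map_add, Finsupp.add_apply]; exact add_mem (hx' e) (hy' e)
  | smul p x' _ hx' =>
    have h1 : p • x' = ∑ e' ∈ (b.repr x').support, (b.repr x' e') • (p * b e') := by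
      conv_lhs => rw [← b.linearCombination_repr x', Finsupp.linearCombination_apply,
        Finsupp.sum, smul_eq_mul, Finset.mul_sum]
      apply Finset.sum_congr rfl
      intro e' _
      rw [mul_smul_comm]
    rw [h1, map_sum, Finsupp.finset_sum_apply]
    apply Ideal.sum_mem
    intro e' _
    rw [map_smul, Finsupp.smul_apply, smul_eq_mul]
    exact Ideal.mul_mem_right _ _ (hx' e')

end

/-- the augmentation ideal -/
abbrev PpI {Λ : Type w} {P : Type v} [CommRing P] (x : Λ → ℕ → P) : Ideal P :=
  Ideal.span {y : P | ∃ (l : Λ) (n : ℕ), 1 ≤ n ∧ y = x l n}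

/-- S18421 -/
theorem existsUnique_ext (R : Type u) [CommRing R] {I : Ideal R}
    (γ : DividedPowers I) (Λ : Type w)
    (P : Type v) [CommRing P] [Algebra R P] (x : Λ → ℕ → P)
    (hx0 : ∀ l, x l 0 = 1)
    (hxmul : ∀ l n m, x l n * x l m = ((n + m).choose n : P) * x l (n + m))
    (b : Module.Basis (Λ →₀ ℕ) R P) (hb : ∀ e : Λ →₀ ℕ, b e = e.prod (fun l k => x l k))
    (δplus : DividedPowers (Ideal.span {y : P | ∃ (l : Λ) (n : ℕ), 1 ≤ n ∧ y = x l n}))
    (hδplus : ∀ (l : Λ) (n : ℕ), δplus.dpow n (x l 1) = x l n) :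
    ∃! δ : DividedPowers (I.map (algebraMap R P) ⊔
        Ideal.span {y : P | ∃ (l : Λ) (n : ℕ), 1 ≤ n ∧ y = x l n}),
      γ.IsDPMorphism δ (algebraMap R P) ∧
        ∀ (n : ℕ) (y : P), y ∈ Ideal.span {y : P | ∃ (l : Λ) (n : ℕ), 1 ≤ n ∧ y = x l n} →
          δ.dpow n y = δplus.dpow n y := by
  classical
  haveI : Module.Free R P := Module.Free.of_basis b
  obtain ⟨γP, hγP⟩ := Flat.exists_extension (B := P) γ
  -- agreement on the intersection
  have hterm : ∀ (r : R) (e : Λ →₀ ℕ), r ∈ I → e ≠ 0 → ∀ n,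
      γP.dpow n (r • b e) = δplus.dpow n (r • b e) := by
    intro r e hr he n
    have hbe : b e ∈ PpI x := b_mem_Pp x hx0 b hb he
    have har : algebraMap R P r ∈ I.map (algebraMap R P) := Ideal.mem_map_of_mem _ hr
    have h1 : γP.dpow n (r • b e) = (b e) ^ n * algebraMap R P (γ.dpow n r) := by
      rw [Algebra.smul_def, mul_comm, γP.dpow_mul har, hγP.dpow_comp r hr]
    have h2 : δplus.dpow n (r • b e) = (algebraMap R P r) ^ n * δplus.dpow n (b e) := by
      rw [Algebra.smul_def, δplus.dpow_mul hbe]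
    have h3 : (n.factorial : P) * δplus.dpow n (b e) = (b e) ^ n :=
      δplus.factorial_mul_dpow_eq_pow hbe
    have h4 : (n.factorial : R) * γ.dpow n r = r ^ n := γ.factorial_mul_dpow_eq_pow hr
    rw [h1, h2, ← h3, ← map_pow, ← h4, map_mul, map_natCast]
    ring
  have hagree : ∀ (n : ℕ) (y : P), y ∈ I.map (algebraMap R P) ⊓ PpI x →
      γP.dpow n y = δplus.dpow n y := by
    intro n y hy
    have hrI : ∀ e, b.repr y e ∈ I := repr_mem_of_mem_map b hy.1
    have hr0 : b.repr y 0 = 0 := repr_zero_of_mem_Pp x hx0 hxmul b hb hy.2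
    -- finite sums of good terms
    have hsum : ∀ (s : Finset (Λ →₀ ℕ)) (c : (Λ →₀ ℕ) → R), (∀ e ∈ s, c e ∈ I) →
        (∀ e ∈ s, e ≠ 0 ∨ c e = 0) →
        (∑ e ∈ s, c e • b e) ∈ I.map (algebraMap R P) ⊓ PpI x ∧
          ∀ n, γP.dpow n (∑ e ∈ s, c e • b e) = δplus.dpow n (∑ e ∈ s, c e • b e) := by
      intro s c
      induction s using Finset.induction_on with
      | empty =>
        intro _ _
        refine ⟨by simp, fun n => ?_⟩
        rw [Finset.sum_empty]
        by_cases hn : n = 0
        · subst hn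
          rw [γP.dpow_zero (zero_mem _), δplus.dpow_zero (zero_mem _)]
        · rw [γP.dpow_eval_zero hn, δplus.dpow_eval_zero hn]
      | insert e s he ih =>
        intro hc hc0
        obtain ⟨ih1, ih2⟩ := ih (fun e' he' => hc e' (Finset.mem_insert_of_mem he'))
          (fun e' he' => hc0 e' (Finset.mem_insert_of_mem he'))
        have hce : c e ∈ I := hc e (Finset.mem_insert_self e s)
        have hmem : c e • b e ∈ I.map (algebraMap R P) ⊓ PpI x := by
          rcases hc0 e (Finset.mem_insert_self e s) with h0 | h0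
          · refine ⟨?_, ?_⟩
            · rw [Algebra.smul_def]
              exact Ideal.mul_mem_right _ _ (Ideal.mem_map_of_mem _ hce)
            · rw [Algebra.smul_def]
              exact Ideal.mul_mem_left _ _ (b_mem_Pp x hx0 b hb h0)
          · rw [h0, zero_smul]; exact zero_mem _
        have hterm' : ∀ n, γP.dpow n (c e • b e) = δplus.dpow n (c e • b e) := by
          intro n
          rcases hc0 e (Finset.mem_insert_self e s) with h0 | h0
          · exact hterm (c e) e hce h0 n
          · rw [h0, zero_smul]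
            by_cases hn : n = 0
            · subst hn
              rw [γP.dpow_zero (zero_mem _), δplus.dpow_zero (zero_mem _)]
            · rw [γP.dpow_eval_zero hn, δplus.dpow_eval_zero hn]
        rw [Finset.sum_insert he]
        refine ⟨add_mem hmem ih1, fun n => ?_⟩
        rw [γP.dpow_add hmem.1 ih1.1, δplus.dpow_add hmem.2 ih1.2]
        apply Finset.sum_congr rfl
        intro k _
        rw [hterm', ih2]
    have hy' : y = ∑ e ∈ (b.repr y).support, (b.repr y e) • b e := by
      conv_lhs => rw [← b.linearCombination_repr y, Finsupp.linearCombination_apply, Finsupp.sum]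
    rw [hy']
    refine (hsum _ _ (fun e _ => hrI e) (fun e _ => ?_)).2 n
    by_cases he : e = 0
    · right; rw [he, hr0]
    · left; exact he
  obtain ⟨δ, ⟨hδ1, hδ2⟩, -⟩ := existsUnique_add γP δplus hagree
  have hmor : γ.IsDPMorphism δ (algebraMap R P) := by
    refine ⟨le_sup_left, fun {n} a ha => ?_⟩
    rw [hδ1 n _ (Ideal.mem_map_of_mem _ ha), hγP.dpow_comp a ha]
  refine ⟨δ, ⟨hmor, hδ2⟩, ?_⟩
  rintro δ' ⟨hmor', hδ2'⟩
  have hspan : I.map (algebraMap R P) ⊔ PpI x =
      Ideal.span ((algebraMap R P '' (I : Set R)) ∪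
        {y : P | ∃ (l : Λ) (n : ℕ), 1 ≤ n ∧ y = x l n}) := by
    rw [Ideal.span_union]
    rfl
  symm
  apply DividedPowers.dpow_eq_from_gens δ' δ hspan
  intro n a ha
  rcases ha with ⟨r, hr, rfl⟩ | ha
  · rw [hmor.dpow_comp r hr, hmor'.dpow_comp r hr]
  · have ha' : a ∈ PpI x := Ideal.subset_span ha
    rw [hδ2 n a ha', hδ2' n a ha']

end Groth.Agent.H81.DPPoly
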