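import Groth.Agent.H81.DPTransfer
import Mathlib.RingTheory.Flat.Basic

/-!
# Extension of divided powers to a flat algebra (S2193)

For `(A, I, γ)` and a flat `A`-algebra `B`, the ideal `IB` carries a divided power structure making
`A → B` a dp-morphism.  The exponential `r ⊗ p ↦ Σ γ_k(r) p^k T^k` is bi-additive and balanced, so it
descends to `I ⊗ B ≅ IB`; the product and composition rules follow from `dp_of_generators`.
-/

set_option autoImplicit false

open TensorProduct

namespace Groth.Agent.H81.DPPoly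

namespace Flat

variable {A : Type*} {B : Type*} [CommRing A] [CommRing B] [Algebra A B] {I : Ideal A}
  (γ : DividedPowers I)

/-- the exponential series `Σ γ_k(r) p^k T^k` -/
noncomputable def E (r : A) (p : B) : PowerSeries B :=
  PowerSeries.mk fun k => algebraMap A B (γ.dpow k r) * p ^ k

theorem coeff_E (r : A) (p : B) (k : ℕ) :
    PowerSeries.coeff k (E γ r p) = algebraMap A B (γ.dpow k r) * p ^ k := by
  simp [E]

theorem E_zero_right {r : A} (hr : r ∈ I) : E γ r (0 : B) = 1 := by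
  ext k
  rw [coeff_E, PowerSeries.coeff_one]
  by_cases hk : k = 0
  · subst hk
    rw [γ.dpow_zero hr, map_one, pow_zero, mul_one, if_pos rfl]
  · rw [zero_pow hk, mul_zero, if_neg hk]

theorem E_zero_left (p : B) : E γ 0 p = 1 := by
  ext k
  rw [coeff_E, PowerSeries.coeff_one]
  by_cases hk : k = 0
  · subst hk
    rw [γ.dpow_zero (zero_mem _), map_one, pow_zero, mul_one, if_pos rfl]
  · rw [γ.dpow_eval_zero hk, map_zero, zero_mul, if_neg hk]

theorem E_add_right {r : A} (hr : r ∈ I) (p p' : B) : E γ r (p + p') = E γ r p * E γ r p' := by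
  ext k
  rw [PowerSeries.coeff_mul, coeff_E, (Commute.all p p').add_pow', Finset.mul_sum]
  apply Finset.sum_congr rfl
  intro m hm
  rw [Finset.HasAntidiagonal.mem_antidiagonal] at hm
  rw [coeff_E, coeff_E]
  have h1 : algebraMap A B (γ.dpow m.1 r) * algebraMap A B (γ.dpow m.2 r) =
      (k.choose m.1 : B) * algebraMap A B (γ.dpow k r) := by
    rw [← map_mul, γ.mul_dpow hr, hm, map_mul, map_natCast]
  calc algebraMap A B (γ.dpow k r) * (k.choose m.1 • (p ^ m.1 * p' ^ m.2))
      = ((k.choose m.1 : B) * algebraMap A B (γ.dpow k r)) * (p ^ m.1 * p' ^ m.2) := by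
        rw [nsmul_eq_mul]; ring
    _ = _ := by rw [← h1]; ring

theorem E_add_left {r r' : A} (hr : r ∈ I) (hr' : r' ∈ I) (p : B) :
    E γ (r + r') p = E γ r p * E γ r' p := by
  ext k
  rw [PowerSeries.coeff_mul, coeff_E, γ.dpow_add hr hr', map_sum, Finset.sum_mul]
  apply Finset.sum_congr rfl
  intro m hm
  rw [Finset.HasAntidiagonal.mem_antidiagonal] at hm
  rw [coeff_E, coeff_E, map_mul, ← hm, pow_add]
  ring

theorem E_smul {r : A} (hr : r ∈ I) (a : A) (p : B) : E γ (a * r) p = E γ r (a • p) := by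
  ext k
  rw [coeff_E, coeff_E, γ.dpow_mul hr, map_mul, map_pow, Algebra.smul_def, mul_pow]
  ring

theorem E_mul_right (r : A) (b p : B) : E γ r (b * p) = PowerSeries.rescale b (E γ r p) := by
  ext k
  rw [PowerSeries.coeff_rescale, coeff_E, coeff_E, mul_pow]
  ring

/-- the bi-additive balanced map -/
noncomputable def f : ↥I →+ B →+ Additive (PowerSeries B) where
  toFun r :=
    { toFun := fun p => Additive.ofMul (E γ r.1 p)
      map_zero' := by rw [E_zero_right γ r.2]; rfl
      map_add' := fun p p' => by rw [E_add_right γ r.2]; rfl }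
  map_zero' := by
    refine AddMonoidHom.ext fun p => ?_
    show Additive.ofMul (E γ 0 p) = 0
    rw [E_zero_left]; rfl
  map_add' := fun r r' => by
    refine AddMonoidHom.ext fun p => ?_
    show Additive.ofMul (E γ (r.1 + r'.1) p) = _
    rw [E_add_left γ r.2 r'.2]; rfl

theorem f_apply (r : ↥I) (p : B) : f γ r p = Additive.ofMul (E γ r.1 p) := rfl

/-- the exponential on `I ⊗ B` -/
noncomputable def Ψ : ↥I ⊗[A] B →+ Additive (PowerSeries B) :=
  TensorProduct.liftAddHom (f γ) (fun a r p => by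
    rw [f_apply, f_apply]
    show Additive.ofMul (E γ (a * r.1) p) = _
    rw [E_smul γ r.2])

theorem Ψ_tmul (r : ↥I) (p : B) : Ψ γ (r ⊗ₜ p) = Additive.ofMul (E γ r.1 p) := rfl

variable (A B I) in
/-- `I ⊗ B → B` -/
noncomputable def ι : ↥I ⊗[A] B →ₗ[A] B :=
  (TensorProduct.lid A B).toLinearMap.comp (LinearMap.rTensor B (Submodule.subtype I))

theorem ι_tmul (r : ↥I) (p : B) : ι A B I (r ⊗ₜ p) = algebraMap A B r.1 * p := by
  simp [ι, Algebra.smul_def]

theorem ι_injective [Module.Flat A B] : Function.Injective (ι A B I) := by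
  unfold ι
  rw [LinearMap.coe_comp]
  exact (TensorProduct.lid A B).injective.comp
    (Module.Flat.rTensor_preserves_injective_linearMap _ Subtype.val_injective)

variable (A I) in
/-- multiplication by `b` on the second factor -/
noncomputable def μ (b : B) : ↥I ⊗[A] B →ₗ[A] ↥I ⊗[A] B :=
  LinearMap.lTensor ↥I (LinearMap.mulLeft A b)

theorem μ_tmul (b : B) (r : ↥I) (p : B) : μ A I b (r ⊗ₜ p) = r ⊗ₜ (b * p) := by
  simp [μ]

theorem ι_μ (b : B) (t : ↥I ⊗[A] B) : ι A B I (μ A I b t) = b * ι A B I t := by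
  induction t using TensorProduct.induction_on with
  | zero => simp
  | tmul r p => rw [μ_tmul, ι_tmul, ι_tmul]; ring
  | add x y hx hy => simp only [map_add, hx, hy, mul_add]

theorem Ψ_μ (b : B) (t : ↥I ⊗[A] B) :
    (Ψ γ (μ A I b t)).toMul = PowerSeries.rescale b (Ψ γ t).toMul := by
  induction t using TensorProduct.induction_on with
  | zero => simp
  | tmul r p => rw [μ_tmul, Ψ_tmul, Ψ_tmul]; exact E_mul_right γ r.1 b p
  | add x y hx hy =>
    rw [(μ A I b).map_add, (Ψ γ).map_add, (Ψ γ).map_add, toMul_add, toMul_add, hx, hy, map_mul]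

theorem mem_range_ι {y : B} (hy : y ∈ I.map (algebraMap A B)) : ∃ t, ι A B I t = y := by
  unfold Ideal.map at hy
  induction hy using Submodule.span_induction with
  | mem y h =>
    obtain ⟨r, hr, rfl⟩ := h
    exact ⟨(⟨r, hr⟩ : ↥I) ⊗ₜ 1, by rw [ι_tmul, mul_one]⟩
  | zero => exact ⟨0, map_zero _⟩
  | add x y _ _ hx hy =>
    obtain ⟨t, rfl⟩ := hx
    obtain ⟨t', rfl⟩ := hy
    exact ⟨t + t', map_add _ _ _⟩
  | smul b x _ hx =>
    obtain ⟨t, rfl⟩ := hx
    exact ⟨μ A I b t, by rw [ι_μ, smul_eq_mul]⟩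

theorem ι_mem (t : ↥I ⊗[A] B) : ι A B I t ∈ I.map (algebraMap A B) := by
  induction t using TensorProduct.induction_on with
  | zero => rw [map_zero]; exact zero_mem _
  | tmul r p => rw [ι_tmul]; exact Ideal.mul_mem_right _ _ (Ideal.mem_map_of_mem _ r.2)
  | add x y hx hy => rw [map_add]; exact add_mem hx hy

/-- structural properties of the exponential -/
theorem Ψ_props (t : ↥I ⊗[A] B) :
    PowerSeries.coeff 0 (Ψ γ t).toMul = 1 ∧
    (∀ k, k ≠ 0 → PowerSeries.coeff k (Ψ γ t).toMul ∈ I.map (algebraMap A B)) ∧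
    PowerSeries.coeff 1 (Ψ γ t).toMul = ι A B I t := by
  induction t using TensorProduct.induction_on with
  | zero =>
    refine ⟨by simp, fun k hk => ?_, by simp⟩
    rw [map_zero, toMul_zero, PowerSeries.coeff_one, if_neg hk]
    exact zero_mem _
  | tmul r p =>
    rw [Ψ_tmul, toMul_ofMul]
    refine ⟨?_, fun k hk => ?_, ?_⟩
    · rw [coeff_E, γ.dpow_zero r.2, map_one, pow_zero, mul_one]
    · rw [coeff_E]
      exact Ideal.mul_mem_right _ _ (Ideal.mem_map_of_mem _ (γ.dpow_mem hk r.2))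
    · rw [coeff_E, γ.dpow_one r.2, pow_one, ι_tmul]
  | add x y hx hy =>
    obtain ⟨hx0, hxk, hx1⟩ := hx
    obtain ⟨hy0, hyk, hy1⟩ := hy
    rw [map_add, toMul_add]
    refine ⟨?_, fun k hk => ?_, ?_⟩
    · rw [PowerSeries.coeff_mul]
      simp [hx0, hy0]
    · rw [PowerSeries.coeff_mul]
      apply Ideal.sum_mem
      intro m hm
      rw [Finset.HasAntidiagonal.mem_antidiagonal] at hm
      by_cases hm1 : m.1 = 0
      · exact Ideal.mul_mem_left _ _ (hyk m.2 (by omega))
      · exact Ideal.mul_mem_right _ _ (hxk m.1 hm1)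
    · rw [PowerSeries.coeff_mul, Finset.Nat.antidiagonal_succ]
      simp [hx0, hy0, hx1, hy1, add_comm]

open Classical in
/-- the divided power function on `IB` -/
noncomputable def d (n : ℕ) (y : B) : B :=
  if hy : y ∈ I.map (algebraMap A B) then PowerSeries.coeff n (Ψ γ (mem_range_ι hy).choose).toMul
  else 0

theorem d_ι [Module.Flat A B] (n : ℕ) (t : ↥I ⊗[A] B) :
    d γ n (ι A B I t) = PowerSeries.coeff n (Ψ γ t).toMul := by
  unfold d
  rw [dif_pos (ι_mem t)]
  have := ι_injective (mem_range_ι (ι_mem t)).choose_spec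
  rw [this]

theorem d_algebraMap [Module.Flat A B] (n : ℕ) {r : A} (hr : r ∈ I) :
    d γ n (algebraMap A B r) = algebraMap A B (γ.dpow n r) := by
  have h1 : algebraMap A B r = ι A B I ((⟨r, hr⟩ : ↥I) ⊗ₜ 1) := by rw [ι_tmul, mul_one]
  rw [h1, d_ι, Ψ_tmul, toMul_ofMul, coeff_E, one_pow, mul_one]

/-- S2193, existence part -/
theorem exists_extension [Module.Flat A B] :
    ∃ δ : DividedPowers (I.map (algebraMap A B)), γ.IsDPMorphism δ (algebraMap A B) := by
  obtain ⟨δ, hδ⟩ := dp_of_generators (I.map (algebraMap A B)) (algebraMap A B '' (I : Set A)) rfl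
    (d γ)
    (fun n x hx => by unfold d; rw [dif_neg hx])
    (fun x hx => by
      obtain ⟨t, rfl⟩ := mem_range_ι hx
      rw [d_ι]; exact (Ψ_props γ t).1)
    (fun x hx => by
      obtain ⟨t, rfl⟩ := mem_range_ι hx
      rw [d_ι]; exact (Ψ_props γ t).2.2)
    (fun n x hn hx => by
      obtain ⟨t, rfl⟩ := mem_range_ι hx
      rw [d_ι]; exact (Ψ_props γ t).2.1 n hn)
    (fun n x y hx hy => by
      obtain ⟨t, rfl⟩ := mem_range_ι hx
      obtain ⟨t', rfl⟩ := mem_range_ι hy
      rw [← map_add, d_ι, map_add, toMul_add, PowerSeries.coeff_mul]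
      apply Finset.sum_congr rfl
      intro m _
      rw [d_ι, d_ι])
    (fun n b x hx => by
      obtain ⟨t, rfl⟩ := mem_range_ι hx
      rw [← ι_μ, d_ι, Ψ_μ, PowerSeries.coeff_rescale, d_ι])
    (fun m n x hx => by
      obtain ⟨r, hr, rfl⟩ := hx
      rw [d_algebraMap γ m hr, d_algebraMap γ n hr, d_algebraMap γ (m + n) hr, ← map_mul,
        γ.mul_dpow hr, map_mul, map_natCast])
    (fun m n x hn hx => by
      obtain ⟨r, hr, rfl⟩ := hx
      rw [d_algebraMap γ n hr, d_algebraMap γ m (γ.dpow_mem hn hr), d_algebraMap γ (m * n) hr,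
        γ.dpow_comp hn hr, map_mul, map_natCast])
  refine ⟨δ, le_refl _, fun {n} a ha => ?_⟩
  rw [hδ]
  exact d_algebraMap γ n ha

end Flat

/-- S2193 -/
theorem unique_and_exists_extension {A : Type*} {B : Type*} [CommRing A] [CommRing B]
    [Algebra A B] {I : Ideal A} (γ : DividedPowers I) :
    (∀ δ δ' : DividedPowers (I.map (algebraMap A B)),
        γ.IsDPMorphism δ (algebraMap A B) → γ.IsDPMorphism δ' (algebraMap A B) → δ = δ') ∧
      (Module.Flat A B →
        ∃ δ : DividedPowers (I.map (algebraMap A B)), γ.IsDPMorphism δ (algebraMap A B)) := by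
  refine ⟨fun δ δ' h h' => ?_, fun hflat => Flat.exists_extension γ⟩
  symm
  apply DividedPowers.dpow_eq_from_gens δ δ' (S := algebraMap A B '' (I : Set A)) rfl
  intro n a ha
  obtain ⟨r, hr, rfl⟩ := ha
  rw [h.dpow_comp r hr, h'.dpow_comp r hr]

end Groth.Agent.H81.DPPoly
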