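import Groth.Agent.H81.DPModel

/-!
# Divided powers on the augmentation ideal of a divided power polynomial algebra

`descent` : divided powers descend along a surjection of base rings;
`exists_dp` : existence over any commutative ring;
`exists_unique_dp` : the statement in the form of S18420.
-/

set_option autoImplicit false

open Finsupp Module

namespace Groth.Agent.H81.DPPoly

universe u v

variable {N : ℕ}

theorem descent {R' : Type*} {R : Type*} {P' : Type*} {P : Type*} [CommRing R'] [CommRing R]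
    [CommRing P'] [CommRing P] [Algebra R' P'] [Algebra R P]
    (D' : DPB R' N P') (D : DPB R N P) (ε : R' →+* R) (hε : Function.Surjective ε)
    (γ' : DividedPowers D'.aug)
    (hγ' : ∀ (i : Fin N) (n : ℕ), γ'.dpow n (D'.b (single i 1)) = D'.b (single i n)) :
    ∃ γ : DividedPowers D.aug,
      ∀ (i : Fin N) (n : ℕ), γ.dpow n (D.b (single i 1)) = D.b (single i n) := by
  classical
  obtain ⟨F, hFb, hFsmul, hFrepr⟩ := exists_hom D' D ε
  have hFsurj : Function.Surjective F := by
    intro p
    have hp := D.b.mem_span p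
    induction hp using Submodule.span_induction with
    | mem p h => obtain ⟨e, rfl⟩ := h; exact ⟨D'.b e, hFb e⟩
    | zero => exact ⟨0, map_zero F⟩
    | add x y _ _ hx hy =>
      obtain ⟨x', rfl⟩ := hx
      obtain ⟨y', rfl⟩ := hy
      exact ⟨x' + y', map_add F x' y'⟩
    | smul r x _ hx =>
      obtain ⟨x', rfl⟩ := hx
      obtain ⟨r', rfl⟩ := hε r
      exact ⟨r' • x', hFsmul r' x'⟩
  have hmap : D.aug = D'.aug.map F := by
    unfold DPB.aug
    rw [Ideal.map_span]
    congr 1
    ext y
    constructor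
    · rintro ⟨i, n, hn, rfl⟩
      exact ⟨D'.b (single i n), ⟨i, n, hn, rfl⟩, hFb _⟩
    · rintro ⟨_, ⟨i, n, hn, rfl⟩, rfl⟩
      exact ⟨i, n, hn, hFb _⟩
  let Jp : Ideal P' := Ideal.map (algebraMap R' P') (RingHom.ker ε)
  have hJp : Jp ≤ RingHom.ker F := by
    rw [Ideal.map_le_iff_le_comap]
    intro r hr
    rw [RingHom.mem_ker] at hr
    rw [Ideal.mem_comap, RingHom.mem_ker, Algebra.algebraMap_eq_smul_one, hFsmul, hr, zero_smul]
  have hker : RingHom.ker F ⊓ D'.aug = D'.aug • Jp := by
    apply le_antisymm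
    · rintro y ⟨hy1, hy2⟩
      show y ∈ D'.aug * Jp
      rw [SetLike.mem_coe, RingHom.mem_ker] at hy1
      have h0 : D'.b.repr y 0 = 0 := D'.repr_zero_of_mem_aug hy2
      have hε0 : ∀ e, ε (D'.b.repr y e) = 0 := by
        intro e
        have h1 := hFrepr y
        rw [hy1, map_zero] at h1
        have h2 := DFunLike.congr_fun h1 e
        rw [Finsupp.mapRange_apply] at h2
        exact h2.symm
      rw [← D'.b.linearCombination_repr y, Finsupp.linearCombination_apply, Finsupp.sum]
      apply Ideal.sum_mem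
      intro e _
      by_cases he : e = 0
      · subst he
        rw [h0, zero_smul]
        exact zero_mem _
      · have hsm : (D'.b.repr y) e • D'.b e = D'.b e * algebraMap R' P' ((D'.b.repr y) e) := by
          rw [Algebra.smul_def, mul_comm]
        rw [hsm]
        exact Ideal.mul_mem_mul (D'.b_mem_aug he)
          (Ideal.mem_map_of_mem _ ((RingHom.mem_ker).mpr (hε0 e)))
    · show D'.aug * Jp ≤ _
      refine le_trans Ideal.mul_le_inf ?_
      rw [inf_comm]
      exact inf_le_inf_right _ hJp
  have hsub : γ'.IsSubDPIdeal (RingHom.ker F ⊓ D'.aug) := by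
    rw [hker]
    exact (DividedPowers.SubDPIdeal.prod (hI := γ') Jp).toIsSubDPIdeal
  let γ : DividedPowers D.aug :=
    DividedPowers.Quotient.OfSurjective.dividedPowers γ' hFsurj hmap hsub
  refine ⟨γ, fun i n => ?_⟩
  have h1 : γ.dpow n (F (D'.b (single i 1))) = F (γ'.dpow n (D'.b (single i 1))) :=
    DividedPowers.Quotient.OfSurjective.dpow_apply γ' hFsurj hmap hsub
      (D'.single_mem_aug i 1 le_rfl)
  rw [hFb, hγ', hFb] at h1
  exact h1

/-- Existence of the divided power structure on the augmentation ideal over any base ring. -/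
theorem exists_dp {R : Type u} {P : Type v} [CommRing R] [CommRing P] [Algebra R P]
    (D : DPB R N P) :
    ∃ γ : DividedPowers D.aug,
      ∀ (i : Fin N) (n : ℕ), γ.dpow n (D.b (single i 1)) = D.b (single i n) := by
  let R' := MvPolynomial R ℤ
  let K := FractionRing R'
  have hinj : Function.Injective (algebraMap R' K) := IsFractionRing.injective R' K
  haveI : CharZero K := charZero_of_injective_algebraMap hinj
  let D' := Model.dpb R' K N hinj
  obtain ⟨γ', hγ'⟩ := exists_dp_of_injective D' (Model.sub R' K N).val.toRingHom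
    Subtype.val_injective
  let ε : R' →+* R := MvPolynomial.eval₂Hom (Int.castRingHom R) id
  have hε : Function.Surjective ε := fun r => ⟨MvPolynomial.X r, MvPolynomial.eval₂Hom_X' _ _ r⟩
  exact descent D' D ε hε γ' hγ'

theorem exists_dp' {R : Type u} {P : Type v} [CommRing R] [CommRing P] [Algebra R P]
    (D : DPB R N P) (I : Ideal P) (hI : I = D.aug) :
    ∃ γ : DividedPowers I,
      ∀ (i : Fin N) (n : ℕ), γ.dpow n (D.b (single i 1)) = D.b (single i n) := by
  subst hI
  exact exists_dp D

/-- The statement of S18420. -/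
theorem exists_unique_dp (R : Type u) [CommRing R] (N : ℕ)
    (P : Type v) [CommRing P] [Algebra R P] (x : Fin N → ℕ → P)
    (hx0 : ∀ i, x i 0 = 1)
    (hxmul : ∀ i n m, x i n * x i m = ((n + m).choose n : P) * x i (n + m))
    (b : Module.Basis (Fin N →₀ ℕ) R P) (hb : ∀ e : Fin N →₀ ℕ, b e = e.prod (fun i k => x i k)) :
    ∃! γ : DividedPowers (Ideal.span {y : P | ∃ (i : Fin N) (n : ℕ), 1 ≤ n ∧ y = x i n}),
      ∀ (i : Fin N) (n : ℕ), γ.dpow n (x i 1) = x i n := by
  have hbprod : ∀ e, b e = ∏ i, x i (e i) := fun e => by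
    rw [hb, Finsupp.prod_fintype _ _ (fun i => hx0 i)]
  have hsingle : ∀ i n, b (single i n) = x i n := fun i n => by
    rw [hb, Finsupp.prod_single_index (hx0 i)]
  let D : DPB R N P :=
    { b := b
      b_zero := by rw [hb]; simp
      b_mul := by
        intro e e'
        rw [hbprod, hbprod, hbprod, ← Finset.prod_mul_distrib]
        unfold mc
        rw [Nat.cast_prod, ← Finset.prod_mul_distrib]
        apply Finset.prod_congr rfl
        intro i _
        rw [hxmul, Finsupp.add_apply] }
  have hI : Ideal.span {y : P | ∃ (i : Fin N) (n : ℕ), 1 ≤ n ∧ y = x i n} = D.aug := by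
    unfold DPB.aug
    congr 1
    ext y
    constructor
    · rintro ⟨i, n, hn, rfl⟩
      exact ⟨i, n, hn, (hsingle i n).symm⟩
    · rintro ⟨i, n, hn, rfl⟩
      exact ⟨i, n, hn, hsingle i n⟩
  obtain ⟨γ, hγ⟩ := exists_dp' D _ hI
  have hγ' : ∀ (i : Fin N) (n : ℕ), γ.dpow n (x i 1) = x i n := by
    intro i n
    have := hγ i n
    rwa [show D.b = b from rfl, hsingle, hsingle] at this
  refine ⟨γ, hγ', fun γ₂ h₂ => ?_⟩
  have hx1 : ∀ i, x i 1 ∈ Ideal.span {y : P | ∃ (i : Fin N) (n : ℕ), 1 ≤ n ∧ y = x i n} :=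
    fun i => Ideal.subset_span ⟨i, 1, le_rfl, rfl⟩
  apply DividedPowers.dpow_eq_from_gens γ γ₂ rfl
  intro n a ha
  obtain ⟨i, k, hk, rfl⟩ := ha
  have hk0 : k ≠ 0 := by omega
  rw [← hγ' i k, γ.dpow_comp hk0 (hx1 i), hγ' i, hγ' i k, ← h₂ i k, γ₂.dpow_comp hk0 (hx1 i),
    h₂ i]

end Groth.Agent.H81.DPPoly
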