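import Groth.Agent.H81.DPPoly

/-!
# A model of the divided power polynomial algebra over a ring embedding in a char-0 field

`Model.sub R' K N` is the `R'`-subalgebra of `K[X_1..X_N]` spanned by the `X^e / e!`, and
`Model.dpb` is its divided power basis.
-/

set_option autoImplicit false

open Finsupp Module

namespace Groth.Agent.H81.DPPoly

namespace Model

universe u

section

variable {N : ℕ}

/-- `e! = ∏ eᵢ!` -/
def fact (e : Fin N →₀ ℕ) : ℕ := ∏ i, (e i).factorial

theorem fact_pos (e : Fin N →₀ ℕ) : 0 < fact e :=
  Finset.prod_pos (fun i _ => Nat.factorial_pos _)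

theorem mc_pos (e e' : Fin N →₀ ℕ) : 0 < mc e e' :=
  Finset.prod_pos (fun i _ => Nat.choose_pos (Nat.le_add_right _ _))

theorem fact_add (e e' : Fin N →₀ ℕ) : fact (e + e') = mc e e' * fact e * fact e' := by
  unfold fact mc
  rw [← Finset.prod_mul_distrib, ← Finset.prod_mul_distrib]
  apply Finset.prod_congr rfl
  intro i _
  rw [Finsupp.add_apply]
  have := Nat.choose_mul_factorial_mul_factorial (Nat.le_add_right (e i) (e' i))
  rw [Nat.add_sub_cancel_left] at this
  exact this.symm

end

variable (R' : Type u) (K : Type u) [CommRing R'] [Field K] [CharZero K] [Algebra R' K] (N : ℕ)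

/-- `X^e / e!` -/
noncomputable def d (e : Fin N →₀ ℕ) : MvPolynomial (Fin N) K :=
  MvPolynomial.monomial e ((fact e : K)⁻¹)

theorem d_zero : d K N 0 = 1 := by
  unfold d fact
  simp

theorem d_mul (e e' : Fin N →₀ ℕ) :
    d K N e * d K N e' = (mc e e' : MvPolynomial (Fin N) K) * d K N (e + e') := by
  unfold d
  rw [MvPolynomial.monomial_mul, ← nsmul_eq_mul, ← map_nsmul, nsmul_eq_mul]
  congr 1
  rw [fact_add]
  push_cast
  have h1 : (fact e : K) ≠ 0 := Nat.cast_ne_zero.mpr (fact_pos e).ne'
  have h2 : (fact e' : K) ≠ 0 := Nat.cast_ne_zero.mpr (fact_pos e').ne'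
  have h3 : (mc e e' : K) ≠ 0 := Nat.cast_ne_zero.mpr (mc_pos e e').ne'
  field_simp

/-- the model subalgebra -/
noncomputable def sub : Subalgebra R' (MvPolynomial (Fin N) K) :=
  (Submodule.span R' (Set.range (d K N))).toSubalgebra
    (by rw [← d_zero K N]; exact Submodule.subset_span ⟨0, rfl⟩)
    (by
      intro x y hx hy
      induction hx using Submodule.span_induction with
      | mem x h =>
        obtain ⟨e, rfl⟩ := h
        induction hy using Submodule.span_induction with
        | mem y h' =>
          obtain ⟨e', rfl⟩ := h'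
          rw [d_mul, ← nsmul_eq_mul]
          exact nsmul_mem (Submodule.subset_span (Set.mem_range_self _)) _
        | zero => simp
        | add a b _ _ ha hb => rw [mul_add]; exact add_mem ha hb
        | smul r a _ ha => rw [mul_smul_comm]; exact Submodule.smul_mem _ _ ha
      | zero => simp
      | add a b _ _ ha hb => rw [add_mul]; exact add_mem ha hb
      | smul r a _ ha => rw [smul_mul_assoc]; exact Submodule.smul_mem _ _ ha)

theorem d_li (hinj : Function.Injective (algebraMap R' K)) : LinearIndependent R' (d K N) := by
  have h1 : LinearIndependent K (fun e : Fin N →₀ ℕ => MvPolynomial.monomial e (1 : K)) := by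
    have := (MvPolynomial.basisMonomials (Fin N) K).linearIndependent
    rwa [MvPolynomial.coe_basisMonomials] at this
  have h2 : LinearIndependent K (d K N) := by
    have := h1.units_smul (fun e => Units.mk0 ((fact e : K)⁻¹)
      (inv_ne_zero (Nat.cast_ne_zero.mpr (fact_pos e).ne')))
    convert this using 1
    funext e
    simp [d, Units.smul_def, MvPolynomial.smul_monomial]
  exact h2.restrict_scalars (by
    intro r s h
    simp only [Algebra.smul_def, mul_one] at h
    exact hinj h)

/-- the basis vectors as elements of the subalgebra -/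
noncomputable def vv (e : Fin N →₀ ℕ) : sub R' K N :=
  ⟨d K N e, Submodule.subset_span ⟨e, rfl⟩⟩

theorem mem_span_vv (q : MvPolynomial (Fin N) K)
    (hq : q ∈ Submodule.span R' (Set.range (d K N))) :
    (⟨q, hq⟩ : sub R' K N) ∈ Submodule.span R' (Set.range (vv R' K N)) := by
  induction hq using Submodule.span_induction with
  | mem q h => obtain ⟨e, rfl⟩ := h; exact Submodule.subset_span ⟨e, rfl⟩
  | zero => exact zero_mem _
  | add x y hx hy ihx ihy => exact add_mem ihx ihy
  | smul r x hx ihx => exact Submodule.smul_mem _ r ihx

/-- the basis of the model -/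
noncomputable def basis (hinj : Function.Injective (algebraMap R' K)) :
    Basis (Fin N →₀ ℕ) R' (sub R' K N) :=
  Basis.mk (v := vv R' K N)
    (by
      apply LinearIndependent.of_comp (sub R' K N).val.toLinearMap
      exact d_li R' K N hinj)
    (by
      rintro ⟨q, hq⟩ -
      exact mem_span_vv R' K N q hq)

theorem basis_coe (hinj : Function.Injective (algebraMap R' K)) (e : Fin N →₀ ℕ) :
    ((basis R' K N hinj e : sub R' K N) : MvPolynomial (Fin N) K) = d K N e := by
  rw [basis, Basis.mk_apply]
  rfl

/-- the model as a divided power basis -/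
noncomputable def dpb (hinj : Function.Injective (algebraMap R' K)) : DPB R' N (sub R' K N) where
  b := basis R' K N hinj
  b_zero := by
    apply Subtype.ext
    rw [basis_coe, d_zero]
    rfl
  b_mul := by
    intro e e'
    apply Subtype.ext
    rw [Subalgebra.coe_mul, Subalgebra.coe_mul, basis_coe, basis_coe, basis_coe]
    exact d_mul K N e e'

end Model

end Groth.Agent.H81.DPPoly
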