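import Mathlib.RingTheory.DividedPowers.Padic
import Mathlib.RingTheory.DividedPowers.RatAlgebra
import Mathlib.RingTheory.DividedPowers.SubDPIdeal
import Mathlib.RingTheory.DividedPowers.DPMorphism
import Mathlib.LinearAlgebra.Basis.Basic
import Mathlib.RingTheory.MvPolynomial.Basic
import Mathlib.RingTheory.Localization.FractionRing
import Mathlib.Tactic

/-!
# Divided power polynomial algebras given by a "divided power basis"

`DPB R N P` : an `R`-basis `b` of `P` indexed by exponent vectors with `b 0 = 1` and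
`b e * b e' = (∏ᵢ C(eᵢ+e'ᵢ, eᵢ)) * b (e+e')`.  We prove that the augmentation ideal carries a
divided power structure with `γ_n (b (single i 1)) = b (single i n)` as soon as `P` embeds in a
`ℚ`-algebra (`exists_dp_of_injective`), and that such structures descend along surjections of
base rings (`descent`).
-/

set_option autoImplicit false

open Finsupp Module

namespace Groth.Agent.H81.DPPoly

variable {N : ℕ}

/-- product of binomial coefficients -/
def mc (e e' : Fin N →₀ ℕ) : ℕ := ∏ i, (e i + e' i).choose (e i)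

theorem mc_single (i : Fin N) (p q : ℕ) : mc (single i p) (single i q) = (p + q).choose p := by
  unfold mc
  rw [Finset.prod_eq_single i]
  · simp
  · intro j _ hj
    simp [Finsupp.single_apply, Ne.symm hj]
  · intro h
    exact absurd (Finset.mem_univ i) h

theorem mc_single_erase (e : Fin N →₀ ℕ) (i : Fin N) : mc (single i (e i)) (e.erase i) = 1 := by
  unfold mc
  apply Finset.prod_eq_one
  intro j _
  by_cases hj : j = i
  · subst hj
    simp
  · simp [Finsupp.single_apply, Ne.symm hj]

/-- `b (single i k) ^ n = cc k n * b (single i (n*k))` -/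
def cc (k : ℕ) : ℕ → ℕ
  | 0 => 1
  | n + 1 => cc k n * (k + n * k).choose k

theorem cc_eq (k n : ℕ) (hk : k ≠ 0) : cc k n = n.factorial * Nat.uniformBell n k := by
  obtain ⟨k', rfl⟩ := Nat.exists_eq_succ_of_ne_zero hk
  induction n with
  | zero => simp [cc, Nat.uniformBell_zero_left]
  | succ n ih =>
    have hcc : cc (k' + 1) (n + 1) = cc (k' + 1) n * ((k' + 1) + n * (k' + 1)).choose (k' + 1) := rfl
    rw [hcc, ih, Nat.uniformBell_succ_left, Nat.factorial_succ]
    have h1 : n * (k' + 1) + (k' + 1) - 1 = n * (k' + 1) + k' := by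
      generalize n * (k' + 1) = m
      omega
    have h2 : (k' + 1) + n * (k' + 1) = (n * (k' + 1) + k') + 1 := by ring
    rw [h1, h2, Nat.succ_sub_one]
    have h3 := Nat.add_one_mul_choose_eq (n * (k' + 1) + k') k'
    have h4 : n * (k' + 1) + k' + 1 = (n + 1) * (k' + 1) := by ring
    rw [h4] at h3
    have h5 : ((n + 1) * (k' + 1)).choose (k' + 1) = (n + 1) * (n * (k' + 1) + k').choose k' := by
      apply Nat.eq_of_mul_eq_mul_right (show 0 < k' + 1 by omega)
      rw [← h3]; ring
    have h6 : n * (k' + 1) + k' + 1 = (n + 1) * (k' + 1) := by ring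
    rw [h6, h5]
    ring

/-- A divided power basis. -/
structure DPB (R : Type*) [CommRing R] (N : ℕ) (P : Type*) [CommRing P] [Algebra R P] where
  b : Basis (Fin N →₀ ℕ) R P
  b_zero : b 0 = 1
  b_mul : ∀ e e', b e * b e' = (mc e e' : P) * b (e + e')

namespace DPB

variable {R : Type*} {P : Type*} [CommRing R] [CommRing P] [Algebra R P] (D : DPB R N P)

/-- the augmentation ideal -/
def aug : Ideal P := Ideal.span {y : P | ∃ (i : Fin N) (n : ℕ), 1 ≤ n ∧ y = D.b (single i n)}

theorem single_mem_aug (i : Fin N) (n : ℕ) (hn : 1 ≤ n) : D.b (single i n) ∈ D.aug :=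
  Ideal.subset_span ⟨i, n, hn, rfl⟩

theorem b_mem_aug {e : Fin N →₀ ℕ} (he : e ≠ 0) : D.b e ∈ D.aug := by
  obtain ⟨i, hi⟩ : ∃ i, e i ≠ 0 := by
    by_contra h
    push_neg at h
    exact he (Finsupp.ext h)
  have h1 := D.b_mul (single i (e i)) (e.erase i)
  rw [mc_single_erase, Nat.cast_one, one_mul, Finsupp.single_add_erase] at h1
  rw [← h1]
  exact Ideal.mul_mem_right _ _ (D.single_mem_aug i (e i) (Nat.one_le_iff_ne_zero.mpr hi))

theorem pow_single (i : Fin N) (k n : ℕ) :
    D.b (single i k) ^ n = (cc k n : P) * D.b (single i (n * k)) := by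
  induction n with
  | zero => simp [cc, D.b_zero]
  | succ n ih =>
    have hcc : cc k (n + 1) = cc k n * (k + n * k).choose k := rfl
    have h1 : (n + 1) * k = k + n * k := by ring
    rw [pow_succ', ih, hcc, h1]
    have h2 := D.b_mul (single i k) (single i (n * k))
    rw [mc_single, ← Finsupp.single_add] at h2
    calc D.b (single i k) * ((cc k n : P) * D.b (single i (n * k)))
        = (cc k n : P) * (D.b (single i k) * D.b (single i (n * k))) := by ring
      _ = _ := by rw [h2]; push_cast; ring

/-- the `R`-span of the nonconstant basis vectors -/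
def W : Submodule R P := Submodule.span R (D.b '' {e | e ≠ 0})

theorem W_mul (a : P) {w : P} (hw : w ∈ D.W) : a * w ∈ D.W := by
  induction hw using Submodule.span_induction with
  | mem w h =>
    obtain ⟨e, he, rfl⟩ := h
    have ha := D.b.mem_span a
    induction ha using Submodule.span_induction with
    | mem a h' =>
      obtain ⟨e', rfl⟩ := h'
      rw [D.b_mul, ← nsmul_eq_mul]
      apply Submodule.smul_of_tower_mem
      apply Submodule.subset_span
      refine ⟨e' + e, ?_, rfl⟩
      intro h0
      apply he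
      ext j
      have := DFunLike.congr_fun h0 j
      simp only [Finsupp.add_apply, Finsupp.zero_apply, Nat.add_eq_zero_iff] at this
      simpa using this.2
    | zero => simp
    | add x y _ _ hx hy => rw [add_mul]; exact add_mem hx hy
    | smul r x _ hx => rw [smul_mul_assoc]; exact Submodule.smul_mem _ _ hx
  | zero => simp
  | add x y _ _ hx hy => rw [mul_add]; exact add_mem hx hy
  | smul r x _ hx => rw [mul_smul_comm]; exact Submodule.smul_mem _ _ hx

theorem aug_le_W {y : P} (hy : y ∈ D.aug) : y ∈ D.W := by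
  unfold aug at hy
  induction hy using Submodule.span_induction with
  | mem y h =>
    obtain ⟨i, n, hn, rfl⟩ := h
    apply Submodule.subset_span
    refine ⟨single i n, ?_, rfl⟩
    intro h0
    have := DFunLike.congr_fun h0 i
    simp at this
    omega
  | zero => exact zero_mem _
  | add x y _ _ hx hy => exact add_mem hx hy
  | smul a x _ hx => rw [smul_eq_mul]; exact D.W_mul a hx

theorem repr_zero_of_mem_W {y : P} (hy : y ∈ D.W) : D.b.repr y 0 = 0 := by
  induction hy using Submodule.span_induction with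
  | mem y h =>
    obtain ⟨e, he, rfl⟩ := h
    rw [Basis.repr_self, Finsupp.single_apply, if_neg he]
  | zero => simp
  | add x y _ _ hx hy => rw [map_add, Finsupp.add_apply, hx, hy, add_zero]
  | smul r x _ hx => rw [map_smul, Finsupp.smul_apply, hx, smul_zero]

theorem repr_zero_of_mem_aug {y : P} (hy : y ∈ D.aug) : D.b.repr y 0 = 0 :=
  D.repr_zero_of_mem_W (D.aug_le_W hy)

end DPB

/-- The basis-matching map between two divided power algebras along a ring hom of base rings is a
ring hom. -/
theorem exists_hom {R₁ : Type*} {R₂ : Type*} {P₁ : Type*} {P₂ : Type*} [CommRing R₁] [CommRing R₂]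
    [CommRing P₁] [CommRing P₂] [Algebra R₁ P₁] [Algebra R₂ P₂] (D₁ : DPB R₁ N P₁)
    (D₂ : DPB R₂ N P₂) (g : R₁ →+* R₂) :
    ∃ G : P₁ →+* P₂, (∀ e, G (D₁.b e) = D₂.b e) ∧ (∀ (r : R₁) (y : P₁), G (r • y) = g r • G y) ∧
      (∀ y, D₂.b.repr (G y) = Finsupp.mapRange g g.map_zero (D₁.b.repr y)) := by
  classical
  let G₀ : P₁ →+ P₂ :=
    (D₂.b.repr.symm.toLinearMap.toAddMonoidHom).comp
      ((Finsupp.mapRange.addMonoidHom g.toAddMonoidHom).comp
        D₁.b.repr.toLinearMap.toAddMonoidHom)
  have hG₀ : ∀ y, G₀ y = D₂.b.repr.symm (Finsupp.mapRange g g.map_zero (D₁.b.repr y)) :=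
    fun y => rfl
  have hb : ∀ e, G₀ (D₁.b e) = D₂.b e := by
    intro e
    rw [hG₀, Basis.repr_self, Finsupp.mapRange_single, map_one, Basis.repr_symm_single_one]
  have hmr : ∀ (r : R₁) (f : (Fin N →₀ ℕ) →₀ R₁),
      Finsupp.mapRange g g.map_zero (r • f) = g r • Finsupp.mapRange g g.map_zero f := by
    intro r f
    ext e
    simp [Finsupp.mapRange_apply]
  have hsmul : ∀ (r : R₁) (y : P₁), G₀ (r • y) = g r • G₀ y := by
    intro r y
    rw [hG₀, hG₀, map_smul, hmr, map_smul]
  have hrepr : ∀ y, D₂.b.repr (G₀ y) = Finsupp.mapRange g g.map_zero (D₁.b.repr y) := by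
    intro y
    rw [hG₀, LinearEquiv.apply_symm_apply]
  have hone : G₀ 1 = 1 := by rw [← D₁.b_zero, hb, D₂.b_zero]
  have hbb : ∀ e e', G₀ (D₁.b e * D₁.b e') = D₂.b e * D₂.b e' := by
    intro e e'
    rw [D₁.b_mul, D₂.b_mul, ← nsmul_eq_mul, map_nsmul, hb, nsmul_eq_mul]
  have hmul1 : ∀ (p : P₁) e', G₀ (p * D₁.b e') = G₀ p * D₂.b e' := by
    intro p e'
    have hp := D₁.b.mem_span p
    induction hp using Submodule.span_induction with
    | mem p h => obtain ⟨e, rfl⟩ := h; rw [hbb, hb]
    | zero => simp
    | add x y _ _ hx hy => rw [add_mul, map_add, map_add, add_mul, hx, hy]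
    | smul r x _ hx => rw [smul_mul_assoc, hsmul, hsmul, hx, smul_mul_assoc]
  have hmul : ∀ p q : P₁, G₀ (p * q) = G₀ p * G₀ q := by
    intro p q
    have hq := D₁.b.mem_span q
    induction hq using Submodule.span_induction with
    | mem q h => obtain ⟨e, rfl⟩ := h; rw [hmul1, hb]
    | zero => simp
    | add x y _ _ hx hy => rw [mul_add, map_add, map_add, mul_add, hx, hy]
    | smul r x _ hx => rw [mul_smul_comm, hsmul, hsmul, hx, mul_smul_comm]
  refine ⟨{ toFun := G₀, map_one' := hone, map_mul' := hmul, map_zero' := map_zero G₀,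
            map_add' := map_add G₀ }, hb, hsmul, hrepr⟩

/-- If `P` embeds in a `ℚ`-algebra then the augmentation ideal has the expected divided powers. -/
theorem exists_dp_of_injective {R : Type*} {P : Type*} [CommRing R] [CommRing P] [Algebra R P]
    (D : DPB R N P) {Q : Type*} [CommRing Q] [Algebra ℚ Q]
    (φ : P →+* Q) (hφ : Function.Injective φ) :
    ∃ γ : DividedPowers D.aug,
      ∀ (i : Fin N) (n : ℕ), γ.dpow n (D.b (single i 1)) = D.b (single i n) := by
  classical
  let J : Ideal Q := D.aug.map φ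
  let hJ : DividedPowers J := DividedPowers.RatAlgebra.dividedPowers J
  have hunit : ∀ n : ℕ, IsUnit ((n.factorial : ℕ) : Q) :=
    fun n => IsUnit.natCast_factorial_of_algebra ℚ n
  have hmemJ : ∀ {x}, x ∈ D.aug → φ x ∈ J := fun hx => Ideal.mem_map_of_mem φ hx
  have key : ∀ x ∈ D.aug, ∀ n : ℕ, ∃ y : P, (n ≠ 0 → y ∈ D.aug) ∧ φ y = hJ.dpow n (φ x) := by
    intro x hx
    unfold DPB.aug at hx
    induction hx using Submodule.span_induction with
    | mem x h =>
      obtain ⟨i, k, hk, rfl⟩ := h
      intro n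
      refine ⟨(Nat.uniformBell n k : P) * D.b (single i (n * k)), fun hn => ?_, ?_⟩
      · exact Ideal.mul_mem_left _ _ (D.single_mem_aug i (n * k)
          (Nat.one_le_iff_ne_zero.mpr (Nat.mul_ne_zero hn (by omega))))
      · apply (hunit n).mul_left_cancel
        rw [hJ.factorial_mul_dpow_eq_pow (hmemJ (D.single_mem_aug i k hk)), ← map_pow,
          D.pow_single, cc_eq k n (by omega)]
        simp only [map_mul, map_natCast, Nat.cast_mul, mul_assoc]
    | zero =>
      intro n
      by_cases hn : n = 0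
      · subst hn
        refine ⟨1, fun h => absurd rfl h, ?_⟩
        rw [map_one, map_zero, hJ.dpow_zero (zero_mem _)]
      · refine ⟨0, fun _ => zero_mem _, ?_⟩
        rw [map_zero, hJ.dpow_eval_zero hn]
    | add x y hx hy ihx ihy =>
      intro n
      have hx' : x ∈ D.aug := hx
      have hy' : y ∈ D.aug := hy
      choose fx hfx1 hfx2 using ihx
      choose fy hfy1 hfy2 using ihy
      refine ⟨∑ k ∈ Finset.HasAntidiagonal.antidiagonal n, fx k.1 * fy k.2, fun hn => ?_, ?_⟩
      · apply Ideal.sum_mem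
        intro k hk
        rw [Finset.HasAntidiagonal.mem_antidiagonal] at hk
        by_cases hk1 : k.1 = 0
        · have hk2 : k.2 ≠ 0 := by omega
          exact Ideal.mul_mem_left _ _ (hfy1 k.2 hk2)
        · exact Ideal.mul_mem_right _ _ (hfx1 k.1 hk1)
      · rw [map_add, hJ.dpow_add (hmemJ hx') (hmemJ hy'), map_sum]
        apply Finset.sum_congr rfl
        intro k _
        rw [map_mul, hfx2, hfy2]
    | smul a x hx ihx =>
      intro n
      have hx' : x ∈ D.aug := hx
      obtain ⟨y, hy1, hy2⟩ := ihx n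
      refine ⟨a ^ n * y, fun hn => Ideal.mul_mem_left _ _ (hy1 hn), ?_⟩
      rw [smul_eq_mul, map_mul φ a x, hJ.dpow_mul (hmemJ hx'), map_mul, map_pow, hy2]
  let γ : DividedPowers D.aug := DividedPowers.ofInjective D.aug J φ hφ hJ rfl
    (fun n x hx => by
      obtain ⟨y, h1, h2⟩ := key x hx n
      exact ⟨y, h1, h2⟩)
  refine ⟨γ, fun i n => ?_⟩
  have hg : D.b (single i 1) ∈ D.aug := D.single_mem_aug i 1 le_rfl
  have h1 := γ.factorial_mul_dpow_eq_pow (n := n) hg
  rw [D.pow_single, cc_eq 1 n one_ne_zero, Nat.uniformBell_one_right, mul_one, mul_one] at h1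
  apply hφ
  apply (hunit n).mul_left_cancel
  rw [← map_natCast φ, ← map_mul, ← map_mul, h1]

end Groth.Agent.H81.DPPoly
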