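import Groth.Agent.H81.DPMain

/-!
# Transfer of divided power identities from the universal divided power polynomial algebra

* `exists_ringHom` : ring homs out of a divided-power-basis algebra (`X_i^[n] ↦ t i n`);
* `transfer` : such a hom intertwines the divided powers with any family `d` that is additive,
  homogeneous, and correct on the generators;
* `dp_of_generators` (= S2192): a family `d` satisfying the dp axioms with product and composition
  rules only on generators of the ideal is a divided power structure.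
-/

set_option autoImplicit false

open Finsupp Module

namespace Groth.Agent.H81.DPPoly

variable {N : ℕ}

/-- weak universal property: ring homs out of a `DPB` algebra -/
theorem exists_ringHom {R : Type*} {P : Type*} {A : Type*} [CommRing R] [CommRing P] [CommRing A]
    [Algebra R P] (D : DPB R N P) (g : R →+* A) (t : Fin N → ℕ → A) (ht0 : ∀ i, t i 0 = 1)
    (htmul : ∀ i m n, t i m * t i n = ((m + n).choose m : A) * t i (m + n)) :
    ∃ Φ : P →+* A, (∀ (r : R) (y : P), Φ (r • y) = g r * Φ y) ∧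
      (∀ e, Φ (D.b e) = ∏ i, t i (e i)) := by
  classical
  let T : (Fin N →₀ ℕ) → A := fun e => ∏ i, t i (e i)
  have hT0 : T 0 = 1 := by simp [T, ht0]
  have hTmul : ∀ e e', T e * T e' = (mc e e' : A) * T (e + e') := by
    intro e e'
    simp only [T]
    rw [← Finset.prod_mul_distrib]
    unfold mc
    rw [Nat.cast_prod, ← Finset.prod_mul_distrib]
    apply Finset.prod_congr rfl
    intro i _
    rw [htmul, Finsupp.add_apply]
  let Φ₀ : P →+ A :=
    (Finsupp.liftAddHom (fun e => (AddMonoidHom.mulRight (T e)).comp g.toAddMonoidHom)).comp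
      D.b.repr.toLinearMap.toAddMonoidHom
  have hΦ₀ : ∀ y, Φ₀ y = (D.b.repr y).sum (fun e r => g r * T e) := fun y => rfl
  have hb : ∀ e, Φ₀ (D.b e) = T e := by
    intro e
    rw [hΦ₀, Basis.repr_self, Finsupp.sum_single_index (by simp), map_one, one_mul]
  have hsmul : ∀ (r : R) (y : P), Φ₀ (r • y) = g r * Φ₀ y := by
    intro r y
    rw [hΦ₀, hΦ₀, map_smul, Finsupp.sum_smul_index (by intro i; simp), Finsupp.mul_sum]
    apply Finsupp.sum_congr
    intro e _
    rw [map_mul, mul_assoc]
  have hone : Φ₀ 1 = 1 := by rw [← D.b_zero, hb, hT0]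
  have hbb : ∀ e e', Φ₀ (D.b e * D.b e') = T e * T e' := by
    intro e e'
    rw [D.b_mul, hTmul, ← nsmul_eq_mul, map_nsmul, hb, nsmul_eq_mul]
  have hmul1 : ∀ (p : P) e', Φ₀ (p * D.b e') = Φ₀ p * T e' := by
    intro p e'
    have hp := D.b.mem_span p
    induction hp using Submodule.span_induction with
    | mem p h => obtain ⟨e, rfl⟩ := h; rw [hbb, hb]
    | zero => simp
    | add x y _ _ hx hy => rw [add_mul, map_add, map_add, add_mul, hx, hy]
    | smul r x _ hx => rw [smul_mul_assoc, hsmul, hsmul, hx, mul_assoc]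
  have hmul : ∀ p q : P, Φ₀ (p * q) = Φ₀ p * Φ₀ q := by
    intro p q
    have hq := D.b.mem_span q
    induction hq using Submodule.span_induction with
    | mem q h => obtain ⟨e, rfl⟩ := h; rw [hmul1, hb]
    | zero => simp
    | add x y _ _ hx hy => rw [mul_add, map_add, map_add, mul_add, hx, hy]
    | smul r x _ hx => rw [mul_smul_comm, hsmul, hsmul, hx, mul_left_comm]
  exact ⟨{ toFun := Φ₀, map_one' := hone, map_mul' := hmul, map_zero' := map_zero Φ₀,
           map_add' := map_add Φ₀ }, hsmul, hb⟩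

/-- every element of `Ideal.span S` is a finite combination of elements of `S` -/
theorem exists_rep {A : Type*} [CommRing A] (S : Set A) {x : A} (hx : x ∈ Ideal.span S) :
    ∃ (N : ℕ) (s a : Fin N → A), (∀ j, s j ∈ S) ∧ x = ∑ j, a j * s j := by
  induction hx using Submodule.span_induction with
  | mem x h => exact ⟨1, fun _ => x, fun _ => 1, fun _ => h, by simp⟩
  | zero => exact ⟨0, Fin.elim0, Fin.elim0, fun j => j.elim0, by simp⟩
  | add x y _ _ hx hy =>
    obtain ⟨N₁, s₁, a₁, hs₁, rfl⟩ := hx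
    obtain ⟨N₂, s₂, a₂, hs₂, rfl⟩ := hy
    refine ⟨N₁ + N₂, Fin.append s₁ s₂, Fin.append a₁ a₂, ?_, ?_⟩
    · intro j
      refine Fin.addCases (fun i => ?_) (fun i => ?_) j
      · rw [Fin.append_left]; exact hs₁ i
      · rw [Fin.append_right]; exact hs₂ i
    · rw [Fin.sum_univ_add]
      simp only [Fin.append_left, Fin.append_right]
  | smul c x _ hx =>
    obtain ⟨N₁, s₁, a₁, hs₁, rfl⟩ := hx
    refine ⟨N₁, s₁, fun j => c * a₁ j, hs₁, ?_⟩
    rw [smul_eq_mul, Finset.mul_sum]
    apply Finset.sum_congr rfl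
    intro j _
    rw [mul_assoc]

/-- transfer of divided powers along a ring hom out of a `DPB` algebra -/
theorem transfer {R : Type*} {P : Type*} {A : Type*} [CommRing R] [CommRing P] [CommRing A]
    [Algebra R P] (D : DPB R N P) (γ : DividedPowers D.aug)
    (hγ : ∀ (i : Fin N) (n : ℕ), γ.dpow n (D.b (single i 1)) = D.b (single i n))
    (Φ : P →+* A) (I : Ideal A) (d : ℕ → A → A)
    (h_zero : ∀ x ∈ I, d 0 x = 1)
    (h_add : ∀ (n : ℕ) (x y : A), x ∈ I → y ∈ I →
      d n (x + y) = (Finset.HasAntidiagonal.antidiagonal n).sum fun k => d k.1 x * d k.2 y)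
    (h_mul : ∀ (n : ℕ) (a x : A), x ∈ I → d n (a * x) = a ^ n * d n x)
    (hgen : ∀ (i : Fin N) (k : ℕ), 1 ≤ k → Φ (D.b (single i k)) ∈ I ∧
      ∀ n, d n (Φ (D.b (single i k))) = (Nat.uniformBell n k : A) * Φ (D.b (single i (n * k)))) :
    ∀ y ∈ D.aug, Φ y ∈ I ∧ ∀ n, Φ (γ.dpow n y) = d n (Φ y) := by
  intro y hy
  have hy0 := hy
  unfold DPB.aug at hy
  induction hy using Submodule.span_induction with
  | mem y h =>
    obtain ⟨i, k, hk, rfl⟩ := h
    refine ⟨(hgen i k hk).1, fun n => ?_⟩
    rw [(hgen i k hk).2 n, ← hγ i k, γ.dpow_comp (by omega) (D.single_mem_aug i 1 le_rfl), hγ,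
      map_mul, map_natCast]
  | zero =>
    refine ⟨by rw [map_zero]; exact zero_mem _, fun n => ?_⟩
    by_cases hn : n = 0
    · subst hn
      rw [γ.dpow_zero (zero_mem _), map_one, map_zero, h_zero 0 (zero_mem _)]
    · rw [γ.dpow_eval_zero hn, map_zero]
      have := h_mul n 0 0 (zero_mem _)
      rw [zero_mul, zero_pow hn, zero_mul] at this
      exact this.symm
  | add x y hx hy ihx ihy =>
    have hx' : x ∈ D.aug := hx
    have hy' : y ∈ D.aug := hy
    obtain ⟨hx1, hx2⟩ := ihx hx'
    obtain ⟨hy1, hy2⟩ := ihy hy'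
    refine ⟨by rw [map_add]; exact add_mem hx1 hy1, fun n => ?_⟩
    rw [γ.dpow_add hx' hy', map_sum, map_add, h_add n _ _ hx1 hy1]
    apply Finset.sum_congr rfl
    intro k _
    rw [map_mul, hx2, hy2]
  | smul a x hx ihx =>
    have hx' : x ∈ D.aug := hx
    obtain ⟨hx1, hx2⟩ := ihx hx'
    refine ⟨by rw [smul_eq_mul, map_mul]; exact Ideal.mul_mem_left _ _ hx1, fun n => ?_⟩
    rw [smul_eq_mul, γ.dpow_mul hx', map_mul, map_pow, hx2, map_mul, h_mul n _ _ hx1]

/-- S2192: divided powers from generators. -/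
theorem dp_of_generators {A : Type*} [CommRing A] (I : Ideal A) (S : Set A)
    (hS : Ideal.span S = I) (d : ℕ → A → A) (h_null : ∀ (n : ℕ) (x : A), x ∉ I → d n x = 0)
    (h_zero : ∀ x ∈ I, d 0 x = 1) (h_one : ∀ x ∈ I, d 1 x = x)
    (h_mem : ∀ (n : ℕ) (x : A), n ≠ 0 → x ∈ I → d n x ∈ I)
    (h_add : ∀ (n : ℕ) (x y : A), x ∈ I → y ∈ I →
      d n (x + y) = (Finset.HasAntidiagonal.antidiagonal n).sum fun k => d k.1 x * d k.2 y)
    (h_mul : ∀ (n : ℕ) (a x : A), x ∈ I → d n (a * x) = a ^ n * d n x)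
    (h_mul_dpow : ∀ (m n : ℕ) (x : A), x ∈ S → d m x * d n x = (m + n).choose m * d (m + n) x)
    (h_comp : ∀ (m n : ℕ) (x : A), n ≠ 0 → x ∈ S →
      d m (d n x) = Nat.uniformBell m n * d (m * n) x) :
    ∃ γ : DividedPowers I, γ.dpow = d := by
  have hSI : ∀ s ∈ S, s ∈ I := fun s hs => hS ▸ Ideal.subset_span hs
  -- the key: every element of `I` is the image of an element of a universal dp algebra
  have key : ∀ x ∈ I, ∃ (Γ : Type) (_ : CommRing Γ) (J : Ideal Γ) (γΓ : DividedPowers J)
      (Φ : Γ →+* A) (f : Γ), f ∈ J ∧ Φ f = x ∧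
      ∀ y ∈ J, Φ y ∈ I ∧ ∀ n, Φ (γΓ.dpow n y) = d n (Φ y) := by
    intro x hx
    rw [← hS] at hx
    obtain ⟨N, s, a, hs, rfl⟩ := exists_rep S hx
    let R₀ := MvPolynomial (Fin N) ℤ
    let K := FractionRing R₀
    have hinj : Function.Injective (algebraMap R₀ K) := IsFractionRing.injective R₀ K
    haveI : CharZero K := charZero_of_injective_algebraMap hinj
    let D := Model.dpb R₀ K N hinj
    obtain ⟨γΓ, hγΓ⟩ := exists_dp_of_injective D (Model.sub R₀ K N).val.toRingHom
      Subtype.val_injective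
    let g : R₀ →+* A := MvPolynomial.eval₂Hom (Int.castRingHom A) a
    obtain ⟨Φ, hΦsmul, hΦb⟩ := exists_ringHom D g (fun j n => d n (s j))
      (fun j => h_zero _ (hSI _ (hs j))) (fun j m n => h_mul_dpow m n _ (hs j))
    have hΦsingle : ∀ (i : Fin N) (k : ℕ), Φ (D.b (single i k)) = d k (s i) := by
      intro i k
      rw [hΦb, Finset.prod_eq_single i]
      · rw [Finsupp.single_eq_same]
      · intro j _ hj
        rw [Finsupp.single_apply, if_neg (Ne.symm hj)]
        exact h_zero _ (hSI _ (hs j))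
      · intro h; exact absurd (Finset.mem_univ i) h
    have htr := transfer D γΓ hγΓ Φ I d h_zero h_add h_mul (by
      intro i k hk
      rw [hΦsingle]
      refine ⟨h_mem k _ (by omega) (hSI _ (hs i)), fun n => ?_⟩
      rw [hΦsingle, h_comp n k _ (by omega) (hs i)])
    refine ⟨Model.sub R₀ K N, inferInstance, D.aug, γΓ, Φ,
      ∑ j, (MvPolynomial.X j : R₀) • D.b (single j 1), ?_, ?_, htr⟩
    · apply Ideal.sum_mem
      intro j _
      rw [Algebra.smul_def]
      exact Ideal.mul_mem_left _ _ (D.single_mem_aug j 1 le_rfl)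
    · rw [map_sum]
      apply Finset.sum_congr rfl
      intro j _
      rw [hΦsmul, hΦsingle, h_one _ (hSI _ (hs j))]
      have hg : g (MvPolynomial.X j) = a j := MvPolynomial.eval₂Hom_X' _ _ j
      rw [hg]
  refine ⟨{ dpow := d
            dpow_null := fun {n x} hx => h_null n x hx
            dpow_zero := fun {x} hx => h_zero x hx
            dpow_one := fun {x} hx => h_one x hx
            dpow_mem := fun {n x} hn hx => h_mem n x hn hx
            dpow_add := fun {n x y} hx hy => h_add n x y hx hy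
            dpow_mul := fun {n a x} hx => h_mul n a x hx
            mul_dpow := ?_
            dpow_comp := ?_ }, rfl⟩
  · intro m n x hx
    obtain ⟨Γ, _, J, γΓ, Φ, f, hf, rfl, htr⟩ := key x hx
    rw [← (htr f hf).2 m, ← (htr f hf).2 n, ← (htr f hf).2 (m + n), ← map_mul, γΓ.mul_dpow hf,
      map_mul, map_natCast]
  · intro m n x hn hx
    obtain ⟨Γ, _, J, γΓ, Φ, f, hf, rfl, htr⟩ := key x hx
    rw [← (htr f hf).2 n, ← (htr _ (γΓ.dpow_mem hn hf)).2 m, γΓ.dpow_comp hn hf, map_mul,
      map_natCast, (htr f hf).2 (m * n)]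

end Groth.Agent.H81.DPPoly
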