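import Groth.Agent.H81.DPExt
import Mathlib.RingTheory.TensorProduct.Free

/-!
# The divided power polynomial algebra over a divided power ring and its universal property (S2213)
-/

set_option autoImplicit false

open Finsupp Module TensorProduct

namespace Groth.Agent.H81.DPPoly

universe u

theorem mc_single_of_eq_zero {N : ℕ} (a : Fin N) (n : ℕ) (f : Fin N →₀ ℕ) (hf : f a = 0) :
    mc (single a n) f = 1 := by
  unfold mc
  apply Finset.prod_eq_one
  intro j _
  by_cases hj : j = a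
  · subst hj
    simp [hf]
  · simp [Finsupp.single_apply, Ne.symm hj]

theorem DPB.b_eq_prod {R : Type*} {P : Type*} [CommRing R] [CommRing P] [Algebra R P] {N : ℕ}
    (D : DPB R N P) (e : Fin N →₀ ℕ) : D.b e = e.prod (fun i k => D.b (single i k)) := by
  classical
  have hg0 : ∀ i : Fin N, D.b (single i 0) = 1 := fun i => by rw [Finsupp.single_zero, D.b_zero]
  induction e using Finsupp.induction with
  | zero => rw [Finsupp.prod_zero_index, D.b_zero]
  | single_add a n f haf hn ih =>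
    have hfa : f a = 0 := Finsupp.notMem_support_iff.mp haf
    have hdisj : Disjoint (single a n).support f.support := by
      rw [Finsupp.support_single_ne_zero a hn]
      exact Finset.disjoint_singleton_left.mpr haf
    rw [Finsupp.prod_add_index_of_disjoint hdisj, Finsupp.prod_single_index (hg0 a), ← ih]
    have h1 := D.b_mul (single a n) f
    rw [mc_single_of_eq_zero a n f hfa, Nat.cast_one, one_mul] at h1
    exact h1.symm

theorem hinjZ : Function.Injective (algebraMap ℤ ℚ) := (algebraMap ℤ ℚ).injective_int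

/-- the `ℤ`-model -/
noncomputable def DZ (N : ℕ) : DPB ℤ N (Model.sub ℤ ℚ N) := Model.dpb ℤ ℚ N hinjZ

/-- the model over an arbitrary ring, by base change from `ℤ` -/
noncomputable def baseDPB (A : Type u) [CommRing A] (N : ℕ) :
    DPB A N (A ⊗[ℤ] (Model.sub ℤ ℚ N)) where
  b := Algebra.TensorProduct.basis A (DZ N).b
  b_zero := by
    rw [Algebra.TensorProduct.basis_apply, (DZ N).b_zero]
    rfl
  b_mul := by
    intro e e'
    rw [Algebra.TensorProduct.basis_apply, Algebra.TensorProduct.basis_apply,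
      Algebra.TensorProduct.basis_apply, Algebra.TensorProduct.tmul_mul_tmul, one_mul,
      (DZ N).b_mul, ← nsmul_eq_mul, ← nsmul_eq_mul]
    exact map_nsmul (TensorProduct.mk ℤ A (Model.sub ℤ ℚ N) 1) _ _

/-- S2213 -/
theorem exists_universal_dp {A : Type u} [CommRing A] {I : Ideal A} (γ : DividedPowers I) (t : ℕ) :
    ∃ (D : Type u) (_ : CommRing D) (_ : Algebra A D) (J : Ideal D) (δ : DividedPowers J)
      (x : Fin t → D), (∀ i, x i ∈ J) ∧ γ.IsDPMorphism δ (algebraMap A D) ∧
      ∀ (C : Type u) [CommRing C] [Algebra A C] (K : Ideal C) (ε : DividedPowers K),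
        γ.IsDPMorphism ε (algebraMap A C) → ∀ k : Fin t → C, (∀ i, k i ∈ K) →
          ∃! φ : D →ₐ[A] C, (∀ i, φ (x i) = k i) ∧ δ.IsDPMorphism ε φ.toRingHom := by
  classical
  let D' := baseDPB A t
  obtain ⟨δp, hδp⟩ := exists_dp D'
  let xx : Fin t → ℕ → (A ⊗[ℤ] (Model.sub ℤ ℚ t)) := fun i n => D'.b (single i n)
  have hx0 : ∀ i, xx i 0 = 1 := fun i => by
    show D'.b (single i 0) = 1
    rw [Finsupp.single_zero, D'.b_zero]
  have hxmul : ∀ i n m, xx i n * xx i m = ((n + m).choose n : A ⊗[ℤ] (Model.sub ℤ ℚ t)) *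
      xx i (n + m) := fun i n m => by
    show D'.b (single i n) * D'.b (single i m) = _ * D'.b (single i (n + m))
    rw [D'.b_mul, mc_single, Finsupp.single_add]
  obtain ⟨δ, ⟨hmor, hδ2⟩, -⟩ := existsUnique_ext A γ (Fin t) _ xx hx0 hxmul D'.b D'.b_eq_prod δp hδp
  have hxJ : ∀ i, D'.b (single i 1) ∈ I.map (algebraMap A (A ⊗[ℤ] (Model.sub ℤ ℚ t))) ⊔ D'.aug :=
    fun i => (le_sup_right : D'.aug ≤ _) (D'.single_mem_aug i 1 le_rfl)
  refine ⟨A ⊗[ℤ] (Model.sub ℤ ℚ t), inferInstance, inferInstance, _, δ,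
    fun i => D'.b (single i 1), hxJ, hmor, ?_⟩
  intro C _ _ K ε hε k hk
  -- δ on generators of the augmentation ideal
  have hδgen : ∀ (i : Fin t) (m : ℕ), δ.dpow m (D'.b (single i 1)) = D'.b (single i m) := by
    intro i m
    rw [hδ2 m _ (D'.single_mem_aug i 1 le_rfl)]
    exact hδp i m
  obtain ⟨Φ, hΦsmul, hΦb⟩ := exists_ringHom D' (algebraMap A C) (fun i n => ε.dpow n (k i))
    (fun i => ε.dpow_zero (hk i)) (fun i m n => ε.mul_dpow (hk i))
  have hΦsingle : ∀ (i : Fin t) (m : ℕ), Φ (D'.b (single i m)) = ε.dpow m (k i) := by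
    intro i m
    rw [hΦb, Finset.prod_eq_single i]
    · rw [Finsupp.single_eq_same]
    · intro j _ hj
      rw [Finsupp.single_apply, if_neg (Ne.symm hj)]
      exact ε.dpow_zero (hk j)
    · intro h'; exact absurd (Finset.mem_univ i) h'
  have hΦalg : ∀ r : A, Φ (algebraMap A _ r) = algebraMap A C r := by
    intro r
    rw [Algebra.algebraMap_eq_smul_one, hΦsmul, map_one, mul_one]
  let φ : (A ⊗[ℤ] (Model.sub ℤ ℚ t)) →ₐ[A] C := { Φ with commutes' := hΦalg }
  have hφΦ : φ.toRingHom = Φ := rfl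
  have hspan : I.map (algebraMap A (A ⊗[ℤ] (Model.sub ℤ ℚ t))) ⊔ D'.aug =
      Ideal.span ((algebraMap A (A ⊗[ℤ] (Model.sub ℤ ℚ t)) '' (I : Set A)) ∪
        {y | ∃ (i : Fin t) (n : ℕ), 1 ≤ n ∧ y = D'.b (single i n)}) := by
    rw [Ideal.span_union]
    rfl
  have hφmor : δ.IsDPMorphism ε φ.toRingHom := by
    rw [hφΦ]
    apply DividedPowers.IsDPMorphism.on_span δ ε hspan
    · rintro s (⟨r, hr, rfl⟩ | ⟨i, n, hn, rfl⟩)
      · rw [hΦalg]
        exact hε.ideal_comp (Ideal.mem_map_of_mem _ hr)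
      · rw [hΦsingle]
        exact ε.dpow_mem (by omega) (hk i)
    · rintro n s (⟨r, hr, rfl⟩ | ⟨i, m, hm, rfl⟩)
      · rw [hmor.dpow_comp r hr, hΦalg, hΦalg, hε.dpow_comp r hr]
      · have hm0 : m ≠ 0 := by omega
        have e1 : δ.dpow n (D'.b (single i m)) =
            (Nat.uniformBell n m : A ⊗[ℤ] (Model.sub ℤ ℚ t)) * D'.b (single i (n * m)) := by
          rw [← hδgen i m, δ.dpow_comp hm0 (hxJ i), hδgen]
        rw [e1, map_mul, map_natCast, hΦsingle, hΦsingle, ε.dpow_comp hm0 (hk i)]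
  refine ⟨φ, ⟨fun i => ?_, hφmor⟩, ?_⟩
  · show Φ (D'.b (single i 1)) = k i
    rw [hΦsingle, ε.dpow_one (hk i)]
  · rintro φ' ⟨hφ'1, hφ'2⟩
    apply AlgHom.toLinearMap_injective
    apply D'.b.ext
    intro e
    show φ' (D'.b e) = Φ (D'.b e)
    have hsingle' : ∀ (i : Fin t) (m : ℕ), φ' (D'.b (single i m)) = ε.dpow m (k i) := by
      intro i m
      rw [← hδgen i m]
      have := hφ'2.dpow_comp (n := m) (D'.b (single i 1)) (hxJ i)
      rw [← hφ'1 i]
      exact this.symm
    rw [hΦb, D'.b_eq_prod e, Finsupp.prod_fintype _ _ (fun i => by rw [Finsupp.single_zero, D'.b_zero]),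
      map_prod]
    apply Finset.prod_congr rfl
    intro i _
    exact hsingle' i (e i)

end Groth.Agent.H81.DPPoly
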