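import Groth.Agent.H81.RRTools

/-!
Tools on a function field of genus one: dimensions of `L(D)`, torsion of differences of places,
hyperplane comparison for `V ⊓ L(D)`.
-/

set_option autoImplicit false

namespace Groth.Agent.H81.G1

open FunFld Module WithZero Groth.Agent.H55

variable {k K : Type*} [Field k] [Field K] [Algebra k K]

/-- Passing to a subspace of codimension at most one loses at most one dimension in `· ⊓ X`. -/
lemma finrank_inf_le_add_one (W V X : Submodule k K) [FiniteDimensional k V] (hWV : W ≤ V)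
    (hcodim : finrank k ↥V ≤ finrank k ↥W + 1) :
    finrank k ↥(V ⊓ X) ≤ finrank k ↥(W ⊓ X) + 1 := by
  haveI : FiniteDimensional k W := Submodule.finiteDimensional_of_le hWV
  haveI : FiniteDimensional k ↥(V ⊓ X) := Submodule.finiteDimensional_of_le inf_le_left
  have h1 := Submodule.finrank_sup_add_finrank_inf_eq W (V ⊓ X)
  have h2 : W ⊓ (V ⊓ X) = W ⊓ X := by
    rw [← inf_assoc, inf_eq_left.mpr hWV]
  rw [h2] at h1
  have h3 : finrank k ↥(W ⊔ V ⊓ X) ≤ finrank k ↥V :=
    Submodule.finrank_mono (sup_le hWV inf_le_left)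
  omega

/-- Vanishing at `Q` read inside a smaller `L(F)`. -/
lemma inf_L_le (F D : FunFld.Divisor k K) (Q : FunFld.Place k K) (n : ℤ) (hQ : D Q ≤ F Q) :
    FunFld.L F ⊓ FunFld.L (D - Finsupp.single Q n) ≤ FunFld.L (F - Finsupp.single Q n) := by
  classical
  rintro x ⟨h1, h2⟩
  refine Groth.Agent.H81.LinSer.mem_L_of_two h1 h2 (fun R => ?_)
  by_cases hR : R = Q
  · right
    rw [hR, Finsupp.sub_apply, Finsupp.sub_apply]
    linarith
  · left
    rw [Finsupp.sub_apply, Finsupp.single_eq_of_ne hR, sub_zero]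

variable [IsAlgClosed k]

/-- On genus one, `ℓ(D) = deg D` for `deg D ≥ 1`. -/
lemma ell_of_deg_pos (hK : FunFld.IsFunctionField k K) (hg1 : FunFld.genus k K = 1)
    (D : FunFld.Divisor k K) (hD : 1 ≤ FunFld.Divisor.deg D) :
    (FunFld.ell D : ℤ) = FunFld.Divisor.deg D := by
  have h := ell_eq_of_deg_ge hK D (by rw [hg1]; norm_num; exact hD)
  rw [h, hg1]; norm_num

lemma ell_single (hK : FunFld.IsFunctionField k K) (hg1 : FunFld.genus k K = 1)
    (A : FunFld.Place k K) (m : ℕ) (hm : 1 ≤ m) :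
    FunFld.ell (Finsupp.single A (m : ℤ) : FunFld.Divisor k K) = m := by
  have hd : FunFld.Divisor.deg (Finsupp.single A (m : ℤ) : FunFld.Divisor k K) = m := by
    rw [deg_single, deg_eq_one_of_isAlgClosed hK A]; norm_num
  have h := ell_of_deg_pos hK hg1 _ (by rw [hd]; exact_mod_cast hm)
  rw [hd] at h
  exact_mod_cast h

lemma ell_single_zero (hK : FunFld.IsFunctionField k K) (A : FunFld.Place k K) :
    FunFld.ell (Finsupp.single A ((0 : ℕ) : ℤ) : FunFld.Divisor k K) = 1 := by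
  rw [Nat.cast_zero, Finsupp.single_zero]
  exact (L_zero_finite hK).2

lemma deg_two (hK : FunFld.IsFunctionField k K) (A Q : FunFld.Place k K) (a b : ℤ) :
    FunFld.Divisor.deg (Finsupp.single A a - Finsupp.single Q b : FunFld.Divisor k K) = a - b := by
  rw [deg_sub, deg_single, deg_single, deg_eq_one_of_isAlgClosed hK A,
    deg_eq_one_of_isAlgClosed hK Q]
  norm_num

/-- `ℓ(aA - bQ) = a - b` for `a > b` on genus one. -/
lemma ell_two (hK : FunFld.IsFunctionField k K) (hg1 : FunFld.genus k K = 1)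
    (A Q : FunFld.Place k K) (a b : ℕ) (hab : b < a) :
    FunFld.ell (Finsupp.single A (a : ℤ) - Finsupp.single Q (b : ℤ) : FunFld.Divisor k K) =
      a - b := by
  have hd := deg_two hK A Q (a : ℤ) (b : ℤ)
  have hlt : (b : ℤ) < a := by exact_mod_cast hab
  have h := ell_of_deg_pos hK hg1 _ (by rw [hd]; omega)
  rw [hd] at h
  omega

/-- `ℓ(aA - aQ) ≤ 1`. -/
lemma ell_two_eq_le_one (hK : FunFld.IsFunctionField k K) (hg1 : FunFld.genus k K = 1)
    (A Q : FunFld.Place k K) (a : ℕ) (ha : 1 ≤ a) :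
    FunFld.ell (Finsupp.single A (a : ℤ) - Finsupp.single Q (a : ℤ) : FunFld.Divisor k K) ≤ 1 := by
  classical
  have h1 := ell_two hK hg1 A Q a (a - 1) (by omega)
  have hle : (Finsupp.single A (a : ℤ) - Finsupp.single Q (a : ℤ) : FunFld.Divisor k K) ≤
      Finsupp.single A (a : ℤ) - Finsupp.single Q ((a - 1 : ℕ) : ℤ) := by
    intro R
    rw [Finsupp.sub_apply, Finsupp.sub_apply, Finsupp.single_apply, Finsupp.single_apply,
      Finsupp.single_apply]
    have : ((a - 1 : ℕ) : ℤ) ≤ a := by exact_mod_cast Nat.sub_le a 1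
    split_ifs <;> omega
  have h2 := ell_mono hK hle
  omega

/-- `ℓ(aA - bQ) = 0` for `a < b`. -/
lemma ell_two_neg (hK : FunFld.IsFunctionField k K) (A Q : FunFld.Place k K) (a b : ℕ)
    (hab : a < b) :
    FunFld.ell (Finsupp.single A (a : ℤ) - Finsupp.single Q (b : ℤ) : FunFld.Divisor k K) = 0 := by
  apply ell_eq_zero_of_deg_neg hK
  rw [deg_two hK]
  have : (a : ℤ) < b := by exact_mod_cast hab
  omega

/-! ### Torsion of `Q - P` -/

/-- The integers `m` with `m (Q - P)` principal. -/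
def torSub (hK : FunFld.IsFunctionField k K) (P Q : FunFld.Place k K) : AddSubgroup ℤ where
  carrier := {m | ∃ z : K, z ≠ 0 ∧
    FunFld.div k z = m • (Finsupp.single Q (1 : ℤ) - Finsupp.single P (1 : ℤ))}
  zero_mem' := ⟨1, one_ne_zero, by
    have := div_const hK (1 : k)
    rw [map_one] at this
    rw [this, zero_smul]⟩
  add_mem' := by
    rintro a b ⟨z₁, hz₁, h₁⟩ ⟨z₂, hz₂, h₂⟩
    exact ⟨z₁ * z₂, mul_ne_zero hz₁ hz₂, by rw [div_mul hK hz₁ hz₂, h₁, h₂, add_smul]⟩
  neg_mem' := by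
    rintro a ⟨z, hz, h⟩
    exact ⟨z⁻¹, inv_ne_zero hz, by rw [div_inv hK, h, neg_smul]⟩

lemma one_not_mem_torSub (hK : FunFld.IsFunctionField k K) (hg : 0 < FunFld.genus k K)
    {P Q : FunFld.Place k K} (hPQ : Q ≠ P) : (1 : ℤ) ∉ torSub hK P Q := by
  classical
  rintro ⟨z, hz0, hz⟩
  rw [one_smul] at hz
  have hP1 : (0 : FunFld.Divisor k K) ≤ Finsupp.single P (1 : ℤ) :=
    RR.single_nonneg P (by norm_num)
  have hmem : z ∈ FunFld.L (Finsupp.single P (1 : ℤ) : FunFld.Divisor k K) := by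
    refine RR.mem_L_of_forall hK _ hz0 (fun R => ?_)
    rw [hz, Finsupp.sub_apply]
    have : (0 : ℤ) ≤ (Finsupp.single Q (1 : ℤ) : FunFld.Divisor k K) R :=
      RR.single_nonneg Q (by norm_num) R
    linarith
  have hell := ell_single_one_of_genus_pos (P := P) hK (deg_eq_one_of_isAlgClosed hK P) hg
  have h0 := RR.div_eq_zero_of_mem_L hK _ hP1 hell hmem
  rw [hz] at h0
  have h := DFunLike.congr_fun h0 Q
  rw [Finsupp.sub_apply, Finsupp.single_eq_same, Finsupp.single_eq_of_ne hPQ] at h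
  simp at h

lemma mem_torSub_of_ell_pos (hK : FunFld.IsFunctionField k K) (P Q : FunFld.Place k K) (a : ℕ)
    (h : 0 < FunFld.ell (Finsupp.single P (a : ℤ) - Finsupp.single Q (a : ℤ) :
      FunFld.Divisor k K)) : (a : ℤ) ∈ torSub hK P Q := by
  classical
  obtain ⟨z, hz0, hz⟩ := RR.exists_div_eq_neg hK _ (by rw [deg_two hK]; ring) h
  refine ⟨z, hz0, ?_⟩
  rw [hz]
  ext R
  simp only [Finsupp.coe_neg, Finsupp.coe_sub, Finsupp.coe_smul, Pi.neg_apply, Pi.sub_apply,
    Pi.smul_apply, Finsupp.single_apply, smul_eq_mul]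
  split_ifs <;> ring

/-- If `a (Q - P)` and `(a + 2)(Q - P)` are principal with `a` odd then `Q = P` (genus `≥ 1`). -/
lemma torsion_odd (hK : FunFld.IsFunctionField k K) (hg : 0 < FunFld.genus k K)
    {P Q : FunFld.Place k K} (hPQ : Q ≠ P) (a : ℕ) (ha : Odd a)
    (h1 : 0 < FunFld.ell (Finsupp.single P (a : ℤ) - Finsupp.single Q (a : ℤ) :
      FunFld.Divisor k K))
    (h2 : 0 < FunFld.ell (Finsupp.single P ((a + 2 : ℕ) : ℤ) - Finsupp.single Q ((a + 2 : ℕ) : ℤ) :
      FunFld.Divisor k K)) : False := by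
  have m1 := mem_torSub_of_ell_pos hK P Q a h1
  have m2 := mem_torSub_of_ell_pos hK P Q (a + 2) h2
  obtain ⟨j, hj⟩ := ha
  have m3 : (2 : ℤ) ∈ torSub hK P Q := by
    have := (torSub hK P Q).sub_mem m2 m1
    have e : ((a + 2 : ℕ) : ℤ) - (a : ℤ) = 2 := by push_cast; ring
    rwa [e] at this
  have m4 : (1 : ℤ) ∈ torSub hK P Q := by
    have := (torSub hK P Q).sub_mem m1 ((torSub hK P Q).zsmul_mem m3 (j : ℤ))
    have e : (a : ℤ) - (j : ℤ) • (2 : ℤ) = 1 := by
      rw [hj, smul_eq_mul]; push_cast; ring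
    rwa [e] at this
  exact one_not_mem_torSub hK hg hPQ m4

/-! ### Sums -/

lemma sum_succ_eq_choose (t : ℕ) : ∑ j ∈ Finset.range t, (j + 1) = (t + 1).choose 2 := by
  induction t with
  | zero => simp
  | succ t ih =>
    rw [Finset.sum_range_succ, ih, Nat.choose_succ_succ (t + 1) 1, Nat.choose_one_right]
    ring

lemma sum_desc_eq_choose (s : ℕ) :
    ∑ i ∈ Finset.range s, (s + 1 - i) + 1 = (s + 2).choose 2 := by
  have h : ∑ i ∈ Finset.range s, (s + 1 - i) = ∑ i ∈ Finset.range s, (i + 2) := by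
    rw [← Finset.sum_range_reflect]
    refine Finset.sum_congr rfl (fun i hi => ?_)
    rw [Finset.mem_range] at hi
    omega
  rw [h]
  have h2 : ∑ i ∈ Finset.range s, (i + 2) + 1 = ∑ i ∈ Finset.range (s + 1), (i + 1) := by
    rw [Finset.sum_range_succ', Finset.sum_congr rfl (fun i _ => by ring : ∀ i ∈ Finset.range s,
      i + 1 + 1 = i + 2)]
  rw [h2, sum_succ_eq_choose]

end Groth.Agent.H81.G1
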