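import Groth.Agent.H81.PlaneKer
import Groth.Agent.H81.GenusOneHyp
import Groth.Agent.H55.FFAut
import Mathlib

/-!
Automorphisms of an elliptic function field `y² = x³ + a x + b` fixing the place at infinity.
-/

set_option autoImplicit false

namespace Groth.Agent.H81.EllAut

open FunFld Polynomial IntermediateField WithZero

variable {k K : Type*} [Field k] [Field K] [Algebra k K]

/-- elements with pairwise distinct nonzero values at a place are linearly independent. -/
theorem coeff_zero_of_val_injective (P : Place k K) {n : ℕ} (f : Fin n → K) (hf0 : ∀ i, f i ≠ 0)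
    (hinj : Function.Injective (fun i => P.1 (f i))) (c : Fin n → k)
    (h : ∑ i, algebraMap k K (c i) * f i = 0) : ∀ i, c i = 0 := by
  classical
  by_contra hcon
  push_neg at hcon
  have hS : (Finset.univ.filter (fun i => c i ≠ 0)).Nonempty := by
    obtain ⟨i, hi⟩ := hcon
    exact ⟨i, by simp [hi]⟩
  obtain ⟨i₀, hi₀, hmax⟩ := Finset.exists_max_image _ (fun i => P.1 (f i)) hS
  rw [Finset.mem_filter] at hi₀
  have hci₀ := hi₀.2
  rw [← Finset.add_sum_erase _ _ (Finset.mem_univ i₀)] at h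
  have hval : ∀ i, c i ≠ 0 → P.1 (algebraMap k K (c i) * f i) = P.1 (f i) := by
    intro i hi
    rw [map_mul, RatPlace.val_const P hi, one_mul]
  have hne : P.1 (f i₀) ≠ 0 := (Valuation.ne_zero_iff _).mpr (hf0 i₀)
  have hrest : P.1 (∑ i ∈ Finset.univ.erase i₀, algebraMap k K (c i) * f i) < P.1 (f i₀) := by
    apply Valuation.map_sum_lt _ hne
    intro i hi
    rw [Finset.mem_erase] at hi
    by_cases hci : c i = 0
    · rw [hci, map_zero, zero_mul, map_zero]
      exact zero_lt_iff.mpr hne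
    · rw [hval i hci]
      have hle := hmax i (by simp [hci])
      exact lt_of_le_of_ne hle (fun heq => hi.1 (hinj heq))
  have heq := eq_neg_of_add_eq_zero_left h
  have h2 : P.1 (algebraMap k K (c i₀) * f i₀) = P.1 (f i₀) := hval i₀ hci₀
  rw [heq, Valuation.map_neg] at h2
  rw [h2] at hrest
  exact lt_irrefl _ hrest

/-- a family in `L(D)` of the right size with distinct pole orders spans `L(D)`. -/
theorem exists_coeffs (hK : IsFunctionField k K) (P : Place k K) (D : Divisor k K) {n : ℕ}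
    (f : Fin n → K) (hfL : ∀ i, f i ∈ L D) (hf0 : ∀ i, f i ≠ 0)
    (hinj : Function.Injective (fun i => P.1 (f i))) (hell : ell D = n) (z : K) (hz : z ∈ L D) :
    ∃ c : Fin n → k, z = ∑ i, algebraMap k K (c i) * f i := by
  haveI := H55.L_finite hK D
  have hli : LinearIndependent k f := by
    rw [Fintype.linearIndependent_iff]
    intro c hc
    apply coeff_zero_of_val_injective P f hf0 hinj c
    rw [← hc]
    apply Finset.sum_congr rfl
    intro i _
    rw [Algebra.smul_def]
  have hle : Submodule.span k (Set.range f) ≤ L D := by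
    rw [Submodule.span_le]
    rintro _ ⟨i, rfl⟩
    exact hfL i
  have hfr : Module.finrank k (Submodule.span k (Set.range f)) = Module.finrank k (L D) := by
    rw [finrank_span_eq_card hli, Fintype.card_fin]
    exact hell.symm
  have heq := Submodule.eq_of_le_of_finrank_eq hle hfr
  rw [← heq, Submodule.mem_span_range_iff_exists_fun] at hz
  obtain ⟨c, hc⟩ := hz
  refine ⟨c, ?_⟩
  rw [← hc]
  apply Finset.sum_congr rfl
  intro i _
  rw [Algebra.smul_def]

theorem val_of_ord (P : Place k K) (z : K) (n : ℤ) (hn : n ≠ 0) (h : P.ord z = -n) :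
    P.1 z = exp n := by
  have hz : z ≠ 0 := by
    rintro rfl
    apply hn
    simp [Place.ord] at h
    omega
  have hne : P.1 z ≠ 0 := (Valuation.ne_zero_iff _).mpr hz
  have h1 : log (P.1 z) = n := by
    simp only [Place.ord] at h
    omega
  rw [← h1, exp_log hne]

/-- the data of the statement. -/
structure Setup (P : Place k K) (a b : k) (x y : K) : Prop where
  hK : IsFunctionField k K
  hg : genus k K = 1
  h2 : (2 : k) ≠ 0
  h3 : (3 : k) ≠ 0
  heq : y ^ 2 = x ^ 3 + algebraMap k K a * x + algebraMap k K b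
  hxy : IntermediateField.adjoin k ({x, y} : Set K) = ⊤
  hx : x ∈ L (Finsupp.single P 2)
  hx2 : P.ord x = -2
  hy : y ∈ L (Finsupp.single P 3)
  hy3 : P.ord y = -3

variable {P : Place k K} {a b : k} {x y : K}

theorem Setup.valx (s : Setup P a b x y) : P.1 x = exp (2 : ℤ) :=
  val_of_ord P x 2 (by norm_num) s.hx2

theorem Setup.valy (s : Setup P a b x y) : P.1 y = exp (3 : ℤ) :=
  val_of_ord P y 3 (by norm_num) s.hy3

theorem Setup.x_ne (s : Setup P a b x y) : x ≠ 0 := by
  intro h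
  have := s.valx
  rw [h, map_zero] at this
  exact exp_ne_zero.symm this

theorem Setup.y_ne (s : Setup P a b x y) : y ≠ 0 := by
  intro h
  have := s.valy
  rw [h, map_zero] at this
  exact exp_ne_zero.symm this

/-- automorphisms fixing `P` preserve `L(nP)`. -/
theorem map_mem_L (σ : K ≃ₐ[k] K) (hσ : ∀ z : K, P.1 (σ z) = P.1 z) (n : ℤ) (hn : 0 ≤ n)
    (z : K) (hz : z ∈ L (Finsupp.single P n)) : σ z ∈ L (Finsupp.single P n) := by
  classical
  have hcP : H55.comapEquiv P σ = P := by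
    apply Subtype.ext
    apply Valuation.ext
    intro w
    exact hσ w
  have hcP' : H55.comapEquiv P σ.symm = P := by
    conv_lhs => rw [← hcP]
    exact H55.comapEquiv_symm P σ
  intro Q
  by_cases hQ : H55.comapEquiv Q σ = P
  · have hQP : Q = P := by
      rw [← H55.comapEquiv_symm Q σ, hQ]
      exact hcP'
    rw [hQP, hσ]
    exact hz P
  · have h1 : (H55.comapEquiv Q σ).1 z ≤ exp ((Finsupp.single P n) (H55.comapEquiv Q σ)) :=
      hz _
    rw [Finsupp.single_eq_of_ne (fun h => hQ h)] at h1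
    have h2 : Q.1 (σ z) = (H55.comapEquiv Q σ).1 z := rfl
    rw [h2]
    refine h1.trans ?_
    rw [exp_le_exp]
    rw [Finsupp.single_apply]
    split_ifs
    · exact hn
    · exact le_rfl

section

variable [IsAlgClosed k]

theorem Setup.one_mem (n : ℤ) (hn : 0 ≤ n) : (1 : K) ∈ L (Finsupp.single P n) :=
  RR.one_mem_L_of_nonneg (RR.single_nonneg P hn)

/-- the shape of an automorphism fixing `P`. -/
theorem Setup.shape (s : Setup P a b x y) (σ : K ≃ₐ[k] K) (hσ : ∀ z : K, P.1 (σ z) = P.1 z) :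
    ∃ u : k, u ≠ 0 ∧ a * (u ^ 4 - 1) = 0 ∧ b * (u ^ 6 - 1) = 0 ∧
      σ x = algebraMap k K (u ^ 2) * x ∧ σ y = algebraMap k K (u ^ 3) * y := by
  have hK := s.hK
  have hx0 := s.x_ne
  have hy0 := s.y_ne
  have hvx := s.valx
  have hvy := s.valy
  -- `L(2P) = ⟨1, x⟩`
  have hell2 : ell (Finsupp.single P (2 : ℤ) : Divisor k K) = 2 := by
    have := G1.ell_single hK s.hg P 2 (by norm_num)
    simpa using this
  have hell3 : ell (Finsupp.single P (3 : ℤ) : Divisor k K) = 3 := by
    have := G1.ell_single hK s.hg P 3 (by norm_num)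
    simpa using this
  have hx3 : x ∈ L (Finsupp.single P (3 : ℤ)) := by
    intro Q
    refine (s.hx Q).trans ?_
    rw [exp_le_exp]
    classical
    rw [Finsupp.single_apply, Finsupp.single_apply]
    split_ifs <;> norm_num
  -- the family `1, x`
  have hm2 : ∀ i : Fin 2, P.1 (![(1 : K), x] i) = exp ((![0, 2] : Fin 2 → ℤ) i) := by
    intro i
    fin_cases i
    · simp
    · simpa using hvx
  have hinj2 : Function.Injective (fun i : Fin 2 => P.1 (![(1 : K), x] i)) := by
    intro i j h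
    simp only [hm2] at h
    have h' := exp_injective h
    exact (by decide : Function.Injective (![0, 2] : Fin 2 → ℤ)) h'
  have hm3 : ∀ i : Fin 3, P.1 (![(1 : K), x, y] i) = exp ((![0, 2, 3] : Fin 3 → ℤ) i) := by
    intro i
    fin_cases i
    · simp
    · simpa using hvx
    · simpa using hvy
  have hinj3 : Function.Injective (fun i : Fin 3 => P.1 (![(1 : K), x, y] i)) := by
    intro i j h
    simp only [hm3] at h
    have h' := exp_injective h
    exact (by decide : Function.Injective (![0, 2, 3] : Fin 3 → ℤ)) h'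
  obtain ⟨c2, hc2⟩ := exists_coeffs hK P _ ![(1 : K), x]
    (by
      intro i
      fin_cases i
      · exact Setup.one_mem 2 (by norm_num)
      · exact s.hx)
    (by
      intro i
      fin_cases i
      · exact one_ne_zero
      · exact hx0) hinj2 hell2 (σ x) (map_mem_L σ hσ 2 (by norm_num) x s.hx)
  obtain ⟨c3, hc3⟩ := exists_coeffs hK P _ ![(1 : K), x, y]
    (by
      intro i
      fin_cases i
      · exact Setup.one_mem 3 (by norm_num)
      · exact hx3
      · exact s.hy)
    (by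
      intro i
      fin_cases i
      · exact one_ne_zero
      · exact hx0
      · exact hy0) hinj3 hell3 (σ y) (map_mem_L σ hσ 3 (by norm_num) y s.hy)
  rw [Fin.sum_univ_two] at hc2
  rw [Fin.sum_univ_three] at hc3
  simp only [Matrix.cons_val_zero, Matrix.cons_val_one, Matrix.cons_val_two, Matrix.head_cons,
    Matrix.tail_cons, mul_one] at hc2 hc3
  set β := c2 0 with hβ
  set α := c2 1 with hα
  set ε := c3 0 with hε
  set δ := c3 1 with hδ
  set γ := c3 2 with hγ
  -- `α ≠ 0`, `γ ≠ 0`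
  have hα0 : α ≠ 0 := by
    intro h0
    have h1 : P.1 (σ x) ≤ 1 := by
      rw [hc2, h0, map_zero, zero_mul, add_zero]
      exact P.2.1 _
    rw [hσ, hvx, ← exp_zero, exp_le_exp] at h1
    norm_num at h1
  have hγ0 : γ ≠ 0 := by
    intro h0
    have h1 : P.1 (σ y) ≤ exp (2 : ℤ) := by
      rw [hc3, h0, map_zero, zero_mul, add_zero]
      refine (P.1.map_add _ _).trans (max_le ?_ ?_)
      · refine (P.2.1 _).trans ?_
        rw [← exp_zero, exp_le_exp]
        norm_num
      · rw [map_mul, hvx]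
        calc P.1 (algebraMap k K δ) * exp (2 : ℤ) ≤ 1 * exp (2 : ℤ) :=
              mul_le_mul' (P.2.1 _) le_rfl
          _ = exp (2 : ℤ) := one_mul _
    rw [hσ, hvy, exp_le_exp] at h1
    norm_num at h1
  -- the relation
  have hrel : (σ y) ^ 2 = (σ x) ^ 3 + algebraMap k K a * σ x + algebraMap k K b := by
    have := congrArg σ s.heq
    simpa using this
  rw [hc2, hc3] at hrel
  -- the six coefficients
  let cc : Fin 6 → k := ![γ ^ 2 * b + ε ^ 2 - β ^ 3 - a * β - b,
    γ ^ 2 * a + 2 * δ * ε - 3 * α * β ^ 2 - a * α, 2 * γ * ε, δ ^ 2 - 3 * α ^ 2 * β,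
    2 * γ * δ, γ ^ 2 - α ^ 3]
  let ff : Fin 6 → K := ![1, x, y, x ^ 2, x * y, x ^ 3]
  have hsum : ∑ i, algebraMap k K (cc i) * ff i = 0 := by
    simp only [cc, ff, Fin.sum_univ_succ, Fin.sum_univ_zero, Matrix.cons_val_zero,
      Matrix.cons_val_succ, Matrix.cons_val_one, Matrix.head_cons, map_add, map_sub, map_mul,
      map_pow, map_ofNat, add_zero, mul_one, Fin.succ_zero_eq_one]
    linear_combination hrel - (algebraMap k K γ) ^ 2 * s.heq
  have hm6 : ∀ i : Fin 6, P.1 (ff i) = exp ((![0, 2, 3, 4, 5, 6] : Fin 6 → ℤ) i) := by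
    intro i
    fin_cases i
    · simp [ff]
    · simpa [ff] using hvx
    · simpa [ff] using hvy
    · simp [ff, hvx, ← exp_nsmul]
    · simp [ff, hvx, hvy, ← exp_add]
    · simp [ff, hvx, ← exp_nsmul]
  have hinj6 : Function.Injective (fun i : Fin 6 => P.1 (ff i)) := by
    intro i j h
    simp only [hm6] at h
    have h' := exp_injective h
    exact (by decide : Function.Injective (![0, 2, 3, 4, 5, 6] : Fin 6 → ℤ)) h'
  have hff0 : ∀ i, ff i ≠ 0 := by
    intro i
    fin_cases i
    · exact one_ne_zero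
    · exact hx0
    · exact hy0
    · exact pow_ne_zero _ hx0
    · exact mul_ne_zero hx0 hy0
    · exact pow_ne_zero _ hx0
  have hzero := coeff_zero_of_val_injective P ff hff0 hinj6 cc hsum
  have e0 : γ ^ 2 * b + ε ^ 2 - β ^ 3 - a * β - b = 0 := hzero 0
  have e1 : γ ^ 2 * a + 2 * δ * ε - 3 * α * β ^ 2 - a * α = 0 := hzero 1
  have e2 : 2 * γ * ε = 0 := hzero 2
  have e3 : δ ^ 2 - 3 * α ^ 2 * β = 0 := hzero 3
  have e4 : 2 * γ * δ = 0 := hzero 4
  have e5 : γ ^ 2 - α ^ 3 = 0 := hzero 5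
  have hδ0 : δ = 0 := by
    rcases mul_eq_zero.mp e4 with h | h
    · exact absurd h (mul_ne_zero s.h2 hγ0)
    · exact h
  have hε0 : ε = 0 := by
    rcases mul_eq_zero.mp e2 with h | h
    · exact absurd h (mul_ne_zero s.h2 hγ0)
    · exact h
  have hβ0 : β = 0 := by
    rw [hδ0] at e3
    have : 3 * α ^ 2 * β = 0 := by linear_combination -e3
    rcases mul_eq_zero.mp this with h | h
    · exact absurd h (mul_ne_zero s.h3 (pow_ne_zero _ hα0))
    · exact h
  rw [hε0, hβ0] at e0
  rw [hδ0, hε0, hβ0] at e1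
  have hγα : γ ^ 2 = α ^ 3 := by linear_combination e5
  refine ⟨γ * α⁻¹, mul_ne_zero hγ0 (inv_ne_zero hα0), ?_, ?_, ?_, ?_⟩
  · have h4 : (γ * α⁻¹) ^ 4 = α ^ 2 := by
      have : (γ * α⁻¹) ^ 4 = (γ ^ 2) ^ 2 * (α⁻¹) ^ 4 := by ring
      rw [this, hγα]
      field_simp
    rw [h4]
    have h1 : a * α * (α ^ 2 - 1) = 0 := by
      have : γ ^ 2 * a - a * α = 0 := by linear_combination e1
      rw [hγα] at this
      linear_combination this
    rcases mul_eq_zero.mp h1 with h | h
    · rcases mul_eq_zero.mp h with h' | h'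
      · rw [h', zero_mul]
      · exact absurd h' hα0
    · rw [h, mul_zero]
  · have h6 : (γ * α⁻¹) ^ 6 = γ ^ 2 := by
      have : (γ * α⁻¹) ^ 6 = (γ ^ 2) ^ 3 * (α⁻¹) ^ 6 := by ring
      rw [this]
      nth_rewrite 1 [hγα]
      field_simp
      rw [hγα]
    rw [h6]
    linear_combination e0
  · rw [hc2, hβ0, map_zero, zero_add]
    congr 2
    have : (γ * α⁻¹) ^ 2 = γ ^ 2 * (α⁻¹) ^ 2 := by ring
    rw [this, hγα]
    field_simp
  · rw [hc3, hε0, hδ0, map_zero, zero_mul, add_zero, zero_add]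
    congr 2
    have : (γ * α⁻¹) ^ 3 = γ * γ ^ 2 * (α⁻¹) ^ 3 := by ring
    rw [this, hγα]
    field_simp

/-- the Weierstrass polynomial is irreducible. -/
theorem weier_irreducible (a b : k) :
    Irreducible (MvPolynomial.X 0 ^ 2 - (MvPolynomial.X 1 ^ 3 + MvPolynomial.C a * MvPolynomial.X 1 +
      MvPolynomial.C b) : MvPolynomial (Fin 2) k) := by
  rw [← MulEquiv.irreducible_iff (PlaneAlg.Phi k)]
  have hC : ∀ c : k, PlaneAlg.Phi k (MvPolynomial.C c) = Polynomial.C (Polynomial.C c) := by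
    intro c
    have := (PlaneAlg.Phi k).commutes c
    rw [MvPolynomial.algebraMap_eq] at this
    rw [this]
    rfl
  have hPhi : PlaneAlg.Phi k (MvPolynomial.X 0 ^ 2 - (MvPolynomial.X 1 ^ 3 +
      MvPolynomial.C a * MvPolynomial.X 1 + MvPolynomial.C b)) =
      Polynomial.X ^ 2 - Polynomial.C (Polynomial.X ^ 3 + Polynomial.C a * Polynomial.X +
        Polynomial.C b) := by
    simp only [map_sub, map_pow, map_add, map_mul, PlaneAlg.Phi_X0, PlaneAlg.Phi_X1, hC]
  rw [hPhi]
  set p : k[X] := X ^ 3 + C a * X + C b with hp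
  have hpdeg : p.natDegree = 3 := by
    have h := natDegree_cubic (R := k) (a := 1) (b := 0) (c := a) (d := b) one_ne_zero
    have e : (C (1 : k) * X ^ 3 + C 0 * X ^ 2 + C a * X + C b : k[X]) = p := by
      rw [hp]; simp
    rw [← e]
    exact h
  have hmonic : (X ^ 2 - C p : k[X][X]).Monic := monic_X_pow_sub_C p (by norm_num)
  rw [hmonic.irreducible_iff_roots_eq_zero_of_degree_le_three
    (by rw [natDegree_X_pow_sub_C]) (by rw [natDegree_X_pow_sub_C]; norm_num)]
  rw [Multiset.eq_zero_iff_forall_notMem]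
  intro r hr
  rw [mem_roots hmonic.ne_zero, IsRoot, eval_sub, eval_pow, eval_X, eval_C, sub_eq_zero] at hr
  have := congrArg natDegree hr
  rw [natDegree_pow, hpdeg] at this
  omega

/-- the automorphism attached to `u`. -/
theorem Setup.exists_aut (s : Setup P a b x y) (u : k) (hu : u ≠ 0) (ha : a * (u ^ 4 - 1) = 0)
    (hb : b * (u ^ 6 - 1) = 0) :
    ∃ σ : K ≃ₐ[k] K, σ x = algebraMap k K (u ^ 2) * x ∧ σ y = algebraMap k K (u ^ 3) * y ∧
      ∀ z : K, P.1 (σ z) = P.1 z := by
  classical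
  have hK := s.hK
  set f : MvPolynomial (Fin 2) k := MvPolynomial.X 0 ^ 2 - (MvPolynomial.X 1 ^ 3 +
    MvPolynomial.C a * MvPolynomial.X 1 + MvPolynomial.C b) with hf
  have hirr : Irreducible f := weier_irreducible a b
  have hgen : IntermediateField.adjoin k ({y, x} : Set K) = ⊤ := by
    rw [Set.pair_comm]; exact s.hxy
  have hf1 : MvPolynomial.aeval ![y, x] f = 0 := by
    simp only [hf, map_sub, map_pow, map_add, map_mul, MvPolynomial.aeval_X, MvPolynomial.aeval_C,
      Matrix.cons_val_zero, Matrix.cons_val_one]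
    rw [s.heq]; ring
  set x' := algebraMap k K (u ^ 2) * x with hx'
  set y' := algebraMap k K (u ^ 3) * y with hy'
  have hu2 : algebraMap k K (u ^ 2) ≠ 0 := (_root_.map_ne_zero _).mpr (pow_ne_zero _ hu)
  have hu3 : algebraMap k K (u ^ 3) ≠ 0 := (_root_.map_ne_zero _).mpr (pow_ne_zero _ hu)
  have hf2 : MvPolynomial.aeval ![y', x'] f = 0 := by
    simp only [hf, map_sub, map_pow, map_add, map_mul, MvPolynomial.aeval_X, MvPolynomial.aeval_C,
      Matrix.cons_val_zero, Matrix.cons_val_one]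
    have ha' : algebraMap k K a * (algebraMap k K u ^ 4 - 1) = 0 := by
      have := congrArg (algebraMap k K) ha
      simpa using this
    have hb' : algebraMap k K b * (algebraMap k K u ^ 6 - 1) = 0 := by
      have := congrArg (algebraMap k K) hb
      simpa using this
    rw [hx', hy', map_pow, map_pow]
    linear_combination (algebraMap k K u) ^ 6 * s.heq +
      (algebraMap k K u) ^ 2 * x * ha' + hb'
  have hgen' : IntermediateField.adjoin k ({y', x'} : Set K) = ⊤ := by
    rw [eq_top_iff, ← hgen, IntermediateField.adjoin_le_iff]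
    intro z hz
    rcases hz with rfl | hz
    · have h1 : y' ∈ IntermediateField.adjoin k ({y', x'} : Set K) :=
        IntermediateField.subset_adjoin k _ (by simp)
      have : z = (algebraMap k K (u ^ 3))⁻¹ * y' := by
        rw [hy', ← mul_assoc, inv_mul_cancel₀ hu3, one_mul]
      rw [this]
      exact mul_mem (inv_mem (IntermediateField.algebraMap_mem _ _)) h1
    · rw [Set.mem_singleton_iff] at hz
      rw [hz]
      have h1 : x' ∈ IntermediateField.adjoin k ({y', x'} : Set K) :=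
        IntermediateField.subset_adjoin k _ (by simp)
      have : x = (algebraMap k K (u ^ 2))⁻¹ * x' := by
        rw [hx', ← mul_assoc, inv_mul_cancel₀ hu2, one_mul]
      rw [this]
      exact mul_mem (inv_mem (IntermediateField.algebraMap_mem _ _)) h1
  have ker1 := PlaneKer.ker_eq_span hK y x hgen f hirr hf1
  have ker2 := PlaneKer.ker_eq_span hK y' x' hgen' f hirr hf2
  obtain ⟨σ, hσy, hσx⟩ := PlaneKer.exists_algEquiv y x y' x' hgen hgen' (ker1.trans ker2.symm)
  refine ⟨σ, hσx, hσy, ?_⟩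
  have hQ : H55.comapEquiv P σ = P := by
    by_contra hne
    have h1 := s.hx (H55.comapEquiv P σ)
    rw [Finsupp.single_eq_of_ne (fun h => hne h), exp_zero] at h1
    have h2 : (H55.comapEquiv P σ).1 x = P.1 (σ x) := rfl
    rw [h2, hσx, hx', map_mul, RatPlace.val_const P (pow_ne_zero _ hu), one_mul, s.valx,
      ← exp_zero, exp_le_exp] at h1
    norm_num at h1
  intro z
  have h2 : (H55.comapEquiv P σ).1 z = P.1 (σ z) := rfl
  rw [← h2, hQ]

/-- counting, given the arithmetic of the parameter. -/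
theorem Setup.card_of_key (s : Setup P a b x y) (n : ℕ) [NeZero ((n : ℕ) : k)]
    (hkey : ∀ u : k, u ≠ 0 → ((a * (u ^ 4 - 1) = 0 ∧ b * (u ^ 6 - 1) = 0) ↔ u ^ n = 1)) :
    Nat.card {σ : K ≃ₐ[k] K // ∀ z : K, P.1 (σ z) = P.1 z} = n := by
  haveI : NeZero n := .of_neZero_natCast k
  rw [← HasEnoughRootsOfUnity.natCard_rootsOfUnity k n]
  symm
  have hmem : ∀ ζ : rootsOfUnity n k, ((ζ : kˣ) : k) ^ n = 1 := by
    intro ζ
    have := ζ.2
    rw [mem_rootsOfUnity] at this
    have h2 := congrArg (fun w : kˣ => (w : k)) this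
    simpa using h2
  have hex : ∀ ζ : rootsOfUnity n k, ∃ σ : K ≃ₐ[k] K,
      σ x = algebraMap k K (((ζ : kˣ) : k) ^ 2) * x ∧
      σ y = algebraMap k K (((ζ : kˣ) : k) ^ 3) * y ∧ ∀ z : K, P.1 (σ z) = P.1 z := by
    intro ζ
    have hu : ((ζ : kˣ) : k) ≠ 0 := (ζ : kˣ).ne_zero
    obtain ⟨h1, h2⟩ := (hkey _ hu).mpr (hmem ζ)
    exact s.exists_aut _ hu h1 h2
  let Θ : rootsOfUnity n k → {σ : K ≃ₐ[k] K // ∀ z : K, P.1 (σ z) = P.1 z} :=
    fun ζ => ⟨(hex ζ).choose, (hex ζ).choose_spec.2.2⟩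
  have hΘx : ∀ ζ, (Θ ζ).1 x = algebraMap k K (((ζ : kˣ) : k) ^ 2) * x :=
    fun ζ => (hex ζ).choose_spec.1
  have hΘy : ∀ ζ, (Θ ζ).1 y = algebraMap k K (((ζ : kˣ) : k) ^ 3) * y :=
    fun ζ => (hex ζ).choose_spec.2.1
  apply Nat.card_congr
  refine Equiv.ofBijective Θ ⟨?_, ?_⟩
  · intro ζ ζ' h
    have h1 : (Θ ζ).1 x = (Θ ζ').1 x := by rw [h]
    have h2 : (Θ ζ).1 y = (Θ ζ').1 y := by rw [h]
    rw [hΘx, hΘx] at h1
    rw [hΘy, hΘy] at h2
    have e1 : ((ζ : kˣ) : k) ^ 2 = ((ζ' : kˣ) : k) ^ 2 :=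
      (algebraMap k K).injective (mul_right_cancel₀ s.x_ne h1)
    have e2 : ((ζ : kˣ) : k) ^ 3 = ((ζ' : kˣ) : k) ^ 3 :=
      (algebraMap k K).injective (mul_right_cancel₀ s.y_ne h2)
    have hu : ((ζ : kˣ) : k) ≠ 0 := (ζ : kˣ).ne_zero
    have hu' : ((ζ' : kˣ) : k) ≠ 0 := (ζ' : kˣ).ne_zero
    have e3 : ((ζ : kˣ) : k) = ((ζ' : kˣ) : k) := by
      have h3 : ((ζ : kˣ) : k) ^ 2 * ((ζ : kˣ) : k) = ((ζ : kˣ) : k) ^ 2 * ((ζ' : kˣ) : k) := by
        calc ((ζ : kˣ) : k) ^ 2 * ((ζ : kˣ) : k) = ((ζ : kˣ) : k) ^ 3 := by ring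
          _ = ((ζ' : kˣ) : k) ^ 3 := e2
          _ = ((ζ' : kˣ) : k) ^ 2 * ((ζ' : kˣ) : k) := by ring
          _ = ((ζ : kˣ) : k) ^ 2 * ((ζ' : kˣ) : k) := by rw [e1]
      exact mul_left_cancel₀ (pow_ne_zero 2 hu) h3
    exact Subtype.ext (Units.ext e3)
  · rintro ⟨σ, hσ⟩
    obtain ⟨u, hu, ha, hb, hσx, hσy⟩ := s.shape σ hσ
    have hun : u ^ n = 1 := (hkey u hu).mp ⟨ha, hb⟩
    let ζ : rootsOfUnity n k := ⟨Units.mk0 u hu, by
      rw [mem_rootsOfUnity]
      apply Units.ext
      simpa using hun⟩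
    refine ⟨ζ, ?_⟩
    apply Subtype.ext
    apply PlaneKer.algEquiv_ext_of_gen x y s.hxy
    · rw [hΘx, hσx]; rfl
    · rw [hΘy, hσy]; rfl

end

end Groth.Agent.H81.EllAut
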