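import Mathlib
import Groth.Agent.H3.SL2

/-!
# Étale neighbourhoods with exact kernel lifting an idempotent matrix (helper81, for helper13 S6826)
-/

set_option autoImplicit false
set_option linter.unusedSimpArgs false
set_option linter.unusedVariables false
set_option linter.style.haveILetI false
universe u

namespace Groth.Agent.H81.EtNbhdIdem

/-- Step A: the kernel of a `P`-algebra map `χ1 : P1 → P/𝔞` from a finite-type `P`-algebra is
`𝔞P1 + (f.g. ideal)`. -/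
theorem ker_eq_sup_fg {P P1 : Type u} [CommRing P] [CommRing P1] [Algebra P P1]
    [Algebra.FiniteType P P1] (𝔞 : Ideal P) (χ1 : P1 →ₐ[P] P ⧸ 𝔞) :
    ∃ K₀ : Ideal P1, K₀.FG ∧
      RingHom.ker χ1.toRingHom = 𝔞.map (algebraMap P P1) ⊔ K₀ := by
  classical
  obtain ⟨s, hs⟩ := (Algebra.FiniteType.out : (⊤ : Subalgebra P P1).FG)
  have hr : ∀ b : P1, ∃ r : P, χ1 b = Ideal.Quotient.mk 𝔞 r := fun b =>
    (Ideal.Quotient.mk_surjective (χ1 b)).imp fun r hr => hr.symm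
  choose r hr using hr
  let K₀ : Ideal P1 := Ideal.span ((fun b => b - algebraMap P P1 (r b)) '' (s : Set P1))
  have hK₀fg : K₀.FG := by
    refine ⟨s.image (fun b => b - algebraMap P P1 (r b)), ?_⟩
    simp only [K₀, Finset.coe_image]
  refine ⟨K₀, hK₀fg, ?_⟩
  have hcong : ∀ x : P1, ∃ c : P, x - algebraMap P P1 c ∈ K₀ := by
    intro x
    have hx : x ∈ Algebra.adjoin P (s : Set P1) := by rw [hs]; trivial
    induction hx using Algebra.adjoin_induction with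
    | mem b hb => exact ⟨r b, Ideal.subset_span ⟨b, hb, rfl⟩⟩
    | algebraMap c => exact ⟨c, by simp⟩
    | add x y _ _ hx hy =>
      obtain ⟨c, hc⟩ := hx; obtain ⟨d, hd⟩ := hy
      refine ⟨c + d, ?_⟩
      have : x + y - algebraMap P P1 (c + d) =
          (x - algebraMap P P1 c) + (y - algebraMap P P1 d) := by rw [map_add]; ring
      rw [this]
      exact K₀.add_mem hc hd
    | mul x y _ _ hx hy =>
      obtain ⟨c, hc⟩ := hx; obtain ⟨d, hd⟩ := hy
      refine ⟨c * d, ?_⟩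
      have : x * y - algebraMap P P1 (c * d) =
          (x - algebraMap P P1 c) * y + algebraMap P P1 c * (y - algebraMap P P1 d) := by
        rw [map_mul]; ring
      rw [this]
      exact K₀.add_mem (K₀.mul_mem_right _ hc) (K₀.mul_mem_left _ hd)
  have hmem : ∀ x : P1, x ∈ RingHom.ker χ1.toRingHom ↔ χ1 x = 0 := fun x => Iff.rfl
  have hK₀ : K₀ ≤ RingHom.ker χ1.toRingHom := by
    rw [Ideal.span_le]
    rintro _ ⟨b, hb, rfl⟩
    rw [SetLike.mem_coe, hmem, map_sub, AlgHom.commutes, hr b, Ideal.Quotient.algebraMap_eq,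
      sub_self]
  have h𝔞 : 𝔞.map (algebraMap P P1) ≤ RingHom.ker χ1.toRingHom := by
    rw [Ideal.map_le_iff_le_comap]
    intro a ha
    rw [Ideal.mem_comap, hmem, AlgHom.commutes, Ideal.Quotient.algebraMap_eq]
    exact Ideal.Quotient.eq_zero_iff_mem.mpr ha
  apply le_antisymm
  · intro k hk
    obtain ⟨c, hc⟩ := hcong k
    have hc' : algebraMap P P1 c ∈ RingHom.ker χ1.toRingHom := by
      have := (RingHom.ker χ1.toRingHom).sub_mem hk (hK₀ hc)
      simpa using this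
    have hc𝔞 : c ∈ 𝔞 := by
      rw [hmem, AlgHom.commutes, Ideal.Quotient.algebraMap_eq] at hc'
      exact Ideal.Quotient.eq_zero_iff_mem.mp hc'
    have : k = algebraMap P P1 c + (k - algebraMap P P1 c) := by ring
    rw [this]
    exact Ideal.add_mem _ (Ideal.mem_sup_left (Ideal.mem_map_of_mem _ hc𝔞))
      (Ideal.mem_sup_right hc)
  · exact sup_le h𝔞 hK₀

/-- Step B: for a formally unramified `P`-algebra `P1`, the kernel `K` of `χ1 : P1 → P/𝔞`
satisfies `K ≤ 𝔞P1 + K²`. -/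
theorem ker_le_sup_sq {P P1 : Type u} [CommRing P] [CommRing P1] [Algebra P P1]
    [Algebra.FormallyUnramified P P1] (𝔞 : Ideal P) (χ1 : P1 →ₐ[P] P ⧸ 𝔞) :
    RingHom.ker χ1.toRingHom ≤
      𝔞.map (algebraMap P P1) ⊔ RingHom.ker χ1.toRingHom ^ 2 := by
  obtain ⟨K, hK⟩ : ∃ K : Ideal P1, K = RingHom.ker χ1.toRingHom := ⟨_, rfl⟩
  rw [← hK]
  have hmem : ∀ x : P1, x ∈ K ↔ χ1 x = 0 := fun x => by rw [hK]; exact Iff.rfl
  obtain ⟨L, hL⟩ : ∃ L : Ideal P1, L = 𝔞.map (algebraMap P P1) ⊔ K ^ 2 := ⟨_, rfl⟩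
  rw [← hL]
  let I : Ideal (P1 ⧸ L) := K.map (Ideal.Quotient.mk L)
  have hI : IsNilpotent I := by
    refine ⟨2, ?_⟩
    rw [← Ideal.map_pow, Ideal.zero_eq_bot, Ideal.map_eq_bot_iff_le_ker, Ideal.mk_ker, hL]
    exact le_sup_right
  let s : (P ⧸ 𝔞) →ₐ[P] (P1 ⧸ L) := Ideal.Quotient.liftₐ 𝔞 (Algebra.ofId P (P1 ⧸ L)) (by
    intro a ha
    rw [Algebra.ofId_apply, IsScalarTower.algebraMap_apply P P1 (P1 ⧸ L),
      Ideal.Quotient.algebraMap_eq]
    refine Ideal.Quotient.eq_zero_iff_mem.mpr ?_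
    rw [hL]
    exact Ideal.mem_sup_left (Ideal.mem_map_of_mem _ ha))
  have hs : ∀ r : P, s (Ideal.Quotient.mk 𝔞 r) = Ideal.Quotient.mk L (algebraMap P P1 r) := by
    intro r
    show Ideal.Quotient.liftₐ 𝔞 (Algebra.ofId P (P1 ⧸ L)) _ (Ideal.Quotient.mk 𝔞 r) = _
    rw [Ideal.Quotient.liftₐ_apply, Ideal.Quotient.lift_mk]
    show (Algebra.ofId P (P1 ⧸ L)) r = _
    rw [Algebra.ofId_apply, IsScalarTower.algebraMap_apply P P1 (P1 ⧸ L),
      Ideal.Quotient.algebraMap_eq]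
  let g₁ : P1 →ₐ[P] (P1 ⧸ L) := Ideal.Quotient.mkₐ P L
  let g₂ : P1 →ₐ[P] (P1 ⧸ L) := s.comp χ1
  have hg : g₁ = g₂ := by
    apply Algebra.FormallyUnramified.ext I hI
    intro x
    obtain ⟨r, hr⟩ := Ideal.Quotient.mk_surjective (χ1 x)
    have h2 : g₂ x = Ideal.Quotient.mk L (algebraMap P P1 r) := by
      show s (χ1 x) = _
      rw [← hr, hs]
    rw [h2, Ideal.Quotient.eq]
    show Ideal.Quotient.mk L x - Ideal.Quotient.mk L (algebraMap P P1 r) ∈ I
    rw [← map_sub]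
    apply Ideal.mem_map_of_mem
    rw [hmem, map_sub, AlgHom.commutes, Ideal.Quotient.algebraMap_eq, hr, sub_self]
  intro k hk
  have h1 : g₁ k = g₂ k := by rw [hg]
  have h0 : g₂ k = 0 := by
    show s (χ1 k) = 0
    rw [(hmem k).mp hk, map_zero]
  rw [h0] at h1
  exact Ideal.Quotient.eq_zero_iff_mem.mp h1

/-- Step C: the kernel is `𝔞P1 + (t)` with `t` idempotent modulo `𝔞P1`. -/
theorem exists_idem_gen {P P1 : Type u} [CommRing P] [CommRing P1] [Algebra P P1]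
    [Algebra.FiniteType P P1] [Algebra.FormallyUnramified P P1] (𝔞 : Ideal P)
    (χ1 : P1 →ₐ[P] P ⧸ 𝔞) :
    ∃ t : P1, t * t - t ∈ 𝔞.map (algebraMap P P1) ∧
      RingHom.ker χ1.toRingHom = 𝔞.map (algebraMap P P1) ⊔ Ideal.span {t} := by
  obtain ⟨K₀, hK₀fg, hK₀⟩ := ker_eq_sup_fg 𝔞 χ1
  have hsq := ker_le_sup_sq 𝔞 χ1
  obtain ⟨K, hK⟩ : ∃ K : Ideal P1, K = RingHom.ker χ1.toRingHom := ⟨_, rfl⟩
  rw [← hK] at hK₀ hsq ⊢
  obtain ⟨𝔞₁, h𝔞₁⟩ : ∃ 𝔞₁ : Ideal P1, 𝔞₁ = 𝔞.map (algebraMap P P1) := ⟨_, rfl⟩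
  rw [← h𝔞₁] at hK₀ hsq ⊢
  have h𝔞K : 𝔞₁ ≤ K := by rw [hK₀]; exact le_sup_left
  have hmk_surj : Function.Surjective (Ideal.Quotient.mk 𝔞₁) := Ideal.Quotient.mk_surjective
  have hmap𝔞 : 𝔞₁.map (Ideal.Quotient.mk 𝔞₁) = ⊥ := by
    rw [Ideal.map_eq_bot_iff_le_ker, Ideal.mk_ker]
  have hcomap : ∀ J : Ideal P1, (J.map (Ideal.Quotient.mk 𝔞₁)).comap (Ideal.Quotient.mk 𝔞₁)
      = J ⊔ 𝔞₁ := by
    intro J
    rw [Ideal.comap_map_of_surjective _ hmk_surj, ← RingHom.ker_eq_comap_bot, Ideal.mk_ker]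
  obtain ⟨Kb, hKb⟩ : ∃ Kb : Ideal (P1 ⧸ 𝔞₁), Kb = K.map (Ideal.Quotient.mk 𝔞₁) := ⟨_, rfl⟩
  have hKb_fg : Kb.FG := by
    have : Kb = K₀.map (Ideal.Quotient.mk 𝔞₁) := by
      rw [hKb, hK₀, Ideal.map_sup, hmap𝔞, bot_sup_eq]
    rw [this]; exact hK₀fg.map _
  have hKb_idem : IsIdempotentElem Kb := by
    show Kb * Kb = Kb
    apply le_antisymm Ideal.mul_le_right
    calc Kb = K.map (Ideal.Quotient.mk 𝔞₁) := hKb
      _ ≤ (𝔞₁ ⊔ K ^ 2).map (Ideal.Quotient.mk 𝔞₁) := Ideal.map_mono hsq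
      _ = (K ^ 2).map (Ideal.Quotient.mk 𝔞₁) := by rw [Ideal.map_sup, hmap𝔞, bot_sup_eq]
      _ = Kb * Kb := by rw [pow_two, Ideal.map_mul, hKb]
  obtain ⟨ε, hε, hKε⟩ := (Ideal.isIdempotentElem_iff_of_fg Kb hKb_fg).mp hKb_idem
  obtain ⟨t, rfl⟩ := hmk_surj ε
  refine ⟨t, ?_, ?_⟩
  · rw [← Ideal.Quotient.eq_zero_iff_mem, map_sub, map_mul]; exact sub_eq_zero.mpr hε
  · have h1 : K = Kb.comap (Ideal.Quotient.mk 𝔞₁) := by
      rw [hKb, hcomap]; exact (sup_eq_left.mpr h𝔞K).symm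
    have h2 : Kb = (Ideal.span {t}).map (Ideal.Quotient.mk 𝔞₁) := by
      rw [hKε, Ideal.map_span, Set.image_singleton]
    rw [h1, h2, hcomap, sup_comm]

/-- (EN) étale neighbourhood with exact kernel lifting an idempotent matrix. -/
theorem exists_etale_nbhd_idempotent {P : Type u} [CommRing P] (𝔞 : Ideal P) (n : ℕ) (p : Matrix (Fin n) (Fin n) (P ⧸ 𝔞)) (hp : p * p = p) : ∃ (P' : Type u) (_ : CommRing P') (_ : Algebra P P') (_ : Algebra.Etale P P') (χ : P' →ₐ[P] P ⧸ 𝔞) (e : Matrix (Fin n) (Fin n) P'), RingHom.ker χ.toRingHom = 𝔞.map (algebraMap P P') ∧ e * e = e ∧ e.map χ = p := by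
  obtain ⟨P1, _, _, _, χ1, e1, he1, he1p⟩ :=
    Groth.Agent.H3.SL.exists_etale_idempotent_lift 𝔞 n p hp
  obtain ⟨t, ht, hker⟩ := exists_idem_gen 𝔞 χ1
  have hmem1 : ∀ x : P1, x ∈ RingHom.ker χ1.toRingHom ↔ χ1 x = 0 := fun x => Iff.rfl
  have htK : χ1 t = 0 := by
    rw [← hmem1, hker]
    exact Ideal.mem_sup_right (Ideal.mem_span_singleton_self t)
  have hunit : ∀ y : Submonoid.powers (1 - t), IsUnit (χ1 y) := by
    rintro ⟨_, k, rfl⟩
    simp [map_pow, map_sub, htK]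
  haveI : Algebra.Etale P (Localization.Away (1 - t)) :=
    Algebra.Etale.comp P P1 (Localization.Away (1 - t))
  let χ : Localization.Away (1 - t) →ₐ[P] P ⧸ 𝔞 :=
    IsLocalization.liftAlgHom (M := Submonoid.powers (1 - t)) (f := χ1) hunit
  have hχ : ∀ y : P1, χ (algebraMap P1 (Localization.Away (1 - t)) y) = χ1 y := fun y =>
    IsLocalization.lift_eq hunit y
  have hmem : ∀ x : Localization.Away (1 - t), x ∈ RingHom.ker χ.toRingHom ↔ χ x = 0 :=
    fun x => Iff.rfl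
  have hmapmap : (𝔞.map (algebraMap P P1)).map (algebraMap P1 (Localization.Away (1 - t)))
      = 𝔞.map (algebraMap P (Localization.Away (1 - t))) := by
    rw [Ideal.map_map, ← IsScalarTower.algebraMap_eq]
  have hu : IsUnit (algebraMap P1 (Localization.Away (1 - t)) (1 - t)) :=
    IsLocalization.Away.algebraMap_isUnit (1 - t)
  have htmem : algebraMap P1 (Localization.Away (1 - t)) t ∈
      𝔞.map (algebraMap P (Localization.Away (1 - t))) := by
    have h1 : algebraMap P1 (Localization.Away (1 - t)) (t * t - t) ∈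
        𝔞.map (algebraMap P (Localization.Away (1 - t))) := by
      rw [← hmapmap]; exact Ideal.mem_map_of_mem _ ht
    have h2 : algebraMap P1 (Localization.Away (1 - t)) (t * t - t) =
        - (algebraMap P1 (Localization.Away (1 - t)) t *
          algebraMap P1 (Localization.Away (1 - t)) (1 - t)) := by
      rw [← map_mul, ← map_neg]; congr 1; ring
    rw [h2, neg_mem_iff, Ideal.mul_unit_mem_iff_mem _ hu] at h1
    exact h1
  refine ⟨Localization.Away (1 - t), inferInstance, inferInstance, inferInstance, χ,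
    e1.map (algebraMap P1 (Localization.Away (1 - t))), ?_, ?_, ?_⟩
  · apply le_antisymm
    · intro x hx
      rw [hmem] at hx
      obtain ⟨⟨y, s⟩, hys⟩ := IsLocalization.surj (Submonoid.powers (1 - t)) x
      simp only at hys
      have hsu : IsUnit (algebraMap P1 (Localization.Away (1 - t)) (s : P1)) :=
        IsLocalization.map_units _ s
      rw [← Ideal.mul_unit_mem_iff_mem _ hsu, hys]
      have hy : χ1 y = 0 := by
        rw [← hχ, ← hys, map_mul, hx, zero_mul]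
      rw [← hmem1, hker, Submodule.mem_sup] at hy
      obtain ⟨a, ha, b, hb, rfl⟩ := hy
      rw [map_add]
      refine Ideal.add_mem _ ?_ ?_
      · rw [← hmapmap]; exact Ideal.mem_map_of_mem _ ha
      · obtain ⟨c, rfl⟩ := Ideal.mem_span_singleton'.mp hb
        rw [map_mul]
        exact Ideal.mul_mem_left _ _ htmem
    · rw [Ideal.map_le_iff_le_comap]
      intro a ha
      rw [Ideal.mem_comap, hmem, AlgHom.commutes, Ideal.Quotient.algebraMap_eq]
      exact Ideal.Quotient.eq_zero_iff_mem.mpr ha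
  · rw [← Matrix.map_mul, he1]
  · rw [Matrix.map_map]
    rw [← he1p]
    ext i j
    simp only [Matrix.map_apply, Function.comp_apply]
    exact hχ _

end Groth.Agent.H81.EtNbhdIdem
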