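import Groth.Agent.H81.FibreTorsor

/-!
The boundary map of non-abelian cohomology (`NonAbH1.GSheaf.IsFibreOver`): exactness statements.
-/

set_option autoImplicit false

universe w₂ w v u

open CategoryTheory Opposite

namespace Groth.Agent.H81.Fib

open NonAbH1 NonAbH1.GSheaf

variable {C : Type u} [Category.{v} C] {J : GrothendieckTopology C}

/-- glue a global section from values given wherever `T` has a section -/
theorem exists_section_glue (P : Sheaf J (Type w)) (T : Cᵒᵖ ⥤ Type w₂)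
    (hT : ∀ X : C, ∃ S ∈ J X, ∀ ⦃V : C⦄ (f : V ⟶ X), S f → Nonempty (T.obj (op V)))
    (h : ∀ V : C, T.obj (op V) → P.obj.obj (op V))
    (hconst : ∀ (V : C) (t t' : T.obj (op V)), h V t = h V t')
    (hnat : ∀ ⦃V V' : C⦄ (k : V' ⟶ V) (t : T.obj (op V)),
      P.obj.map k.op (h V t) = h V' (T.map k.op t)) :
    ∃ s : P.obj.sections, ∀ (V : C) (t : T.obj (op V)), s.1 (op V) = h V t := by
  have key : ∀ X : C, ∃! p : P.obj.obj (op X),
      ∀ ⦃V : C⦄ (a : V ⟶ X) (t : T.obj (op V)), P.obj.map a.op p = h V t :=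
    fun X => existsUnique_glue P T hT (fun V _ t => h V t)
      (fun V _ t t' => hconst V t t') (fun V V' k _ t => hnat k t)
  choose p hp using fun X => (key X).exists
  have huniq : ∀ (X : C) (y : P.obj.obj (op X)),
      (∀ ⦃V : C⦄ (a : V ⟶ X) (t : T.obj (op V)), P.obj.map a.op y = h V t) → y = p X :=
    fun X y hy => (key X).unique hy (hp X)
  refine ⟨⟨fun U => p U.unop, ?_⟩, ?_⟩
  · intro U V i
    show P.obj.map i (p U.unop) = p V.unop
    apply huniq V.unop
    intro W a t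
    have h1 := hp U.unop (a ≫ i.unop) t
    rw [show (a ≫ i.unop).op = i ≫ a.op from rfl, FunctorToTypes.map_comp_apply] at h1
    exact h1
  · intro V t
    have h1 := hp V (𝟙 V) t
    rw [show (𝟙 V).op = 𝟙 (op V) from rfl, FunctorToTypes.map_id_apply] at h1
    exact h1

variable {F G : Sheaf J GrpCat.{w}} [J.HasSheafCompose (forget GrpCat.{w})] {u : F ⟶ G}
  {Q : NonAbH1.GSheaf G} {π : NonAbH1.GSheaf.trivial G ⟶ Q}

/-- the class of a torsor is the base point iff the torsor is isomorphic to the trivial one -/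
theorem cl_eq_one_iff (T : NonAbH1.Torsor F) :
    T.cl = 1 ↔ Nonempty (T.toGSheaf ≅ NonAbH1.GSheaf.trivial F) := by
  have hequiv : Equivalence
      (fun P Q : NonAbH1.Torsor F => Nonempty (P.toGSheaf ≅ Q.toGSheaf)) :=
    ⟨fun P => ⟨Iso.refl _⟩, fun ⟨e⟩ => ⟨e.symm⟩, fun ⟨e⟩ ⟨e'⟩ => ⟨e ≪≫ e'⟩⟩
  constructor
  · intro h
    have h' : Quot.mk _ T = Quot.mk _ (NonAbH1.trivialTorsor F) := h
    exact hequiv.eqvGen_iff.mp (Quot.eq.mp h')
  · intro h
    exact Quot.sound h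

/-- exactness at the global sections of the quotient -/
theorem boundary_trivial_iff (c : Q.P.obj.sections) (T : NonAbH1.Torsor F)
    (hT : IsFibreOver u π c T.toGSheaf) :
    T.cl = 1 ↔
      ∃ g : (uSh G).obj.sections, ∀ U : Cᵒᵖ, π.hom.hom.app U (g.1 U) = c.1 U := by
  rw [cl_eq_one_iff]
  obtain ⟨ι, hinj, hfib, heq⟩ := hT
  constructor
  · rintro ⟨e⟩
    have ht : ∀ ⦃U V : Cᵒᵖ⦄ (i : U ⟶ V),
        T.P.obj.map i (e.inv.hom.hom.app U (ofGrp (1 : F.obj.obj U))) =
          e.inv.hom.hom.app V (ofGrp (1 : F.obj.obj V)) := by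
      intro U V i
      have h1 := NatTrans.naturality_apply e.inv.hom.hom i (ofGrp (1 : F.obj.obj U))
      rw [← h1]
      congr 1
      show ofGrp (F.obj.map i (1 : F.obj.obj U)) = ofGrp 1
      rw [map_one]
    refine ⟨⟨fun U => ι.hom.app U (e.inv.hom.hom.app U (ofGrp (1 : F.obj.obj U))), ?_⟩, ?_⟩
    · intro U V i
      show (uSh G).obj.map i (ι.hom.app U (e.inv.hom.hom.app U (ofGrp (1 : F.obj.obj U)))) =
        ι.hom.app V (e.inv.hom.hom.app V (ofGrp (1 : F.obj.obj V)))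
      rw [← ht i]
      exact (NatTrans.naturality_apply ι.hom i _).symm
    · intro U
      show π.hom.hom.app U (ofGrp (toGrp (ι.hom.app U
        (e.inv.hom.hom.app U (ofGrp (1 : F.obj.obj U)))))) = c.1 U
      exact (hfib U _).mp ⟨_, rfl⟩
  · rintro ⟨g, hg⟩
    have hex : ∀ U : Cᵒᵖ, ∃ t : T.P.obj.obj U, toGrp (ι.hom.app U t) = toGrp (g.1 U) :=
      fun U => (hfib U _).mpr (hg U)
    choose t ht using hex
    have htc : ∀ ⦃U V : Cᵒᵖ⦄ (i : U ⟶ V), T.P.obj.map i (t U) = t V := by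
      intro U V i
      apply hinj V
      show toGrp (ι.hom.app V (T.P.obj.map i (t U))) = toGrp (ι.hom.app V (t V))
      rw [iota_nat, ht, ht]
      exact g.2 i
    refine (nonempty_iso_of_bijective (NonAbH1.GSheaf.trivial F) T.toGSheaf
      (fun U f => T.smul (toGrp f) (t U)) ?_ ?_ ?_).map Iso.symm
    · intro U V i p
      show T.smul (F.obj.map i (toGrp p)) (t V) = T.P.obj.map i (T.smul (toGrp p) (t U))
      rw [T.map_smul, htc i]
    · intro U f p
      exact T.mul_smul f (toGrp p) (t U)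
    · intro U
      constructor
      · intro f f' h
        exact (T.isTorsor.1 U (t U) (T.smul (toGrp f') (t U))).unique h rfl
      · intro p
        obtain ⟨f, hf, -⟩ := T.isTorsor.1 U (t U) p
        exact ⟨ofGrp f, hf⟩

section Translate

variable {T T' : NonAbH1.GSheaf F} (ι : T.P ⟶ uSh G) (ι' : T'.P ⟶ uSh G) (φ : T ⟶ T')

/-- the translate `ι'(φ t) * ι(t)⁻¹` -/
def dif (V : C) (t : T.P.obj.obj (op V)) : (uSh G).obj.obj (op V) :=
  ofGrp (toGrp (ι'.hom.app (op V) (φ.hom.hom.app (op V) t)) * (toGrp (ι.hom.app (op V) t))⁻¹)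

lemma dif_const (hT : T.IsPseudoTorsor)
    (heq : ∀ (U : Cᵒᵖ) (f : F.obj.obj U) (t : T.P.obj.obj U),
      toGrp (ι.hom.app U (T.smul f t)) = toGrp (ι.hom.app U t) * (u.hom.app U f)⁻¹)
    (heq' : ∀ (U : Cᵒᵖ) (f : F.obj.obj U) (t : T'.P.obj.obj U),
      toGrp (ι'.hom.app U (T'.smul f t)) = toGrp (ι'.hom.app U t) * (u.hom.app U f)⁻¹)
    (V : C) (t t' : T.P.obj.obj (op V)) : dif ι ι' φ V t = dif ι ι' φ V t' := by
  obtain ⟨f, hf, -⟩ := hT (op V) t t'
  subst hf
  show ofGrp (toGrp (ι'.hom.app (op V) (φ.hom.hom.app (op V) t)) *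
      (toGrp (ι.hom.app (op V) t))⁻¹) =
    ofGrp (toGrp (ι'.hom.app (op V) (φ.hom.hom.app (op V) (T.smul f t))) *
      (toGrp (ι.hom.app (op V) (T.smul f t)))⁻¹)
  rw [φ.map_smul, heq', heq, mul_inv_rev, inv_inv, mul_assoc, inv_mul_cancel_left]

lemma dif_nat ⦃V V' : C⦄ (k : V' ⟶ V) (t : T.P.obj.obj (op V)) :
    (uSh G).obj.map k.op (dif ι ι' φ V t) = dif ι ι' φ V' (T.P.obj.map k.op t) := by
  show ofGrp (G.obj.map k.op (toGrp (ι'.hom.app (op V) (φ.hom.hom.app (op V) t)) *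
      (toGrp (ι.hom.app (op V) t))⁻¹)) =
    ofGrp (toGrp (ι'.hom.app (op V') (φ.hom.hom.app (op V') (T.P.obj.map k.op t))) *
      (toGrp (ι.hom.app (op V') (T.P.obj.map k.op t)))⁻¹)
  rw [map_mul, map_inv, NatTrans.naturality_apply φ.hom.hom k.op t, iota_nat, iota_nat]

end Translate

/-- the fibres of the boundary map are the orbits of the global sections of `G` -/
theorem boundary_eq_iff (hu : ∀ U : Cᵒᵖ, Function.Injective (u.hom.app U))
    (hQ : IsQuotientBy u π) (c c' : Q.P.obj.sections) (T T' : NonAbH1.GSheaf F)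
    (hT : IsFibreOver u π c T) (hT' : IsFibreOver u π c' T') :
    Nonempty (T ≅ T') ↔
      ∃ g : (uSh G).obj.sections,
        ∀ U : Cᵒᵖ, Q.smul (toGrp (g.1 U)) (c.1 U) = c'.1 U := by
  constructor
  · rintro ⟨e⟩
    have hTt : T.IsTorsor := isTorsor_of_isFibreOver hu hQ c T hT
    obtain ⟨ι, hinj, hfib, heq⟩ := hT
    obtain ⟨ι', hinj', hfib', heq'⟩ := hT'
    obtain ⟨g, hg⟩ := exists_section_glue (uSh G) T.P.obj hTt.2 (dif ι ι' e.hom)
      (dif_const ι ι' e.hom hTt.1 heq heq') (dif_nat ι ι' e.hom)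
    refine ⟨g, fun U => ?_⟩
    obtain ⟨S, hS, hne⟩ := hTt.2 U.unop
    apply T_sep Q.P S hS
    intro V a ha
    obtain ⟨t⟩ := hne a ha
    have h0 : G.obj.map a.op (toGrp (g.1 U)) = toGrp (g.1 (op V)) := g.2 a.op
    have h1 : toGrp (g.1 (op V)) =
        toGrp (ι'.hom.app (op V) (e.hom.hom.hom.app (op V) t)) *
          (toGrp (ι.hom.app (op V) t))⁻¹ := hg V t
    have h2 : π.hom.hom.app (op V) (ofGrp (toGrp (ι.hom.app (op V) t))) = c.1 (op V) :=
      (hfib _ _).mp ⟨t, rfl⟩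
    have h3 : π.hom.hom.app (op V) (ofGrp (toGrp (ι'.hom.app (op V)
        (e.hom.hom.hom.app (op V) t)))) = c'.1 (op V) := (hfib' _ _).mp ⟨_, rfl⟩
    have h4 : Q.P.obj.map a.op (c.1 U) = c.1 (op V) := c.2 a.op
    have h5 : Q.P.obj.map a.op (c'.1 U) = c'.1 (op V) := c'.2 a.op
    show Q.P.obj.map a.op (Q.smul (toGrp (g.1 U)) (c.1 U)) = Q.P.obj.map a.op (c'.1 U)
    rw [Q.map_smul, h0, h1, h4, h5, ← h2, ← pi_mul, inv_mul_cancel_right, h3]
  · rintro ⟨g, hg⟩
    exact iso_of_fibre_translate c c' T T' hT hT' g hg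

section Push

/-- section-wise inverse of a morphism to `G` -/
def invHom {T : Sheaf J (Type w)} (f : T ⟶ uSh G) : T ⟶ uSh G :=
  ⟨{ app := fun U => TypeCat.ofHom (fun t => ofGrp (toGrp (f.hom.app U t))⁻¹)
     naturality := by
       intro U V i
       ext t
       show ofGrp (toGrp (f.hom.app V (T.obj.map i t)))⁻¹ =
         ofGrp (G.obj.map i ((toGrp (f.hom.app U t))⁻¹))
       rw [iota_nat, map_inv] }⟩

lemma invHom_apply {T : Sheaf J (Type w)} (f : T ⟶ uSh G) (U : Cᵒᵖ) (t : T.obj.obj U) :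
    toGrp ((invHom f).hom.app U t) = (toGrp (f.hom.app U t))⁻¹ := rfl

theorem fibre_of_pushforward (hu : ∀ U : Cᵒᵖ, Function.Injective (u.hom.app U))
    (hQ : IsQuotientBy u π) (T : NonAbH1.Torsor F) (f : T.P ⟶ uSh G)
    (hf : ∀ (U : Cᵒᵖ) (g : F.obj.obj U) (t : T.P.obj.obj U),
      toGrp (f.hom.app U (T.smul g t)) = u.hom.app U g * toGrp (f.hom.app U t)) :
    ∃ c : Q.P.obj.sections, IsFibreOver u π c T.toGSheaf := by
  have hTt := T.isTorsor
  have heq : ∀ (U : Cᵒᵖ) (g : F.obj.obj U) (t : T.P.obj.obj U),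
      toGrp ((invHom f).hom.app U (T.smul g t)) =
        toGrp ((invHom f).hom.app U t) * (u.hom.app U g)⁻¹ := by
    intro U g t
    rw [invHom_apply, invHom_apply, hf, mul_inv_rev]
  have hinj : ∀ U : Cᵒᵖ, Function.Injective ((invHom f).hom.app U) := by
    intro U t t' htt
    have h0 : (toGrp (f.hom.app U t))⁻¹ = (toGrp (f.hom.app U t'))⁻¹ := htt
    obtain ⟨g, hg, -⟩ := hTt.1 U t t'
    subst hg
    rw [hf, inv_inj] at h0
    have h1 : u.hom.app U g = 1 := by
      apply mul_right_cancel (b := toGrp (f.hom.app U t))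
      rw [one_mul]
      exact h0.symm
    have h2 : g = 1 := hu U (h1.trans (map_one _).symm)
    rw [h2, T.one_smul]
  have hconst : ∀ (V : C) (t t' : T.P.obj.obj (op V)),
      π.hom.hom.app (op V) (ofGrp (toGrp (f.hom.app (op V) t))⁻¹) =
        π.hom.hom.app (op V) (ofGrp (toGrp (f.hom.app (op V) t'))⁻¹) := by
    intro V t t'
    obtain ⟨g, hg, -⟩ := hTt.1 (op V) t t'
    subst hg
    apply (hQ.1 (op V) _ _).mpr
    refine ⟨g⁻¹, ?_⟩
    rw [hf, mul_inv_rev, map_inv]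
  have hnat : ∀ ⦃V V' : C⦄ (k : V' ⟶ V) (t : T.P.obj.obj (op V)),
      Q.P.obj.map k.op (π.hom.hom.app (op V) (ofGrp (toGrp (f.hom.app (op V) t))⁻¹)) =
        π.hom.hom.app (op V') (ofGrp (toGrp (f.hom.app (op V') (T.P.obj.map k.op t)))⁻¹) := by
    intro V V' k t
    rw [← pi_nat π, map_inv, iota_nat]
  obtain ⟨c, hc⟩ := exists_section_glue Q.P T.P.obj hTt.2
    (fun V t => π.hom.hom.app (op V) (ofGrp (toGrp (f.hom.app (op V) t))⁻¹)) hconst hnat
  refine ⟨c, invHom f, hinj, ?_, heq⟩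
  intro U g
  obtain ⟨X, rfl⟩ : ∃ X : C, U = op X := ⟨U.unop, rfl⟩
  constructor
  · rintro ⟨t, rfl⟩
    exact (hc X t).symm
  · intro hg
    obtain ⟨S, hS, hne⟩ := hTt.2 X
    have hloc : ∀ ⦃V : C⦄ (a : V ⟶ X) (_ : T.P.obj.obj (op V)),
        ∃ t : T.P.obj.obj (op V),
          toGrp ((invHom f).hom.app (op V) t) = G.obj.map a.op g := by
      intro V a t₀
      have h4 : Q.P.obj.map a.op (c.1 (op X)) = c.1 (op V) := c.2 a.op
      have h1 : π.hom.hom.app (op V) (ofGrp (G.obj.map a.op g)) =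
          π.hom.hom.app (op V) (ofGrp (toGrp (f.hom.app (op V) t₀))⁻¹) := by
        rw [pi_nat π, hg, h4]
        exact hc V t₀
      obtain ⟨f₁, hf₁⟩ := (hQ.1 (op V) _ _).mp h1
      refine ⟨T.smul f₁ t₀, ?_⟩
      rw [invHom_apply, hf, mul_inv_rev, hf₁, mul_inv_cancel_right]
    choose hsel hselspec using hloc
    have hsc : ∀ ⦃V : C⦄ (a : V ⟶ X) (t t' : T.P.obj.obj (op V)), hsel a t = hsel a t' := by
      intro V a t t'
      apply hinj (op V)
      show ofGrp (toGrp ((invHom f).hom.app (op V) (hsel a t))) =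
        ofGrp (toGrp ((invHom f).hom.app (op V) (hsel a t')))
      rw [hselspec, hselspec]
    have hsn : ∀ ⦃V V' : C⦄ (k : V' ⟶ V) (a : V ⟶ X) (t : T.P.obj.obj (op V)),
        T.P.obj.map k.op (hsel a t) = hsel (k ≫ a) (T.P.obj.map k.op t) := by
      intro V V' k a t
      apply hinj (op V')
      have h9 : G.obj.map (k ≫ a).op g = G.obj.map k.op (G.obj.map a.op g) := by
        rw [op_comp, Functor.map_comp]
        rfl
      show ofGrp (toGrp ((invHom f).hom.app (op V') (T.P.obj.map k.op (hsel a t)))) =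
        ofGrp (toGrp ((invHom f).hom.app (op V') (hsel (k ≫ a) (T.P.obj.map k.op t))))
      rw [iota_nat, hselspec, hselspec, h9]
    obtain ⟨t, ht, -⟩ := existsUnique_glue T.P T.P.obj hTt.2 hsel hsc hsn
    refine ⟨t, ?_⟩
    show ofGrp (toGrp ((invHom f).hom.app (op X) t)) = ofGrp g
    apply T_sep (uSh G) S hS
    intro V a ha
    obtain ⟨t₀⟩ := hne a ha
    show (uSh G).obj.map a.op ((invHom f).hom.app (op X) t) = ofGrp (G.obj.map a.op g)
    have h1 := NatTrans.naturality_apply (invHom f).hom a.op t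
    rw [← h1, ht a t₀]
    exact hselspec a t₀

/-- exactness at `H¹(F)` -/
theorem pushforward_trivial_iff (hu : ∀ U : Cᵒᵖ, Function.Injective (u.hom.app U))
    (hQ : IsQuotientBy u π) (T : NonAbH1.Torsor F) :
    IsPushforwardAlong u T.toGSheaf (NonAbH1.GSheaf.trivial G) ↔
      ∃ c : Q.P.obj.sections, IsFibreOver u π c T.toGSheaf := by
  constructor
  · rintro ⟨f, hf⟩
    exact fibre_of_pushforward hu hQ T f hf
  · rintro ⟨c, ι, hinj, hfib, heq⟩
    refine ⟨invHom ι, ?_⟩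
    intro U g p
    show ofGrp (toGrp (ι.hom.app U (T.smul g p)))⁻¹ =
      ofGrp (u.hom.app U g * (toGrp (ι.hom.app U p))⁻¹)
    rw [heq, mul_inv_rev, inv_inv]

end Push

end Groth.Agent.H81.Fib
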