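import Groth.Prelude.Def_NonAbH1

/-!
The Čech cocycle of a pseudo-torsor attached to a family of sections (`NonAbH1`).
-/

set_option autoImplicit false

universe w' w v u

open CategoryTheory Opposite

namespace Groth.Agent.H81

variable {C : Type u} [Category.{v} C] {J : GrothendieckTopology C} {G : Sheaf J GrpCat.{w}}

/-- freeness of the action on a pseudo-torsor -/
theorem smul_cancel (P : NonAbH1.GSheaf G) (h : P.IsPseudoTorsor) {U : Cᵒᵖ} (g g' : G.obj.obj U)
    (p : P.P.obj.obj U) (e : P.smul g p = P.smul g' p) : g = g' :=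
  (h U p (P.smul g' p)).unique e rfl

/-- the element carrying `p` to `q` -/
noncomputable def trans (P : NonAbH1.GSheaf G) (h : P.IsPseudoTorsor) {U : Cᵒᵖ}
    (p q : P.P.obj.obj U) : G.obj.obj U := (h U p q).exists.choose

theorem trans_smul (P : NonAbH1.GSheaf G) (h : P.IsPseudoTorsor) {U : Cᵒᵖ}
    (p q : P.P.obj.obj U) : P.smul (trans P h p q) p = q := (h U p q).exists.choose_spec

theorem map_comp_op (P : NonAbH1.GSheaf G) {T T' X : C} (φ : T ⟶ T') (a : T' ⟶ X)
    (x : P.P.obj.obj (op X)) :
    P.P.obj.map (φ ≫ a).op x = P.P.obj.map φ.op (P.P.obj.map a.op x) := by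
  rw [op_comp, Functor.map_comp_apply]

/-- the cocycle cut out by a family of sections of a pseudo-torsor -/
noncomputable def cocycleOf (P : NonAbH1.GSheaf G) (h : P.IsPseudoTorsor) {I : Type w'} (U : I → C)
    (s : ∀ i, P.P.obj.obj (op (U i))) : PresheafOfGroups.OneCocycle G.obj U where
  ev i j T a b := trans P h (P.P.obj.map b.op (s j)) (P.P.obj.map a.op (s i))
  ev_precomp i j T T' φ a b := by
    apply smul_cancel P h _ _ (P.P.obj.map (φ ≫ b).op (s j))
    rw [trans_smul, map_comp_op, ← P.map_smul, trans_smul, map_comp_op]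
  ev_trans i j k T a b c := by
    apply smul_cancel P h _ _ (P.P.obj.map c.op (s k))
    rw [P.mul_smul, trans_smul, trans_smul, trans_smul]

theorem isCocycleOf_cocycleOf (P : NonAbH1.GSheaf G) (h : P.IsPseudoTorsor) {I : Type w'}
    (U : I → C) (s : ∀ i, P.P.obj.obj (op (U i))) :
    P.IsCocycleOf U s (cocycleOf P h U s) := by
  intro i j T a b
  exact trans_smul P h _ _

/-- two cocycles cut out by families of sections of a pseudo-torsor are cohomologous -/
theorem isCohomologous_of_isCocycleOf (P : NonAbH1.GSheaf G) (h : P.IsPseudoTorsor) {I : Type w'}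
    (U : I → C) (s s' : ∀ i, P.P.obj.obj (op (U i)))
    (γ γ' : PresheafOfGroups.OneCocycle G.obj U)
    (hγ : P.IsCocycleOf U s γ) (hγ' : P.IsCocycleOf U s' γ') : γ.IsCohomologous γ' := by
  refine ⟨fun i => trans P h (s i) (s' i), ?_⟩
  intro i j T a b
  apply smul_cancel P h _ _ (P.P.obj.map b.op (s j))
  rw [P.mul_smul, P.mul_smul, hγ i j a b, ← P.map_smul, ← P.map_smul, trans_smul, trans_smul,
    hγ' i j a b]

end Groth.Agent.H81
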