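import Groth.Prelude.Def_NonAbH1
import Groth.Agent.H81.TorsorCocycle
import Mathlib

/-!
The torsor of local liftings of a section of a quotient `G/F` (`NonAbH1.GSheaf.IsFibreOver`):
such a sheaf is a torsor, two of them are isomorphic as soon as the sections are translates of each
other by a global section of `G`, and one exists.
-/

set_option autoImplicit false

universe w₂ w v u

open CategoryTheory Opposite

namespace Groth.Agent.H81.Fib

open NonAbH1 NonAbH1.GSheaf

variable {C : Type u} [Category.{v} C] {J : GrothendieckTopology C}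

section General

/-- sections of a sheaf of sets are determined locally -/
theorem T_sep (P : Sheaf J (Type w)) {X : C} (S : Sieve X) (hS : S ∈ J X)
    (p p' : P.obj.obj (op X))
    (h : ∀ ⦃Y : C⦄ (f : Y ⟶ X), S f → P.obj.map f.op p = P.obj.map f.op p') : p = p' := by
  have hsh : Presieve.IsSheaf J P.obj := (isSheaf_iff_isSheaf_of_type J _).mp P.cond
  apply (hsh S hS).isSeparatedFor.ext
  intro Y f hf
  exact h f hf

/-- glue sections given on the objects where `T` has a section, when the value does not depend on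
the chosen section of `T` -/
theorem existsUnique_glue (P : Sheaf J (Type w)) (T : Cᵒᵖ ⥤ Type w₂)
    (hT : ∀ X : C, ∃ S ∈ J X, ∀ ⦃V : C⦄ (f : V ⟶ X), S f → Nonempty (T.obj (op V)))
    {X : C} (h : ∀ ⦃V : C⦄ (_ : V ⟶ X), T.obj (op V) → P.obj.obj (op V))
    (hconst : ∀ ⦃V : C⦄ (a : V ⟶ X) (t t' : T.obj (op V)), h a t = h a t')
    (hnat : ∀ ⦃V V' : C⦄ (k : V' ⟶ V) (a : V ⟶ X) (t : T.obj (op V)),
      P.obj.map k.op (h a t) = h (k ≫ a) (T.map k.op t)) :
    ∃! p : P.obj.obj (op X),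
      ∀ ⦃V : C⦄ (a : V ⟶ X) (t : T.obj (op V)), P.obj.map a.op p = h a t := by
  obtain ⟨S₀, hS₀, hne⟩ := hT X
  let S : Sieve X :=
    { arrows := fun V _ => Nonempty (T.obj (op V))
      downward_closed := fun ⟨t⟩ k => ⟨T.map k.op t⟩ }
  have hS : S ∈ J X := J.superset_covering (fun V f hf => hne f hf) hS₀
  have hsh : Presieve.IsSheaf J P.obj := (isSheaf_iff_isSheaf_of_type J _).mp P.cond
  let x : Presieve.FamilyOfElements P.obj S.arrows := fun V a ha => h a ha.some
  have hx : x.Compatible := by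
    rw [Presieve.compatible_iff_sieveCompatible]
    intro V V' a k ha
    show h (k ≫ a) _ = P.obj.map k.op (h a ha.some)
    rw [hnat]
    exact hconst _ _ _
  refine ⟨(hsh S hS).amalgamate x hx, ?_, ?_⟩
  · intro V a t
    have h1 : P.obj.map a.op ((hsh S hS).amalgamate x hx) = x a ⟨t⟩ :=
      (hsh S hS).valid_glue hx a ⟨t⟩
    rw [h1]
    exact hconst _ _ _
  · intro p' hp'
    apply (hsh S hS).isSeparatedFor.ext
    intro V a ha
    have h1 : P.obj.map a.op ((hsh S hS).amalgamate x hx) = x a ha :=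
      (hsh S hS).valid_glue hx a ha
    rw [h1, hp' a ha.some]

/-- inverse of a bijection -/
noncomputable def invOf {α β : Type*} (φ : α → β) (h : Function.Bijective φ) : β → α :=
  (Equiv.ofBijective φ h).symm

lemma invOf_right {α β : Type*} (φ : α → β) (h : Function.Bijective φ) (y : β) :
    φ (invOf φ h y) = y := Equiv.ofBijective_apply_symm_apply φ h y

lemma invOf_left {α β : Type*} (φ : α → β) (h : Function.Bijective φ) (x : α) :
    invOf φ h (φ x) = x := Equiv.ofBijective_symm_apply_apply φ h x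

/-- an equivariant isomorphism from a natural equivariant family of bijections -/
theorem nonempty_iso_of_bijective {G : Sheaf J GrpCat.{w}} (P Q : NonAbH1.GSheaf G)
    (φ : ∀ U : Cᵒᵖ, P.P.obj.obj U → Q.P.obj.obj U)
    (hnat : ∀ ⦃U V : Cᵒᵖ⦄ (f : U ⟶ V) (p : P.P.obj.obj U),
      φ V (P.P.obj.map f p) = Q.P.obj.map f (φ U p))
    (hsmul : ∀ (U : Cᵒᵖ) (g : G.obj.obj U) (p : P.P.obj.obj U),
      φ U (P.smul g p) = Q.smul g (φ U p))
    (hbij : ∀ U, Function.Bijective (φ U)) : Nonempty (P ≅ Q) := by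
  have hnat' : ∀ ⦃U V : Cᵒᵖ⦄ (f : U ⟶ V) (q : Q.P.obj.obj U),
      invOf (φ V) (hbij V) (Q.P.obj.map f q) = P.P.obj.map f (invOf (φ U) (hbij U) q) := by
    intro U V f q
    apply (hbij V).1
    rw [invOf_right (φ V) (hbij V), hnat, invOf_right (φ U) (hbij U)]
  have hsmul' : ∀ (U : Cᵒᵖ) (g : G.obj.obj U) (q : Q.P.obj.obj U),
      invOf (φ U) (hbij U) (Q.smul g q) = P.smul g (invOf (φ U) (hbij U) q) := by
    intro U g q
    apply (hbij U).1
    rw [invOf_right (φ U) (hbij U), hsmul, invOf_right (φ U) (hbij U)]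
  let hom : P ⟶ Q :=
    { hom := ⟨{ app := fun U => TypeCat.ofHom (φ U)
                naturality := by
                  intro U V f
                  ext p
                  exact hnat f p }⟩
      map_smul := fun g p => hsmul _ g p }
  let inv : Q ⟶ P :=
    { hom := ⟨{ app := fun U => TypeCat.ofHom (invOf (φ U) (hbij U))
                naturality := by
                  intro U V f
                  ext q
                  exact hnat' f q }⟩
      map_smul := fun g q => hsmul' _ g q }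
  refine ⟨⟨hom, inv, ?_, ?_⟩⟩
  · apply NonAbH1.GSheaf.hom_ext
    apply Sheaf.hom_ext
    ext U p
    exact invOf_left (φ U) (hbij U) p
  · apply NonAbH1.GSheaf.hom_ext
    apply Sheaf.hom_ext
    ext U q
    exact invOf_right (φ U) (hbij U) q

end General

section Fibre

variable {F G : Sheaf J GrpCat.{w}} [J.HasSheafCompose (forget GrpCat.{w})] (u : F ⟶ G)
  {Q : NonAbH1.GSheaf G} (π : NonAbH1.GSheaf.trivial G ⟶ Q)

lemma uSh_map {U V : Cᵒᵖ} (i : U ⟶ V) (x : (uSh G).obj.obj U) :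
    (uSh G).obj.map i x = ofGrp (G.obj.map i (toGrp x)) := rfl

lemma pi_nat {U V : Cᵒᵖ} (i : U ⟶ V) (g : G.obj.obj U) :
    π.hom.hom.app V (ofGrp (G.obj.map i g)) = Q.P.obj.map i (π.hom.hom.app U (ofGrp g)) :=
  NatTrans.naturality_apply π.hom.hom i (ofGrp g)

lemma pi_mul {U : Cᵒᵖ} (g h : G.obj.obj U) :
    π.hom.hom.app U (ofGrp (g * h)) = Q.smul g (π.hom.hom.app U (ofGrp h)) :=
  π.map_smul g (ofGrp h)

omit [J.HasSheafCompose (forget GrpCat.{w})] in
lemma u_nat {U V : Cᵒᵖ} (i : U ⟶ V) (f : F.obj.obj U) :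
    u.hom.app V (F.obj.map i f) = G.obj.map i (u.hom.app U f) :=
  NatTrans.naturality_apply u.hom i f

lemma iota_nat {T : Sheaf J (Type w)} (ι : T ⟶ uSh G) {U V : Cᵒᵖ} (i : U ⟶ V) (t : T.obj.obj U) :
    toGrp (ι.hom.app V (T.obj.map i t)) = G.obj.map i (toGrp (ι.hom.app U t)) :=
  NatTrans.naturality_apply ι.hom i t


section Torsor

variable {u π}

/-- a sheaf of local liftings is a torsor -/
theorem isTorsor_of_isFibreOver (hu : ∀ U : Cᵒᵖ, Function.Injective (u.hom.app U))
    (hQ : IsQuotientBy u π) (c : Q.P.obj.sections) (T : NonAbH1.GSheaf F)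
    (hT : IsFibreOver u π c T) : T.IsTorsor := by
  obtain ⟨ι, hinj, hfib, heq⟩ := hT
  refine ⟨?_, ?_⟩
  · intro U t t'
    have h1 : π.hom.hom.app U (ofGrp (toGrp (ι.hom.app U t))) = c.1 U :=
      (hfib U _).mp ⟨t, rfl⟩
    have h2 : π.hom.hom.app U (ofGrp (toGrp (ι.hom.app U t'))) = c.1 U :=
      (hfib U _).mp ⟨t', rfl⟩
    obtain ⟨f, hf⟩ := (hQ.1 U (toGrp (ι.hom.app U t)) (toGrp (ι.hom.app U t'))).mp
      (h1.trans h2.symm)
    refine ⟨f⁻¹, ?_, ?_⟩
    · apply hinj U
      have h3 := heq U f⁻¹ t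
      rw [map_inv, inv_inv] at h3
      exact h3.trans hf.symm
    · intro f' hf'
      have h3 := heq U f' t
      rw [hf', hf] at h3
      have h4 : u.hom.app U f = (u.hom.app U f')⁻¹ := mul_left_cancel h3
      apply hu U
      rw [map_inv, h4, inv_inv]
  · intro X
    obtain ⟨S, hS, hS'⟩ := hQ.2 X (c.1 (op X))
    refine ⟨S, hS, fun V a ha => ?_⟩
    obtain ⟨g, hg⟩ := hS' a ha
    rw [c.2 a.op] at hg
    obtain ⟨t, -⟩ := (hfib (op V) g).mpr hg
    exact ⟨t⟩

/-- sheaves of liftings of sections that are translates by a global section are isomorphic -/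
theorem iso_of_fibre_translate (c c' : Q.P.obj.sections) (T T' : NonAbH1.GSheaf F)
    (hT : IsFibreOver u π c T) (hT' : IsFibreOver u π c' T') (g : (uSh G).obj.sections)
    (hg : ∀ U : Cᵒᵖ, Q.smul (toGrp (g.1 U)) (c.1 U) = c'.1 U) : Nonempty (T ≅ T') := by
  obtain ⟨ι, hinj, hfib, heq⟩ := hT
  obtain ⟨ι', hinj', hfib', heq'⟩ := hT'
  have hex : ∀ (U : Cᵒᵖ) (t : T.P.obj.obj U), ∃ t' : T'.P.obj.obj U,
      toGrp (ι'.hom.app U t') = toGrp (g.1 U) * toGrp (ι.hom.app U t) := by
    intro U t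
    apply (hfib' U _).mpr
    rw [pi_mul, (hfib U _).mp ⟨t, rfl⟩, hg]
  choose φ hφ using hex
  apply nonempty_iso_of_bijective T T' φ
  · intro U V i t
    apply hinj' V
    show toGrp (ι'.hom.app V (φ V (T.P.obj.map i t))) =
      toGrp (ι'.hom.app V (T'.P.obj.map i (φ U t)))
    rw [hφ, iota_nat, iota_nat, hφ, map_mul]
    congr 1
    exact (g.2 i).symm
  · intro U f t
    apply hinj' U
    show toGrp (ι'.hom.app U (φ U (T.smul f t))) = toGrp (ι'.hom.app U (T'.smul f (φ U t)))
    rw [hφ, heq, heq', hφ, mul_assoc]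
  · intro U
    constructor
    · intro t₁ t₂ h12
      apply hinj U
      have h1 := hφ U t₁
      rw [h12, hφ U t₂] at h1
      exact (mul_left_cancel h1).symm
    · intro t'
      have h1 : π.hom.hom.app U (ofGrp ((toGrp (g.1 U))⁻¹ * toGrp (ι'.hom.app U t'))) = c.1 U := by
        rw [pi_mul, (hfib' U _).mp ⟨t', rfl⟩, ← hg U, ← Q.mul_smul, inv_mul_cancel, Q.one_smul]
      obtain ⟨t, ht⟩ := (hfib U _).mpr h1
      refine ⟨t, ?_⟩
      apply hinj' U
      show toGrp (ι'.hom.app U (φ U t)) = toGrp (ι'.hom.app U t')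
      rw [hφ, ht, mul_inv_cancel_left]

end Torsor

section Construct

variable (c : Q.P.obj.sections)

/-- the subsheaf of liftings of `c` -/
def fibSub : Subfunctor (uSh G).obj where
  obj U := {x | π.hom.hom.app U x = c.1 U}
  map {U V} i := by
    intro x hx
    show π.hom.hom.app V ((uSh G).obj.map i x) = c.1 V
    rw [uSh_map, pi_nat]
    have hx' : π.hom.hom.app U x = c.1 U := hx
    rw [show ofGrp (toGrp x) = x from rfl, hx', c.2 i]

theorem fibSub_isSheaf : Presieve.IsSheaf J (fibSub π c).toFunctor := by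
  have hsh : Presieve.IsSheaf J (uSh G).obj := (isSheaf_iff_isSheaf_of_type J _).mp (uSh G).cond
  rw [Subfunctor.isSheaf_iff _ hsh]
  intro U s hs
  show π.hom.hom.app U s = c.1 U
  apply T_sep Q.P _ hs
  intro V f hf
  have hf' : π.hom.hom.app (op V) ((uSh G).obj.map f.op s) = c.1 (op V) := hf
  rw [uSh_map, pi_nat] at hf'
  rw [c.2 f.op]
  exact hf'

variable {π} in
/-- the sheaf of liftings of `c`, with `F` acting by `f • g = g * u(f)⁻¹` -/
noncomputable def fibGSheaf (hQ : IsQuotientBy u π) : NonAbH1.GSheaf F where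
  P := ⟨(fibSub π c).toFunctor, (isSheaf_iff_isSheaf_of_type J _).mpr (fibSub_isSheaf π c)⟩
  smul {U} f x := ⟨ofGrp (toGrp x.1 * (u.hom.app U f)⁻¹),
    ((hQ.1 U (toGrp x.1) (toGrp x.1 * (u.hom.app U f)⁻¹)).mpr
      ⟨f⁻¹, by rw [map_inv]⟩).symm.trans x.2⟩
  one_smul x := Subtype.ext (by
    show toGrp x.1 * (u.hom.app _ 1)⁻¹ = toGrp x.1
    rw [map_one, inv_one, mul_one])
  mul_smul f f' x := Subtype.ext (by
    show toGrp x.1 * (u.hom.app _ (f * f'))⁻¹ =
      toGrp x.1 * (u.hom.app _ f')⁻¹ * (u.hom.app _ f)⁻¹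
    rw [map_mul, mul_inv_rev, mul_assoc])
  map_smul {U V} i f x := Subtype.ext (by
    show G.obj.map i (toGrp x.1 * (u.hom.app U f)⁻¹) =
      G.obj.map i (toGrp x.1) * (u.hom.app V (F.obj.map i f))⁻¹
    rw [map_mul, map_inv, u_nat])

variable {π} in
theorem isFibreOver_fibGSheaf (hQ : IsQuotientBy u π) :
    IsFibreOver u π c (fibGSheaf u c hQ) := by
  refine ⟨⟨(fibSub π c).ι⟩, ?_, ?_, ?_⟩
  · intro U x y h
    exact Subtype.ext h
  · intro U g
    constructor
    · rintro ⟨t, rfl⟩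
      exact t.2
    · intro h
      exact ⟨⟨ofGrp g, h⟩, rfl⟩
  · intro U f t
    rfl

end Construct

end Fibre

end Groth.Agent.H81.Fib
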