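import Mathlib

/-!
# Ring-level lemmas for Stacks 052U (helper81, for S9352)

* `exists_rankAtStalk_le`: upper semicontinuity of the rank of a finite flat module.
* `projective_of_rankAtStalk_constant`: finite flat of constant rank is projective.
* `pureIdeal Z`: the pure ideal attached to a closed subset stable under generalization.
-/

set_option autoImplicit false
set_option linter.unusedSimpArgs false
set_option linter.unusedVariables false
set_option linter.style.haveILetI false
universe u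

namespace Groth.Agent.H81.FlatLF

open Module LocalizedModule PrimeSpectrum

section Rank

variable {R : Type u} [CommRing R] (M : Type u) [AddCommGroup M] [Module R M] [Module.Finite R M]
  [Module.Flat R M]

attribute [local instance] Module.free_of_flat_of_isLocalRing

/-- Upper semicontinuity of the rank of a finite flat module. -/
theorem exists_rankAtStalk_le (p : PrimeSpectrum R) :
    ∃ a : R, a ∉ p.asIdeal ∧ ∀ q : PrimeSpectrum R, a ∉ q.asIdeal →
      rankAtStalk M q ≤ rankAtStalk M p := by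
  haveI : Nontrivial R := ⟨⟨0, 1, fun h => p.isPrime.ne_top
    ((Ideal.eq_top_iff_one _).mpr (h ▸ p.asIdeal.zero_mem))⟩⟩
  let Rₚ := Localization.AtPrime p.asIdeal
  let n := rankAtStalk M p
  let f : (Fin n →₀ R) →ₗ[R] Fin n →₀ Rₚ := Finsupp.mapRange.linearMap (Algebra.linearMap R Rₚ)
  let g : M →ₗ[R] LocalizedModule.AtPrime p.asIdeal M :=
    LocalizedModule.mkLinearMap p.asIdeal.primeCompl M
  obtain ⟨φ, -, -, hφps⟩ := exists_localizedMap_surjective_of_surjective p.asIdeal.primeCompl f g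
    ((finBasis Rₚ (LocalizedModule.AtPrime p.asIdeal M)).repr.restrictScalars R).symm.surjective
  obtain ⟨a, hap, hφas⟩ := by
    refine exists_localizedMap_away_surjective_of_localizedMap_atPrime_surjective p.asIdeal φ ?_
    simpa [LocalizedModule.coe_map_eq f g]
  refine ⟨a, hap, fun q haq => ?_⟩
  have hq : Function.Surjective (LocalizedModule.map q.asIdeal.primeCompl φ) := by
    rw [φ.localizedMap_surjective_iff_subsingleton_localized_coker] at hφas ⊢
    rw [LocalizedModule.subsingleton_iff] at hφas ⊢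
    intro m
    obtain ⟨r, ⟨k, rfl⟩, hr⟩ := hφas m
    exact ⟨a ^ k, fun h => haq (q.isPrime.mem_of_pow_mem k h), hr⟩
  have h1 := LinearMap.finrank_le_finrank_of_surjective hq
  have h2 : Module.finrank (Localization.AtPrime q.asIdeal)
      (LocalizedModule q.asIdeal.primeCompl (Fin n →₀ R)) = n := by
    have := congrFun (rankAtStalk_eq_finrank_of_free (R := R) (M := Fin n →₀ R)) q
    simpa [rankAtStalk] using this
  rw [h2] at h1
  exact h1

/-- A finite flat module of constant rank is projective. -/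
theorem projective_of_rankAtStalk_constant (n : ℕ)
    (h : ∀ q : PrimeSpectrum R, rankAtStalk M q = n) : Module.Projective R M := by
  have key : ∀ p : PrimeSpectrum R, ∃ a : R, a ∉ p.asIdeal ∧
      Module.Free (Localization.Away a) (LocalizedModule.Away a M) := by
    intro p
    exact Module.Free.away_of_finite_of_flat_of_rankAtStalk_constant M p.asIdeal
      (fun m _ => by rw [h, h])
  choose a ha hfree using key
  have hs : Ideal.span (Set.range a) = ⊤ := by
    by_contra hne
    obtain ⟨m, hm, hle⟩ := Ideal.exists_le_maximal _ hne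
    exact ha ⟨m, hm.isPrime⟩ (hle (Ideal.subset_span ⟨⟨m, hm.isPrime⟩, rfl⟩))
  haveI : Module.FinitePresentation R M := by
    refine Module.FinitePresentation.of_localizationSpan (Set.range a) hs ?_
    rintro ⟨_, p, rfl⟩
    haveI := hfree p
    exact Module.finitePresentation_of_projective _ _
  exact Module.Flat.projective_of_finitePresentation

end Rank

section Pure

variable {A : Type u} [CommRing A]

/-- The ideal of elements vanishing in the local rings at all points of `Z`. -/
def pureIdeal (Z : Set (PrimeSpectrum A)) : Ideal A where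
  carrier := {a | ∀ p ∈ Z, ∃ s : A, s ∉ p.asIdeal ∧ s * a = 0}
  zero_mem' := fun p _ => ⟨1, p.asIdeal.one_notMem, by simp⟩
  add_mem' := by
    intro a b ha hb p hp
    obtain ⟨s, hs, hsa⟩ := ha p hp
    obtain ⟨t, ht, htb⟩ := hb p hp
    refine ⟨s * t, fun h => (p.isPrime.mem_or_mem h).elim hs ht, ?_⟩
    have : s * t * (a + b) = t * (s * a) + s * (t * b) := by ring
    rw [this, hsa, htb, mul_zero, mul_zero, add_zero]
  smul_mem' := by
    intro c a ha p hp
    obtain ⟨s, hs, hsa⟩ := ha p hp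
    refine ⟨s, hs, ?_⟩
    have : s * (c • a) = c * (s * a) := by rw [smul_eq_mul]; ring
    rw [this, hsa, mul_zero]

theorem mem_pureIdeal {Z : Set (PrimeSpectrum A)} {a : A} :
    a ∈ pureIdeal Z ↔ ∀ p ∈ Z, ∃ s : A, s ∉ p.asIdeal ∧ s * a = 0 := Iff.rfl

/-- compactness step. -/
theorem exists_pow_mul_mem_pureIdeal {Z : Set (PrimeSpectrum A)} (hZ : IsClosed Z) (f a : A)
    (h : ∀ q ∈ Z, ∃ (n : ℕ) (s : A), s ∉ q.asIdeal ∧ s * f ^ n * a = 0) :
    ∃ N : ℕ, f ^ N * a ∈ pureIdeal Z := by
  classical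
  have h' : ∀ q : Z, ∃ (n : ℕ) (s : A), s ∉ q.1.asIdeal ∧ s * f ^ n * a = 0 := fun q => h q.1 q.2
  choose n s hs hsn using h'
  have hZc : IsCompact Z := hZ.isCompact
  obtain ⟨t, ht⟩ := hZc.elim_finite_subcover
    (fun q : Z => ((PrimeSpectrum.basicOpen (s q) : TopologicalSpace.Opens (PrimeSpectrum A)) :
      Set (PrimeSpectrum A)))
    (fun q => (PrimeSpectrum.basicOpen (s q)).isOpen)
    (fun q hq => Set.mem_iUnion.2 ⟨⟨q, hq⟩, hs ⟨q, hq⟩⟩)
  refine ⟨t.sup n, fun q hq => ?_⟩
  obtain ⟨i, hi⟩ := Set.mem_iUnion.1 (ht hq)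
  obtain ⟨hit, hqi⟩ := Set.mem_iUnion.1 hi
  refine ⟨s i, hqi, ?_⟩
  have hle : n i ≤ t.sup n := Finset.le_sup hit
  have : s i * (f ^ t.sup n * a) = f ^ (t.sup n - n i) * (s i * f ^ n i * a) := by
    rw [← Nat.sub_add_cancel hle, pow_add]
    simp only [Nat.sub_add_cancel hle]
    ring
  rw [this, hsn, mul_zero]

variable {Z : Set (PrimeSpectrum A)} (hZ : IsClosed Z) (hgen : StableUnderGeneralization Z)

include hZ hgen in
/-- `(L1)` outside `Z` the pure ideal is the unit ideal. -/
theorem exists_mem_pureIdeal_notMem {p : PrimeSpectrum A} (hp : p ∉ Z) :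
    ∃ a ∈ pureIdeal Z, a ∉ p.asIdeal := by
  obtain ⟨J, rfl⟩ := (PrimeSpectrum.isClosed_iff_zeroLocus_ideal Z).mp hZ
  have hp' : ¬ (J : Set A) ⊆ p.asIdeal := fun h => hp ((PrimeSpectrum.mem_zeroLocus _ _).mpr h)
  obtain ⟨f, hfJ, hfp⟩ := Set.not_subset.mp hp'
  have hloc : ∀ q ∈ zeroLocus (J : Set A), ∃ (n : ℕ) (s : A), s ∉ q.asIdeal ∧
      s * f ^ n * 1 = 0 := by
    intro q hq
    have hnil : IsNilpotent (algebraMap A (Localization.AtPrime q.asIdeal) f) := by
      rw [nilpotent_iff_mem_prime]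
      intro P hP
      let q' : PrimeSpectrum A := ⟨P.comap (algebraMap A (Localization.AtPrime q.asIdeal)),
        Ideal.comap_isPrime _ _⟩
      have hle : q' ≤ q := by
        intro x hx
        by_contra hxq
        have hu : IsUnit (algebraMap A (Localization.AtPrime q.asIdeal) x) :=
          IsLocalization.map_units _ (⟨x, hxq⟩ : q.asIdeal.primeCompl)
        exact hP.ne_top (Ideal.eq_top_of_isUnit_mem _ hx hu)
      have hq' : q' ∈ zeroLocus (J : Set A) :=
        hgen ((PrimeSpectrum.le_iff_specializes q' q).mp hle) hq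
      exact ((PrimeSpectrum.mem_zeroLocus _ _).mp hq') hfJ
    obtain ⟨n, hn⟩ := hnil
    rw [← map_pow] at hn
    obtain ⟨⟨s, hs⟩, hsn⟩ := (IsLocalization.map_eq_zero_iff q.asIdeal.primeCompl _ _).mp hn
    exact ⟨n, s, hs, by rw [mul_one]; exact hsn⟩
  obtain ⟨N, hN⟩ := exists_pow_mul_mem_pureIdeal
    (PrimeSpectrum.isClosed_zeroLocus _) f 1 hloc
  rw [mul_one] at hN
  exact ⟨f ^ N, hN, fun h => hfp (p.isPrime.mem_of_pow_mem N h)⟩

include hZ hgen in
/-- `(L2)` every element of the pure ideal is fixed by multiplication by an element of it. -/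
theorem exists_eq_mul_of_mem_pureIdeal {a : A} (ha : a ∈ pureIdeal Z) :
    ∃ b ∈ pureIdeal Z, a = a * b := by
  have htop : (Ideal.span {a}).annihilator ⊔ pureIdeal Z = ⊤ := by
    by_contra hne
    obtain ⟨m, hm, hle⟩ := Ideal.exists_le_maximal _ hne
    by_cases hmZ : (⟨m, hm.isPrime⟩ : PrimeSpectrum A) ∈ Z
    · obtain ⟨s, hs, hsa⟩ := ha _ hmZ
      apply hs
      apply hle
      apply Ideal.mem_sup_left
      rw [Submodule.mem_annihilator_span_singleton]
      exact hsa
    · obtain ⟨b, hb, hbm⟩ := exists_mem_pureIdeal_notMem hZ hgen hmZ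
      exact hbm (hle (Ideal.mem_sup_right hb))
  have h1 : (1 : A) ∈ (Ideal.span {a}).annihilator ⊔ pureIdeal Z := by rw [htop]; trivial
  obtain ⟨c, hc, b, hb, hcb⟩ := Submodule.mem_sup.mp h1
  rw [Submodule.mem_annihilator_span_singleton, smul_eq_mul] at hc
  refine ⟨b, hb, ?_⟩
  calc a = a * 1 := (mul_one a).symm
    _ = a * (c + b) := by rw [hcb]
    _ = c * a + a * b := by ring
    _ = a * b := by rw [hc, zero_add]

/-- An ideal all of whose elements are fixed by some element of it is pure. -/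
theorem pure_of_forall_exists_eq_mul (I : Ideal A) (h : ∀ x ∈ I, ∃ y ∈ I, x = x * y) :
    I.Pure := by
  apply Ideal.Pure.of_inf_eq_mul
  intro J _
  apply le_antisymm
  · rintro x ⟨hxI, hxJ⟩
    obtain ⟨y, hy, hxy⟩ := h x hxI
    have hxy' : x = y * x := by rw [mul_comm]; exact hxy
    rw [hxy']
    exact Ideal.mul_mem_mul hy hxJ
  · exact Ideal.mul_le_inf

/-- The property `∀ x ∈ I, ∃ y ∈ I, x = x * y` passes to extended ideals. -/
theorem forall_exists_eq_mul_map {B : Type u} [CommRing B] (φ : A →+* B) (I : Ideal A)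
    (h : ∀ x ∈ I, ∃ y ∈ I, x = x * y) : ∀ x ∈ I.map φ, ∃ y ∈ I.map φ, x = x * y := by
  intro x hx
  induction hx using Submodule.span_induction with
  | mem x hx =>
    obtain ⟨a, ha, rfl⟩ := hx
    obtain ⟨b, hb, hab⟩ := h a ha
    exact ⟨φ b, Ideal.mem_map_of_mem φ hb, by rw [← map_mul, ← hab]⟩
  | zero => exact ⟨0, Ideal.zero_mem _, by simp⟩
  | add x₁ x₂ _ _ h₁ h₂ =>
    obtain ⟨y₁, hy₁, e₁⟩ := h₁
    obtain ⟨y₂, hy₂, e₂⟩ := h₂
    refine ⟨y₁ + y₂ - y₁ * y₂, Ideal.sub_mem _ (Ideal.add_mem _ hy₁ hy₂)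
      (Ideal.mul_mem_left _ _ hy₂), ?_⟩
    have : (x₁ + x₂) * (y₁ + y₂ - y₁ * y₂) =
        x₁ * y₁ + (x₁ - x₁ * y₁) * y₂ + x₂ * y₂ + (x₂ - x₂ * y₂) * y₁ := by ring
    rw [this, ← e₁, ← e₂]
    simp only [sub_self, zero_mul, add_zero]
  | smul c x _ hx =>
    obtain ⟨y, hy, e⟩ := hx
    refine ⟨y, hy, ?_⟩
    rw [smul_eq_mul, mul_assoc, ← e]

include hZ hgen in
theorem pure_pureIdeal : (pureIdeal Z).Pure :=
  pure_of_forall_exists_eq_mul _ fun _ hx => exists_eq_mul_of_mem_pureIdeal hZ hgen hx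

include hZ hgen in
/-- `(L4)` the zero locus of the pure ideal is `Z`. -/
theorem zeroLocus_pureIdeal : zeroLocus (pureIdeal Z : Set A) = Z := by
  ext p
  rw [PrimeSpectrum.mem_zeroLocus]
  constructor
  · intro h
    by_contra hp
    obtain ⟨a, ha, hap⟩ := exists_mem_pureIdeal_notMem hZ hgen hp
    exact hap (h ha)
  · intro hp a ha
    obtain ⟨s, hs, hsa⟩ := ha p hp
    have : s * a ∈ p.asIdeal := by rw [hsa]; exact p.asIdeal.zero_mem
    exact (p.isPrime.mem_or_mem this).resolve_left hs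

include hZ hgen in
/-- `(RL)` compatibility of the pure ideal with ring maps. -/
theorem map_pureIdeal {B : Type u} [CommRing B] (φ : A →+* B) :
    (pureIdeal Z).map φ = pureIdeal (PrimeSpectrum.comap φ ⁻¹' Z) := by
  have hZ' : IsClosed (PrimeSpectrum.comap φ ⁻¹' Z) := hZ.preimage (PrimeSpectrum.continuous_comap φ)
  have hgen' : StableUnderGeneralization (PrimeSpectrum.comap φ ⁻¹' Z) := by
    intro x y hyx hx
    exact hgen (hyx.map (PrimeSpectrum.continuous_comap φ)) hx
  haveI h1 : ((pureIdeal Z).map φ).Pure :=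
    pure_of_forall_exists_eq_mul _ (forall_exists_eq_mul_map φ _
      fun _ hx => exists_eq_mul_of_mem_pureIdeal hZ hgen hx)
  haveI h2 : (pureIdeal (PrimeSpectrum.comap φ ⁻¹' Z)).Pure := pure_pureIdeal hZ' hgen'
  rw [← Ideal.zeroLocus_inj_of_pure, zeroLocus_pureIdeal hZ' hgen']
  ext q
  have hq : PrimeSpectrum.comap φ q ∈ Z ↔
      PrimeSpectrum.comap φ q ∈ zeroLocus (pureIdeal Z : Set A) := by
    rw [zeroLocus_pureIdeal hZ hgen]
  rw [Set.mem_preimage, hq, PrimeSpectrum.mem_zeroLocus, PrimeSpectrum.mem_zeroLocus,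
    SetLike.coe_subset_coe, SetLike.coe_subset_coe, Ideal.map_le_iff_le_comap]
  rfl

include hZ hgen in
/-- If the pure ideal is finitely generated then `Z` is open. -/
theorem isOpen_of_fg_pureIdeal (hfg : (pureIdeal Z).FG) : IsOpen Z := by
  haveI := pure_pureIdeal hZ hgen
  have hidem : IsIdempotentElem (pureIdeal Z) := Ideal.isIdempotentElem_of_pure _
  obtain ⟨e, he, heq⟩ := (Ideal.isIdempotentElem_iff_of_fg _ hfg).mp hidem
  have hZe : Z = (PrimeSpectrum.basicOpen (1 - e) : Set (PrimeSpectrum A)) := by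
    rw [← zeroLocus_pureIdeal hZ hgen, heq]
    ext p
    rw [PrimeSpectrum.mem_zeroLocus, SetLike.coe_subset_coe, Ideal.span_singleton_le_iff_mem,
      SetLike.mem_coe, PrimeSpectrum.mem_basicOpen]
    constructor
    · intro hep h1
      exact p.asIdeal.one_notMem (by simpa using p.asIdeal.add_mem hep h1)
    · intro h1
      have : e * (1 - e) ∈ p.asIdeal := by
        have : e * (1 - e) = 0 := by rw [mul_sub, mul_one, he.eq, sub_self]
        rw [this]; exact p.asIdeal.zero_mem
      exact (p.isPrime.mem_or_mem this).resolve_right h1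
  rw [hZe]
  exact (PrimeSpectrum.basicOpen (1 - e)).isOpen

end Pure

end Groth.Agent.H81.FlatLF
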