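import Groth.Agent.H81.FlatLF1
import Groth.Agent.H8.QCohStalk
import Groth.Agent.H8.CohAffine
import Groth.Agent.H8.LocFree
import Groth.Agent.H8.FlatAffine

/-!
# Finite type flat quasi-coherent modules are locally free when closed generalization-stable
subsets are open (helper81, for S9352, direction `⇐`)
-/

set_option autoImplicit false
set_option linter.unusedSimpArgs false
set_option linter.unusedVariables false
set_option linter.style.haveILetI false
set_option maxHeartbeats 400000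
universe u

open CategoryTheory CategoryTheory.Limits AlgebraicGeometry TopologicalSpace Opposite Module

namespace Groth.Agent.H81.FlatLF

open Groth.Agent.H8

variable {X : Scheme.{u}} (F : X.Modules) [F.IsQuasicoherent]

/-- flatness of sections over affine opens from stalkwise flatness. -/
theorem flat_sections_of_isFlat (hF : FlatMod.IsFlat F) {U : X.Opens} (hU : IsAffineOpen U) :
    Module.Flat Γ(X, U) Γ(F, U) := by
  refine flat_of_forall_maximal_localized (R := Γ(X, U)) (D := Γ(X, U)) Γ(F, U) ?_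
  intro P hP
  obtain ⟨y, hy⟩ : ∃ y : PrimeSpectrum Γ(X, U), y.asIdeal = P := ⟨⟨P, hP.isPrime⟩, rfl⟩
  subst hy
  have hxU : hU.fromSpec y ∈ U := by
    rw [← SetLike.mem_coe, ← hU.range_fromSpec]
    exact ⟨y, rfl⟩
  have hprime : hU.primeIdealOf ⟨hU.fromSpec y, hxU⟩ = y := by
    apply hU.fromSpec.isOpenEmbedding.injective
    rw [hU.fromSpec_primeIdealOf]
  letI := X.presheaf.algebra_section_stalk ⟨hU.fromSpec y, hxU⟩
  haveI hlocR := hU.isLocalization_stalk ⟨hU.fromSpec y, hxU⟩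
  letI mD := moduleSectionStalk F (hU.fromSpec y) hxU
  haveI := isScalarTower_sectionStalk F (hU.fromSpec y) hxU
  haveI hloc := isLocalizedModule_germₗ F hU (hU.fromSpec y) hxU
  rw [hprime] at hloc hlocR
  have h1 : Module.Flat (X.presheaf.stalk (hU.fromSpec y))
      (F.presheaf.stalk (hU.fromSpec y)) := hF _
  haveI : Module.Flat Γ(X, U) (F.presheaf.stalk (hU.fromSpec y)) :=
    (Module.flat_iff_of_isLocalization (X.presheaf.stalk (hU.fromSpec y))
      y.asIdeal.primeCompl (F.presheaf.stalk (hU.fromSpec y))).mp h1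
  let e := IsLocalizedModule.linearEquiv y.asIdeal.primeCompl (germₗ F (hU.fromSpec y) hxU)
    (LocalizedModule.mkLinearMap y.asIdeal.primeCompl Γ(F, U))
  exact Module.Flat.of_linearEquiv e.symm

/-- The rank of the stalk of `F` at `x`. -/
noncomputable def rk (x : X) : ℕ :=
  Module.rankAtStalk (R := X.presheaf.stalk x) (F.presheaf.stalk x)
    (IsLocalRing.closedPoint (X.presheaf.stalk x))

theorem rk_eq {U : X.Opens} (hU : IsAffineOpen U) [Module.Finite Γ(X, U) Γ(F, U)]
    [Module.Flat Γ(X, U) Γ(F, U)] (x : X) (hxU : x ∈ U) :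
    rk F x = Module.rankAtStalk Γ(F, U) (hU.primeIdealOf ⟨x, hxU⟩) := by
  letI := X.presheaf.algebra_section_stalk ⟨x, hxU⟩
  haveI := hU.isLocalization_stalk ⟨x, hxU⟩
  letI := moduleSectionStalk F x hxU
  haveI := isScalarTower_sectionStalk F x hxU
  haveI := isLocalizedModule_germₗ F hU x hxU
  have hbc : IsBaseChange (X.presheaf.stalk x) (germₗ F x hxU) :=
    IsLocalizedModule.isBaseChange (hU.primeIdealOf ⟨x, hxU⟩).asIdeal.primeCompl _ _
  have h1 := Module.rankAtStalk_isBaseChange hbc (IsLocalRing.closedPoint (X.presheaf.stalk x))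
  have h2 : PrimeSpectrum.comap (algebraMap Γ(X, U) (X.presheaf.stalk x))
      (IsLocalRing.closedPoint (X.presheaf.stalk x)) = hU.primeIdealOf ⟨x, hxU⟩ := by
    ext1
    exact IsLocalization.AtPrime.comap_maximalIdeal (X.presheaf.stalk x)
      (hU.primeIdealOf ⟨x, hxU⟩).asIdeal
  unfold rk
  rw [h1, h2]

omit [F.IsQuasicoherent] in
theorem primeIdealOf_le_of_specializes {U : X.Opens} (hU : IsAffineOpen U) {x x' : X}
    (h : x' ⤳ x) (hxU : x ∈ U) (hx'U : x' ∈ U) :
    hU.primeIdealOf ⟨x', hx'U⟩ ≤ hU.primeIdealOf ⟨x, hxU⟩ := by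
  intro a ha
  by_contra hax
  have h1 : x ∈ X.basicOpen a :=
    (mem_basicOpen_iff_notMem_primeIdealOf hU x hxU a).mpr hax
  have h2 : x' ∈ X.basicOpen a := h.mem_open (X.basicOpen a).2 h1
  exact (mem_basicOpen_iff_notMem_primeIdealOf hU x' hx'U a).mp h2 ha

section FT

variable [SheafOfModules.IsFiniteType (R := X.ringCatSheaf) F] (hF : FlatMod.IsFlat F)

include hF in
theorem rk_eq_of_specializes {x x' : X} (h : x' ⤳ x) : rk F x' = rk F x := by
  obtain ⟨_, ⟨U, hU, rfl⟩, hxU, -⟩ :=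
    X.isBasis_affineOpens.exists_subset_of_mem_open (Set.mem_univ x) isOpen_univ
  have hx'U : x' ∈ U := h.mem_open U.2 hxU
  haveI : Module.Finite Γ(X, U) Γ(F, U) := finite_sections_of_isAffineOpen F hU
  haveI : Module.Flat Γ(X, U) Γ(F, U) := flat_sections_of_isFlat F hF hU
  rw [rk_eq F hU x hxU, rk_eq F hU x' hx'U]
  exact Module.rankAtStalk_eq_of_le_of_finite_of_flat Γ(F, U)
    (primeIdealOf_le_of_specializes hU h hxU hx'U)

include hF in
theorem exists_open_rk_le (x : X) : ∃ W : X.Opens, x ∈ W ∧ ∀ y ∈ W, rk F y ≤ rk F x := by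
  obtain ⟨_, ⟨U, hU, rfl⟩, hxU, -⟩ :=
    X.isBasis_affineOpens.exists_subset_of_mem_open (Set.mem_univ x) isOpen_univ
  haveI : Module.Finite Γ(X, U) Γ(F, U) := finite_sections_of_isAffineOpen F hU
  haveI : Module.Flat Γ(X, U) Γ(F, U) := flat_sections_of_isFlat F hF hU
  obtain ⟨a, hax, ha⟩ := exists_rankAtStalk_le Γ(F, U) (hU.primeIdealOf ⟨x, hxU⟩)
  refine ⟨X.basicOpen a, (mem_basicOpen_iff_notMem_primeIdealOf hU x hxU a).mpr hax, ?_⟩
  intro y hy
  have hyU : y ∈ U := X.basicOpen_le a hy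
  rw [rk_eq F hU x hxU, rk_eq F hU y hyU]
  exact ha _ ((mem_basicOpen_iff_notMem_primeIdealOf hU y hyU a).mp hy)

include hF in
/-- direction `⇐` of S9352. -/
theorem isFinLocFree_of_forall_isOpen
    (htop : ∀ Z : Set ↑X, IsClosed Z → StableUnderGeneralization Z → IsOpen Z) :
    FlatMod.IsFinLocFree F := by
  have hclosed : ∀ n : ℕ, IsClosed {x : X | n ≤ rk F x} := by
    intro n
    rw [← isOpen_compl_iff, isOpen_iff_forall_mem_open]
    intro x hx
    obtain ⟨W, hxW, hW⟩ := exists_open_rk_le F hF x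
    refine ⟨W, fun y hy => ?_, W.2, hxW⟩
    simp only [Set.mem_compl_iff, Set.mem_setOf_eq, not_le] at hx ⊢
    exact lt_of_le_of_lt (hW y hy) hx
  have hgen : ∀ n : ℕ, StableUnderGeneralization {x : X | n ≤ rk F x} := by
    intro n x x' hx'x hx
    simp only [Set.mem_setOf_eq] at hx ⊢
    rw [rk_eq_of_specializes F hF hx'x]
    exact hx
  have hopen : ∀ n : ℕ, IsOpen {x : X | n ≤ rk F x} := fun n => htop _ (hclosed n) (hgen n)
  apply isFinLocFree_of_projective_sections
  intro x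
  have hW : IsOpen ({y : X | rk F x ≤ rk F y} ∩ {y : X | rk F x + 1 ≤ rk F y}ᶜ) :=
    (hopen _).inter (hclosed _).isOpen_compl
  have hxW : x ∈ ({y : X | rk F x ≤ rk F y} ∩ {y : X | rk F x + 1 ≤ rk F y}ᶜ) := by
    refine ⟨show rk F x ≤ rk F x from le_rfl, ?_⟩
    show ¬ (rk F x + 1 ≤ rk F x)
    omega
  obtain ⟨_, ⟨V, hV, rfl⟩, hxV, hVW⟩ :=
    X.isBasis_affineOpens.exists_subset_of_mem_open hxW hW
  haveI : Module.Finite Γ(X, V) Γ(F, V) := finite_sections_of_isAffineOpen F hV
  haveI : Module.Flat Γ(X, V) Γ(F, V) := flat_sections_of_isFlat F hF hV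
  refine ⟨V, hV, hxV, inferInstance, ?_⟩
  apply projective_of_rankAtStalk_constant Γ(F, V) (rk F x)
  intro q
  have hyV : hV.fromSpec q ∈ V := by
    rw [← SetLike.mem_coe, ← hV.range_fromSpec]
    exact ⟨q, rfl⟩
  have hprime : hV.primeIdealOf ⟨hV.fromSpec q, hyV⟩ = q := by
    apply hV.fromSpec.isOpenEmbedding.injective
    rw [hV.fromSpec_primeIdealOf]
  have h1 := rk_eq F hV (hV.fromSpec q) hyV
  rw [hprime] at h1
  rw [← h1]
  obtain ⟨h2, h3⟩ := hVW hyV
  simp only [Set.mem_compl_iff, Set.mem_setOf_eq, not_le] at h2 h3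
  omega

end FT

end Groth.Agent.H81.FlatLF
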