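import Groth.Agent.H81.FlatLF1
import Groth.Agent.H22.SerreAffine
import Groth.Agent.H8.LocFreeSections
import Groth.Agent.H8.QCohStalk
import Groth.Agent.H8.FinType

/-!
# The pure ideal sheaf of a closed subset stable under generalization (helper81, for S9352,
direction `⇒`)
-/

set_option autoImplicit false
set_option linter.unusedSimpArgs false
set_option linter.unusedVariables false
set_option linter.style.haveILetI false
set_option maxHeartbeats 400000
universe u

open CategoryTheory CategoryTheory.Limits AlgebraicGeometry TopologicalSpace Opposite Module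

namespace Groth.Agent.H81.FlatLF

open Groth.Agent.H8

variable {X : Scheme.{u}}

section Quot

variable (I : X.IdealSheafData)

/-- The quotient map `Γ(X, U) → Γ(O_X/I, U)` as a linear map. -/
noncomputable def quotπ (U : X.Opens) : Γ(X, U) →ₗ[Γ(X, U)] Γ(ClSub.quotMod I, U) where
  toFun a := (show Γ(ClSub.quotMod I, U) from (I.subschemeι.app U).hom a)
  map_add' a b := map_add (I.subschemeι.app U).hom a b
  map_smul' r a := map_mul (I.subschemeι.app U).hom r a

theorem quotπ_surjective (U : X.affineOpens) : Function.Surjective (quotπ I U.1) := by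
  intro y
  obtain ⟨s, hs⟩ := I.subschemeι_app_surjective U y
  exact ⟨s, hs⟩

theorem ker_quotπ (U : X.affineOpens) : LinearMap.ker (quotπ I U.1) = I.ideal U := by
  ext a
  rw [LinearMap.mem_ker, ← I.ker_subschemeι_app U, RingHom.mem_ker]
  exact Iff.rfl

instance finite_quotMod_sections (U : X.affineOpens) :
    Module.Finite Γ(X, U.1) Γ(ClSub.quotMod I, U.1) :=
  Module.Finite.of_surjective (quotπ I U.1) (quotπ_surjective I U)

theorem isFT_quotMod : CohB1.IsFT (ClSub.quotMod I) :=
  isFiniteType_of_forall_affine_finite _ fun U => finite_quotMod_sections I U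

theorem flat_quotMod_sections (U : X.affineOpens) (h : (I.ideal U).Pure) :
    Module.Flat Γ(X, U.1) Γ(ClSub.quotMod I, U.1) := by
  haveI : Module.Flat Γ(X, U.1) (Γ(X, U.1) ⧸ LinearMap.ker (quotπ I U.1)) := by
    rw [ker_quotπ]; exact h
  exact Module.Flat.of_linearEquiv
    ((quotπ I U.1).quotKerEquivOfSurjective (quotπ_surjective I U)).symm

/-- If all the ideals are pure, `O_X / I` is a flat `O_X`-module. -/
theorem isFlat_quotMod (h : ∀ U : X.affineOpens, (I.ideal U).Pure) :
    FlatMod.IsFlat (ClSub.quotMod I) := by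
  intro x
  obtain ⟨_, ⟨U, hU, rfl⟩, hxU, -⟩ :=
    X.isBasis_affineOpens.exists_subset_of_mem_open (Set.mem_univ x) isOpen_univ
  haveI := flat_quotMod_sections I ⟨U, hU⟩ (h ⟨U, hU⟩)
  letI := X.presheaf.algebra_section_stalk ⟨x, hxU⟩
  haveI := hU.isLocalization_stalk ⟨x, hxU⟩
  letI := moduleSectionStalk (ClSub.quotMod I) x hxU
  haveI := isScalarTower_sectionStalk (ClSub.quotMod I) x hxU
  haveI := isLocalizedModule_germₗ (ClSub.quotMod I) hU x hxU
  have hbc : IsBaseChange (X.presheaf.stalk x) (germₗ (ClSub.quotMod I) x hxU) :=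
    IsLocalizedModule.isBaseChange (hU.primeIdealOf ⟨x, hxU⟩).asIdeal.primeCompl _ _
  exact Module.Flat.isBaseChange Γ(X, U) (X.presheaf.stalk x) Γ(ClSub.quotMod I, U)
    ((ClSub.quotMod I).presheaf.stalk x) hbc

/-- If `O_X / I` is finite locally free then the ideals of `I` are finitely generated. -/
theorem fg_ideal_of_isFinLocFree (hF : FlatMod.IsFinLocFree (ClSub.quotMod I))
    (U : X.affineOpens) : (I.ideal U).FG := by
  obtain ⟨hfp, -⟩ := finitePresentation_projective_sections_of_isFinLocFree
    (ClSub.quotMod I) hF U.2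
  have := Module.FinitePresentation.fg_ker (quotπ I U.1) (quotπ_surjective I U)
  rwa [ker_quotπ] at this

end Quot

section PureSheaf

variable (Z : Set X) (hZ : IsClosed Z) (hgen : StableUnderGeneralization Z)

/-- the trace of `Z` on the spectrum of an affine open. -/
def traceSet (U : X.affineOpens) : Set (PrimeSpectrum Γ(X, U.1)) :=
  {p | U.2.fromSpec p ∈ Z}

include hZ in
theorem isClosed_traceSet (U : X.affineOpens) : IsClosed (traceSet Z U) :=
  hZ.preimage U.2.fromSpec.continuous

include hgen in
theorem stableUnderGeneralization_traceSet (U : X.affineOpens) :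
    StableUnderGeneralization (traceSet Z U) := by
  intro x y hyx hx
  exact hgen (hyx.map U.2.fromSpec.continuous) hx

theorem comap_preimage_traceSet (U : X.affineOpens) (f : Γ(X, U.1)) :
    PrimeSpectrum.comap (X.presheaf.map (homOfLE (X.basicOpen_le f)).op).hom ⁻¹' traceSet Z U =
      traceSet Z (X.affineBasicOpen f) := by
  ext q
  have h := congr($(U.2.map_fromSpec (X.affineBasicOpen f).2
    (homOfLE (X.basicOpen_le f)).op) q)
  rw [Scheme.Hom.comp_apply] at h
  show U.2.fromSpec (PrimeSpectrum.comap _ q) ∈ Z ↔ (X.affineBasicOpen f).2.fromSpec q ∈ Z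
  rw [← h]
  rfl

/-- The pure ideal sheaf with support `Z`. -/
noncomputable def pureIdealSheaf : X.IdealSheafData where
  ideal U := pureIdeal (traceSet Z U)
  map_ideal_basicOpen U f := by
    have h1 := map_pureIdeal (isClosed_traceSet Z hZ U)
      (stableUnderGeneralization_traceSet Z hgen U)
      (X.presheaf.map (homOfLE (X.basicOpen_le f)).op).hom
    rw [comap_preimage_traceSet] at h1
    exact h1

theorem pure_pureIdealSheaf (U : X.affineOpens) :
    ((pureIdealSheaf Z hZ hgen).ideal U).Pure :=
  pure_pureIdeal (isClosed_traceSet Z hZ U) (stableUnderGeneralization_traceSet Z hgen U)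

include hZ hgen in
/-- direction `⇒` of S9352. -/
theorem isOpen_of_forall_isFinLocFree
    (h : ∀ F : X.Modules, Coh.IsQCoh F → CohB1.IsFT F → FlatMod.IsFlat F →
      FlatMod.IsFinLocFree F) : IsOpen Z := by
  have hF := h (ClSub.quotMod (pureIdealSheaf Z hZ hgen)) inferInstance
    (isFT_quotMod _) (isFlat_quotMod _ (pure_pureIdealSheaf Z hZ hgen))
  rw [isOpen_iff_forall_mem_open]
  intro x hx
  obtain ⟨_, ⟨U, hU, rfl⟩, hxU, -⟩ :=
    X.isBasis_affineOpens.exists_subset_of_mem_open (Set.mem_univ x) isOpen_univ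
  have hfg := fg_ideal_of_isFinLocFree _ hF ⟨U, hU⟩
  have hopen : IsOpen (traceSet Z ⟨U, hU⟩) :=
    isOpen_of_fg_pureIdeal (isClosed_traceSet Z hZ ⟨U, hU⟩)
      (stableUnderGeneralization_traceSet Z hgen ⟨U, hU⟩) hfg
  have himg : hU.fromSpec '' (traceSet Z ⟨U, hU⟩) = Z ∩ U := by
    have : traceSet Z ⟨U, hU⟩ = hU.fromSpec ⁻¹' Z := rfl
    rw [this, Set.image_preimage_eq_inter_range, hU.range_fromSpec]
  refine ⟨Z ∩ U, Set.inter_subset_left, ?_, hx, hxU⟩
  rw [← himg]
  exact hU.fromSpec.isOpenEmbedding.isOpenMap _ hopen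

end PureSheaf

end Groth.Agent.H81.FlatLF
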