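import Groth.Agent.H81.IdealMulKrull
import Groth.Agent.H8.QCohStalk
import Groth.Agent.H8.Coh

/-!
# Local structure of a coherent module at the generic point of an integral closed subscheme
(helper81; local algebra for S9521)
-/

set_option autoImplicit false
set_option linter.style.haveILetI false
universe u
open CategoryTheory CategoryTheory.Limits AlgebraicGeometry TopologicalSpace Opposite

namespace Groth.Agent.H81.GenPt

variable {X : Scheme.{u}}

/-- A finite family of conditions, each satisfied by some `g` invertible at `ξ` and stable under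
multiples, is satisfied by a common `g`. -/
theorem exists_common {W : X.Opens} (ξ : X) (hξ : ξ ∈ W) {ι : Type*} [Fintype ι]
    (P : ι → Γ(X, W) → Prop) (hP : ∀ k g c, P k g → P k (c * g))
    (h : ∀ k, ∃ g, ξ ∈ X.basicOpen g ∧ P k g) :
    ∃ g, ξ ∈ X.basicOpen g ∧ ∀ k, P k g := by
  classical
  choose g hg hPg using h
  refine ⟨∏ k, g k, ?_, fun k => ?_⟩
  · rw [Scheme.mem_basicOpen _ _ _ hξ, map_prod]
    refine Finset.prod_induction _ IsUnit (fun a b ha hb => ha.mul hb) isUnit_one ?_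
    intro k _
    exact (Scheme.mem_basicOpen _ _ _ hξ).mp (hg k)
  · rw [← Finset.prod_erase_mul Finset.univ g (Finset.mem_univ k)]
    exact hP k _ _ (hPg k)

section Germ

variable (F : X.Modules) [F.IsQuasicoherent] {W : X.Opens} (hW : IsAffineOpen W) (ξ : X)
  (hξ : ξ ∈ W)

include hW in
/-- Germs of a generating set of sections over an affine open generate the stalk. -/
theorem span_germ_eq_top (S : Set Γ(F, W)) (hS : Submodule.span Γ(X, W) S = ⊤) :
    Submodule.span (X.presheaf.stalk ξ) ((fun m => F.presheaf.germ W ξ hξ m) '' S) = ⊤ := by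
  have key : ∀ m : Γ(F, W), m ∈ Submodule.span Γ(X, W) S → F.presheaf.germ W ξ hξ m ∈
      Submodule.span (X.presheaf.stalk ξ) ((fun m => F.presheaf.germ W ξ hξ m) '' S) := by
    intro m hmS
    induction hmS using Submodule.span_induction with
    | mem x hx => exact Submodule.subset_span ⟨x, hx, rfl⟩
    | zero => rw [map_zero]; exact Submodule.zero_mem _
    | add x y _ _ hx hy => rw [map_add]; exact Submodule.add_mem _ hx hy
    | smul c x _ hx => rw [Groth.Agent.H8.germ_smul]; exact Submodule.smul_mem _ _ hx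
  rw [eq_top_iff]
  rintro t -
  obtain ⟨a, hxa, m, hm⟩ := Groth.Agent.H8.exists_germ_smul_eq_germ F hW ξ hξ t
  have hu : IsUnit (X.presheaf.germ W ξ hξ a) := (Scheme.mem_basicOpen _ _ _ hξ).mp hxa
  have hm' := key m (hS ▸ Submodule.mem_top)
  obtain ⟨u, hu'⟩ := hu
  have ht : t = (↑(u⁻¹) : X.presheaf.stalk ξ) • F.presheaf.germ W ξ hξ m := by
    rw [← hm, ← hu', smul_smul, Units.inv_mul, one_smul]
  rw [ht]
  exact Submodule.smul_mem _ _ hm'

/-- Dropping a generator whose coefficient in a vanishing combination is a unit. -/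
theorem span_succAbove {R M : Type*} [CommRing R] [AddCommGroup M] [Module R M] {r' : ℕ}
    (x : Fin (r' + 1) → M) (c : Fin (r' + 1) → R) (hc : ∑ j, c j • x j = 0) (j0 : Fin (r' + 1))
    (hu : IsUnit (c j0)) :
    Submodule.span R (Set.range x) ≤ Submodule.span R (Set.range fun k => x (j0.succAbove k)) := by
  have hsub : ∀ k, x (j0.succAbove k) ∈
      Submodule.span R (Set.range fun k => x (j0.succAbove k)) :=
    fun k => Submodule.subset_span ⟨k, rfl⟩
  rw [Submodule.span_le]
  rintro _ ⟨j, rfl⟩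
  by_cases hj : j = j0
  · subst hj
    rw [Fin.sum_univ_succAbove _ j] at hc
    obtain ⟨u, hu'⟩ := hu
    have h1 : x j = (↑(u⁻¹) : R) • (-∑ k, c (j.succAbove k) • x (j.succAbove k)) := by
      rw [← eq_neg_of_add_eq_zero_left hc, ← hu', smul_smul, Units.inv_mul, one_smul]
    rw [h1]
    refine Submodule.smul_mem _ _ (Submodule.neg_mem _ (Submodule.sum_mem _ fun k _ => ?_))
    exact Submodule.smul_mem _ _ (hsub k)
  · obtain ⟨k, hk⟩ := Fin.exists_succAbove_eq hj
    rw [← hk]
    exact hsub k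

include hW in
/-- A minimal family of sections over `W` whose germs generate the stalk at `ξ`. -/
theorem exists_minimal_gens (hfin : Module.Finite Γ(X, W) Γ(F, W)) :
    ∃ (r : ℕ) (m : Fin r → Γ(F, W)),
      Submodule.span (X.presheaf.stalk ξ)
        (Set.range fun j => F.presheaf.germ W ξ hξ (m j)) = ⊤ ∧
      ∀ c : Fin r → X.presheaf.stalk ξ, ∑ j, c j • F.presheaf.germ W ξ hξ (m j) = 0 →
        ∀ j, c j ∈ IsLocalRing.maximalIdeal (X.presheaf.stalk ξ) := by
  classical
  let P : ℕ → Prop := fun r => ∃ m : Fin r → Γ(F, W),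
    Submodule.span (X.presheaf.stalk ξ) (Set.range fun j => F.presheaf.germ W ξ hξ (m j)) = ⊤
  have hP : ∃ r, P r := by
    obtain ⟨n, s, hs⟩ := Module.Finite.exists_fin (R := Γ(X, W)) (M := Γ(F, W))
    refine ⟨n, s, ?_⟩
    have h1 := span_germ_eq_top F hW ξ hξ (Set.range s) hs
    rw [← Set.range_comp] at h1
    exact h1
  obtain ⟨r, ⟨m, hm⟩, hmin⟩ : ∃ r, P r ∧ ∀ r' < r, ¬ P r' :=
    ⟨Nat.find hP, Nat.find_spec hP, fun r' h => Nat.find_min hP h⟩
  refine ⟨r, m, hm, ?_⟩
  intro c hc j0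
  by_contra hj0
  have hu : IsUnit (c j0) := by
    by_contra h
    exact hj0 ((IsLocalRing.mem_maximalIdeal _).mpr h)
  cases r with
  | zero => exact j0.elim0
  | succ r' =>
    apply hmin r' (Nat.lt_succ_self _)
    refine ⟨fun k => m (j0.succAbove k), ?_⟩
    rw [eq_top_iff, ← hm]
    exact span_succAbove (fun j => F.presheaf.germ W ξ hξ (m j)) c hc j0 hu

include hW in
/-- Elements of the local ring at `ξ` are fractions of sections over `W`. -/
theorem exists_frac (c : X.presheaf.stalk ξ) :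
    ∃ b a : Γ(X, W), ξ ∈ X.basicOpen b ∧
      X.presheaf.germ W ξ hξ b * c = X.presheaf.germ W ξ hξ a := by
  letI := X.presheaf.algebra_section_stalk ⟨ξ, hξ⟩
  haveI := hW.isLocalization_stalk ⟨ξ, hξ⟩
  obtain ⟨⟨a, b⟩, h⟩ := IsLocalization.surj (hW.primeIdealOf ⟨ξ, hξ⟩).asIdeal.primeCompl c
  refine ⟨b.1, a, ?_, ?_⟩
  · exact (Groth.Agent.H8.mem_basicOpen_iff_notMem_primeIdealOf hW ξ hξ b.1).mpr b.2
  · rw [mul_comm]
    exact h

include hW in
/-- If the germ of `x` lies in the span of the germs of `N`, some multiple `s • x`, `s` invertible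
at `ξ`, lies in `N`. -/
theorem exists_smul_mem_of_germ_mem_span (N : Submodule Γ(X, W) Γ(F, W)) (x : Γ(F, W))
    (hx : F.presheaf.germ W ξ hξ x ∈ Submodule.span (X.presheaf.stalk ξ)
      ((fun m => F.presheaf.germ W ξ hξ m) '' (N : Set Γ(F, W)))) :
    ∃ s : Γ(X, W), ξ ∈ X.basicOpen s ∧ s • x ∈ N := by
  have hone : ξ ∈ X.basicOpen (1 : Γ(X, W)) := by
    rw [Scheme.mem_basicOpen _ _ _ hξ, map_one]
    exact isUnit_one
  have key : ∀ t ∈ Submodule.span (X.presheaf.stalk ξ)
      ((fun m => F.presheaf.germ W ξ hξ m) '' (N : Set Γ(F, W))),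
      ∃ (s : Γ(X, W)) (n : Γ(F, W)), ξ ∈ X.basicOpen s ∧ n ∈ N ∧
        X.presheaf.germ W ξ hξ s • t = F.presheaf.germ W ξ hξ n := by
    intro t ht
    induction ht using Submodule.span_induction with
    | mem t ht =>
      obtain ⟨n, hn, rfl⟩ := ht
      exact ⟨1, n, hone, hn, by rw [map_one, one_smul]⟩
    | zero => exact ⟨1, 0, hone, N.zero_mem, by rw [smul_zero, map_zero]⟩
    | add t₁ t₂ _ _ h₁ h₂ =>
      obtain ⟨s₁, n₁, hs₁, hn₁, e₁⟩ := h₁
      obtain ⟨s₂, n₂, hs₂, hn₂, e₂⟩ := h₂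
      refine ⟨s₁ * s₂, s₂ • n₁ + s₁ • n₂, ?_, N.add_mem (N.smul_mem _ hn₁) (N.smul_mem _ hn₂), ?_⟩
      · rw [Scheme.basicOpen_mul]
        exact ⟨hs₁, hs₂⟩
      · rw [map_add, Groth.Agent.H8.germ_smul, Groth.Agent.H8.germ_smul, ← e₁, ← e₂, smul_add,
          map_mul, smul_smul, smul_smul, mul_comm (X.presheaf.germ W ξ hξ s₁)]
    | smul c t _ h =>
      obtain ⟨s, n, hs, hn, e⟩ := h
      obtain ⟨b, a, hb, hba⟩ := exists_frac hW ξ hξ c
      refine ⟨b * s, a • n, ?_, N.smul_mem _ hn, ?_⟩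
      · rw [Scheme.basicOpen_mul]
        exact ⟨hb, hs⟩
      · rw [Groth.Agent.H8.germ_smul, ← e, ← hba, map_mul, smul_smul, smul_smul]
        congr 1
        ring
  obtain ⟨s, n, hs, hn, e⟩ := key _ hx
  have h0 : F.presheaf.germ W ξ hξ (s • x - n) = 0 := by
    rw [map_sub, Groth.Agent.H8.germ_smul, e, sub_self]
  obtain ⟨s', hs', h1⟩ :=
    Groth.Agent.H8.exists_smul_eq_zero_of_germ_eq_zero F hW ξ hξ (s • x - n) h0
  refine ⟨s' * s, ?_, ?_⟩
  · rw [Scheme.basicOpen_mul]
    exact ⟨hs', hs⟩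
  · rw [smul_sub, sub_eq_zero] at h1
    rw [mul_smul, h1]
    exact N.smul_mem _ hn

end Germ

section Closed

variable {Z : Scheme.{u}} (i : Z ⟶ X) [IsIntegral Z]

/-- A function on `X` vanishing on `Z` is not invertible at the image of the generic point. -/
theorem germ_mem_maximalIdeal_of_app_eq_zero {W : X.Opens} (hξ : i (genericPoint Z) ∈ W)
    (a : Γ(X, W)) (ha : (i.app W).hom a = 0) :
    X.presheaf.germ W (i (genericPoint Z)) hξ a ∈
      IsLocalRing.maximalIdeal (X.presheaf.stalk (i (genericPoint Z))) := by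
  rw [IsLocalRing.mem_maximalIdeal]
  intro hu
  have h1 : i (genericPoint Z) ∈ X.basicOpen a := (Scheme.mem_basicOpen _ _ _ hξ).mpr hu
  have h2 : genericPoint Z ∈ i ⁻¹ᵁ X.basicOpen a := h1
  rw [Scheme.preimage_basicOpen] at h2
  have h3 : (i.app W) a = 0 := ha
  rw [h3, Scheme.basicOpen_zero] at h2
  exact h2

/-- A function on `X` not invertible at the image of the generic point of the integral scheme `Z`
vanishes on `Z`. -/
theorem app_eq_zero_of_germ_mem_maximalIdeal {U : X.Opens} (hξ : i (genericPoint Z) ∈ U)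
    (a : Γ(X, U))
    (ha : X.presheaf.germ U (i (genericPoint Z)) hξ a ∈
      IsLocalRing.maximalIdeal (X.presheaf.stalk (i (genericPoint Z)))) :
    (i.app U).hom a = 0 := by
  rw [IsLocalRing.mem_maximalIdeal] at ha
  have h1 : i (genericPoint Z) ∉ X.basicOpen a := fun h =>
    ha ((Scheme.mem_basicOpen _ _ _ hξ).mp h)
  have h2 : genericPoint Z ∉ Z.basicOpen ((i.app U) a) := by
    rw [← Scheme.preimage_basicOpen]
    exact h1
  have h3 : Z.basicOpen ((i.app U) a) = ⊥ := by
    by_contra hne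
    apply h2
    have hne' : ((Z.basicOpen ((i.app U) a) : Z.Opens) : Set Z).Nonempty := by
      rw [Set.nonempty_iff_ne_empty]
      intro h
      apply hne
      ext1
      exact h
    obtain ⟨z, hz⟩ := hne'
    exact ((genericPoint_spec Z).mem_open_set_iff (Z.basicOpen ((i.app U) a)).2).mpr
      ⟨z, trivial, hz⟩
  exact (AlgebraicGeometry.basicOpen_eq_bot_iff _).mp h3

end Closed

/-- **Local structure at the generic point of `Z`.**  There are an affine open neighbourhood `U`
of `ξ = i(η)` and sections `m_1, …, m_r` of `F` over `U` such that `a ↦ Σ a_j m_j` induces an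
isomorphism `Γ(Z, i⁻¹U)^r ≅ Γ(F, U)`. -/
theorem exists_local_data [IsLocallyNoetherian X] {Z : Scheme.{u}} (i : Z ⟶ X)
    [IsClosedImmersion i] [IsIntegral Z] (F : X.Modules) (hF : Coh.IsCoh F)
    (hann : ∀ a ∈ IsLocalRing.maximalIdeal (X.presheaf.stalk (i (genericPoint Z))),
      ∀ m : ↑(F.presheaf.stalk (i (genericPoint Z))), a • m = 0) :
    ∃ (U : X.Opens) (_ : IsAffineOpen U) (_ : i (genericPoint Z) ∈ U) (r : ℕ)
      (m : Fin r → Γ(F, U)),
      (∀ a' : Γ(X, U), (i.app U).hom a' = 0 → ∀ j, a' • m j = 0) ∧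
      (∀ m' : Γ(F, U), ∃ a' : Fin r → Γ(X, U), ∑ j, a' j • m j = m') ∧
      (∀ a' : Fin r → Γ(X, U), ∑ j, a' j • m j = 0 → ∀ j, (i.app U).hom (a' j) = 0) := by
  classical
  haveI : F.IsQuasicoherent := hF.1
  obtain ⟨W, hW, hξW, -⟩ := exists_isAffineOpen_mem_and_subset (x := i (genericPoint Z))
    (U := (⊤ : X.Opens)) trivial
  haveI : IsNoetherianRing Γ(X, W) := IsLocallyNoetherian.component_noetherian ⟨W, hW⟩
  haveI hfin : Module.Finite Γ(X, W) Γ(F, W) := Groth.Agent.H8.finite_sections_of_isCoh F hF hW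
  obtain ⟨r, m0, hspan, hmin⟩ := exists_minimal_gens F hW (i (genericPoint Z)) hξW hfin
  let N : Submodule Γ(X, W) Γ(F, W) := Submodule.span Γ(X, W) (Set.range m0)
  let 𝔮 : Ideal Γ(X, W) := RingHom.ker (i.app W).hom
  -- `g₁` kills `𝔮 • N`
  have hfg : (𝔮 • N).FG := IsNoetherian.noetherian _
  obtain ⟨S1, hS1⟩ := hfg
  have hgerm0 : ∀ y ∈ 𝔮 • N, F.presheaf.germ W (i (genericPoint Z)) hξW y = 0 := by
    intro y hy
    refine Submodule.smul_induction_on hy ?_ ?_
    · intro a ha n _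
      rw [Groth.Agent.H8.germ_smul]
      exact hann _ (germ_mem_maximalIdeal_of_app_eq_zero i hξW a (RingHom.mem_ker.mp ha)) _
    · intro x y hx hy
      rw [map_add, hx, hy, add_zero]
  obtain ⟨g1, hg1ξ, hg1⟩ := exists_common (i (genericPoint Z)) hξW (ι := S1)
    (fun k g => g • (k : Γ(F, W)) = 0)
    (by intro k g c h; rw [mul_smul, h, smul_zero])
    (fun k => by
      obtain ⟨a, ha, h0⟩ := Groth.Agent.H8.exists_smul_eq_zero_of_germ_eq_zero F hW
        (i (genericPoint Z)) hξW k.1 (hgerm0 _ (hS1 ▸ Submodule.subset_span k.2))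
      exact ⟨a, ha, h0⟩)
  have hg1' : ∀ y ∈ 𝔮 • N, g1 • y = 0 := by
    intro y hy
    rw [← hS1] at hy
    induction hy using Submodule.span_induction with
    | mem x hx => exact hg1 ⟨x, hx⟩
    | zero => rw [smul_zero]
    | add x y _ _ hx hy => rw [smul_add, hx, hy, add_zero]
    | smul c x _ hx => rw [smul_comm, hx, smul_zero]
  -- `g₂ • M ⊆ N`
  obtain ⟨S2, hS2⟩ := hfin.fg_top
  have hN_germ : ∀ x : Γ(F, W), F.presheaf.germ W (i (genericPoint Z)) hξW x ∈
      Submodule.span (X.presheaf.stalk (i (genericPoint Z)))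
        ((fun m => F.presheaf.germ W (i (genericPoint Z)) hξW m) '' (N : Set Γ(F, W))) := by
    intro x
    have hle : Submodule.span (X.presheaf.stalk (i (genericPoint Z)))
        (Set.range fun j => F.presheaf.germ W (i (genericPoint Z)) hξW (m0 j)) ≤
        Submodule.span (X.presheaf.stalk (i (genericPoint Z)))
          ((fun m => F.presheaf.germ W (i (genericPoint Z)) hξW m) '' (N : Set Γ(F, W))) := by
      apply Submodule.span_mono
      rintro _ ⟨j, rfl⟩
      exact ⟨m0 j, Submodule.subset_span ⟨j, rfl⟩, rfl⟩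
    exact hle (hspan ▸ Submodule.mem_top)
  obtain ⟨g2, hg2ξ, hg2⟩ := exists_common (i (genericPoint Z)) hξW (ι := S2)
    (fun k g => g • (k : Γ(F, W)) ∈ N)
    (by intro k g c h; rw [mul_smul]; exact N.smul_mem c h)
    (fun k => exists_smul_mem_of_germ_mem_span F hW (i (genericPoint Z)) hξW N k.1 (hN_germ _))
  have hg2' : ∀ y : Γ(F, W), g2 • y ∈ N := by
    intro y
    have hy : y ∈ Submodule.span Γ(X, W) (S2 : Set Γ(F, W)) := hS2 ▸ Submodule.mem_top
    induction hy using Submodule.span_induction with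
    | mem x hx => exact hg2 ⟨x, hx⟩
    | zero => rw [smul_zero]; exact N.zero_mem
    | add x y _ _ hx hy => rw [smul_add]; exact N.add_mem hx hy
    | smul c x _ hx => rw [smul_comm]; exact N.smul_mem c hx
  -- the open `U = D(g₁ g₂)`
  have hξU : i (genericPoint Z) ∈ X.basicOpen (g1 * g2) := by
    rw [Scheme.basicOpen_mul]
    exact ⟨hg1ξ, hg2ξ⟩
  have hU : IsAffineOpen (X.basicOpen (g1 * g2)) := hW.basicOpen (g1 * g2)
  refine ⟨X.basicOpen (g1 * g2), hU, hξU, r,
    fun j => F.presheaf.map (homOfLE (X.basicOpen_le (g1 * g2))).op (m0 j), ?_, ?_, ?_⟩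
  · -- well-definedness
    intro a' ha' j
    have hmem : a' ∈ (i.ker).ideal ⟨X.basicOpen (g1 * g2), hU⟩ := by
      rw [Scheme.Hom.ker_apply]
      exact RingHom.mem_ker.mpr ha'
    have hmap := (i.ker).map_ideal_basicOpen ⟨W, hW⟩ (g1 * g2)
    have hmem' : a' ∈ ((i.ker).ideal ⟨W, hW⟩).map
        (X.presheaf.map (homOfLE (X.basicOpen_le (g1 * g2))).op).hom := by
      rw [hmap]
      exact hmem
    refine Submodule.span_induction
      (p := fun a _ => a • F.presheaf.map (homOfLE (X.basicOpen_le (g1 * g2))).op (m0 j) = 0)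
      ?_ ?_ ?_ ?_ hmem'
    · rintro _ ⟨p, hp, rfl⟩
      have hp' : p ∈ 𝔮 := by
        have h1 : p ∈ (i.ker).ideal ⟨W, hW⟩ := hp
        rw [Scheme.Hom.ker_apply] at h1
        exact h1
      have h2 : (X.presheaf.map (homOfLE (X.basicOpen_le (g1 * g2))).op).hom p •
          F.presheaf.map (homOfLE (X.basicOpen_le (g1 * g2))).op (m0 j) =
          F.presheaf.map (homOfLE (X.basicOpen_le (g1 * g2))).op (p • m0 j) :=
        (Scheme.Modules.map_smul F (homOfLE (X.basicOpen_le (g1 * g2))) p (m0 j)).symm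
      rw [h2]
      apply Groth.Agent.H81.IdealMulKrull.res_basicOpen_eq_zero_of_smul_eq_zero
      rw [mul_comm g1 g2, mul_smul,
        hg1' _ (Submodule.smul_mem_smul hp' (Submodule.subset_span ⟨j, rfl⟩)), smul_zero]
    · rw [zero_smul]
    · intro x y _ _ hx hy
      rw [add_smul, hx, hy, add_zero]
    · intro c x _ hx
      rw [smul_eq_mul, mul_smul, hx, smul_zero]
  · -- surjectivity
    intro m'
    obtain ⟨n, y, hy⟩ := Groth.Agent.H8.exists_smul_eq_res hW F (g1 * g2) m'
    have hgy : (g1 * g2) • y ∈ N := by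
      rw [mul_smul]
      exact N.smul_mem g1 (hg2' y)
    obtain ⟨c, hc⟩ := (Submodule.mem_span_range_iff_exists_fun _).mp hgy
    have hu : IsUnit (X.presheaf.map (homOfLE (X.basicOpen_le (g1 * g2))).op (g1 * g2)) :=
      X.toRingedSpace.isUnit_res_basicOpen (g1 * g2)
    obtain ⟨u, hu'⟩ := hu
    refine ⟨fun j => (↑(u⁻¹ ^ (n + 1)) : Γ(X, X.basicOpen (g1 * g2))) *
      X.presheaf.map (homOfLE (X.basicOpen_le (g1 * g2))).op (c j), ?_⟩
    have h1 : ∑ j, X.presheaf.map (homOfLE (X.basicOpen_le (g1 * g2))).op (c j) •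
        F.presheaf.map (homOfLE (X.basicOpen_le (g1 * g2))).op (m0 j) =
        (↑(u ^ (n + 1)) : Γ(X, X.basicOpen (g1 * g2))) • m' := by
      rw [Units.val_pow_eq_pow_val, hu', pow_succ', mul_smul, hy,
        ← Scheme.Modules.map_smul, ← hc, map_sum]
      refine Finset.sum_congr rfl fun j _ => ?_
      exact (Scheme.Modules.map_smul F (homOfLE (X.basicOpen_le (g1 * g2))) (c j) (m0 j)).symm
    simp_rw [mul_smul]
    rw [← Finset.smul_sum, h1, smul_smul, ← Units.val_mul, inv_pow, inv_mul_cancel,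
      Units.val_one, one_smul]
  · -- injectivity
    intro a' ha' j
    apply app_eq_zero_of_germ_mem_maximalIdeal i hξU
    have h1 := congrArg (F.presheaf.germ (X.basicOpen (g1 * g2)) (i (genericPoint Z)) hξU) ha'
    rw [map_sum, map_zero] at h1
    have h2 : ∑ j, X.presheaf.germ (X.basicOpen (g1 * g2)) (i (genericPoint Z)) hξU (a' j) •
        F.presheaf.germ W (i (genericPoint Z)) hξW (m0 j) = 0 := by
      rw [← h1]
      refine Finset.sum_congr rfl fun j _ => ?_
      rw [Groth.Agent.H8.germ_smul, TopCat.Presheaf.germ_res_apply]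
    exact hmin (fun j => X.presheaf.germ (X.basicOpen (g1 * g2)) (i (genericPoint Z)) hξU (a' j))
      h2 j

end Groth.Agent.H81.GenPt
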