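import Groth.Agent.H81.GenPt1
import Groth.Agent.H81.IdealMulPush
import Groth.Agent.S9515
import Groth.Agent.H17.HomRestrict
import Groth.Agent.H8.StructureCoh
import Groth.Agent.H8.IsoCover
import Groth.Agent.H8.FinType
import Groth.Agent.H95.QCohColim
import Groth.Agent.H22.QCohLimits

/-!
# Coherent modules near the generic point of an integral closed subscheme (helper81; S9521)
-/

set_option autoImplicit false
set_option linter.style.haveILetI false
universe u
open CategoryTheory CategoryTheory.Limits AlgebraicGeometry TopologicalSpace Opposite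

namespace Groth.Agent.H81.GenPt

open Groth.Agent.H81.IdealMulPush (toF ofF)

variable {X Z : Scheme.{u}} (i : Z ⟶ X)

theorem toF_ofF (F : Z.Modules) (W : X.Opens) (x : Γ(F, i ⁻¹ᵁ W)) :
    toF i F W (ofF i F W x) = x := rfl

theorem ofF_injective (F : Z.Modules) (W : X.Opens) : Function.Injective (ofF i F W) :=
  fun _ _ h => h

/-- `i_* O_Z`. -/
noncomputable abbrev G1 : X.Modules :=
  (Scheme.Modules.pushforward i).obj (Coh.structureModule Z)

/-- sections of `O_Z` as sections of the structure module -/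
def toSM (V : Z.Opens) (b : Γ(Z, V)) : Γ(Coh.structureModule Z, V) := b

theorem toSM_injective (V : Z.Opens) : Function.Injective (toSM (Z := Z) V) := fun _ _ h => h

theorem toSM_surjective (V : Z.Opens) : Function.Surjective (toSM (Z := Z) V) := fun b => ⟨b, rfl⟩

theorem toSM_zero (V : Z.Opens) : toSM (Z := Z) V 0 = 0 := rfl

theorem smul_toSM (V : Z.Opens) (a b : Γ(Z, V)) : a • toSM V b = toSM V (a * b) := rfl

theorem toSM_res {V V' : Z.Opens} (h : V' ≤ V) (b : Γ(Z, V)) :
    (Coh.structureModule Z).presheaf.map (homOfLE h).op (toSM V b) =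
      toSM V' (Z.presheaf.map (homOfLE h).op b) := rfl

/-- the unit section of `i_* O_Z` over `U`. -/
noncomputable def one (U : X.Opens) : Γ(G1 i, U) :=
  ofF i (Coh.structureModule Z) U (toSM (i ⁻¹ᵁ U) 1)

theorem smul_one' (U : X.Opens) (a : Γ(X, U)) :
    a • one i U = ofF i (Coh.structureModule Z) U (toSM (i ⁻¹ᵁ U) ((i.app U).hom a)) := by
  rw [one, ← IdealMulPush.ofF_smul, smul_toSM, mul_one]

theorem smul_one_eq_zero_iff (U : X.Opens) (a : Γ(X, U)) :
    a • one i U = 0 ↔ (i.app U).hom a = 0 := by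
  rw [smul_one']
  constructor
  · intro h
    have h1 : ofF i (Coh.structureModule Z) U (toSM (i ⁻¹ᵁ U) ((i.app U).hom a)) =
        ofF i (Coh.structureModule Z) U 0 := h.trans (IdealMulPush.ofF_zero i _ U).symm
    exact toSM_injective _ ((ofF_injective i _ U h1).trans (toSM_zero _).symm)
  · intro h
    rw [h, toSM_zero, IdealMulPush.ofF_zero]

theorem exists_smul_one_eq [IsClosedImmersion i] {U : X.Opens} (hU : IsAffineOpen U)
    (b : Γ(G1 i, U)) : ∃ a : Γ(X, U), a • one i U = b := by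
  obtain ⟨b', hb'⟩ := toSM_surjective (i ⁻¹ᵁ U) (toF i (Coh.structureModule Z) U b)
  obtain ⟨a, ha⟩ := i.app_surjective U hU b'
  refine ⟨a, ?_⟩
  rw [smul_one']
  have h1 : (i.app U).hom a = b' := ha
  rw [h1, hb']
  rfl

/-- A section `m` of `F` over an affine `U` killed by the ideal of `Z` defines a linear map
`Γ(i_*O_Z, U) → Γ(F, U)` sending `1` to `m`. -/
theorem exists_linearMap [IsClosedImmersion i] {U : X.Opens} (hU : IsAffineOpen U)
    (F : X.Modules) (m : Γ(F, U))
    (hm : ∀ a : Γ(X, U), (i.app U).hom a = 0 → a • m = 0) :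
    ∃ h : Γ(G1 i, U) →ₗ[Γ(X, U)] Γ(F, U), ∀ a : Γ(X, U), h (a • one i U) = a • m := by
  let p : Γ(X, U) →ₗ[Γ(X, U)] Γ(G1 i, U) :=
    LinearMap.toSpanSingleton Γ(X, U) Γ(G1 i, U) (one i U)
  have hp : Function.Surjective p := fun b => exists_smul_one_eq i hU b
  let f : Γ(X, U) →ₗ[Γ(X, U)] Γ(F, U) := LinearMap.toSpanSingleton Γ(X, U) Γ(F, U) m
  have hker : LinearMap.ker p ≤ LinearMap.ker f := by
    intro a ha
    rw [LinearMap.mem_ker] at ha ⊢
    have h1 : a • one i U = 0 := ha
    exact hm a ((smul_one_eq_zero_iff i U a).mp h1)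
  refine ⟨(Submodule.liftQ _ f hker).comp
    (LinearMap.quotKerEquivOfSurjective p hp).symm.toLinearMap, fun a => ?_⟩
  have h1 : (LinearMap.quotKerEquivOfSurjective p hp).symm (a • one i U) =
      Submodule.Quotient.mk a := by
    apply (LinearMap.quotKerEquivOfSurjective p hp).injective
    rw [LinearEquiv.apply_symm_apply, LinearMap.quotKerEquivOfSurjective_apply_mk]
    rfl
  rw [LinearMap.comp_apply]
  change (Submodule.liftQ _ f hker) ((LinearMap.quotKerEquivOfSurjective p hp).symm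
    (a • one i U)) = a • m
  rw [h1, Submodule.liftQ_apply]
  rfl

section HomRestrict

open Groth.Agent.H17.HomSh Groth.Agent.H17.HomRestrict

/-- A linear map on sections over an affine open `U` of a quasi-coherent module defines a
morphism of the restricted modules. -/
theorem exists_hom_restrict {G F : X.Modules} [G.IsQuasicoherent] {U : X.Opens}
    (hU : IsAffineOpen U) (h : Γ(G, U) →ₗ[Γ(X, U)] Γ(F, U)) :
    ∃ φ : (Scheme.Modules.restrictFunctor U.ι).obj G ⟶
        (Scheme.Modules.restrictFunctor U.ι).obj F,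
      ∀ (O : (U : Scheme.{u}).Opens) (s : Γ(G, U)),
        Scheme.Modules.Hom.app φ O (G.presheaf.map (homOfLE (image_le O)).op s) =
          F.presheaf.map (homOfLE (image_le O)).op (h s) := by
  obtain ⟨g, hg⟩ := fwdₗₗ_surjective G F hU h
  refine ⟨homOfSectionOn G F g, fun O s => ?_⟩
  rw [homOfSectionOn_app]
  refine section_ext_germ F _ _ (fun y => ?_)
  have h1 : fwd G F (le_refl U) g s = h s := LinearMap.congr_fun hg s
  rw [germ_secFunOn, TopCat.Presheaf.germ_res_apply, TopCat.Presheaf.germ_res_apply, ← h1,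
    germ_fwd]

end HomRestrict


section Aux

variable {Y : Scheme.{u}}

theorem res_res' (G : Y.Modules) {A B C : Y.Opens} (h1 : B ≤ A) (h2 : C ≤ B) (m : Γ(G, A)) :
    G.presheaf.map (homOfLE h2).op (G.presheaf.map (homOfLE h1).op m) =
      G.presheaf.map (homOfLE (h2.trans h1)).op m :=
  Groth.Agent.H81.IdealMulKrull.res_res G h1 h2 m

theorem res_self (G : Y.Modules) (A : Y.Opens) (m : Γ(G, A)) :
    G.presheaf.map (homOfLE (le_refl A)).op m = m := by
  rw [show (homOfLE (le_refl A)).op = 𝟙 (op A) from rfl, G.presheaf.map_id]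
  rfl

/-- restriction between equal opens is a bijection -/
theorem res_res_cancel (G : Y.Modules) {A B : Y.Opens} (h1 : B ≤ A) (h2 : A ≤ B) (m : Γ(G, A)) :
    G.presheaf.map (homOfLE h2).op (G.presheaf.map (homOfLE h1).op m) = m := by
  rw [res_res', res_self]

theorem sum_app {A B : Y.Modules} {ι : Type*} (s : Finset ι) (f : ι → (A ⟶ B)) (V : Y.Opens)
    (t : Γ(A, V)) :
    Scheme.Modules.Hom.app (∑ j ∈ s, f j) V t = ∑ j ∈ s, Scheme.Modules.Hom.app (f j) V t := by
  classical
  induction s using Finset.induction_on with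
  | empty =>
    rw [Finset.sum_empty, Finset.sum_empty]
    rfl
  | insert a s ha ih =>
    rw [Finset.sum_insert ha, Finset.sum_insert ha, ← ih]
    rfl

/-- sections over an empty open vanish -/
theorem eq_zero_of_empty (N : Y.Modules) (W : Y.Opens) (hW : ∀ x, x ∉ W) (s : Γ(N, W)) : s = 0 := by
  apply TopCat.Sheaf.eq_of_locally_eq' (⟨N.presheaf, N.isSheaf⟩ : TopCat.Sheaf Ab.{u} Y)
    (fun k : PEmpty.{1} => (k.elim : Y.Opens)) W (fun k : PEmpty.{1} => k.elim)
    (fun x hx => (hW x hx).elim) s 0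
  intro k
  exact k.elim

theorem isQuasicoherent_sigma' {ι : Type} [Fintype ι] (F : ι → Y.Modules)
    (h : ∀ j, (F j).IsQuasicoherent) : (∐ F).IsQuasicoherent := by
  let G : ULift.{u} ι → Y.Modules := F ∘ Equiv.ulift
  haveI : (∐ G).IsQuasicoherent :=
    Groth.Agent.H95.QCohColim.isQuasicoherent_of_isColimit _
      (colimit.isColimit (Discrete.functor G)) (fun j => h j.as.down)
  exact Groth.Agent.H22.QCohLimits.isQuasicoherent_of_iso (Sigma.reindex Equiv.ulift F)

/-- The ideal of an ideal sheaf on an affine open disjoint from the support is the unit ideal. -/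
theorem ideal_eq_top_of_disjoint (I : Y.IdealSheafData) (V : Y.affineOpens)
    (hV : ∀ x ∈ V.1, x ∉ I.supportSet) : I.ideal V = ⊤ := by
  have hcov : ⨆ f : (I.ideal V : Set Γ(Y, V.1)), Y.basicOpen (f : Γ(Y, V.1)) = V.1 := by
    apply le_antisymm
    · exact iSup_le fun f => Y.basicOpen_le _
    · intro x hxV
      have h1 : ¬ x ∈ Y.zeroLocus (U := V.1) (I.ideal V) := fun h =>
        hV x hxV ((Scheme.IdealSheafData.mem_supportSet_iff_of_mem hxV).mpr h)
      rw [Scheme.mem_zeroLocus_iff] at h1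
      push_neg at h1
      obtain ⟨g, hg, hxg⟩ := h1
      exact Opens.mem_iSup.mpr ⟨⟨g, hg⟩, hxg⟩
  have h2 := (IsAffineOpen.iSup_basicOpen_eq_self_iff V.2 (s := (I.ideal V : Set Γ(Y, V.1)))).mp hcov
  rwa [Ideal.span_eq] at h2

open Groth.Agent.H36.IdealMul in
theorem exists_idealMul_le (I : Y.IdealSheafData) (G : Y.Modules) [G.IsQuasicoherent] {n n' : ℕ}
    (h : n ≤ n') :
    ∃ κ : (Dual3.idealMul (I ^ n')).obj G ⟶ (Dual3.idealMul (I ^ n)).obj G,
      κ ≫ Dual3.idealMulι (I ^ n) G = Dual3.idealMulι (I ^ n') G := by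
  haveI := isQuasicoherent_idealMul (I ^ n') G
  have hpow : ∀ (k : ℕ) (W : Y.affineOpens), (I ^ k).ideal W = (I.ideal W) ^ k := fun _ _ => rfl
  have hfac : Dual3.idealMulι (I ^ n') G ≫ unitJ (I ^ n) G = 0 := by
    apply hom_eq_zero_of_affine_cover _ Set.univ (exists_affine_mem Y)
    intro W _ t
    show Scheme.Modules.Hom.app (unitJ (I ^ n) G) W.1
      (Scheme.Modules.Hom.app (Dual3.idealMulι (I ^ n') G) W.1 t) = 0
    rw [unit_app_eq_zero_iff]
    have h1 := idealMulι_app_mem (I ^ n') G W t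
    rw [hpow] at h1 ⊢
    exact Submodule.smul_mono_left (Ideal.pow_le_pow_right h) h1
  exact ⟨kernel.lift _ _ hfac, kernel.lift_ι _ _ _⟩

end Aux

section Coprod

variable {C : Type*} [Category C] [Preadditive C] (I : C) (r : ℕ)
  [HasCoproduct (fun _ : Fin r => I)]

/-- projections of a finite coproduct of copies of `I` -/
noncomputable def cπ (j : Fin r) : (∐ fun _ : Fin r => I) ⟶ I :=
  Sigma.desc (fun k => if k = j then 𝟙 I else 0)

theorem ι_cπ (j k : Fin r) :
    Sigma.ι (fun _ : Fin r => I) k ≫ cπ I r j = if k = j then 𝟙 I else 0 := by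
  unfold cπ
  rw [Sigma.ι_desc]

theorem sum_cπ_ι : ∑ j, cπ I r j ≫ Sigma.ι (fun _ : Fin r => I) j = 𝟙 _ := by
  apply Sigma.hom_ext
  intro k
  rw [Preadditive.comp_sum, Category.comp_id, Finset.sum_eq_single k]
  · rw [← Category.assoc, ι_cπ, if_pos rfl, Category.id_comp]
  · intro j _ hj
    rw [← Category.assoc, ι_cπ, if_neg (Ne.symm hj), zero_comp]
  · intro h
    exact (h (Finset.mem_univ k)).elim

end Coprod


section Main

variable {X Z : Scheme.{u}} (i : Z ⟶ X)

theorem toF_res (F : Z.Modules) {W W' : X.Opens} (h : W' ≤ W)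
    (t : Γ((Scheme.Modules.pushforward i).obj F, W)) :
    toF i F W' (((Scheme.Modules.pushforward i).obj F).presheaf.map (homOfLE h).op t) =
      F.presheaf.map (homOfLE (show i ⁻¹ᵁ W' ≤ i ⁻¹ᵁ W from fun _ hx => h hx)).op
        (toF i F W t) := rfl

/-- On an integral scheme, sections of a finite sum of copies of an ideal sheaf are determined
by their restriction to a nonempty open. -/
theorem res_injective_sigma [IsIntegral Z] (I : Z.Modules) (ι : I ⟶ Coh.structureModule Z)
    [Mono ι] (r : ℕ) {V V' : Z.Opens} (h : V' ≤ V) (hne : ∃ z, z ∈ V')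
    (t : Γ(∐ fun _ : Fin r => I, V))
    (ht : (∐ fun _ : Fin r => I).presheaf.map (homOfLE h).op t = 0) : t = 0 := by
  have htj : ∀ j, Scheme.Modules.Hom.app (cπ I r j) V t = 0 := by
    intro j
    apply Groth.Agent.H8.app_injective_of_mono ι V
    rw [map_zero]
    obtain ⟨b, hb⟩ := toSM_surjective V
      (Scheme.Modules.Hom.app ι V (Scheme.Modules.Hom.app (cπ I r j) V t))
    rw [← hb]
    have h1 : (Coh.structureModule Z).presheaf.map (homOfLE h).op (toSM V b) = 0 := by
      rw [hb, ← Groth.Agent.H22.QCohLimits.app_res, ← Groth.Agent.H22.QCohLimits.app_res, ht,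
        map_zero, map_zero]
    rw [toSM_res] at h1
    haveI : Nonempty V' := ⟨⟨hne.choose, hne.choose_spec⟩⟩
    have h2 : Z.presheaf.map (homOfLE h).op b = 0 :=
      toSM_injective _ (h1.trans (toSM_zero _).symm)
    have h3 : b = 0 :=
      map_injective_of_isIntegral Z (homOfLE h) (h2.trans (map_zero _).symm)
    rw [h3, toSM_zero]
  have h1 : Scheme.Modules.Hom.app (∑ j, cπ I r j ≫ Sigma.ι (fun _ : Fin r => I) j) V t = t := by
    rw [sum_cπ_ι]
    rfl
  rw [sum_app] at h1
  rw [← h1]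
  apply Finset.sum_eq_zero
  intro j _
  show Scheme.Modules.Hom.app (Sigma.ι (fun _ : Fin r => I) j) V
    (Scheme.Modules.Hom.app (cπ I r j) V t) = 0
  rw [htj j, map_zero]

set_option backward.isDefEq.respectTransparency false in
/-- A morphism `i_*(I^r) ⟶ F` which is an isomorphism near the generic point is a monomorphism. -/
theorem mono_of_isIso_restrict [IsIntegral Z] (I : Z.Modules) (ι : I ⟶ Coh.structureModule Z)
    [Mono ι] (r : ℕ) (F : X.Modules)
    (φ : (Scheme.Modules.pushforward i).obj (∐ fun _ : Fin r => I) ⟶ F) (U : X.Opens)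
    (hξ : i (genericPoint Z) ∈ U)
    (hiso : IsIso ((Scheme.Modules.restrictFunctor U.ι).map φ)) : Mono φ := by
  have hinjU : ∀ (W' : X.Opens), W' ≤ U →
      ∀ t : Γ((Scheme.Modules.pushforward i).obj (∐ fun _ : Fin r => I), W'),
        Scheme.Modules.Hom.app φ W' t = 0 → t = 0 := by
    intro W' hW' t ht
    have e : U.ι ''ᵁ (U.ι ⁻¹ᵁ W') = W' := by
      rw [Scheme.Hom.image_preimage_eq_opensRange_inf, Scheme.Opens.opensRange_ι]
      exact inf_eq_right.mpr hW'
    apply Groth.Agent.H8.res_injective_of_eq _ e.le e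
    rw [map_zero]
    have hx : Scheme.Modules.Hom.app ((Scheme.Modules.restrictFunctor U.ι).map φ) (U.ι ⁻¹ᵁ W')
        (((Scheme.Modules.pushforward i).obj (∐ fun _ : Fin r => I)).presheaf.map
          (homOfLE e.le).op t) = 0 := by
      show Scheme.Modules.Hom.app φ (U.ι ''ᵁ (U.ι ⁻¹ᵁ W')) _ = 0
      rw [Groth.Agent.H22.QCohLimits.app_res, ht, map_zero]
    have hinv : ∀ x, Scheme.Modules.Hom.app (inv ((Scheme.Modules.restrictFunctor U.ι).map φ))
        (U.ι ⁻¹ᵁ W')
        (Scheme.Modules.Hom.app ((Scheme.Modules.restrictFunctor U.ι).map φ) (U.ι ⁻¹ᵁ W') x) =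
        x := by
      intro x
      have h1 : Scheme.Modules.Hom.app ((Scheme.Modules.restrictFunctor U.ι).map φ ≫
          inv ((Scheme.Modules.restrictFunctor U.ι).map φ)) (U.ι ⁻¹ᵁ W') x = x := by
        rw [IsIso.hom_inv_id]
        rfl
      exact h1
    have h2 := hinv (((Scheme.Modules.pushforward i).obj (∐ fun _ : Fin r => I)).presheaf.map
      (homOfLE e.le).op t)
    rw [hx, map_zero] at h2
    exact h2.symm
  have hinj : ∀ (W : X.Opens)
      (t : Γ((Scheme.Modules.pushforward i).obj (∐ fun _ : Fin r => I), W)),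
      Scheme.Modules.Hom.app φ W t = 0 → t = 0 := by
    intro W t ht
    have hto : t = ofF i (∐ fun _ : Fin r => I) W (toF i (∐ fun _ : Fin r => I) W t) := rfl
    by_cases hη : genericPoint Z ∈ i ⁻¹ᵁ W
    · have h1 := hinjU (W ⊓ U) inf_le_right
        (((Scheme.Modules.pushforward i).obj (∐ fun _ : Fin r => I)).presheaf.map
          (homOfLE (inf_le_left : W ⊓ U ≤ W)).op t)
        (by rw [Groth.Agent.H22.QCohLimits.app_res, ht, map_zero])
      have h2 := toF_res i (∐ fun _ : Fin r => I) (inf_le_left : W ⊓ U ≤ W) t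
      rw [h1] at h2
      have hmem : genericPoint Z ∈ i ⁻¹ᵁ (W ⊓ U) := ⟨hη, hξ⟩
      have h3 := res_injective_sigma I ι r
        (show i ⁻¹ᵁ (W ⊓ U) ≤ i ⁻¹ᵁ W from fun _ hx => (inf_le_left : W ⊓ U ≤ W) hx)
        ⟨genericPoint Z, hmem⟩ (toF i (∐ fun _ : Fin r => I) W t) h2.symm
      rw [hto, h3]
      rfl
    · have hempty : ∀ z, z ∉ i ⁻¹ᵁ W := by
        intro z hz
        apply hη
        exact ((genericPoint_spec Z).mem_open_set_iff (i ⁻¹ᵁ W).2).mpr ⟨z, trivial, hz⟩
      have h3 := eq_zero_of_empty (∐ fun _ : Fin r => I) (i ⁻¹ᵁ W) hempty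
        (toF i (∐ fun _ : Fin r => I) W t)
      rw [hto, h3]
      rfl
  apply Preadditive.mono_of_cancel_zero
  intro Q g hg
  refine Scheme.Modules.hom_ext _ _ (fun W => ?_)
  ext q
  apply hinj W
  have h1 : Scheme.Modules.Hom.app (g ≫ φ) W q = 0 := by
    rw [hg]
    rfl
  exact h1


set_option backward.isDefEq.respectTransparency false in
set_option maxHeartbeats 1600000 in
open Groth.Agent.H36.IdealMul Groth.Agent.H17.HomRestrict in
/-- Construction of `r`, the ideal `I ⊆ O_Z` and `φ : i_*(I^r) ⟶ F`, an isomorphism near `ξ`. -/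
theorem exists_data [IsNoetherian X] [IsClosedImmersion i] [IsIntegral Z] (F : X.Modules)
    (hF : Coh.IsCoh F)
    (hann : ∀ a ∈ IsLocalRing.maximalIdeal (X.presheaf.stalk (i (genericPoint Z))),
      ∀ m : ↑(F.presheaf.stalk (i (genericPoint Z))), a • m = 0) :
    ∃ (r : ℕ) (I : Z.Modules) (ι : I ⟶ Coh.structureModule Z)
      (φ : (Scheme.Modules.pushforward i).obj (∐ fun _ : Fin r => I) ⟶ F) (U : X.Opens),
      Mono ι ∧ Coh.IsCoh I ∧ i (genericPoint Z) ∈ U ∧
        IsIso ((Scheme.Modules.restrictFunctor U.ι).map φ) := by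
  classical
  haveI : F.IsQuasicoherent := hF.1
  haveI : IsLocallyNoetherian Z := LocallyOfFiniteType.isLocallyNoetherian i
  obtain ⟨U, hU, hξU, r, m, hwd, hsurj, hinj⟩ := exists_local_data i F hF hann
  haveI hZq : (Coh.structureModule Z).IsQuasicoherent :=
    Groth.Agent.H8.isQuasicoherent_structureModule' Z
  haveI hG1q : (G1 i).IsQuasicoherent := Groth.Agent.H8.isQuasicoherent_pushforward i _
  have hG1 : Coh.IsCoh (G1 i) := by
    refine ⟨hG1q, ?_⟩
    apply Groth.Agent.H8.isFiniteType_of_forall_affine_finite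
    intro W
    exact Module.Finite.of_surjective
      (LinearMap.toSpanSingleton Γ(X, W.1) Γ(G1 i, W.1) (one i W.1))
      (fun b => exists_smul_one_eq i W.2 b)
  -- linear maps and morphisms on `U`
  choose h hh using fun j => exists_linearMap i hU F (m j) (fun a ha => hwd a ha j)
  choose φU hφU using fun j => exists_hom_restrict (G := G1 i) (F := F) hU (h j)
  -- ideal sheaf of the complement of `U`
  obtain ⟨IX, hIX⟩ : ∃ I : X.IdealSheafData, (U : Set X) = (I.support : Set X)ᶜ := by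
    refine ⟨Scheme.IdealSheafData.vanishingIdeal ⟨(U : Set X)ᶜ, U.2.isClosed_compl⟩, ?_⟩
    rw [Scheme.IdealSheafData.coe_support_vanishingIdeal]
    simp
  -- Deligne's formula
  choose n ψ hψ using fun j => Groth.Agent.S9515.result X F (G1 i) hF.1 hG1 IX U hIX (φU j)
  obtain ⟨N, hN⟩ : ∃ N, ∀ j, n j ≤ N := ⟨Finset.univ.sup n, fun j => Finset.le_sup (Finset.mem_univ j)⟩
  choose κ hκ using fun j => exists_idealMul_le IX (G1 i) (hN j)
  have hψ' : ∀ j, (Scheme.Modules.restrictFunctor U.ι).map (κ j ≫ ψ j) =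
      (Scheme.Modules.restrictFunctor U.ι).map (Dual3.idealMulι (IX ^ N) (G1 i)) ≫ φU j := by
    intro j
    rw [CategoryTheory.Functor.map_comp, hψ j, ← Category.assoc, ← CategoryTheory.Functor.map_comp, hκ j]
  -- the ideal sheaf on `Z`
  obtain ⟨J, hJdef, e, he⟩ : ∃ (J : Z.IdealSheafData) (_ : J = (IX ^ N).comap i)
      (e : (Dual3.idealMul (IX ^ N)).obj (G1 i) ≅
        (Scheme.Modules.pushforward i).obj ((Dual3.idealMul J).obj (Coh.structureModule Z))),
      e.hom ≫ (Scheme.Modules.pushforward i).map (Dual3.idealMulι J (Coh.structureModule Z)) =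
        Dual3.idealMulι (IX ^ N) (G1 i) := by
    obtain ⟨e, he⟩ := IdealMulPush.exists_iso i (Coh.structureModule Z) (IX ^ N)
    exact ⟨_, rfl, e, he⟩
  haveI hIzq : ((Dual3.idealMul J).obj (Coh.structureModule Z)).IsQuasicoherent :=
    isQuasicoherent_idealMul J _
  have hIz : Coh.IsCoh ((Dual3.idealMul J).obj (Coh.structureModule Z)) := by
    refine ⟨hIzq, ?_⟩
    apply Groth.Agent.H8.isFiniteType_of_forall_affine_finite
    intro W
    exact finite_sections_idealMul J _ (Groth.Agent.H8.isCoh_structureModule Z) W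
  have he' : e.inv ≫ Dual3.idealMulι (IX ^ N) (G1 i) =
      (Scheme.Modules.pushforward i).map (Dual3.idealMulι J (Coh.structureModule Z)) := by
    rw [Iso.inv_comp_eq, he]
  obtain ⟨Iz, hIzdef⟩ : ∃ Iz : Z.Modules, Iz = (Dual3.idealMul J).obj (Coh.structureModule Z) :=
    ⟨_, rfl⟩
  obtain ⟨ιz, hιz⟩ : ∃ ιz : (Dual3.idealMul J).obj (Coh.structureModule Z) ⟶
      Coh.structureModule Z, ιz = Dual3.idealMulι J (Coh.structureModule Z) := ⟨_, rfl⟩
  haveI hιzm : Mono ιz := by rw [hιz]; infer_instance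
  rw [← hιz] at he'
  -- the morphism
  refine ⟨r, (Dual3.idealMul J).obj (Coh.structureModule Z), ιz,
    ∑ j, (Scheme.Modules.pushforward i).map
      (cπ ((Dual3.idealMul J).obj (Coh.structureModule Z)) r j) ≫ e.inv ≫ κ j ≫ ψ j,
    U, hιzm, hIz, hξU, ?_⟩
  -- abbreviations
  have hVU : U.ι ''ᵁ (⊤ : (U : Scheme.{u}).Opens) ≤ U := image_le ⊤
  have hUV : U ≤ U.ι ''ᵁ (⊤ : (U : Scheme.{u}).Opens) := by rw [Scheme.Opens.ι_image_top]
  have hVaff : IsAffineOpen (U.ι ''ᵁ (⊤ : (U : Scheme.{u}).Opens)) := by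
    rw [Scheme.Opens.ι_image_top]
    exact hU
  -- key formula on sections
  have hcomp : ∀ (j : Fin r) (O : (U : Scheme.{u}).Opens)
      (s : Γ((Scheme.Modules.pushforward i).obj ((Dual3.idealMul J).obj (Coh.structureModule Z)),
        U.ι ''ᵁ O)),
      Scheme.Modules.Hom.app (e.inv ≫ κ j ≫ ψ j) (U.ι ''ᵁ O) s =
        Scheme.Modules.Hom.app (φU j) O
          (Scheme.Modules.Hom.app ((Scheme.Modules.pushforward i).map ιz) (U.ι ''ᵁ O) s) := by
    intro j O s
    have h1 := congrArg (fun f => Scheme.Modules.Hom.app f O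
      (Scheme.Modules.Hom.app e.inv (U.ι ''ᵁ O) s)) (hψ' j)
    have h2 := congrArg (fun f => Scheme.Modules.Hom.app f (U.ι ''ᵁ O) s) he'
    have h2' : Scheme.Modules.Hom.app (Dual3.idealMulι (IX ^ N) (G1 i)) (U.ι ''ᵁ O)
        (Scheme.Modules.Hom.app e.inv (U.ι ''ᵁ O) s) =
        Scheme.Modules.Hom.app ((Scheme.Modules.pushforward i).map ιz) (U.ι ''ᵁ O) s := h2
    rw [← h2']
    exact h1
  have hkey : ∀ (O : (U : Scheme.{u}).Opens)
      (t : Γ((Scheme.Modules.pushforward i).obj
        (∐ fun _ : Fin r => (Dual3.idealMul J).obj (Coh.structureModule Z)), U.ι ''ᵁ O)),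
      Scheme.Modules.Hom.app (∑ j, (Scheme.Modules.pushforward i).map
        (cπ ((Dual3.idealMul J).obj (Coh.structureModule Z)) r j) ≫ e.inv ≫ κ j ≫ ψ j)
        (U.ι ''ᵁ O) t =
      ∑ j, Scheme.Modules.Hom.app (φU j) O
        (Scheme.Modules.Hom.app ((Scheme.Modules.pushforward i).map ιz) (U.ι ''ᵁ O)
          (Scheme.Modules.Hom.app ((Scheme.Modules.pushforward i).map
            (cπ ((Dual3.idealMul J).obj (Coh.structureModule Z)) r j)) (U.ι ''ᵁ O) t)) := by
    intro O t
    rw [sum_app]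
    refine Finset.sum_congr rfl fun j _ => ?_
    exact hcomp j O _
  -- injectivity of `i_* ιz` on sections
  have hιinj : ∀ (V : X.Opens)
      (s : Γ((Scheme.Modules.pushforward i).obj ((Dual3.idealMul J).obj (Coh.structureModule Z)),
        V)), Scheme.Modules.Hom.app ((Scheme.Modules.pushforward i).map ιz) V s = 0 → s = 0 := by
    intro V s hs
    have h1 := IdealMulPush.toF_map i ιz V s
    rw [hs] at h1
    have h2 : Scheme.Modules.Hom.app ιz (i ⁻¹ᵁ V) (toF i _ V s) = 0 := h1.symm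
    have h3 := Groth.Agent.H8.app_injective_of_mono ιz (i ⁻¹ᵁ V) (h2.trans (map_zero _).symm)
    exact h3
  -- decomposition of sections of the coproduct
  have hdecomp : ∀ (V : X.Opens) (t : Γ((Scheme.Modules.pushforward i).obj
      (∐ fun _ : Fin r => (Dual3.idealMul J).obj (Coh.structureModule Z)), V)),
      ∑ j, Scheme.Modules.Hom.app ((Scheme.Modules.pushforward i).map
        (Sigma.ι (fun _ : Fin r => (Dual3.idealMul J).obj (Coh.structureModule Z)) j)) V
        (Scheme.Modules.Hom.app ((Scheme.Modules.pushforward i).map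
          (cπ ((Dual3.idealMul J).obj (Coh.structureModule Z)) r j)) V t) = t := by
    intro V t
    have h6 : Scheme.Modules.Hom.app ((Scheme.Modules.pushforward i).map
        (∑ j, cπ ((Dual3.idealMul J).obj (Coh.structureModule Z)) r j ≫
          Sigma.ι (fun _ : Fin r => (Dual3.idealMul J).obj (Coh.structureModule Z)) j)) V t =
        t := by
      rw [sum_cπ_ι, CategoryTheory.Functor.map_id]
      rfl
    rw [CategoryTheory.Functor.map_sum, sum_app] at h6
    refine (Finset.sum_congr rfl fun j _ => ?_).trans h6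
    rw [CategoryTheory.Functor.map_comp]
    rfl
  haveI hPq : (∐ fun _ : Fin r => (Dual3.idealMul J).obj (Coh.structureModule Z)).IsQuasicoherent :=
    isQuasicoherent_sigma' _ (fun _ => hIzq)
  haveI hpPq : ((Scheme.Modules.pushforward i).obj
      (∐ fun _ : Fin r => (Dual3.idealMul J).obj (Coh.structureModule Z))).IsQuasicoherent :=
    Groth.Agent.H8.isQuasicoherent_pushforward i _
  haveI : IsAffine (U : Scheme.{u}) := hU
  apply Groth.Agent.H8.isIso_of_bijective_affine_cover
    ((Scheme.Modules.restrictFunctor U.ι).map _) (fun _ : Unit => (⊤ : (U : Scheme.{u}).Opens))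
    (iSup_const) (fun _ => isAffineOpen_top _)
  intro _
  show Function.Bijective (Scheme.Modules.Hom.app (∑ j, (Scheme.Modules.pushforward i).map
      (cπ ((Dual3.idealMul J).obj (Coh.structureModule Z)) r j) ≫ e.inv ≫ κ j ≫ ψ j)
      (U.ι ''ᵁ ⊤))
  constructor
  · -- injectivity
    rw [injective_iff_map_eq_zero]
    intro t ht
    rw [hkey ⊤ t] at ht
    have hb : ∀ j, ∃ a : Γ(X, U),
        Scheme.Modules.Hom.app ((Scheme.Modules.pushforward i).map ιz) (U.ι ''ᵁ ⊤)
          (Scheme.Modules.Hom.app ((Scheme.Modules.pushforward i).map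
            (cπ ((Dual3.idealMul J).obj (Coh.structureModule Z)) r j)) (U.ι ''ᵁ ⊤) t) =
        (G1 i).presheaf.map (homOfLE hVU).op (a • one i U) := by
      intro j
      obtain ⟨a, ha⟩ := exists_smul_one_eq i hU ((G1 i).presheaf.map (homOfLE hUV).op
        (Scheme.Modules.Hom.app ((Scheme.Modules.pushforward i).map ιz) (U.ι ''ᵁ ⊤)
          (Scheme.Modules.Hom.app ((Scheme.Modules.pushforward i).map
            (cπ ((Dual3.idealMul J).obj (Coh.structureModule Z)) r j)) (U.ι ''ᵁ ⊤) t)))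
      exact ⟨a, by rw [ha, res_res_cancel]⟩
    choose a ha using hb
    have h2 : ∑ j, a j • m j = 0 := by
      have h3 : F.presheaf.map (homOfLE hVU).op (∑ j, a j • m j) = 0 := by
        rw [map_sum, ← ht]
        refine Finset.sum_congr rfl fun j _ => ?_
        rw [ha j, hφU j ⊤ (a j • one i U), hh j]
      have h4 := congrArg (F.presheaf.map (homOfLE hUV).op) h3
      rwa [res_res_cancel, map_zero] at h4
    have h5 := hinj a h2
    have htj : ∀ j, Scheme.Modules.Hom.app ((Scheme.Modules.pushforward i).map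
        (cπ ((Dual3.idealMul J).obj (Coh.structureModule Z)) r j)) (U.ι ''ᵁ ⊤) t = 0 := by
      intro j
      apply hιinj
      rw [ha j, (smul_one_eq_zero_iff i U (a j)).mpr (h5 j), map_zero]
    rw [← hdecomp _ t]
    apply Finset.sum_eq_zero
    intro j _
    rw [htj j, map_zero]
  · -- surjectivity
    intro m'
    obtain ⟨a, ha⟩ := hsurj (F.presheaf.map (homOfLE hUV).op m')
    have hJtop : J.ideal ⟨i ⁻¹ᵁ (U.ι ''ᵁ ⊤), hVaff.preimage i⟩ = ⊤ := by
      rw [hJdef, IdealMulPush.comap_ideal_preimage i (IX ^ N) ⟨U.ι ''ᵁ ⊤, hVaff⟩]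
      have h1 : (IX ^ N).ideal ⟨U.ι ''ᵁ ⊤, hVaff⟩ = ⊤ := by
        show (IX.ideal ⟨U.ι ''ᵁ ⊤, hVaff⟩) ^ N = ⊤
        rw [ideal_eq_top_of_disjoint IX ⟨U.ι ''ᵁ ⊤, hVaff⟩ (fun x hx hs => by
          have hxU : x ∈ (U : Set X) := hVU hx
          rw [hIX] at hxU
          exact hxU hs), Ideal.top_pow]
      rw [h1, Ideal.map_top]
    have ht' : ∀ j, ∃ t' : Γ((Dual3.idealMul J).obj (Coh.structureModule Z), i ⁻¹ᵁ (U.ι ''ᵁ ⊤)),
        Scheme.Modules.Hom.app (Dual3.idealMulι J (Coh.structureModule Z)) (i ⁻¹ᵁ (U.ι ''ᵁ ⊤)) t' =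
          toF i (Coh.structureModule Z) (U.ι ''ᵁ ⊤)
            ((G1 i).presheaf.map (homOfLE hVU).op (a j • one i U)) := by
      intro j
      apply (exists_idealMulι_app_eq_iff J (Coh.structureModule Z)
        ⟨i ⁻¹ᵁ (U.ι ''ᵁ ⊤), hVaff.preimage i⟩ _).mpr
      rw [hJtop, Submodule.top_smul]
      exact Submodule.mem_top
    choose t' ht' using ht'
    have hpush : ∀ j, Scheme.Modules.Hom.app ((Scheme.Modules.pushforward i).map ιz) (U.ι ''ᵁ ⊤)
        (ofF i ((Dual3.idealMul J).obj (Coh.structureModule Z)) (U.ι ''ᵁ ⊤) (t' j)) =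
        (G1 i).presheaf.map (homOfLE hVU).op (a j • one i U) := by
      intro j
      have h1 := IdealMulPush.toF_map i ιz (U.ι ''ᵁ ⊤)
        (ofF i ((Dual3.idealMul J).obj (Coh.structureModule Z)) (U.ι ''ᵁ ⊤) (t' j))
      have ht'' := ht' j
      rw [← hιz] at ht''
      rw [toF_ofF, ht''] at h1
      exact h1
    refine ⟨∑ j, Scheme.Modules.Hom.app ((Scheme.Modules.pushforward i).map
      (Sigma.ι (fun _ : Fin r => (Dual3.idealMul J).obj (Coh.structureModule Z)) j)) (U.ι ''ᵁ ⊤)
      (ofF i ((Dual3.idealMul J).obj (Coh.structureModule Z)) (U.ι ''ᵁ ⊤) (t' j)), ?_⟩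
    rw [hkey ⊤]
    have hcomp' : ∀ k, Scheme.Modules.Hom.app ((Scheme.Modules.pushforward i).map
        (cπ ((Dual3.idealMul J).obj (Coh.structureModule Z)) r k)) (U.ι ''ᵁ ⊤)
        (∑ j, Scheme.Modules.Hom.app ((Scheme.Modules.pushforward i).map
          (Sigma.ι (fun _ : Fin r => (Dual3.idealMul J).obj (Coh.structureModule Z)) j))
          (U.ι ''ᵁ ⊤)
          (ofF i ((Dual3.idealMul J).obj (Coh.structureModule Z)) (U.ι ''ᵁ ⊤) (t' j))) =
        ofF i ((Dual3.idealMul J).obj (Coh.structureModule Z)) (U.ι ''ᵁ ⊤) (t' k) := by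
      intro k
      rw [map_sum, Finset.sum_eq_single k]
      · have h1 : (Scheme.Modules.pushforward i).map
            (Sigma.ι (fun _ : Fin r => (Dual3.idealMul J).obj (Coh.structureModule Z)) k) ≫
            (Scheme.Modules.pushforward i).map
              (cπ ((Dual3.idealMul J).obj (Coh.structureModule Z)) r k) = 𝟙 _ := by
          rw [← CategoryTheory.Functor.map_comp, ι_cπ, if_pos rfl, CategoryTheory.Functor.map_id]
        have h2 := congrArg (fun f => Scheme.Modules.Hom.app f (U.ι ''ᵁ ⊤)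
          (ofF i ((Dual3.idealMul J).obj (Coh.structureModule Z)) (U.ι ''ᵁ ⊤) (t' k))) h1
        exact h2
      · intro j _ hj
        have h1 : (Scheme.Modules.pushforward i).map
            (Sigma.ι (fun _ : Fin r => (Dual3.idealMul J).obj (Coh.structureModule Z)) j) ≫
            (Scheme.Modules.pushforward i).map
              (cπ ((Dual3.idealMul J).obj (Coh.structureModule Z)) r k) = 0 := by
          rw [← CategoryTheory.Functor.map_comp, ι_cπ, if_neg hj, CategoryTheory.Functor.map_zero]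
        have h2 := congrArg (fun f => Scheme.Modules.Hom.app f (U.ι ''ᵁ ⊤)
          (ofF i ((Dual3.idealMul J).obj (Coh.structureModule Z)) (U.ι ''ᵁ ⊤) (t' j))) h1
        exact h2
      · intro hk
        exact (hk (Finset.mem_univ k)).elim
    have hsum : ∀ j ∈ Finset.univ, Scheme.Modules.Hom.app (φU j) ⊤
        (Scheme.Modules.Hom.app ((Scheme.Modules.pushforward i).map ιz) (U.ι ''ᵁ ⊤)
          (Scheme.Modules.Hom.app ((Scheme.Modules.pushforward i).map
            (cπ ((Dual3.idealMul J).obj (Coh.structureModule Z)) r j)) (U.ι ''ᵁ ⊤)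
            (∑ j, Scheme.Modules.Hom.app ((Scheme.Modules.pushforward i).map
              (Sigma.ι (fun _ : Fin r => (Dual3.idealMul J).obj (Coh.structureModule Z)) j))
              (U.ι ''ᵁ ⊤)
              (ofF i ((Dual3.idealMul J).obj (Coh.structureModule Z)) (U.ι ''ᵁ ⊤) (t' j))))) =
        F.presheaf.map (homOfLE hVU).op (a j • m j) := by
      intro j _
      rw [hcomp' j, hpush j, hφU j ⊤ (a j • one i U), hh j]
    have hms : F.presheaf.map (homOfLE hVU).op (∑ j, a j • m j) =
        ∑ j, F.presheaf.map (homOfLE hVU).op (a j • m j) := map_sum _ _ _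
    rw [Finset.sum_congr rfl hsum, ← hms, ha, res_res_cancel]

end Main

end Groth.Agent.H81.GenPt
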