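import Groth.Agent.H55.FFSing

/-!
Dimension counting for linear series `V ⊆ L(D)` on a function field: the two-point inequality
`dim V(-iP) + dim V(-jQ) ≤ dim V` for `i + j > deg D`, its summed form, summed compatibility
conditions at a node, and the propagation of weight bounds along a chain of components.
Uses helper55's function-field library (`Groth.Agent.H55`).
-/

set_option autoImplicit false

namespace Groth.Agent.H81.LinSer

open FunFld

section OneField

variable {k K : Type*} [Field k] [Field K] [Algebra k K]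

lemma mem_L_of_le {D D' : FunFld.Divisor k K} {x : K}
    (hx : x ∈ FunFld.L D) (h : ∀ R, D R ≤ D' R) : x ∈ FunFld.L D' :=
  fun R => (hx R).trans (WithZero.exp_le_exp.mpr (h R))

lemma mem_L_of_two {D₁ D₂ D₃ : FunFld.Divisor k K}
    {x : K} (h1 : x ∈ FunFld.L D₁) (h2 : x ∈ FunFld.L D₂)
    (h : ∀ R, D₁ R ≤ D₃ R ∨ D₂ R ≤ D₃ R) : x ∈ FunFld.L D₃ := by
  intro R
  rcases h R with h' | h'
  · exact (h1 R).trans (WithZero.exp_le_exp.mpr h')
  · exact (h2 R).trans (WithZero.exp_le_exp.mpr h')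

/-- Monotonicity of `V(-nP)` in `n`. -/
lemma inf_L_single_mono (V : Submodule k K) (D : FunFld.Divisor k K) (P : FunFld.Place k K)
    {m m' : ℤ} (hm : m ≤ m') :
    V ⊓ FunFld.L (D - Finsupp.single P m') ≤ V ⊓ FunFld.L (D - Finsupp.single P m) := by
  classical
  refine inf_le_inf_left _ (fun x hx => mem_L_of_le hx (fun R => ?_))
  simp only [Finsupp.coe_sub, Pi.sub_apply, Finsupp.single_apply]
  split_ifs <;> omega

lemma inf_L_two_le (V : Submodule k K) (D : FunFld.Divisor k K) {P Q : FunFld.Place k K}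
    (hPQ : P ≠ Q) (i j : ℤ) :
    (V ⊓ FunFld.L (D - Finsupp.single P i)) ⊓ (V ⊓ FunFld.L (D - Finsupp.single Q j)) ≤
      FunFld.L (D - Finsupp.single P i - Finsupp.single Q j) := by
  classical
  rintro x ⟨⟨-, h1⟩, ⟨-, h2⟩⟩
  refine mem_L_of_two h1 h2 (fun R => ?_)
  simp only [Finsupp.coe_sub, Pi.sub_apply, Finsupp.single_apply]
  by_cases hP : P = R
  · have hQ : ¬ Q = R := fun h => hPQ (hP.trans h.symm)
    left
    rw [if_pos hP, if_neg hQ]
    omega
  · right
    rw [if_neg hP]
    omega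

/-- The two-point inequality: if `i + j > deg D` then `dim V(-iP) + dim V(-jQ) ≤ dim V`. -/
theorem two_point [IsAlgClosed k] (hK : FunFld.IsFunctionField k K) (D : FunFld.Divisor k K)
    (d : ℤ) (hD : D.deg = d) (V : Submodule k K) [FiniteDimensional k V]
    {P Q : FunFld.Place k K} (hPQ : P ≠ Q) (i j : ℤ) (hij : d < i + j) :
    Module.finrank k ↥(V ⊓ FunFld.L (D - Finsupp.single P i)) +
      Module.finrank k ↥(V ⊓ FunFld.L (D - Finsupp.single Q j)) ≤ Module.finrank k ↥V := by
  have hdeg : (D - Finsupp.single P i - Finsupp.single Q j).deg < 0 := by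
    rw [Groth.Agent.H55.deg_sub, Groth.Agent.H55.deg_sub, Groth.Agent.H55.deg_single,
      Groth.Agent.H55.deg_single, Groth.Agent.H55.deg_eq_one_of_isAlgClosed hK P,
      Groth.Agent.H55.deg_eq_one_of_isAlgClosed hK Q, hD]
    push_cast
    omega
  have hbot : (V ⊓ FunFld.L (D - Finsupp.single P i)) ⊓ (V ⊓ FunFld.L (D - Finsupp.single Q j))
      = ⊥ := by
    rw [eq_bot_iff]
    refine (inf_L_two_le V D hPQ i j).trans ?_
    rw [Groth.Agent.H55.L_eq_bot_of_deg_neg hK _ hdeg]
  have h1 := Submodule.finrank_sup_add_finrank_inf_eq (V ⊓ FunFld.L (D - Finsupp.single P i))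
    (V ⊓ FunFld.L (D - Finsupp.single Q j))
  rw [hbot, finrank_bot] at h1
  have h2 : Module.finrank k ↥((V ⊓ FunFld.L (D - Finsupp.single P i)) ⊔
      (V ⊓ FunFld.L (D - Finsupp.single Q j))) ≤ Module.finrank k ↥V :=
    Submodule.finrank_mono (sup_le inf_le_left inf_le_left)
  omega

/-- `V(-nP) = 0` for `n > deg D`. -/
theorem inf_L_single_eq_bot [IsAlgClosed k] (hK : FunFld.IsFunctionField k K)
    (D : FunFld.Divisor k K) (d : ℤ) (hD : D.deg = d) (V : Submodule k K)
    (P : FunFld.Place k K) (i : ℤ) (hi : d < i) :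
    V ⊓ FunFld.L (D - Finsupp.single P i) = ⊥ := by
  have hdeg : (D - Finsupp.single P i).deg < 0 := by
    rw [Groth.Agent.H55.deg_sub, Groth.Agent.H55.deg_single,
      Groth.Agent.H55.deg_eq_one_of_isAlgClosed hK P, hD]
    push_cast
    omega
  rw [Groth.Agent.H55.L_eq_bot_of_deg_neg hK _ hdeg, inf_bot_eq]

/-- Summed two-point inequality: `∑_{n=1}^d dim V(-nP) + ∑_{n=1}^d dim V(-nQ) ≤ d · dim V`. -/
theorem two_point_sum [IsAlgClosed k] (hK : FunFld.IsFunctionField k K) (D : FunFld.Divisor k K)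
    (d : ℕ) (hD : D.deg = d) (V : Submodule k K) [FiniteDimensional k V]
    {P Q : FunFld.Place k K} (hPQ : P ≠ Q) :
    (∑ n ∈ Finset.range d, Module.finrank k ↥(V ⊓ FunFld.L (D - Finsupp.single P ((n : ℤ) + 1)))) +
      (∑ n ∈ Finset.range d, Module.finrank k ↥(V ⊓ FunFld.L (D - Finsupp.single Q ((n : ℤ) + 1))))
      ≤ Module.finrank k ↥V * d := by
  rw [← Finset.sum_range_reflect
    (fun n => Module.finrank k ↥(V ⊓ FunFld.L (D - Finsupp.single Q ((n : ℤ) + 1)))) d,
    ← Finset.sum_add_distrib]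
  calc _ ≤ ∑ _n ∈ Finset.range d, Module.finrank k ↥V := by
        refine Finset.sum_le_sum (fun n hn => ?_)
        have hn' : n < d := Finset.mem_range.mp hn
        refine two_point hK D d hD V hPQ _ _ ?_
        omega
    _ = Module.finrank k ↥V * d := by
        rw [Finset.sum_const, Finset.card_range, smul_eq_mul, mul_comm]

end OneField

section TwoFields

variable {k KY KZ : Type*} [Field k] [Field KY] [Algebra k KY] [Field KZ] [Algebra k KZ]

/-- Summing the compatibility conditions at a node. -/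
theorem compat_sum (VY : Submodule k KY) (DY : FunFld.Divisor k KY) (P : FunFld.Place k KY)
    (VZ : Submodule k KZ) (DZ : FunFld.Divisor k KZ) (Q : FunFld.Place k KZ) (d r : ℕ)
    (hcomp : ∀ m : ℕ, m ≤ d + 1 →
      Module.finrank k ↥(VY ⊓ FunFld.L (DY - Finsupp.single P ((m : ℤ)))) +
        Module.finrank k ↥(VZ ⊓ FunFld.L (DZ - Finsupp.single Q ((d : ℤ) + 1 - m))) = r + 1) :
    (∑ n ∈ Finset.range d, Module.finrank k ↥(VY ⊓ FunFld.L (DY - Finsupp.single P ((n : ℤ) + 1)))) +
      (∑ n ∈ Finset.range d, Module.finrank k ↥(VZ ⊓ FunFld.L (DZ - Finsupp.single Q ((n : ℤ) + 1))))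
      = (r + 1) * d := by
  rw [← Finset.sum_range_reflect
    (fun n => Module.finrank k ↥(VZ ⊓ FunFld.L (DZ - Finsupp.single Q ((n : ℤ) + 1)))) d,
    ← Finset.sum_add_distrib]
  calc _ = ∑ _n ∈ Finset.range d, (r + 1) := by
        refine Finset.sum_congr rfl (fun n hn => ?_)
        have hn' : n < d := Finset.mem_range.mp hn
        have h := hcomp (n + 1) (by omega)
        have e1 : ((n + 1 : ℕ) : ℤ) = (n : ℤ) + 1 := by push_cast; ring
        have e2 : (d : ℤ) + 1 - ((n + 1 : ℕ) : ℤ) = ((d - 1 - n : ℕ) : ℤ) + 1 := by omega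
        rw [e2, e1] at h
        exact h
    _ = (r + 1) * d := by
        rw [Finset.sum_const, Finset.card_range, smul_eq_mul, mul_comm]

end TwoFields

/-- Propagation of a lower bound along a chain: abstract counting form. -/
theorem chain_lower (n : ℕ) (SA SB : Fin (n + 1) → ℕ) (M c' : ℕ)
    (ha : ∀ l : Fin n, SB l.castSucc + SA l.succ = M)
    (hb : ∀ l : Fin (n + 1), 0 < (l : ℕ) → (l : ℕ) < n → SA l + SB l ≤ M)
    (hc : SB 0 + c' ≤ M) :
    ∀ l : Fin (n + 1), 0 < (l : ℕ) → c' ≤ SA l := by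
  intro l
  induction l using Fin.induction with
  | zero => intro h; exact absurd h (by simp)
  | succ i ih =>
    intro _
    have h1 := ha i
    by_cases hi : (i : ℕ) = 0
    · have e : i.castSucc = 0 := Fin.ext (by simp [hi])
      rw [e] at h1
      omega
    · have h2 := ih (by simp; omega)
      have h3 := hb i.castSucc (by simp; omega) (by simp)
      omega

lemma half_add_half (r : ℕ) : r * (r + 1) / 2 + r * (r + 1) / 2 = r * (r + 1) := by
  have h := Nat.even_mul_succ_self r
  obtain ⟨m, hm⟩ := h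
  rw [hm]
  omega

end Groth.Agent.H81.LinSer

namespace Groth.Agent.H81.LinSer

/-- Along a chain of components carrying compatible aspects of a limit linear series, if the weight at
the first node place `B 0` is at most `(r+1)(d-r) - c` then the weight at every upper node place
`A l` (`l ≥ 1`) is at least `c`. -/
theorem chain_weight_lower {k : Type*} [Field k] [IsAlgClosed k]
    (n : ℕ) (U : Fin (n + 1) → Type*) [∀ l, Field (U l)] [∀ l, Algebra k (U l)]
    (hU : ∀ l, FunFld.IsFunctionField k (U l))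
    (d r : ℕ) (D : ∀ l, FunFld.Divisor k (U l)) (hD : ∀ l, (D l).deg = d)
    (V : ∀ l, Submodule k (U l))
    (hVr : ∀ l, Module.finrank k ↥(V l) = r + 1)
    (A B : ∀ l, FunFld.Place k (U l))
    (hAB : ∀ l : Fin (n + 1), 0 < (l : ℕ) → (l : ℕ) < n → A l ≠ B l)
    (hcomp : ∀ (l : Fin n) (m : ℕ), m ≤ d + 1 →
      Module.finrank k ↥((V l.castSucc) ⊓ FunFld.L ((D l.castSucc) - Finsupp.single (B l.castSucc) ((m : ℤ)))) +
        Module.finrank k ↥((V l.succ) ⊓ FunFld.L ((D l.succ) - Finsupp.single (A l.succ) ((d : ℤ) + 1 - m))) = r + 1)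
    (c : ℕ) (hc : (∑ j ∈ Finset.range d, Module.finrank k ↥((V 0) ⊓ FunFld.L ((D 0) - Finsupp.single (B 0) ((j : ℤ) + 1)))) + c + r * (r + 1) ≤ (r + 1) * d + r * (r + 1) / 2)
    (l : Fin (n + 1)) (hl : 0 < (l : ℕ)) :
    c + r * (r + 1) / 2 ≤ (∑ j ∈ Finset.range d, Module.finrank k ↥((V l) ⊓ FunFld.L ((D l) - Finsupp.single (A l) ((j : ℤ) + 1)))) := by
  haveI : ∀ l, FiniteDimensional k (V l) := fun l =>
    Module.finite_of_finrank_pos (by rw [hVr l]; omega)
  have hhalf := half_add_half r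
  refine chain_lower n
    (fun l => ∑ j ∈ Finset.range d, Module.finrank k ↥((V l) ⊓ FunFld.L ((D l) - Finsupp.single (A l) ((j : ℤ) + 1))))
    (fun l => ∑ j ∈ Finset.range d, Module.finrank k ↥((V l) ⊓ FunFld.L ((D l) - Finsupp.single (B l) ((j : ℤ) + 1))))
    ((r + 1) * d) (c + r * (r + 1) / 2) ?_ ?_ ?_ l hl
  · intro l'
    exact compat_sum (V l'.castSucc) (D l'.castSucc) (B l'.castSucc) (V l'.succ) (D l'.succ)
      (A l'.succ) d r (hcomp l')
  · intro l' h0 h1
    have h := two_point_sum (hU l') (D l') d (hD l') (V l') (hAB l' h0 h1)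
    rw [hVr l'] at h
    exact h
  · beta_reduce
    omega

end Groth.Agent.H81.LinSer
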