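import Groth.Agent.H81.PolyPlucker
import Groth.Agent.H81.LinSeries

/-!
Function fields of genus zero over an algebraically closed field: a coordinate `t` with a single
simple pole at a chosen place `B`, the identification of `L(d·B)` with polynomials of degree `≤ d`
in `t`, and the transfer of the Plücker inequality for polynomials to linear series on `K`.
-/

set_option autoImplicit false

namespace Groth.Agent.H81.GZ

open FunFld WithZero Polynomial Module Groth.Agent.H55

variable {k K : Type*} [Field k] [Field K] [Algebra k K]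

section Coordinate

variable [IsAlgClosed k] (hK : FunFld.IsFunctionField k K) (hg : FunFld.genus k K = 0)
  (B : FunFld.Place k K)

include hK hg in
/-- A coordinate function with a single simple pole at `B`. -/
theorem exists_coord : ∃ t : K, (∀ P : FunFld.Place k K, P ≠ B → P.1 t ≤ 1) ∧ B.1 t = exp (1 : ℤ) := by
  classical
  have hdeg : FunFld.Divisor.deg (Finsupp.single B (1 : ℤ) : FunFld.Divisor k K) = 1 := by
    rw [deg_single, deg_eq_one_of_isAlgClosed hK B]; norm_num
  have hell : (FunFld.ell (Finsupp.single B (1 : ℤ) : FunFld.Divisor k K) : ℤ) = 2 := by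
    rw [ell_eq_of_deg_ge hK _ (by rw [hg, hdeg]; norm_num), hdeg, hg]; norm_num
  have hle : FunFld.L (0 : FunFld.Divisor k K) ≤ FunFld.L (Finsupp.single B (1 : ℤ)) :=
    L_mono (single_one_nonneg B)
  haveI := L_finite hK (Finsupp.single B (1 : ℤ) : FunFld.Divisor k K)
  have hlt : FunFld.L (0 : FunFld.Divisor k K) < FunFld.L (Finsupp.single B (1 : ℤ)) := by
    refine lt_of_le_of_ne hle (fun h => ?_)
    have h1 := (L_zero_finite hK).2
    rw [h] at h1
    unfold FunFld.ell at hell
    rw [h1] at hell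
    norm_num at hell
  obtain ⟨t, ht, htn⟩ := SetLike.exists_of_lt hlt
  have hP : ∀ P : FunFld.Place k K, P ≠ B → P.1 t ≤ 1 := by
    intro P hPB
    have := ht P
    rwa [Finsupp.single_eq_of_ne hPB, exp_zero] at this
  refine ⟨t, hP, ?_⟩
  have hB1 : B.1 t ≤ exp (1 : ℤ) := by
    have := ht B
    rwa [Finsupp.single_eq_same] at this
  have hB2 : 1 < B.1 t := by
    by_contra hcon
    push_neg at hcon
    apply htn
    intro P
    rw [Finsupp.coe_zero, Pi.zero_apply, exp_zero]
    by_cases hPB : P = B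
    · rw [hPB]; exact hcon
    · exact hP P hPB
  have ht0 : t ≠ 0 := by
    rintro rfl
    rw [map_zero] at hB2
    exact absurd hB2 (by simp)
  rw [pl_val_eq_exp_neg_ord B ht0] at hB1 hB2 ⊢
  rw [← exp_zero, exp_lt_exp] at hB2
  rw [exp_le_exp] at hB1
  congr 1
  omega

variable {B} {t : K} (ht1 : ∀ P : FunFld.Place k K, P ≠ B → P.1 t ≤ 1) (ht2 : B.1 t = exp (1 : ℤ))

include ht1 in
theorem val_aeval_le_one (P : FunFld.Place k K) (hP : P ≠ B) (p : k[X]) :
    P.1 (aeval t p) ≤ 1 := by
  rw [aeval_eq_sum_range]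
  refine Valuation.map_sum_le _ (fun i _ => ?_)
  refine (pl_val_smul_le P _ _).trans ?_
  rw [map_pow]
  exact pow_le_one₀ zero_le' (ht1 P hP)

include ht2 in
theorem val_aeval_B {p : k[X]} (hp : p ≠ 0) : B.1 (aeval t p) = exp (p.natDegree : ℤ) := by
  have hpow : ∀ i : ℕ, B.1 (t ^ i) = exp (i : ℤ) := by
    intro i
    rw [map_pow, ht2, ← exp_nsmul, nsmul_eq_mul, mul_one]
  rw [aeval_eq_sum_range, Finset.sum_range_succ]
  have hlead : B.1 (p.coeff p.natDegree • t ^ p.natDegree) = exp (p.natDegree : ℤ) := by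
    rw [pl_val_smul B (by simpa using hp), hpow]
  have hlow : B.1 (∑ i ∈ Finset.range p.natDegree, p.coeff i • t ^ i) < exp (p.natDegree : ℤ) := by
    refine Valuation.map_sum_lt _ exp_ne_zero (fun i hi => ?_)
    refine lt_of_le_of_lt (pl_val_smul_le B _ _) ?_
    rw [hpow, exp_lt_exp]
    exact_mod_cast Finset.mem_range.mp hi
  rw [Valuation.map_add_eq_of_lt_right _ (by rw [hlead]; exact hlow), hlead]

include ht2 in
theorem aeval_injective : Function.Injective (aeval (R := k) t) := by
  rw [injective_iff_map_eq_zero]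
  intro p hp
  by_contra hp0
  have := val_aeval_B ht2 hp0
  rw [hp, map_zero] at this
  exact exp_ne_zero this.symm

include ht1 ht2 in
theorem aeval_mem_L_iff (d : ℕ) (p : k[X]) :
    aeval t p ∈ FunFld.L (Finsupp.single B (d : ℤ)) ↔ p ∈ degreeLT k (d + 1) := by
  classical
  by_cases hp : p = 0
  · subst hp; simp
  rw [mem_degreeLT, ← natDegree_lt_iff_degree_lt hp, mem_L]
  constructor
  · intro h
    have := h B
    rw [Finsupp.single_eq_same, val_aeval_B ht2 hp, exp_le_exp] at this
    omega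
  · intro h P
    by_cases hPB : P = B
    · rw [hPB, Finsupp.single_eq_same, val_aeval_B ht2 hp, exp_le_exp]
      omega
    · rw [Finsupp.single_eq_of_ne hPB, exp_zero]
      exact val_aeval_le_one ht1 P hPB p

include hK hg ht1 ht2 in
theorem L_le_range (d : ℕ) :
    FunFld.L (Finsupp.single B (d : ℤ)) ≤ LinearMap.range (aeval (R := k) t).toLinearMap := by
  classical
  have hdeg : FunFld.Divisor.deg (Finsupp.single B (d : ℤ) : FunFld.Divisor k K) = d := by
    rw [deg_single, deg_eq_one_of_isAlgClosed hK B]; norm_num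
  have hell : (FunFld.ell (Finsupp.single B (d : ℤ) : FunFld.Divisor k K) : ℤ) = d + 1 := by
    rw [ell_eq_of_deg_ge hK _ (by rw [hg, hdeg]; norm_num), hdeg, hg]; norm_num
  haveI := L_finite hK (Finsupp.single B (d : ℤ) : FunFld.Divisor k K)
  have hmap : (degreeLT k (d + 1)).map (aeval (R := k) t).toLinearMap ≤
      FunFld.L (Finsupp.single B (d : ℤ)) := by
    rintro _ ⟨p, hp, rfl⟩
    exact (aeval_mem_L_iff ht1 ht2 d p).mpr hp
  have hfr : finrank k ↥((degreeLT k (d + 1)).map (aeval (R := k) t).toLinearMap) = d + 1 := by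
    rw [(Submodule.equivMapOfInjective _ (aeval_injective ht2) _).symm.finrank_eq,
      Plucker.finrank_degreeLT]
  have heq : (degreeLT k (d + 1)).map (aeval (R := k) t).toLinearMap =
      FunFld.L (Finsupp.single B (d : ℤ)) := by
    refine Submodule.eq_of_le_of_finrank_eq hmap ?_
    rw [hfr]
    unfold FunFld.ell at hell
    exact_mod_cast hell.symm
  rw [← heq]
  exact LinearMap.map_le_range

end Coordinate


section FinitePlaces

variable [IsAlgClosed k] (hK : FunFld.IsFunctionField k K)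
  {B : FunFld.Place k K} {t : K}
  (ht1 : ∀ P : FunFld.Place k K, P ≠ B → P.1 t ≤ 1) (ht2 : B.1 t = exp (1 : ℤ))

include ht2 in
theorem coord_sub_ne_zero (a : k) : t - algebraMap k K a ≠ 0 := by
  intro h
  have h1 : t = algebraMap k K a := sub_eq_zero.mp h
  have h2 := B.2.1 a
  rw [← h1, ht2, ← exp_zero, exp_le_exp] at h2
  omega

include ht1 ht2 in
theorem coord_sub_mem_L (a : k) :
    t - algebraMap k K a ∈ FunFld.L (Finsupp.single B (1 : ℤ) : FunFld.Divisor k K) := by
  classical
  intro P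
  refine (Valuation.map_sub _ _ _).trans (max_le ?_ ?_)
  · by_cases hPB : P = B
    · rw [hPB, Finsupp.single_eq_same, ht2]
    · rw [Finsupp.single_eq_of_ne hPB, exp_zero]; exact ht1 P hPB
  · refine (P.2.1 a).trans ?_
    by_cases hPB : P = B
    · rw [hPB, Finsupp.single_eq_same, ← exp_zero, exp_le_exp]; omega
    · rw [Finsupp.single_eq_of_ne hPB, exp_zero]

include hK ht1 ht2 in
/-- The effective divisor `B + div (t - a)` has degree one. -/
theorem coord_div (a : k) :
    (0 : FunFld.Divisor k K) ≤ Finsupp.single B (1 : ℤ) + FunFld.div k (t - algebraMap k K a) ∧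
    FunFld.Divisor.deg (Finsupp.single B (1 : ℤ) + FunFld.div k (t - algebraMap k K a)) = 1 := by
  refine ⟨nonneg_of_mem_L hK _ (coord_sub_ne_zero ht2 a) (coord_sub_mem_L ht1 ht2 a), ?_⟩
  rw [deg_add, deg_single, deg_div hK, deg_eq_one_of_isAlgClosed hK B]
  norm_num

include hK ht1 ht2 in
theorem ord_coord_sub_le_one {R : FunFld.Place k K} (hR : R ≠ B) (a : k) :
    R.ord (t - algebraMap k K a) ≤ 1 := by
  classical
  obtain ⟨hE, hdeg⟩ := coord_div hK ht1 ht2 a
  set E : FunFld.Divisor k K :=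
    Finsupp.single B (1 : ℤ) + FunFld.div k (t - algebraMap k K a) with hEdef
  have hER : E R = R.ord (t - algebraMap k K a) := by
    rw [hEdef, Finsupp.add_apply, Finsupp.single_eq_of_ne hR, zero_add, div_apply hK]
  have hsingle : (Finsupp.single R (E R) : FunFld.Divisor k K) ≤ E := by
    intro P
    by_cases hPR : P = R
    · rw [hPR, Finsupp.single_eq_same]
    · rw [Finsupp.single_eq_of_ne hPR]
      have := hE P
      simpa using this
  have := deg_mono hsingle
  rw [deg_single, deg_eq_one_of_isAlgClosed hK R, hdeg, hER] at this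
  simpa using this

include hK ht1 ht2 in
/-- For `R ≠ B` there is `a` with `R.1 (t - a) = exp (-1)`. -/
theorem exists_root_at {R : FunFld.Place k K} (hR : R ≠ B) :
    ∃ a : k, R.1 (t - algebraMap k K a) = exp (-1 : ℤ) := by
  obtain ⟨a, ha⟩ := exists_const_sub_lt_one hK R (ht1 R hR)
  refine ⟨a, ?_⟩
  have hu0 := coord_sub_ne_zero ht2 a
  have h1 := (pl_val_lt_one_iff R hu0).mp ha
  have h2 := ord_coord_sub_le_one hK ht1 ht2 hR a
  rw [pl_val_eq_exp_neg_ord R hu0]
  congr 1
  omega

include hK ht1 ht2 in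
theorem root_at_ne {R R' : FunFld.Place k K} (hR : R ≠ B) (hR' : R' ≠ B) (hRR' : R ≠ R') {a : k}
    (h : R.1 (t - algebraMap k K a) < 1) (h' : R'.1 (t - algebraMap k K a) < 1) : False := by
  classical
  obtain ⟨hE, hdeg⟩ := coord_div hK ht1 ht2 a
  have hu0 := coord_sub_ne_zero ht2 a
  have h1 := (pl_val_lt_one_iff R hu0).mp h
  have h1' := (pl_val_lt_one_iff R' hu0).mp h'
  set E : FunFld.Divisor k K :=
    Finsupp.single B (1 : ℤ) + FunFld.div k (t - algebraMap k K a) with hEdef
  have hER : E R = R.ord (t - algebraMap k K a) := by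
    rw [hEdef, Finsupp.add_apply, Finsupp.single_eq_of_ne hR, zero_add, div_apply hK]
  have hER' : E R' = R'.ord (t - algebraMap k K a) := by
    rw [hEdef, Finsupp.add_apply, Finsupp.single_eq_of_ne hR', zero_add, div_apply hK]
  have hle : (Finsupp.single R (1 : ℤ) + Finsupp.single R' (1 : ℤ) : FunFld.Divisor k K) ≤ E := by
    intro P
    rw [Finsupp.add_apply]
    by_cases hPR : P = R
    · rw [hPR, Finsupp.single_eq_same, Finsupp.single_eq_of_ne hRR', hER]; omega
    · by_cases hPR' : P = R'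
      · rw [hPR', Finsupp.single_eq_same, Finsupp.single_eq_of_ne (Ne.symm hRR'), hER']; omega
      · rw [Finsupp.single_eq_of_ne hPR, Finsupp.single_eq_of_ne hPR']
        have := hE P
        simpa using this
  have := deg_mono hle
  rw [deg_add, deg_single, deg_single, deg_eq_one_of_isAlgClosed hK R,
    deg_eq_one_of_isAlgClosed hK R', hdeg] at this
  norm_num at this

include ht1 in
theorem val_aeval_R {R : FunFld.Place k K} (hR : R ≠ B) {a : k}
    (ha : R.1 (t - algebraMap k K a) = exp (-1 : ℤ)) {p : k[X]} (hp : p ≠ 0) :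
    R.1 (aeval t p) = exp (-(rootMultiplicity a p : ℤ)) := by
  obtain ⟨q, hq, hnd⟩ := exists_eq_pow_rootMultiplicity_mul_and_not_dvd p hp a
  have hqa : q.eval a ≠ 0 := fun h => hnd (dvd_iff_isRoot.mpr h)
  have hq1 : R.1 (aeval t q) = 1 := by
    have hdecomp := modByMonic_add_div q (X - C a)
    rw [modByMonic_X_sub_C_eq_C_eval] at hdecomp
    have : aeval t q = algebraMap k K (q.eval a) +
        (t - algebraMap k K a) * aeval t (q /ₘ (X - C a)) := by
      conv_lhs => rw [← hdecomp]
      simp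
    rw [this]
    have hc : R.1 (algebraMap k K (q.eval a)) = 1 := pl_val_const R hqa
    have hlt : R.1 ((t - algebraMap k K a) * aeval t (q /ₘ (X - C a))) <
        R.1 (algebraMap k K (q.eval a)) := by
      rw [hc, map_mul, ha]
      calc exp (-1 : ℤ) * R.1 (aeval t (q /ₘ (X - C a))) ≤ exp (-1 : ℤ) * 1 :=
            mul_le_mul' le_rfl (val_aeval_le_one ht1 R hR _)
        _ < 1 := by rw [mul_one, ← exp_zero, exp_lt_exp]; norm_num
    rw [Valuation.map_add_eq_of_lt_left _ hlt, hc]
  have : aeval t p = (t - algebraMap k K a) ^ rootMultiplicity a p * aeval t q := by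
    conv_lhs => rw [hq]
    simp
  rw [this, map_mul, map_pow, ha, hq1, mul_one, ← exp_nsmul]
  congr 1
  simp

include ht1 ht2 in
theorem aeval_mem_L_sub_iff (d : ℕ) {R : FunFld.Place k K} (hR : R ≠ B) {a : k}
    (ha : R.1 (t - algebraMap k K a) = exp (-1 : ℤ)) (j : ℕ) (p : k[X]) :
    aeval t p ∈ FunFld.L (Finsupp.single B (d : ℤ) - Finsupp.single R (j : ℤ)) ↔
      p ∈ degreeLT k (d + 1) ⊓ Plucker.mulSub a j := by
  classical
  by_cases hp : p = 0
  · subst hp; simp
  rw [Submodule.mem_inf, mem_degreeLT, ← natDegree_lt_iff_degree_lt hp, Plucker.mem_mulSub,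
    ← le_rootMultiplicity_iff hp, mem_L]
  constructor
  · intro h
    constructor
    · have := h B
      rw [Finsupp.sub_apply, Finsupp.single_eq_same, Finsupp.single_eq_of_ne (Ne.symm hR),
        val_aeval_B ht2 hp, exp_le_exp] at this
      omega
    · have := h R
      rw [Finsupp.sub_apply, Finsupp.single_eq_same, Finsupp.single_eq_of_ne hR,
        val_aeval_R ht1 hR ha hp, exp_le_exp] at this
      omega
  · rintro ⟨h1, h2⟩ P
    rw [Finsupp.sub_apply]
    by_cases hPB : P = B
    · rw [hPB, Finsupp.single_eq_same, Finsupp.single_eq_of_ne (Ne.symm hR),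
        val_aeval_B ht2 hp, exp_le_exp]
      omega
    · by_cases hPR : P = R
      · rw [hPR, Finsupp.single_eq_same, Finsupp.single_eq_of_ne hR,
          val_aeval_R ht1 hR ha hp, exp_le_exp]
        omega
      · rw [Finsupp.single_eq_of_ne hPB, Finsupp.single_eq_of_ne hPR, sub_zero, exp_zero]
        exact val_aeval_le_one ht1 P hPB p

include ht1 ht2 in
theorem aeval_mem_L_sub_B_iff (d j : ℕ) (p : k[X]) :
    aeval t p ∈ FunFld.L (Finsupp.single B (d : ℤ) - Finsupp.single B (j : ℤ)) ↔
      p ∈ Plucker.infSub d j := by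
  classical
  by_cases hp : p = 0
  · subst hp; simp
  unfold Plucker.infSub
  rw [mem_degreeLT, ← natDegree_lt_iff_degree_lt hp, mem_L]
  constructor
  · intro h
    have := h B
    rw [Finsupp.sub_apply, Finsupp.single_eq_same, Finsupp.single_eq_same,
      val_aeval_B ht2 hp, exp_le_exp] at this
    omega
  · intro h P
    rw [Finsupp.sub_apply]
    by_cases hPB : P = B
    · rw [hPB, Finsupp.single_eq_same, Finsupp.single_eq_same, val_aeval_B ht2 hp, exp_le_exp]
      omega
    · rw [Finsupp.single_eq_of_ne hPB, Finsupp.single_eq_of_ne hPB, sub_zero, exp_zero]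
      exact val_aeval_le_one ht1 P hPB p

end FinitePlaces


section Transfer

variable [IsAlgClosed k] (hK : FunFld.IsFunctionField k K) (hg : FunFld.genus k K = 0)

include hK hg in
theorem exists_normalizer (D : FunFld.Divisor k K) (d : ℕ) (hD : D.deg = d) (B : FunFld.Place k K) :
    ∃ h : K, h ≠ 0 ∧ FunFld.div k h = D - Finsupp.single B (d : ℤ) := by
  have hdeg : FunFld.Divisor.deg (Finsupp.single B (d : ℤ) - D) = 0 := by
    rw [deg_sub, deg_single, deg_eq_one_of_isAlgClosed hK B, hD]; norm_num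
  have hell : (FunFld.ell (Finsupp.single B (d : ℤ) - D) : ℤ) = 1 := by
    rw [ell_eq_of_deg_ge hK _ (by rw [hg, hdeg]; norm_num), hdeg, hg]; norm_num
  obtain ⟨h, hh0, hh⟩ := exists_ne_zero_of_ell_pos (Finsupp.single B (d : ℤ) - D)
    (by have : (0 : ℤ) < FunFld.ell (Finsupp.single B (d : ℤ) - D) := by rw [hell]; norm_num
        exact_mod_cast this)
  refine ⟨h, hh0, ?_⟩
  have h1 := nonneg_of_mem_L hK _ hh0 hh
  have h2 := eq_zero_of_nonneg_of_deg_eq_zero hK h1 (by rw [deg_add, hdeg, deg_div hK]; norm_num)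
  have h3 : FunFld.div k h = -(Finsupp.single B (d : ℤ) - D) := eq_neg_of_add_eq_zero_right h2
  rw [h3, neg_sub]

include hK in
theorem mul_mem_iff {D : FunFld.Divisor k K} {d : ℕ} {B : FunFld.Place k K} {h : K} (hh0 : h ≠ 0)
    (hdiv : FunFld.div k h = D - Finsupp.single B (d : ℤ)) (Δ : FunFld.Divisor k K) (f : K) :
    h * f ∈ FunFld.L (Finsupp.single B (d : ℤ) - Δ) ↔ f ∈ FunFld.L (D - Δ) := by
  rw [mul_mem_L_iff hK _ hh0, hdiv]
  have : Finsupp.single B (d : ℤ) - Δ + (D - Finsupp.single B (d : ℤ)) = D - Δ := by abel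
  rw [this]

lemma finrank_comap_eq {E E' : Type*} [AddCommGroup E] [Module k E] [AddCommGroup E'] [Module k E']
    (Φ : E →ₗ[k] E') (hΦ : Function.Injective Φ) (U : Submodule k E')
    (hU : U ≤ LinearMap.range Φ) : finrank k ↥(U.comap Φ) = finrank k ↥U := by
  rw [(Submodule.equivMapOfInjective Φ hΦ (U.comap Φ)).finrank_eq, Submodule.map_comap_eq,
    inf_eq_right.mpr hU]

include hK hg in
/-- Transfer of a linear series on a genus-zero function field to a space of polynomials. -/
theorem bridge (D : FunFld.Divisor k K) (d : ℕ) (hD : D.deg = d) (V : Submodule k K)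
    (hV : V ≤ FunFld.L D) (B : FunFld.Place k K) :
    ∃ (W : Submodule k k[X]) (a : FunFld.Place k K → k), W ≤ degreeLT k (d + 1) ∧
      finrank k ↥W = finrank k ↥V ∧
      (∀ R R' : FunFld.Place k K, R ≠ B → R' ≠ B → R ≠ R' → a R ≠ a R') ∧
      (∀ R : FunFld.Place k K, R ≠ B → ∀ j : ℕ,
        finrank k ↥(V ⊓ FunFld.L (D - Finsupp.single R (j : ℤ))) =
          finrank k ↥(W ⊓ Plucker.mulSub (a R) j)) ∧
      (∀ j : ℕ, finrank k ↥(V ⊓ FunFld.L (D - Finsupp.single B (j : ℤ))) =
          finrank k ↥(W ⊓ Plucker.infSub d j)) := by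
  classical
  obtain ⟨t, ht1, ht2⟩ := exists_coord hK hg B
  obtain ⟨h, hh0, hdiv⟩ := exists_normalizer hK hg D d hD B
  let a : FunFld.Place k K → k := fun R =>
    if hR : R ≠ B then (exists_root_at hK ht1 ht2 hR).choose else 0
  have ha : ∀ R : FunFld.Place k K, R ≠ B → R.1 (t - algebraMap k K (a R)) = exp (-1 : ℤ) := by
    intro R hR
    have : a R = (exists_root_at hK ht1 ht2 hR).choose := dif_pos hR
    rw [this]
    exact (exists_root_at hK ht1 ht2 hR).choose_spec
  let Φ : k[X] →ₗ[k] K := (LinearMap.mulLeft k h⁻¹) ∘ₗ (aeval (R := k) t).toLinearMap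
  have hΦ_apply : ∀ p, Φ p = h⁻¹ * aeval t p := fun p => rfl
  have hhΦ : ∀ p, h * Φ p = aeval t p := by
    intro p
    rw [hΦ_apply, ← mul_assoc, mul_inv_cancel₀ hh0, one_mul]
  have hΦinj : Function.Injective Φ := by
    intro p q hpq
    apply aeval_injective ht2
    rw [← hhΦ p, ← hhΦ q, hpq]
  have hrange : FunFld.L D ≤ LinearMap.range Φ := by
    intro f hf
    have h1 : h * f ∈ FunFld.L (Finsupp.single B (d : ℤ) - 0) :=
      (mul_mem_iff hK hh0 hdiv 0 f).mpr (by rwa [sub_zero])
    rw [sub_zero] at h1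
    obtain ⟨p, hp⟩ := L_le_range hK hg ht1 ht2 d h1
    refine ⟨p, ?_⟩
    rw [hΦ_apply]
    change h⁻¹ * (aeval t p) = f
    have hp' : aeval t p = h * f := hp
    rw [hp', ← mul_assoc, inv_mul_cancel₀ hh0, one_mul]
  have hmemL : ∀ (Δ : FunFld.Divisor k K) (p : k[X]),
      Φ p ∈ FunFld.L (D - Δ) ↔ aeval t p ∈ FunFld.L (Finsupp.single B (d : ℤ) - Δ) := by
    intro Δ p
    rw [← mul_mem_iff hK hh0 hdiv Δ (Φ p), hhΦ]
  have hW : V.comap Φ ≤ degreeLT k (d + 1) := by
    intro p hp
    have h1 : Φ p ∈ FunFld.L (D - 0) := by rw [sub_zero]; exact hV hp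
    rw [hmemL, sub_zero] at h1
    exact (aeval_mem_L_iff ht1 ht2 d p).mp h1
  refine ⟨V.comap Φ, a, hW, finrank_comap_eq Φ hΦinj V (hV.trans hrange), ?_, ?_, ?_⟩
  · intro R R' hR hR' hRR' heq
    have h1 : R.1 (t - algebraMap k K (a R)) < 1 := by
      rw [ha R hR, ← exp_zero, exp_lt_exp]; norm_num
    have h2 : R'.1 (t - algebraMap k K (a R)) < 1 := by
      rw [heq, ha R' hR', ← exp_zero, exp_lt_exp]; norm_num
    exact root_at_ne hK ht1 ht2 hR hR' hRR' h1 h2
  · intro R hR j
    rw [← finrank_comap_eq Φ hΦinj (V ⊓ FunFld.L (D - Finsupp.single R (j : ℤ)))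
      ((inf_le_left.trans hV).trans hrange)]
    have hEq : (V ⊓ FunFld.L (D - Finsupp.single R (j : ℤ))).comap Φ =
        V.comap Φ ⊓ Plucker.mulSub (a R) j := by
      ext p
      simp only [Submodule.mem_comap, Submodule.mem_inf]
      rw [hmemL, aeval_mem_L_sub_iff ht1 ht2 d hR (ha R hR) j p, Submodule.mem_inf]
      constructor
      · rintro ⟨h1, _, h3⟩; exact ⟨h1, h3⟩
      · rintro ⟨h1, h3⟩; exact ⟨h1, hW h1, h3⟩
    rw [hEq]
  · intro j
    rw [← finrank_comap_eq Φ hΦinj (V ⊓ FunFld.L (D - Finsupp.single B (j : ℤ)))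
      ((inf_le_left.trans hV).trans hrange)]
    have hEq : (V ⊓ FunFld.L (D - Finsupp.single B (j : ℤ))).comap Φ =
        V.comap Φ ⊓ Plucker.infSub d j := by
      ext p
      simp only [Submodule.mem_comap, Submodule.mem_inf]
      rw [hmemL, aeval_mem_L_sub_B_iff ht1 ht2 d j p]
    rw [hEq]

include hK hg in
/-- **Plücker inequality** for a linear series on a function field of genus zero:
the weights at the places in `Σ ∪ {B}` add up to at most `(r+1)(d-r)`. -/
theorem plucker_genus_zero (D : FunFld.Divisor k K) (d r : ℕ) (hD : D.deg = d)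
    (V : Submodule k K) (hV : V ≤ FunFld.L D) (hVr : finrank k ↥V = r + 1)
    [CharZero k] (B : FunFld.Place k K) (S : Finset (FunFld.Place k K)) (hB : B ∉ S) :
    (∑ R ∈ S, ∑ n ∈ Finset.range d,
        finrank k ↥(V ⊓ FunFld.L (D - Finsupp.single R ((n : ℤ) + 1)))) +
      (∑ n ∈ Finset.range d, finrank k ↥(V ⊓ FunFld.L (D - Finsupp.single B ((n : ℤ) + 1)))) +
      (r + 1) * r ≤ (r + 1) * d + (S.card + 1) * (r * (r + 1) / 2) := by
  classical
  obtain ⟨W, a, hW, hWr, hinj, hfin, hinf⟩ := bridge hK hg D d hD V hV B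
  have hSB : ∀ R ∈ S, R ≠ B := fun R hR h => hB (h ▸ hR)
  have hinjOn : Set.InjOn a (S : Set (FunFld.Place k K)) := by
    intro R hR R' hR' heq
    by_contra hne
    exact hinj R R' (hSB R hR) (hSB R' hR') hne heq
  have key := Plucker.poly_plucker r d W (hWr.trans hVr) hW (S.image a)
  rw [Finset.sum_image hinjOn, Finset.card_image_of_injOn hinjOn] at key
  have e1 : ∀ R ∈ S, ∑ n ∈ Finset.range d,
      finrank k ↥(V ⊓ FunFld.L (D - Finsupp.single R ((n : ℤ) + 1))) =
      ∑ n ∈ Finset.range d, finrank k ↥(W ⊓ Plucker.mulSub (a R) (n + 1)) := by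
    intro R hR
    refine Finset.sum_congr rfl (fun n _ => ?_)
    have := hfin R (hSB R hR) (n + 1)
    rw [Nat.cast_succ] at this
    exact this
  have e2 : ∑ n ∈ Finset.range d,
      finrank k ↥(V ⊓ FunFld.L (D - Finsupp.single B ((n : ℤ) + 1))) =
      ∑ n ∈ Finset.range d, finrank k ↥(W ⊓ Plucker.infSub d (n + 1)) := by
    refine Finset.sum_congr rfl (fun n _ => ?_)
    have := hinf (n + 1)
    rw [Nat.cast_succ] at this
    exact this
  rw [Finset.sum_congr rfl e1, e2]
  exact key

end Transfer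

end Groth.Agent.H81.GZ
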