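import Groth.Agent.H71.Hartogs
import Groth.Agent.H24.SchDenseExt
import Groth.Agent.H26.DepthLib
import Mathlib.AlgebraicGeometry.Morphisms.Flat
import Mathlib.AlgebraicGeometry.Morphisms.Finite
import Mathlib.AlgebraicGeometry.Noetherian
import Mathlib.RingTheory.Regular.Flat

/-!
# helper81: extension of morphisms of finite flat schemes across a closed set of depth `≥ 2`
Part 1: Hartogs on the source.
-/

set_option autoImplicit false
universe u
open CategoryTheory CategoryTheory.Limits AlgebraicGeometry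

namespace Groth.Agent.H81.HomExt

/-- A weakly regular pair in the maximal ideal of a local ring of depth `≥ 2`. -/
theorem exists_pair_of_depth (R : Type u) [CommRing R] [IsLocalRing R]
    (h : (2 : ℕ∞) ≤ LocCoh.depth R R) :
    ∃ a b : R, a ∈ IsLocalRing.maximalIdeal R ∧ b ∈ IsLocalRing.maximalIdeal R ∧
      RingTheory.Sequence.IsWeaklyRegular R [a, b] := by
  have hIM : IsLocalRing.maximalIdeal R • (⊤ : Submodule R R) ≠ ⊤ := by
    rw [smul_eq_mul, Ideal.mul_top]
    exact (IsLocalRing.maximalIdeal.isMaximal R).ne_top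
  obtain ⟨rs, hlen, hreg, hmem⟩ :=
    Groth.Agent.H26.DepthLib.exists_of_le_idealDepth (IsLocalRing.maximalIdeal R) 2
      (by exact_mod_cast h) hIM
  obtain ⟨a, b, rfl⟩ := List.length_eq_two.mp hlen
  exact ⟨a, b, hmem a (by simp), hmem b (by simp), hreg⟩

/-- Transfer of a weakly regular pair along a flat local homomorphism. -/
theorem exists_pair_of_flat {R T : Type u} [CommRing R] [CommRing T] [IsLocalRing R]
    [IsLocalRing T] (φ : R →+* T) [IsLocalHom φ] (hφ : φ.Flat)
    (h : ∃ a b : R, a ∈ IsLocalRing.maximalIdeal R ∧ b ∈ IsLocalRing.maximalIdeal R ∧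
      RingTheory.Sequence.IsWeaklyRegular R [a, b]) :
    ∃ a b : T, a ∈ IsLocalRing.maximalIdeal T ∧ b ∈ IsLocalRing.maximalIdeal T ∧
      RingTheory.Sequence.IsWeaklyRegular T [a, b] := by
  obtain ⟨a, b, ha, hb, hab⟩ := h
  algebraize [φ]
  have hmem : ∀ x : R, x ∈ IsLocalRing.maximalIdeal R → φ x ∈ IsLocalRing.maximalIdeal T := by
    intro x hx
    rw [IsLocalRing.mem_maximalIdeal, mem_nonunits_iff] at hx ⊢
    exact fun hu => hx (isUnit_of_map_unit φ x hu)
  refine ⟨φ a, φ b, hmem a ha, hmem b hb, ?_⟩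
  have := RingTheory.Sequence.IsWeaklyRegular.of_flat (S := T) hab
  have e : ∀ x : R, algebraMap R T x = φ x := fun _ => rfl
  simpa only [List.map_cons, List.map_nil, e] using this

variable {S G : Scheme.{u}}

/-- The stalks of a flat `S`-scheme at points over points of depth `≥ 2` contain weakly
regular pairs. -/
theorem exists_pair_stalk (f : G ⟶ S) [Flat f] (z : G)
    (h : (2 : ℕ∞) ≤ LocCoh.depth (S.presheaf.stalk (f z)) (S.presheaf.stalk (f z))) :
    ∃ a b : G.presheaf.stalk z, a ∈ IsLocalRing.maximalIdeal (G.presheaf.stalk z) ∧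
      b ∈ IsLocalRing.maximalIdeal (G.presheaf.stalk z) ∧
      RingTheory.Sequence.IsWeaklyRegular (G.presheaf.stalk z) [a, b] :=
  exists_pair_of_flat (f.stalkMap z).hom (Flat.stalkMap f z) (exists_pair_of_depth _ h)

end Groth.Agent.H81.HomExt
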