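import Groth.Agent.H81.HomExt1

/-!
# helper81: extension of morphisms across a Hartogs open, local construction
-/

set_option autoImplicit false
universe u
open CategoryTheory CategoryTheory.Limits AlgebraicGeometry

namespace Groth.Agent.H81.HomExt

variable {S G₁ G₂ : Scheme.{u}}

theorem bij_congr {X Y : Scheme.{u}} (f : X ⟶ Y) {A B : Y.Opens} (h : A = B)
    (hA : Function.Bijective (f.app A).hom) : Function.Bijective (f.app B).hom := by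
  subst h; exact hA

/-- Local extension over an affine open of the base. -/
theorem local_ext (f₁ : G₁ ⟶ S) (f₂ : G₂ ⟶ S) (V₁ : G₁.Opens)
    (g : (V₁ : Scheme.{u}) ⟶ G₂) (hg : g ≫ f₂ = V₁.ι ≫ f₁)
    (W : S.Opens) (hW : IsAffineOpen W) (hY : IsAffineOpen (f₂ ⁻¹ᵁ W))
    (hbij : Function.Bijective (V₁.ι.app (f₁ ⁻¹ᵁ W)).hom) :
    ∃ φ : ((f₁ ⁻¹ᵁ W : G₁.Opens) : Scheme.{u}) ⟶ G₂,
      φ ≫ f₂ = (f₁ ⁻¹ᵁ W).ι ≫ f₁ ∧
      ∀ (T : Scheme.{u}) (p : T ⟶ ((f₁ ⁻¹ᵁ W : G₁.Opens) : Scheme.{u}))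
        (q : T ⟶ (V₁ : Scheme.{u})), p ≫ (f₁ ⁻¹ᵁ W).ι = q ≫ V₁.ι → p ≫ φ = q ≫ g := by
  set X : G₁.Opens := f₁ ⁻¹ᵁ W with hXdef
  set Y : G₂.Opens := f₂ ⁻¹ᵁ W with hYdef
  set Q : (V₁ : Scheme.{u}).Opens := V₁.ι ⁻¹ᵁ X with hQdef
  set j : (Q : Scheme.{u}) ⟶ (X : Scheme.{u}) := V₁.ι ∣_ X with hjdef
  have sq : IsPullback j Q.ι X.ι V₁.ι := isPullback_morphismRestrict V₁.ι X
  haveI : IsAffine (Y : Scheme.{u}) := hY
  haveI : IsAffine (W : Scheme.{u}) := hW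
  -- `j` is bijective on global sections
  haveI : IsIso j.appTop := by
    rw [hjdef, morphismRestrict_appTop]
    have h1 : Function.Bijective (V₁.ι.app (X.ι ''ᵁ ⊤)).hom :=
      bij_congr V₁.ι (by simp) hbij
    haveI h3 : IsIso (V₁.ι.app (X.ι ''ᵁ ⊤)) := (ConcreteCategory.isIso_iff_bijective _).mpr h1
    haveI h4 : IsIso ((V₁ : Scheme.{u}).presheaf.map
          (eqToHom (image_morphismRestrict_preimage V₁.ι X ⊤)).op) := inferInstance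
    exact IsIso.comp_isIso' h3 h4
  -- the restriction of `g`
  have hrange : Set.range (Q.ι ≫ g) ⊆ Set.range Y.ι := by
    rintro _ ⟨q, rfl⟩
    rw [Scheme.Opens.range_ι]
    change f₂ ((Q.ι ≫ g) q) ∈ W
    have e1 : f₂ ((Q.ι ≫ g) q) = ((Q.ι ≫ g) ≫ f₂) q := rfl
    rw [e1, Category.assoc, hg]
    exact q.2
  set gQ : (Q : Scheme.{u}) ⟶ (Y : Scheme.{u}) := IsOpenImmersion.lift Y.ι (Q.ι ≫ g) hrange
    with hgQdef
  have hgQ : gQ ≫ Y.ι = Q.ι ≫ g := IsOpenImmersion.lift_fac _ _ _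
  set ψ : Γ((Y : Scheme.{u}), ⊤) ⟶ Γ((X : Scheme.{u}), ⊤) := gQ.appTop ≫ inv j.appTop with hψdef
  have hψ : ψ ≫ j.appTop = gQ.appTop := by
    rw [hψdef, Category.assoc, IsIso.inv_hom_id, Category.comp_id]
  set φ' : (X : Scheme.{u}) ⟶ (Y : Scheme.{u}) :=
    (X : Scheme.{u}).toSpecΓ ≫ Spec.map ψ ≫ (Y : Scheme.{u}).isoSpec.inv with hφ'def
  have key1 : j ≫ φ' = gQ := by
    rw [hφ'def, ← Category.assoc, Scheme.toSpecΓ_naturality, Category.assoc,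
      ← Spec.map_comp_assoc, hψ, ← Scheme.toSpecΓ_naturality_assoc]
    have : (Y : Scheme.{u}).toSpecΓ = (Y : Scheme.{u}).isoSpec.hom := rfl
    rw [this, Iso.hom_inv_id, Category.comp_id]
  have keyb : j ≫ φ' ≫ Y.ι = Q.ι ≫ g := by
    rw [← Category.assoc, key1, hgQ]
  have e1 : (f₁ ∣_ W) ≫ W.ι = X.ι ≫ f₁ := morphismRestrict_ι f₁ W
  have e2 : (f₂ ∣_ W) ≫ W.ι = Y.ι ≫ f₂ := morphismRestrict_ι f₂ W
  have keya : φ' ≫ (f₂ ∣_ W) = (f₁ ∣_ W) := by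
    apply ext_of_isAffine
    rw [← cancel_mono j.appTop, ← Scheme.Hom.comp_appTop, ← Scheme.Hom.comp_appTop]
    congr 1
    rw [← cancel_mono W.ι]
    calc (j ≫ φ' ≫ (f₂ ∣_ W)) ≫ W.ι = (j ≫ φ' ≫ Y.ι) ≫ f₂ := by
          simp only [Category.assoc, e2]
      _ = Q.ι ≫ V₁.ι ≫ f₁ := by rw [keyb, Category.assoc, hg]
      _ = (j ≫ X.ι) ≫ f₁ := by rw [sq.w, Category.assoc]
      _ = (j ≫ (f₁ ∣_ W)) ≫ W.ι := by simp only [Category.assoc, e1]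
  refine ⟨φ' ≫ Y.ι, ?_, ?_⟩
  · rw [Category.assoc, ← e2, ← Category.assoc, keya, e1]
  · intro T p q hpq
    have h1 : sq.lift p q hpq ≫ j = p := sq.lift_fst p q hpq
    have h2 : sq.lift p q hpq ≫ Q.ι = q := sq.lift_snd p q hpq
    rw [← h1, Category.assoc, keyb, ← Category.assoc, h2]

end Groth.Agent.H81.HomExt
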