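import Groth.Agent.H81.CxGroupoid
import Mathlib.Algebra.Homology.Homotopy
import Mathlib.CategoryTheory.NatIso
import Mathlib.Tactic.Abel

/-!
A chain homotopy between chain maps `u₁ u₂ : C ⟶ D` induces a natural isomorphism between the
functors induced on the groupoids of `C` and `D` (`W4c3biextchow.cxFunctor`).
-/

set_option autoImplicit false

universe v u

open CategoryTheory W4c3biextchow

namespace Groth.Agent.H81

variable {R : Type u} [Ring R] {C D : ChainComplex (ModuleCat.{v} R) ℕ} {u₁ u₂ : C ⟶ D}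
  (H : Homotopy u₁ u₂)

theorem homotopy_zero_apply (x : C.X 0) :
    (u₁.f 0).hom x = (D.d 1 0).hom ((H.hom 0 1).hom x) + (u₂.f 0).hom x := by
  have h := congrArg (fun φ : C.X 0 ⟶ D.X 0 => φ.hom x) (H.comm 0)
  rw [Homotopy.dNext_zero_chainComplex, Homotopy.prevD_chainComplex, zero_add] at h
  simpa using h

theorem homotopy_one_apply (x : C.X 1) :
    (u₁.f 1).hom x = (H.hom 0 1).hom ((C.d 1 0).hom x) + (D.d 2 1).hom ((H.hom 1 2).hom x) +
      (u₂.f 1).hom x := by
  have h := congrArg (fun φ : C.X 1 ⟶ D.X 1 => φ.hom x) (H.comm 1)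
  rw [Homotopy.dNext_succ_chainComplex, Homotopy.prevD_chainComplex] at h
  simpa using h

/-- the component of the natural isomorphism attached to a homotopy -/
def homotopyComp (a : Obj C) : (cxFunctor u₁).obj a ⟶ (cxFunctor u₂).obj a :=
  (⟨-Submodule.Quotient.mk ((H.hom 0 1).hom a.pt), by
    rw [map_neg, delta_mk, cxFunctor_obj_pt, cxFunctor_obj_pt, homotopy_zero_apply H]
    abel⟩ : Hom D _ _)

/-- the inverse component -/
def homotopyCompInv (a : Obj C) : (cxFunctor u₂).obj a ⟶ (cxFunctor u₁).obj a :=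
  (⟨Submodule.Quotient.mk ((H.hom 0 1).hom a.pt), by
    rw [delta_mk, cxFunctor_obj_pt, cxFunctor_obj_pt, homotopy_zero_apply H]
    abel⟩ : Hom D _ _)

@[simp] theorem homotopyComp_cl (a : Obj C) :
    (homotopyComp H a : Hom D _ _).cl = -Submodule.Quotient.mk ((H.hom 0 1).hom a.pt) := rfl

@[simp] theorem homotopyCompInv_cl (a : Obj C) :
    (homotopyCompInv H a : Hom D _ _).cl = Submodule.Quotient.mk ((H.hom 0 1).hom a.pt) := rfl

/-- the natural isomorphism attached to a homotopy -/
def homotopyNatIso : cxFunctor u₁ ≅ cxFunctor u₂ :=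
  NatIso.ofComponents
    (fun a =>
      { hom := homotopyComp H a
        inv := homotopyCompInv H a
        hom_inv_id := Hom.ext (by
          rw [comp_cl, id_cl, homotopyComp_cl, homotopyCompInv_cl, neg_add_cancel])
        inv_hom_id := Hom.ext (by
          rw [comp_cl, id_cl, homotopyComp_cl, homotopyCompInv_cl, add_neg_cancel]) })
    (by
      intro a b φ
      apply Hom.ext
      obtain ⟨x, hx⟩ := Submodule.Quotient.mk_surjective _ (φ : Hom C a b).cl
      have hd : (C.d 1 0).hom x = b.pt - a.pt := by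
        have := (φ : Hom C a b).delta_cl
        rw [← hx, delta_mk] at this
        exact this
      show q1Map u₁ (φ : Hom C a b).cl + -Submodule.Quotient.mk ((H.hom 0 1).hom b.pt) =
        -Submodule.Quotient.mk ((H.hom 0 1).hom a.pt) + q1Map u₂ (φ : Hom C a b).cl
      rw [← hx, q1Map_mk, q1Map_mk, homotopy_one_apply H x, hd, map_sub]
      have h0 : (Submodule.Quotient.mk ((D.d 2 1).hom ((H.hom 1 2).hom x)) : Q1 D) = 0 :=
        (mk_eq_zero_iff _).mpr ⟨_, rfl⟩
      simp only [Submodule.Quotient.mk_add, Submodule.Quotient.mk_sub, h0]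
      abel)

@[simp] theorem homotopyNatIso_hom_app_cl (a : Obj C) :
    ((homotopyNatIso H).hom.app a : Hom D _ _).cl =
      -Submodule.Quotient.mk ((H.hom 0 1).hom a.pt) := rfl

end Groth.Agent.H81
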