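import Mathlib
import Groth.Agent.H18.TensorAssoc
import Groth.Agent.H18.TensorPowIso
import Groth.Agent.H18.AmpleTensor
import Groth.Agent.H18.AmpleTwistGG
import Groth.Agent.H18.AmpleIso
import Groth.Agent.H18.QAffAmple
import Groth.Agent.H18.HypUJG
import Groth.Agent.H18.TensorModIso
import Groth.Agent.H18.TensorGen

/-!
# (Psi) for S7679 (helper21's squad)

For invertible `L`, `M` with `L ⊗ M ≅ 𝒪_X`:
`(F ⊗ M^{n+d}) ⊗ L^d ≅ F ⊗ M^n`.  Pure isomorphism algebra on top of H18's tensor library.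
-/

set_option autoImplicit false

universe u

open CategoryTheory CategoryTheory.Limits AlgebraicGeometry TopologicalSpace Opposite

namespace Groth.Agent.H81.Hyp_Psi

theorem nonempty_psi {X : Scheme.{u}} (L M F : X.Modules) (hL : PicF.IsInvertible L)
    (hM : PicF.IsInvertible M) (e : CohB1.tensorMod L M ≅ Coh.structureModule X) (n d : ℕ) :
    Nonempty (CohB1.tensorMod (CohB1.tensorMod F (CohB1.tensorPow M (n + d))) (CohB1.tensorPow L d) ≅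
      CohB1.tensorMod F (CohB1.tensorPow M n)) := by
  have hMn : PicF.IsInvertible (CohB1.tensorPow M n) :=
    Groth.Agent.H18.TensorGen.isInvertible_tensorPow hM n
  have hMd : PicF.IsInvertible (CohB1.tensorPow M d) :=
    Groth.Agent.H18.TensorGen.isInvertible_tensorPow hM d
  have hMnd : PicF.IsInvertible (CohB1.tensorPow M (n + d)) :=
    Groth.Agent.H18.TensorGen.isInvertible_tensorPow hM (n + d)
  have hLd : PicF.IsInvertible (CohB1.tensorPow L d) :=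
    Groth.Agent.H18.TensorGen.isInvertible_tensorPow hL d
  -- (F ⊗ M^{n+d}) ⊗ L^d ≅ F ⊗ (M^{n+d} ⊗ L^d)
  obtain ⟨a1⟩ := Groth.Agent.H18.TensorAssoc.nonempty_tensorMod_assoc F
    (CohB1.tensorPow M (n + d)) (CohB1.tensorPow L d) hMnd hLd
  -- M^n ⊗ M^d ≅ M^{n+d}
  obtain ⟨a2⟩ := Groth.Agent.H18.TensorPowIso.nonempty_tensorPow_add hM n d
  -- (M^n ⊗ M^d) ⊗ L^d ≅ M^n ⊗ (M^d ⊗ L^d)
  obtain ⟨a3⟩ := Groth.Agent.H18.TensorAssoc.nonempty_tensorMod_assoc (CohB1.tensorPow M n)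
    (CohB1.tensorPow M d) (CohB1.tensorPow L d) hMd hLd
  -- M^d ⊗ L^d ≅ (M ⊗ L)^d
  obtain ⟨a4⟩ := Groth.Agent.H18.AmpleTensor.nonempty_tensorPow_tensorMod hM hL d
  -- M ⊗ L ≅ L ⊗ M ≅ O
  obtain ⟨c⟩ := Groth.Agent.H18.AmpleTwistGG.nonempty_tensorMod_comm M L
  -- (M ⊗ L)^d ≅ O^d
  obtain ⟨a5⟩ := Groth.Agent.H18.AmpleIso.nonempty_tensorPow_iso (c ≪≫ e) d
  -- O^d ≅ O
  obtain ⟨a6⟩ := Groth.Agent.H18.QAffAmple.nonempty_tensorPow_unit_iso (X := X) d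
  -- M^n ⊗ O ≅ M^n
  obtain ⟨a7⟩ := Groth.Agent.H18.HypUJG.nonempty_tensorMod_unit (CohB1.tensorPow M n)
  -- M^{n+d} ⊗ L^d ≅ (M^n ⊗ M^d) ⊗ L^d
  obtain ⟨b1⟩ := Groth.Agent.H18.TensorModIso.nonempty_tensorMod_congr a2.symm
    (Iso.refl (CohB1.tensorPow L d))
  -- M^n ⊗ (M^d ⊗ L^d) ≅ M^n ⊗ O
  obtain ⟨b2⟩ := Groth.Agent.H18.TensorModIso.nonempty_tensorMod_congr
    (Iso.refl (CohB1.tensorPow M n)) (a4 ≪≫ a5 ≪≫ a6)
  -- F ⊗ (M^{n+d} ⊗ L^d) ≅ F ⊗ M^n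
  obtain ⟨b3⟩ := Groth.Agent.H18.TensorModIso.nonempty_tensorMod_congr
    (Iso.refl F) (b1 ≪≫ a3 ≪≫ b2 ≪≫ a7)
  exact ⟨a1 ≪≫ b3⟩

end Groth.Agent.H81.Hyp_Psi
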