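import Mathlib
import Groth.Agent.H81.CharZeroHasse
import Groth.Agent.H27.Classical
import Groth.Agent.H27.WDiv
import Groth.Agent.H27.Generic
import Groth.Agent.H27.Sep

/-!
Finiteness of hyperosculating places in characteristic zero: for a linearly independent tuple
`φ₀, …, φₙ` of a function field over an algebraically closed field of characteristic zero, only
finitely many places at which all `φᵢ` are regular carry a nonzero `k`-combination vanishing to
order at least `n + 1`.
-/

set_option autoImplicit false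

namespace Groth.Agent.H81.HO

open FunFld WithZero Groth.Agent.H55 Groth.Agent.H27.Expn Groth.Agent.H27.LocOrd
open Groth.Agent.H27.LocDet Groth.Agent.H27.BinomDet Groth.Agent.H27.Hasse

variable {k K : Type*} [Field k] [IsAlgClosed k] [Field K] [Algebra k K]

/-- In characteristic zero the orders of a linearly independent tuple are `1, …, n`. -/
theorem orders_classical [CharZero k] (hK : IsFunctionField k K) {n : ℕ} (φ : Fin (n + 1) → K)
    (hφ : LinearIndependent k φ) (s : K) (H : K →ₐ[k] PowerSeries K)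
    (hH : LocRes.IsHasseFamily s H) :
    IsOrders K (hcol (AlgHom.id k K) H φ) (fun l : Fin n => (l : ℕ) + 1) := by
  classical
  have hchar : ringChar k = 0 ∨ (mapDiv k φ).deg < ringChar k := Or.inl (ringChar.eq_zero)
  obtain ⟨P, -⟩ := Groth.Agent.H55.exists_zero hK s
    (Groth.Agent.H27.Hasse.transcendental_of_hasse hK hH)
  refine Groth.Agent.H27.Classical.core hK φ hφ (AlgHom.id k K) s H hH P (fun z hz => hz) _ ?_
    (Or.inl fun l => Nat.succ_pos _) ?_ ?_
  · intro a b h
    have : (a : ℕ) < b := h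
    show (a : ℕ) + 1 < (b : ℕ) + 1
    omega
  · intro J' hJ'm hJ'pos hJ'deg
    apply det_binomMat_succ k J'
    · intro r
      exact cast_ne_zero_of_le k hchar (hJ'deg r) (hJ'pos r).ne'
    · intro a b hab
      have h1 := hJ'pos a
      have h2 := hJ'pos b
      have h3 := hJ'deg a
      have h4 := hJ'deg b
      have := cast_inj_of_le k hchar (a := J' a - 1) (b := J' b - 1) (by omega) (by omega) hab
      exact hJ'm.injective (by omega)
  · intro J hJ
    have hne : ∀ l, J l ≠ 0 := by
      intro l hl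
      have hj : IsJump K (hcol (AlgHom.id k K) H φ) (0 + 1) := (hJ.2 0).1 ⟨l, hl⟩
      apply hj
      refine Submodule.subset_span ⟨0, by simp, ?_⟩
      funext i
      show (AlgHom.id k K) (φ i) = LocRes.hasseD H 0 (φ i)
      rw [hasseD_zero hH]
      rfl
    have key : ∀ (m : ℕ) (hm : m < n), m + 1 ≤ J ⟨m, hm⟩ := by
      intro m
      induction m with
      | zero =>
        intro hm
        have := hne ⟨0, hm⟩
        omega
      | succ m ih =>
        intro hm
        have h1 := ih (by omega)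
        have h2 : J ⟨m, by omega⟩ < J ⟨m + 1, hm⟩ := hJ.1 (by simp [Fin.lt_def])
        omega
    intro l
    exact key l l.2

/-- The classical Wronskian is nonzero. -/
theorem wronskian_ne_zero [CharZero k] (hK : IsFunctionField k K) {n : ℕ} (φ : Fin (n + 1) → K)
    (hφ : LinearIndependent k φ) (s : K) (H : K →ₐ[k] PowerSeries K)
    (hH : LocRes.IsHasseFamily s H) :
    (wrMat (AlgHom.id k K) H φ (fun l : Fin n => (l : ℕ) + 1)).det ≠ 0 :=
  Groth.Agent.H27.WDiv.det_wrMat_ne_zero hK φ hφ (AlgHom.id k K) s H hH _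
    (orders_classical hK φ hφ s H hH)

theorem wrMat_apply {n : ℕ} (φ : Fin (n + 1) → K) {t : K} (H : K →ₐ[k] PowerSeries K)
    (hH : LocRes.IsHasseFamily t H) (i c : Fin (n + 1)) :
    wrMat (AlgHom.id k K) H φ (fun l : Fin n => (l : ℕ) + 1) i c =
      LocRes.hasseD H (c : ℕ) (φ i) := by
  unfold wrMat
  rw [Matrix.of_apply]
  refine Fin.cases ?_ (fun l => ?_) c
  · show (AlgHom.id k K) (φ i) = LocRes.hasseD H 0 (φ i)
    rw [hasseD_zero hH]
    rfl
  · rfl

/-- Local argument: at a place with local parameter `t` (and Hasse family with respect to `t`), if a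
nonzero combination of a regular tuple vanishes to order at least `n + 1`, the classical Wronskian
vanishes. -/
theorem wronskian_val_lt_one (hK : IsFunctionField k K) (Q : Place k K) {t : K}
    (ht : Q.1 t = exp (-1 : ℤ)) {H : K →ₐ[k] PowerSeries K} (hH : LocRes.IsHasseFamily t H)
    {n : ℕ} (φ : Fin (n + 1) → K) (hint : ∀ i, Q.1 (φ i) ≤ 1) (c : Fin (n + 1) → k) (hc : c ≠ 0)
    (hf : Q.1 (∑ i, c i • φ i) ≤ exp (-((n + 1 : ℕ) : ℤ))) :
    Q.1 (wrMat (AlgHom.id k K) H φ (fun l : Fin n => (l : ℕ) + 1)).det < 1 := by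
  classical
  set M := wrMat (AlgHom.id k K) H φ (fun l : Fin n => (l : ℕ) + 1) with hMdef
  have hM : ∀ l c', Q.1 (M l c' / t ^ ((fun _ : Fin (n + 1) => (0 : ℤ)) l -
      (fun _ : Fin (n + 1) => (0 : ℤ)) c')) ≤ 1 := by
    intro l c'
    simp only [sub_self, zpow_zero, div_one]
    rw [hMdef, wrMat_apply φ H hH]
    exact hasseD_int hK Q ht hH (hint l) _
  obtain ⟨h1, h2⟩ := val_det_of_leading hK Q ht M (fun _ => 0) (fun _ => 0) hM
  simp only [Finset.sum_const_zero, sub_self, neg_zero, exp_zero] at h1 h2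
  have hdet : (Matrix.of fun l c' => cst Q (M l c' / t ^ ((0 : ℤ) - 0))).det = 0 := by
    rw [← Matrix.exists_vecMul_eq_zero_iff]
    refine ⟨c, hc, ?_⟩
    funext c'
    simp only [Matrix.vecMul, dotProduct, Matrix.of_apply, sub_self, zpow_zero, div_one,
      Pi.zero_apply]
    have h3 : ∀ l, cst Q (M l c') = dig Q t (c' : ℕ) (φ l) := by
      intro l
      rw [hMdef, wrMat_apply φ H hH, cst_hasseD hK Q ht hH (hint l)]
    simp_rw [h3]
    rw [← dig_lincomb hK Q ht φ hint c]
    exact dig_eq_zero_of_val_le ht hf _ c'.2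
  refine lt_of_le_of_ne h1 (fun h => ?_)
  exact (h2.1 h) hdet

/-- Finiteness of hyperosculating places. -/
theorem finite_hyperosc [CharZero k] (hK : IsFunctionField k K) {n : ℕ} (φ : Fin (n + 1) → K)
    (hφ : LinearIndependent k φ) :
    {Q : Place k K | (∀ i, Q.1 (φ i) ≤ 1) ∧ ∃ c : Fin (n + 1) → k, c ≠ 0 ∧
      Q.1 (∑ i, c i • φ i) ≤ exp (-((n + 1 : ℕ) : ℤ))}.Finite := by
  classical
  haveI : CharZero K := charZero_of_injective_algebraMap (algebraMap k K).injective
  obtain ⟨P0⟩ := exists_place hK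
  obtain ⟨t0, ht0⟩ := P0.2.2 (exp (-1 : ℤ))
  obtain ⟨H, hH⟩ := Groth.Agent.H81.CZH.exists_hasse_of_D_ne_zero
    (Groth.Agent.H27.Sep.D_ne_zero_of_val hK P0 ht0)
  have hW := wronskian_ne_zero hK φ hφ t0 H hH
  refine ((Groth.Agent.H27.Generic.finite_not_param hK hH).union
    (zeros_finite hK _ hW)).subset ?_
  rintro Q ⟨hint, c, hc, hf⟩
  by_cases hgood : Q.1 t0 ≤ 1 ∧ Q.1 (t0 - algebraMap k K (cst Q t0)) = exp (-1 : ℤ)
  · right
    have hH' : LocRes.IsHasseFamily (t0 - algebraMap k K (cst Q t0)) H := by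
      refine ⟨?_, hH.2⟩
      rw [map_sub, hH.1, AlgHom.commutes, PowerSeries.algebraMap_apply, map_sub]
      ring
    have := wronskian_val_lt_one hK Q hgood.2 hH' φ hint c hc hf
    exact this
  · left
    exact hgood

end Groth.Agent.H81.HO
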