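import Mathlib

/-!
# Integrally closed localisation of a subring of invariants (helper81)

`isIntegrallyClosed_away`: `B ↪ A` domains, `A` integrally closed, `σ` an injective endomorphism of
`A` fixing `B`, and every `σ`-invariant `t ∈ A` satisfies `s ^ N t ∈ B` for some `N`. Then `B[1/s]`
is integrally closed.
-/

set_option autoImplicit false

namespace Groth.Agent.H81.IclAway

theorem isIntegrallyClosed_away {B A : Type*} [CommRing B] [IsDomain B] [CommRing A] [IsDomain A]
    [IsIntegrallyClosed A] (j : B →+* A) (hj : Function.Injective j) (s : B) (hs : s ≠ 0)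
    (σ : A →+* A) (hσinj : Function.Injective σ) (hσj : ∀ b, σ (j b) = j b)
    (H : ∀ t : A, σ t = t → ∃ (N : ℕ) (b : B), j b = j s ^ N * t) :
    IsIntegrallyClosed (Localization.Away s) := by
  classical
  have hle : Submonoid.powers s ≤ nonZeroDivisors B :=
    powers_le_nonZeroDivisors_of_noZeroDivisors hs
  haveI : IsDomain (Localization.Away s) := IsLocalization.isDomain_localization hle
  have hBS : Function.Injective (algebraMap B (Localization.Away s)) :=
    IsLocalization.injective _ hle
  have hSK : Function.Injective (algebraMap (Localization.Away s)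
      (FractionRing (Localization.Away s))) := IsFractionRing.injective _ _
  have hAK : Function.Injective (algebraMap A (FractionRing A)) := IsFractionRing.injective _ _
  -- the map S → Frac A
  have hunit : IsUnit (((algebraMap A (FractionRing A)).comp j) s) := by
    apply IsUnit.mk0
    intro h
    have h1 : j s = 0 := hAK (h.trans (map_zero _).symm)
    exact hs (hj (h1.trans (map_zero j).symm))
  let jS : Localization.Away s →+* FractionRing A := IsLocalization.Away.lift s hunit
  have hjS_alg : ∀ b : B, jS (algebraMap B (Localization.Away s) b) =
      algebraMap A (FractionRing A) (j b) := fun b => IsLocalization.Away.lift_eq s hunit b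
  have hjS : Function.Injective jS := by
    rw [injective_iff_map_eq_zero]
    intro z hz
    obtain ⟨⟨b, m⟩, h⟩ := IsLocalization.surj (Submonoid.powers s) z
    simp only at h
    have h1 := congrArg jS h
    rw [map_mul, hz, zero_mul, hjS_alg] at h1
    have hb : b = 0 := hj ((hAK (h1.symm.trans (map_zero _).symm)).trans (map_zero j).symm)
    rw [hb, map_zero] at h
    have hmu : IsUnit (algebraMap B (Localization.Away s) (m : B)) :=
      IsLocalization.map_units _ m
    exact (hmu.mul_left_eq_zero).1 h
  let jK : FractionRing (Localization.Away s) →+* FractionRing A := IsFractionRing.lift hjS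
  have hjK_alg : ∀ z : Localization.Away s,
      jK (algebraMap _ (FractionRing (Localization.Away s)) z) = jS z :=
    fun z => IsFractionRing.lift_algebraMap hjS z
  have hjK : Function.Injective jK := jK.injective
  -- the extension of σ
  have hσinj' : Function.Injective ((algebraMap A (FractionRing A)).comp σ) := hAK.comp hσinj
  let σK : FractionRing A →+* FractionRing A := IsFractionRing.lift hσinj'
  have hσK_alg : ∀ t : A, σK (algebraMap A (FractionRing A) t) =
      algebraMap A (FractionRing A) (σ t) := fun t => IsFractionRing.lift_algebraMap hσinj' t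
  have hσK : ∀ y : FractionRing (Localization.Away s), σK (jK y) = jK y := by
    have hh : σK.comp jK = jK := by
      apply IsLocalization.ringHom_ext (nonZeroDivisors (Localization.Away s))
      apply IsLocalization.ringHom_ext (Submonoid.powers s)
      ext b
      simp only [RingHom.comp_apply]
      rw [hjK_alg, hjS_alg, hσK_alg, hσj]
    intro y
    exact DFunLike.congr_fun hh y
  -- algebra structure B → Frac S
  have halgBK : ∀ b : B, algebraMap B (FractionRing (Localization.Away s)) b =
      algebraMap (Localization.Away s) (FractionRing (Localization.Away s))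
        (algebraMap B (Localization.Away s) b) :=
    fun b => IsScalarTower.algebraMap_apply B (Localization.Away s) _ b
  have hjK_B : ∀ b : B, jK (algebraMap B (FractionRing (Localization.Away s)) b) =
      algebraMap A (FractionRing A) (j b) := by
    intro b
    rw [halgBK, hjK_alg, hjS_alg]
  rw [isIntegrallyClosed_iff (FractionRing (Localization.Away s))]
  intro x hx
  obtain ⟨⟨_, N, rfl⟩, hm⟩ := IsIntegral.exists_multiple_integral_of_isLocalization
    (Submonoid.powers s) (Rₘ := Localization.Away s) x hx
  rw [Submonoid.smul_def, Algebra.smul_def] at hm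
  simp only at hm
  set y : FractionRing (Localization.Away s) :=
    algebraMap B (FractionRing (Localization.Away s)) (s ^ N) * x with hy
  -- integrality over A
  have hint : IsIntegral A (jK y) := by
    obtain ⟨P, hP, hroot⟩ := hm
    refine ⟨P.map j, hP.map j, ?_⟩
    rw [Polynomial.eval₂_map]
    have h1 := congrArg jK hroot
    rw [Polynomial.hom_eval₂, map_zero] at h1
    have h2 : jK.comp (algebraMap B (FractionRing (Localization.Away s))) =
        (algebraMap A (FractionRing A)).comp j := by
      ext b
      exact hjK_B b
    rw [h2] at h1
    exact h1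
  obtain ⟨t, ht⟩ := (isIntegrallyClosed_iff (FractionRing A)).1 inferInstance hint
  have hσt : σ t = t := by
    apply hAK
    rw [← hσK_alg, ht, hσK]
  obtain ⟨N', b, hb⟩ := H t hσt
  have hkey : algebraMap B (FractionRing (Localization.Away s)) b =
      algebraMap B (FractionRing (Localization.Away s)) (s ^ N') * y := by
    apply hjK
    rw [map_mul, hjK_B, hjK_B, hb, map_mul, map_pow, map_pow, ht, map_pow]
  -- conclude
  have hne : algebraMap B (FractionRing (Localization.Away s)) (s ^ (N' + N)) ≠ 0 := by
    intro h
    rw [halgBK] at h
    have h1 := hBS (hSK (h.trans (map_zero _).symm) |>.trans (map_zero _).symm)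
    exact pow_ne_zero _ hs h1
  refine ⟨IsLocalization.mk' (Localization.Away s) b
    (⟨s ^ (N' + N), N' + N, rfl⟩ : Submonoid.powers s), ?_⟩
  apply mul_right_cancel₀ hne
  have h3 := IsLocalization.mk'_spec (Localization.Away s) b
    (⟨s ^ (N' + N), N' + N, rfl⟩ : Submonoid.powers s)
  simp only at h3
  rw [halgBK (s ^ (N' + N)), ← map_mul, h3, ← halgBK, hkey, hy, ← halgBK, pow_add, map_mul]
  ring

end Groth.Agent.H81.IclAway
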