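import Groth.Agent.H36.IdealMulAffine
import Groth.Agent.H8.QCohStalk
import Mathlib.RingTheory.Filtration

/-!
# Krull intersection for the submodule sheaves `I^n · F` (helper81)

* `exists_open_of_forall_mem`: on a locally Noetherian scheme, a global section of a coherent `F`
  lying in `Γ(X, I^n F)` for every `n` vanishes on an open neighbourhood of `V(I)`.
* `exists_of_res_eq_zero`: conversely a global section of a quasi-coherent `F` vanishing on an open
  neighbourhood of `V(I)` lies in `Γ(X, I^n F)` for all `n`.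
-/

set_option autoImplicit false
set_option linter.style.haveILetI false
universe u
open CategoryTheory CategoryTheory.Limits AlgebraicGeometry TopologicalSpace Opposite

namespace Groth.Agent.H81.IdealMulKrull

variable {X : Scheme.{u}}

theorem res_res (G : X.Modules) {A B C : X.Opens} (h1 : B ≤ A) (h2 : C ≤ B) (m : Γ(G, A)) :
    G.presheaf.map (homOfLE h2).op (G.presheaf.map (homOfLE h1).op m) =
      G.presheaf.map (homOfLE (h2.trans h1)).op m := by
  rw [← ConcreteCategory.comp_apply, ← Functor.map_comp]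
  rfl

/-- A global section vanishing on every affine open is zero. -/
theorem eq_zero_of_forall_affine (G : X.Modules) (z : Γ(G, ⊤))
    (h : ∀ W : X.affineOpens, G.presheaf.map (homOfLE (le_top : W.1 ≤ ⊤)).op z = 0) : z = 0 := by
  have hcover : (⊤ : X.Opens) ≤ ⨆ W : X.affineOpens, W.1 := by
    intro x _
    obtain ⟨W, hW, hxW, -⟩ :=
      exists_isAffineOpen_mem_and_subset (x := x) (U := (⊤ : X.Opens)) trivial
    exact Opens.mem_iSup.mpr ⟨⟨W, hW⟩, hxW⟩
  apply TopCat.Sheaf.eq_of_locally_eq' (⟨G.presheaf, G.isSheaf⟩ : TopCat.Sheaf Ab.{u} X)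
    (fun W : X.affineOpens => W.1) ⊤ (fun W => homOfLE le_top) hcover z 0
  intro W
  rw [map_zero]
  exact h W

/-- For `r ∈ I(W)`, `1 - r` is invertible at the points of `V(I) ∩ W`. -/
theorem mem_basicOpen_one_sub (I : X.IdealSheafData) (W : X.affineOpens) (r : Γ(X, W.1))
    (hr : r ∈ I.ideal W) (x : X) (hxW : x ∈ W.1) (hxZ : x ∈ I.supportSet) :
    x ∈ X.basicOpen (1 - r) := by
  have h1 : x ∈ X.zeroLocus (U := W.1) (I.ideal W) :=
    (Scheme.IdealSheafData.mem_supportSet_iff_of_mem hxW).mp hxZ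
  rw [Scheme.mem_zeroLocus_iff] at h1
  have h2 : x ∉ X.basicOpen r := h1 r hr
  rw [Scheme.mem_basicOpen _ _ _ hxW] at h2 ⊢
  have h3 : IsUnit (X.presheaf.germ W.1 x hxW r + X.presheaf.germ W.1 x hxW (1 - r)) := by
    rw [← map_add, add_sub_cancel, map_one]
    exact isUnit_one
  exact (IsLocalRing.isUnit_or_isUnit_of_isUnit_add h3).resolve_left h2

/-- A section killed by `a` vanishes on `D(a)`. -/
theorem res_basicOpen_eq_zero_of_smul_eq_zero (F : X.Modules) {U : X.Opens} (a : Γ(X, U))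
    (m : Γ(F, U)) (h : a • m = 0) :
    F.presheaf.map (homOfLE (X.basicOpen_le a)).op m = 0 := by
  have hu : IsUnit (X.presheaf.map (homOfLE (X.basicOpen_le a)).op a) :=
    X.toRingedSpace.isUnit_res_basicOpen a
  have h0 : X.presheaf.map (homOfLE (X.basicOpen_le a)).op a •
      F.presheaf.map (homOfLE (X.basicOpen_le a)).op m = 0 := by
    rw [← Scheme.Modules.map_smul, h, map_zero]
  exact (hu.smul_eq_zero).mp h0

/-- Krull intersection on an affine open. -/
theorem exists_smul_eq_self [IsLocallyNoetherian X] (I : X.IdealSheafData) (F : X.Modules)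
    (hF : Coh.IsCoh F) (W : X.affineOpens) (m : Γ(F, W.1))
    (h : ∀ n : ℕ, m ∈ ((I.ideal W) ^ n) • (⊤ : Submodule Γ(X, W.1) Γ(F, W.1))) :
    ∃ r ∈ I.ideal W, r • m = m := by
  haveI : IsNoetherianRing Γ(X, W.1) := IsLocallyNoetherian.component_noetherian W
  haveI : Module.Finite Γ(X, W.1) Γ(F, W.1) := Groth.Agent.H8.finite_sections_of_isCoh F hF W.2
  have h1 : m ∈ (⨅ i : ℕ, (I.ideal W) ^ i • ⊤ : Submodule Γ(X, W.1) Γ(F, W.1)) := by
    rw [Submodule.mem_iInf]
    exact h
  obtain ⟨r, hr⟩ := (Ideal.mem_iInf_smul_pow_eq_bot_iff (I.ideal W) m).mp h1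
  exact ⟨r.1, r.2, hr⟩

/-- On a locally Noetherian scheme, a global section of a coherent module lying in `Γ(X, I^n F)`
for all `n` vanishes on an open neighbourhood of `V(I)`. -/
theorem exists_open_of_forall_mem [IsLocallyNoetherian X] (I : X.IdealSheafData) (F : X.Modules)
    (hF : Coh.IsCoh F) (s : Γ(F, ⊤))
    (h : ∀ n : ℕ, ∃ t : Γ((Dual3.idealMul (I ^ n)).obj F, ⊤),
      Scheme.Modules.Hom.app (Dual3.idealMulι (I ^ n) F) ⊤ t = s) :
    ∃ V : X.Opens, I.supportSet ⊆ (V : Set X) ∧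
      F.presheaf.map (homOfLE (le_top : V ≤ ⊤)).op s = 0 := by
  haveI : F.IsQuasicoherent := hF.1
  have hpow : ∀ (k : ℕ) (W : X.affineOpens), (I ^ k).ideal W = (I.ideal W) ^ k := fun _ _ => rfl
  have hloc : ∀ W : X.affineOpens, ∃ r ∈ I.ideal W,
      r • F.presheaf.map (homOfLE (le_top : W.1 ≤ ⊤)).op s =
        F.presheaf.map (homOfLE (le_top : W.1 ≤ ⊤)).op s := by
    intro W
    apply exists_smul_eq_self I F hF W
    intro n
    obtain ⟨t, ht⟩ := h n
    have h1 := Groth.Agent.H36.IdealMul.idealMulι_app_mem (I ^ n) F W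
      (((Dual3.idealMul (I ^ n)).obj F).presheaf.map (homOfLE (le_top : W.1 ≤ ⊤)).op t)
    rw [Groth.Agent.H22.QCohLimits.app_res, ht, hpow] at h1
    exact h1
  choose r hrI hr using hloc
  let Vf : X.affineOpens → X.Opens := fun W => X.basicOpen (1 - r W)
  refine ⟨⨆ W, Vf W, ?_, ?_⟩
  · intro x hx
    obtain ⟨W, hW, hxW, -⟩ :=
      exists_isAffineOpen_mem_and_subset (x := x) (U := (⊤ : X.Opens)) trivial
    exact Opens.mem_iSup.mpr
      ⟨⟨W, hW⟩, mem_basicOpen_one_sub I ⟨W, hW⟩ (r ⟨W, hW⟩) (hrI _) x hxW hx⟩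
  · apply TopCat.Sheaf.eq_of_locally_eq' (⟨F.presheaf, F.isSheaf⟩ : TopCat.Sheaf Ab.{u} X)
      Vf (⨆ W, Vf W) (fun W => homOfLE (le_iSup Vf W)) le_rfl _ 0
    intro W
    rw [map_zero]
    have h1 : (1 - r W) • F.presheaf.map (homOfLE (le_top : W.1 ≤ ⊤)).op s = 0 := by
      rw [sub_smul, one_smul, hr W, sub_self]
    have h2 := res_basicOpen_eq_zero_of_smul_eq_zero F (1 - r W) _ h1
    rw [res_res] at h2
    have h3 := res_res F (le_top : (⨆ W, Vf W) ≤ ⊤) (le_iSup Vf W) s
    exact h3.trans h2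

/-- A section over an affine open `W` of a quasi-coherent module which vanishes on `V ⊓ W`, `V` an
open neighbourhood of `V(I)`, lies in `I(W)^n Γ(F, W)` for all `n`. -/
theorem mem_pow_smul_top_of_res_eq_zero (I : X.IdealSheafData) (F : X.Modules) [F.IsQuasicoherent]
    (W : X.affineOpens) (m : Γ(F, W.1)) (V : X.Opens) (hV : I.supportSet ⊆ (V : Set X))
    (hm : F.presheaf.map (homOfLE (inf_le_right : V ⊓ W.1 ≤ W.1)).op m = 0) (n : ℕ) :
    m ∈ ((I.ideal W) ^ n) • (⊤ : Submodule Γ(X, W.1) Γ(F, W.1)) := by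
  let Ann : Ideal Γ(X, W.1) := LinearMap.ker (LinearMap.toSpanSingleton Γ(X, W.1) Γ(F, W.1) m)
  have hAnn : ∀ a : Γ(X, W.1), a ∈ Ann ↔ a • m = 0 := by
    intro a
    rw [LinearMap.mem_ker, LinearMap.toSpanSingleton_apply]
  let S : Set Γ(X, W.1) := {g | g ∈ I.ideal W ∨ g • m = 0}
  have hcov : ⨆ f : S, X.basicOpen (f : Γ(X, W.1)) = W.1 := by
    apply le_antisymm
    · exact iSup_le fun f => X.basicOpen_le _
    · intro x hxW
      by_cases hxZ : x ∈ I.supportSet
      · have hxV : x ∈ V := hV hxZ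
        have hgerm : F.presheaf.germ W.1 x hxW m = 0 := by
          have h1 := TopCat.Presheaf.germ_res_apply F.presheaf
            (homOfLE (inf_le_right : V ⊓ W.1 ≤ W.1)) x ⟨hxV, hxW⟩ m
          rw [← h1, hm, map_zero]
        obtain ⟨a, hxa, ha⟩ :=
          Groth.Agent.H8.exists_smul_eq_zero_of_germ_eq_zero F W.2 x hxW m hgerm
        exact Opens.mem_iSup.mpr ⟨⟨a, Or.inr ha⟩, hxa⟩
      · have h1 : ¬ x ∈ X.zeroLocus (U := W.1) (I.ideal W) := fun h =>
          hxZ ((Scheme.IdealSheafData.mem_supportSet_iff_of_mem hxW).mpr h)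
        rw [Scheme.mem_zeroLocus_iff] at h1
        push_neg at h1
        obtain ⟨g, hg, hxg⟩ := h1
        exact Opens.mem_iSup.mpr ⟨⟨g, Or.inl hg⟩, hxg⟩
  have hspan : Ideal.span S = ⊤ := (IsAffineOpen.iSup_basicOpen_eq_self_iff W.2 (s := S)).mp hcov
  have hle : Ideal.span S ≤ I.ideal W ⊔ Ann := by
    rw [Ideal.span_le]
    rintro g (hg | hg)
    · exact Submodule.mem_sup_left hg
    · exact Submodule.mem_sup_right ((hAnn g).mpr hg)
  have h1 : (1 : Γ(X, W.1)) ∈ I.ideal W ⊔ Ann := hle (hspan ▸ Submodule.mem_top)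
  obtain ⟨i, hi, α, hα, hsum⟩ := Submodule.mem_sup.mp h1
  have hα' : α • m = 0 := (hAnn α).mp hα
  have him : i • m = m := by
    have h2 : (i + α) • m = m := by rw [hsum, one_smul]
    rwa [add_smul, hα', add_zero] at h2
  have hpow : i ^ n • m = m := by
    induction n with
    | zero => rw [pow_zero, one_smul]
    | succ k ih => rw [pow_succ, mul_smul, him, ih]
  rw [← hpow]
  exact Submodule.smul_mem_smul (Ideal.pow_mem_pow hi n) Submodule.mem_top

/-- A global section of a quasi-coherent `F` vanishing on an open neighbourhood of `V(I)` lies in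
`Γ(X, I^n F)` for all `n`. -/
theorem exists_of_res_eq_zero (I : X.IdealSheafData) (F : X.Modules) [F.IsQuasicoherent]
    (s : Γ(F, ⊤)) (V : X.Opens) (hV : I.supportSet ⊆ (V : Set X))
    (hs : F.presheaf.map (homOfLE (le_top : V ≤ ⊤)).op s = 0) (n : ℕ) :
    ∃ t : Γ((Dual3.idealMul (I ^ n)).obj F, ⊤),
      Scheme.Modules.Hom.app (Dual3.idealMulι (I ^ n) F) ⊤ t = s := by
  have hpow : ∀ (k : ℕ) (W : X.affineOpens), (I ^ k).ideal W = (I.ideal W) ^ k := fun _ _ => rfl
  apply Groth.Agent.H36.IdealMul.exists_idealMulι_app_eq (I ^ n) F ⊤ s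
  apply eq_zero_of_forall_affine
  intro W
  rw [← Groth.Agent.H22.QCohLimits.app_res, Groth.Agent.H36.IdealMul.unit_app_eq_zero_iff, hpow]
  apply mem_pow_smul_top_of_res_eq_zero I F W _ V hV
  show F.presheaf.map (homOfLE (inf_le_right : V ⊓ W.1 ≤ W.1)).op
    (F.presheaf.map (homOfLE (le_top : W.1 ≤ ⊤)).op s) = 0
  rw [res_res]
  have h3 := res_res F (le_top : V ≤ ⊤) (inf_le_left : V ⊓ W.1 ≤ V) s
  rw [hs, map_zero] at h3
  exact h3.symm

end Groth.Agent.H81.IdealMulKrull
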