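import Groth.Agent.H55.FFSing2
import Groth.Agent.H55.FFProj
import Groth.Agent.H55.FFCons2
import Mathlib

/-!
# Intersection multiplicity at a point of a plane curve

Dimension counts for the semilocal ring of a finite set of places, and the comparison of
`dim O/gO` with `dim Õ/gÕ` when `Õ/O` is finite-dimensional.
-/

set_option autoImplicit false

namespace Groth.Agent.H81.IntMult

open FunFld WithZero Groth.Agent.H55

section Count

variable {k K : Type*} [Field k] [Field K] [Algebra k K]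

/-- `dim I(n)/I(m)` for the intersections of balls at a finite set of places. -/
theorem relfr_interBall (hK : FunFld.IsFunctionField k K) (S : Finset (Place k K))
    {n m : Place k K → ℤ} (h : ∀ Q ∈ S, n Q ≤ m Q) :
    RelFin (interBall S n) (interBall S m) ∧
      (relfr (interBall S n) (interBall S m) : ℤ) = ∑ Q ∈ S, (m Q - n Q) * (Q.deg : ℤ) := by
  classical
  let f : interBall S m →ₗ[k] (∀ Q : S, BQ Q.1 (n Q.1) (m Q.1)) :=
    LinearMap.pi (fun Q : S => (BQ.mk Q.1 (n Q.1) (m Q.1)) ∘ₗ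
      (Submodule.inclusion (interBall_le S m Q.2)))
  have hfs : Function.Surjective f := by
    intro w
    have hb : ∀ Q : S, ∃ b : ball Q.1 (m Q.1), BQ.mk Q.1 (n Q.1) (m Q.1) b = w Q :=
      fun Q => BQ.mk_surjective _ _ _ (w Q)
    choose b hb using hb
    obtain ⟨z, hz⟩ := weak_approx_le S (fun Q => if h : Q ∈ S then (b ⟨Q, h⟩ : K) else 0) n
    have hzm : z ∈ interBall S m := by
      rw [mem_interBall]
      intro Q hQ
      have h1 := hz Q hQ
      rw [dif_pos hQ] at h1
      have h2 : z = (z - (b ⟨Q, hQ⟩ : K)) + b ⟨Q, hQ⟩ := by ring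
      rw [h2]
      exact (Q.1.map_add _ _).trans
        (max_le (h1.trans (exp_le_exp.mpr (h Q hQ))) (b ⟨Q, hQ⟩).2)
    refine ⟨⟨z, hzm⟩, ?_⟩
    funext Q
    rw [← hb Q]
    show BQ.mk Q.1 (n Q.1) (m Q.1) ⟨z, _⟩ = BQ.mk Q.1 (n Q.1) (m Q.1) (b Q)
    rw [BQ.mk_eq_mk_iff]
    have h1 := hz Q.1 Q.2
    rw [dif_pos Q.2] at h1
    exact h1
  have hker : ∀ z : interBall S m, f z = 0 ↔ (z : K) ∈ interBall S n := by
    intro z
    rw [mem_interBall]
    constructor
    · intro h0 Q hQ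
      have := congrFun h0 ⟨Q, hQ⟩
      exact (BQ.mk_eq_zero_iff Q _ _ _).mp this
    · intro h0
      funext Q
      exact (BQ.mk_eq_zero_iff Q.1 _ _ _).mpr (h0 Q.1 Q.2)
  haveI : ∀ Q : S, Module.Finite k (BQ Q.1 (n Q.1) (m Q.1)) :=
    fun Q => (BQ.finite hK Q.1 (h Q.1 Q.2)).1
  refine ⟨relFin_of_surj _ _ f hfs hker, ?_⟩
  rw [relfr_eq_of_surj _ _ f hfs hker, Module.finrank_pi_fintype]
  push_cast
  rw [← Finset.sum_coe_sort S (fun Q => (m Q - n Q) * (Q.deg : ℤ))]
  exact Finset.sum_congr rfl (fun Q _ => (BQ.finite hK Q.1 (h Q.1 Q.2)).2)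

end Count

section Index

variable {k K : Type*} [Field k] [Field K] [Algebra k K]

/-- `g • A`. -/
noncomputable def gmul (g : K) (A : Submodule k K) : Submodule k K := A.map (LinearMap.mul k K g)

theorem mem_gmul {g : K} {A : Submodule k K} {z : K} : z ∈ gmul g A ↔ ∃ a ∈ A, g * a = z := by
  unfold gmul
  rw [Submodule.mem_map]
  rfl

theorem gmul_mono {g : K} {A B : Submodule k K} (h : A ≤ B) : gmul g A ≤ gmul g B :=
  Submodule.map_mono h

theorem relfr_gmul {g : K} (hg : g ≠ 0) {A B : Submodule k K} (hAB : A ≤ B) (h : RelFin A B) :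
    RelFin (gmul g A) (gmul g B) ∧ relfr (gmul g A) (gmul g B) = relfr A B := by
  have hinj : Function.Injective (LinearMap.mul k K g) := fun a b hab => by
    have : g * a = g * b := hab
    exact mul_left_cancel₀ hg this
  let e : B ≃ₗ[k] gmul g B := Submodule.equivMapOfInjective _ hinj B
  have he : ∀ b : B, ((e b : gmul g B) : K) = g * (b : K) := fun b => rfl
  let f : gmul g B →ₗ[k] RelQ A B := (A.comap B.subtype).mkQ ∘ₗ e.symm.toLinearMap
  have hfs : Function.Surjective f := by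
    intro w
    obtain ⟨b, rfl⟩ := Submodule.mkQ_surjective _ w
    exact ⟨e b, by simp [f]⟩
  have hker : ∀ y : gmul g B, f y = 0 ↔ (y : K) ∈ gmul g A := by
    intro y
    obtain ⟨b, rfl⟩ := e.surjective y
    have h1 : f (e b) = (A.comap B.subtype).mkQ b := by simp [f]
    rw [h1, Submodule.mkQ_apply, Submodule.Quotient.mk_eq_zero, Submodule.mem_comap, he,
      mem_gmul]
    constructor
    · intro hb
      exact ⟨b, hb, rfl⟩
    · rintro ⟨a, ha, hab⟩
      have : a = (b : K) := mul_left_cancel₀ hg hab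
      show (b : K) ∈ A
      rw [← this]
      exact ha
  haveI : Module.Finite k (RelQ A B) := h
  exact ⟨relFin_of_surj _ _ f hfs hker, relfr_eq_of_surj _ _ f hfs hker⟩

/-- If `B/A` and `B/gB` are finite-dimensional then `dim A/gA = dim B/gB`. -/
theorem relfr_gmul_eq {g : K} (hg : g ≠ 0) {A B : Submodule k K} (hAB : A ≤ B)
    (hgA : gmul g A ≤ A) (hgB : gmul g B ≤ B) (h1 : RelFin A B) (h2 : RelFin (gmul g B) B) :
    RelFin (gmul g A) A ∧ relfr (gmul g A) A = relfr (gmul g B) B := by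
  obtain ⟨h3, h4⟩ := relfr_gmul hg hAB h1
  obtain ⟨h5, h6⟩ := relfr_add (gmul_mono hAB) hgB h3 h2
  obtain ⟨h7, h8, h9⟩ := relfr_add' hgA hAB h5
  refine ⟨h7, ?_⟩
  omega

end Index

section Local

variable {k K : Type*} [Field k] [Field K] [Algebra k K] {ι : Type*} [Fintype ι]

/-- `Q` is finite for `r` and lies over the same point as `P`. -/
def Same (r : ι → K) (P Q : Place k K) : Prop :=
  IsFin r Q ∧ ∀ i, ∃ c : k, P.1 (r i - algebraMap k K c) < 1 ∧ Q.1 (r i - algebraMap k K c) < 1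

theorem val_of_same {r : ι → K} {P Q : Place k K} (h : Same r P Q) {z : K}
    (hz : z ∈ locSub (Acoord k r) P) : Q.1 z ≤ 1 ∧ (Q.1 z < 1 ↔ P.1 z < 1) := by
  obtain ⟨u, hu, w, hw, hPw, hzw⟩ := hz
  choose c hcP hcQ using h.2
  obtain ⟨du, hduP, hduQ⟩ := adjoin_const_two P Q r c hcP hcQ hu
  obtain ⟨dw, hdwP, hdwQ⟩ := adjoin_const_two P Q r c hcP hcQ hw
  have hdw : dw ≠ 0 := by
    intro h0
    have := (val_lt_one_iff_const_eq_zero P hdwP).mpr h0
    rw [hPw] at this
    exact lt_irrefl _ this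
  have hQw : Q.1 w = 1 := val_eq_one_of_sub_const Q hdwQ hdw
  have hQz : Q.1 z = Q.1 u := by rw [← hzw, map_mul, hQw, mul_one]
  have hPz : P.1 z = P.1 u := by rw [← hzw, map_mul, hPw, mul_one]
  rw [hQz, hPz]
  refine ⟨val_le_one_of_sub_const Q hduQ.le, ?_⟩
  rw [val_lt_one_iff_const_eq_zero Q hduQ, val_lt_one_iff_const_eq_zero P hduP]

/-- The conductor at a point: functions vanishing to high order at all places over the point of
`P` lie in the local ring. -/
theorem conductor_local [IsAlgClosed k] (hK : FunFld.IsFunctionField k K) (r : ι → K) (j₀ : ι)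
    (hj₀ : r j₀ = 1) (hgen : IntermediateField.adjoin k (Set.range r) = ⊤) (P : Place k K)
    (hP : IsFin r P) :
    ∃ N : ℕ, ∀ z : K, (∀ Q : Place k K, Same r P Q → Q.1 z ≤ exp (-(N : ℤ))) →
      z ∈ locSub (Acoord k r) P := by
  classical
  obtain ⟨s₀, hs₀A, hs₀0, hs₀B⟩ := exists_conductor hK r j₀ hj₀ hgen
  have hNbound : ∀ Q : Place k K,
      Q.ord s₀ ≤ ((∑ Q ∈ (zeros_finite hK s₀ hs₀0).toFinset, (Q.ord s₀).toNat : ℕ) : ℤ) := by
    intro Q
    by_cases hQ : Q ∈ (zeros_finite hK s₀ hs₀0).toFinset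
    · have h1 : (Q.ord s₀).toNat ≤ ∑ Q ∈ (zeros_finite hK s₀ hs₀0).toFinset, (Q.ord s₀).toNat :=
        Finset.single_le_sum (f := fun Q : Place k K => (Q.ord s₀).toNat)
          (fun _ _ => Nat.zero_le _) hQ
      have h2 := Int.self_le_toNat (Q.ord s₀)
      exact h2.trans (by exact_mod_cast h1)
    · rw [Set.Finite.mem_toFinset, Set.mem_setOf_eq, pl_val_lt_one_iff Q hs₀0, not_lt] at hQ
      exact hQ.trans (by positivity)
  refine ⟨∑ Q ∈ (zeros_finite hK s₀ hs₀0).toFinset, (Q.ord s₀).toNat, fun z hz => ?_⟩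
  by_cases hz0 : z = 0
  · subst hz0; exact Subalgebra.zero_mem _
  obtain ⟨y, hy⟩ : ∃ y : K, y = z / s₀ := ⟨_, rfl⟩
  have hy0 : y ≠ 0 := by rw [hy]; exact div_ne_zero hz0 hs₀0
  have hsep : ∀ R : Place k K, IsFin r R → 1 < R.1 y →
      ∃ w ∈ Acoord k r, P.1 w = 1 ∧ R.1 w < 1 := by
    intro R hRfin hRy
    have hnot : ¬ Same r P R := by
      intro hS
      have h1 := hz R hS
      have h2 : R.1 y ≤ 1 := by
        rw [hy, map_div₀, pl_val_eq_exp_neg_ord R hs₀0, div_le_one₀ WithZero.exp_pos]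
        refine h1.trans (WithZero.exp_le_exp.mpr ?_)
        have := hNbound R
        omega
      exact absurd hRy (not_lt.mpr h2)
    choose cP hcP using fun i => exists_const_sub_lt_one hK P (hP i)
    choose cR hcR using fun i => exists_const_sub_lt_one hK R (hRfin i)
    have hex : ∃ i, cP i ≠ cR i := by
      by_contra hcon
      push_neg at hcon
      apply hnot
      refine ⟨hRfin, fun i => ⟨cP i, hcP i, ?_⟩⟩
      rw [hcon i]
      exact hcR i
    obtain ⟨i, hi⟩ := hex
    refine ⟨r i - algebraMap k K (cR i), ?_, ?_, hcR i⟩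
    · exact Subalgebra.sub_mem _
        (Algebra.subset_adjoin (Set.mem_range_self (f := r) i))
        (Subalgebra.algebraMap_mem _ _)
    · have h1 : P.1 ((r i - algebraMap k K (cR i)) - algebraMap k K (cP i - cR i)) < 1 := by
        have e' : (r i - algebraMap k K (cR i)) - algebraMap k K (cP i - cR i) =
            r i - algebraMap k K (cP i) := by
          rw [map_sub]
          ring
        rw [e']
        exact hcP i
      exact val_eq_one_of_sub_const P h1 (sub_ne_zero.mpr hi)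
  have hchoice : ∀ R : Place k K, ∃ w ∈ Acoord k r, P.1 w = 1 ∧
      (IsFin r R → 1 < R.1 y → R.1 w < 1) := by
    intro R
    by_cases h : IsFin r R ∧ 1 < R.1 y
    · obtain ⟨w, hwA, hPw, hRw⟩ := hsep R h.1 h.2
      exact ⟨w, hwA, hPw, fun _ _ => hRw⟩
    · exact ⟨1, Subalgebra.one_mem _, map_one _, fun h1 h2 => absurd ⟨h1, h2⟩ h⟩
  choose wR hwRA hPwR hRwR using hchoice
  obtain ⟨M, hM⟩ : ∃ M : Place k K → ℕ, M = fun R => (-(R.ord y)).toNat := ⟨_, rfl⟩
  obtain ⟨w, hw⟩ : ∃ w : K, w = ∏ R ∈ (poles_finite hK y).toFinset, wR R ^ M R := ⟨_, rfl⟩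
  have hprodA : ∀ T' : Finset (Place k K),
      ∏ R ∈ T', wR R ^ M R ∈ Acoord k r := fun T' =>
    Subalgebra.prod_mem _ (fun R _ => Subalgebra.pow_mem _ (hwRA R) _)
  have hwA : w ∈ Acoord k r := by rw [hw]; exact hprodA _
  have hPw : P.1 w = 1 := by
    rw [hw, map_prod]
    exact Finset.prod_eq_one (fun R _ => by rw [map_pow, hPwR, one_pow])
  have hwyB : w * y ∈ Bcoord (k := k) r := by
    intro R hRfin
    rw [map_mul]
    by_cases hRT : R ∈ (poles_finite hK y).toFinset
    · have hRy : 1 < R.1 y := (Set.Finite.mem_toFinset (poles_finite hK y)).mp hRT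
      have h1 : R.1 w ≤ R.1 (wR R) ^ M R := by
        rw [hw, ← Finset.mul_prod_erase _ _ hRT, map_mul, map_pow]
        calc R.1 (wR R) ^ M R * R.1 (∏ x ∈ (poles_finite hK y).toFinset.erase R, wR x ^ M x)
            ≤ R.1 (wR R) ^ M R * 1 :=
              mul_le_mul' le_rfl (Acoord_val_le _ R hRfin (hprodA _))
          _ = R.1 (wR R) ^ M R := mul_one _
      have h2 : R.1 (wR R) ≤ WithZero.exp (-1 : ℤ) :=
        (zm0_lt_one_iff _).mp (hRwR R hRfin hRy)
      have h3 : R.1 (wR R) ^ M R ≤ WithZero.exp (-(M R : ℤ)) := by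
        calc R.1 (wR R) ^ M R ≤ (WithZero.exp (-1 : ℤ)) ^ M R := pow_le_pow_left₀ zero_le' h2 _
          _ = WithZero.exp (-(M R : ℤ)) := by
            rw [← WithZero.exp_nsmul]; congr 1; simp
      have h4 : R.1 y = WithZero.exp (-(R.ord y)) := pl_val_eq_exp_neg_ord R hy0
      have h5 : (M R : ℤ) = -(R.ord y) := by
        have h6 := (pl_one_lt_val_iff R y).mp hRy
        rw [hM]
        simp only
        rw [Int.toNat_of_nonneg (by omega)]
      calc R.1 w * R.1 y ≤ WithZero.exp (-(M R : ℤ)) * WithZero.exp (-(R.ord y)) :=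
            mul_le_mul' (h1.trans h3) h4.le
        _ = 1 := by rw [← WithZero.exp_add, h5]; simp
    · have hRy : R.1 y ≤ 1 := by
        by_contra hcon
        rw [not_le] at hcon
        exact hRT ((Set.Finite.mem_toFinset (poles_finite hK y)).mpr hcon)
      calc R.1 w * R.1 y ≤ 1 * 1 := mul_le_mul' (Acoord_val_le _ R hRfin hwA) hRy
        _ = 1 := one_mul _
  have hfinal := hs₀B (w * y) hwyB
  have e : s₀ * (w * y) = z * w := by rw [hy]; field_simp
  rw [e] at hfinal
  exact ⟨z * w, hfinal, w, hwA, hPw, rfl⟩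

/-- **Local intersection count**: for `g ≠ 0` in the local ring `O` at the point of `P`,
`dim_k O/gO = ∑ ord_Q g` over the places `Q` over that point. -/
theorem relfr_locSub [IsAlgClosed k] (hK : FunFld.IsFunctionField k K) (r : ι → K) (j₀ : ι)
    (hj₀ : r j₀ = 1) (hgen : IntermediateField.adjoin k (Set.range r) = ⊤) (P : Place k K)
    (hP : IsFin r P) (S : Finset (Place k K)) (hS : ∀ Q, Q ∈ S ↔ Same r P Q) (g : K)
    (hg0 : g ≠ 0) (hg : g ∈ locSub (Acoord k r) P) :
    RelFin (gmul g (Subalgebra.toSubmodule (locSub (Acoord k r) P)))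
        (Subalgebra.toSubmodule (locSub (Acoord k r) P)) ∧
      (relfr (gmul g (Subalgebra.toSubmodule (locSub (Acoord k r) P)))
        (Subalgebra.toSubmodule (locSub (Acoord k r) P)) : ℤ) = ∑ Q ∈ S, Q.ord g := by
  classical
  set O : Submodule k K := Subalgebra.toSubmodule (locSub (Acoord k r) P) with hO
  obtain ⟨N, hN⟩ := conductor_local hK r j₀ hj₀ hgen P hP
  set Ot : Submodule k K := interBall S (fun _ => 0) with hOt
  set IN : Submodule k K := interBall S (fun _ => -(N : ℤ)) with hIN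
  have hOOt : O ≤ Ot := by
    intro z hz
    rw [hOt, mem_interBall]
    intro Q hQ
    rw [exp_zero]
    exact (val_of_same ((hS Q).mp hQ) hz).1
  have hINO : IN ≤ O := by
    intro z hz
    rw [hIN, mem_interBall] at hz
    exact hN z (fun Q hQ => hz Q ((hS Q).mpr hQ))
  have h1 := relfr_interBall hK S (n := fun _ => -(N : ℤ)) (m := fun _ => 0)
    (fun Q _ => by simp)
  obtain ⟨-, hfinOOt, -⟩ := relfr_add' hINO hOOt h1.1
  have hordnn : ∀ Q ∈ S, 0 ≤ Q.ord g := fun Q hQ =>
    (pl_val_le_one_iff Q hg0).mp (val_of_same ((hS Q).mp hQ) hg).1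
  have hgOt : gmul g Ot = interBall S (fun Q => -(Q.ord g)) := by
    ext z
    rw [mem_gmul, mem_interBall]
    constructor
    · rintro ⟨a, ha, rfl⟩ Q hQ
      rw [hOt, mem_interBall] at ha
      have := ha Q hQ
      rw [exp_zero] at this
      rw [map_mul, pl_val_eq_exp_neg_ord Q hg0]
      calc exp (-(Q.ord g)) * Q.1 a ≤ exp (-(Q.ord g)) * 1 := mul_le_mul' le_rfl this
        _ = exp (-(Q.ord g)) := mul_one _
    · intro hz
      refine ⟨g⁻¹ * z, ?_, by field_simp⟩
      rw [hOt, mem_interBall]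
      intro Q hQ
      have := hz Q hQ
      rw [exp_zero, map_mul, map_inv₀, pl_val_eq_exp_neg_ord Q hg0]
      rw [inv_mul_le_iff₀ WithZero.exp_pos, mul_one]
      exact this
  have h2 := relfr_interBall hK S (n := fun Q => -(Q.ord g)) (m := fun _ => 0)
    (fun Q hQ => by have := hordnn Q hQ; omega)
  rw [← hgOt] at h2
  have hgO : gmul g O ≤ O := by
    rintro z hz
    obtain ⟨a, ha, rfl⟩ := mem_gmul.mp hz
    exact Subalgebra.mul_mem _ hg ha
  have hgOt' : gmul g Ot ≤ Ot := by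
    rw [hgOt]
    intro z hz
    rw [mem_interBall] at hz
    rw [hOt, mem_interBall]
    intro Q hQ
    exact (hz Q hQ).trans (exp_le_exp.mpr (by have := hordnn Q hQ; omega))
  obtain ⟨h3, h4⟩ := relfr_gmul_eq hg0 hOOt hgO hgOt' hfinOOt h2.1
  refine ⟨h3, ?_⟩
  rw [h4, h2.2]
  refine Finset.sum_congr rfl (fun Q _ => ?_)
  rw [deg_eq_one_of_isAlgClosed hK Q]
  simp

end Local

end Groth.Agent.H81.IntMult
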