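import Groth.Agent.H81.PlaneDeg
import Mathlib

/-!
The relation ideal of a plane model is generated by the irreducible relation; two generating pairs
with the same relation ideal differ by an automorphism.
-/

set_option autoImplicit false

namespace Groth.Agent.H81.PlaneKer

open FunFld Polynomial IntermediateField

/-- an irreducible polynomial with unit leading coefficient over an integrally closed domain divides
every polynomial vanishing at one of its roots. -/
theorem dvd_of_aeval_eq_zero {A K : Type*} [CommRing A] [IsDomain A] [IsIntegrallyClosed A]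
    [Field K] [Algebra A K] [FaithfulSMul A K] (v : K) (G : A[X]) (hG : Irreducible G)
    (hlc : IsUnit G.leadingCoeff) (hv : aeval v G = 0) (H : A[X]) (hH : aeval v H = 0) :
    G ∣ H := by
  obtain ⟨b, hb⟩ := hlc
  have hmonic : (C ((b⁻¹ : Aˣ) : A) * G).Monic := by
    rw [Monic, leadingCoeff_mul, leadingCoeff_C, ← hb]
    simp
  have hint : IsIntegral A v :=
    ⟨C ((b⁻¹ : Aˣ) : A) * G, hmonic, by rw [← aeval_def, map_mul, hv, mul_zero]⟩
  have hdvd : minpoly A v ∣ G := minpoly.isIntegrallyClosed_dvd hint hv
  obtain ⟨w, hw⟩ := hdvd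
  have hnu : ¬ IsUnit (minpoly A v) := minpoly.not_isUnit A v
  have hwu : IsUnit w := (hG.isUnit_or_isUnit hw).resolve_left hnu
  have hH' : minpoly A v ∣ H := minpoly.isIntegrallyClosed_dvd hint hH
  rw [hw]
  exact (IsUnit.mul_right_dvd hwu).mpr hH'

variable {k K : Type*} [Field k] [Field K] [Algebra k K]

/-- good coordinates: a shear after which the relation is monic-like in the first variable. -/
theorem good_coords [Infinite k] (hK : IsFunctionField k K) (x y : K)
    (hxy : IntermediateField.adjoin k ({x, y} : Set K) = ⊤) (f : MvPolynomial (Fin 2) k)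
    (hf : Irreducible f) (hfxy : MvPolynomial.aeval ![x, y] f = 0) :
    ∃ c : k, (PlaneAlg.shear c f).totalDegree ≤ f.totalDegree ∧
      (PlaneAlg.shear c f).coeff (Finsupp.single 0 f.totalDegree) ≠ 0 ∧
      Irreducible (PlaneAlg.shear c f) ∧
      MvPolynomial.aeval ![x, y - algebraMap k K c * x] (PlaneAlg.shear c f) = 0 ∧
      Transcendental k (y - algebraMap k K c * x) := by
  obtain ⟨c, hc⟩ := PlaneAlg.exists_shear hf.ne_zero
  refine ⟨c, PlaneAlg.totalDegree_shear_le c f, hc,
    (MulEquiv.irreducible_iff (PlaneAlg.shear c)).mpr hf, ?_, ?_⟩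
  · rw [PlaneAlg.aeval_shear]
    have : y - algebraMap k K c * x + algebraMap k K c * x = y := by ring
    rw [this]
    exact hfxy
  · set u := y - algebraMap k K c * x with hu
    have hg : MvPolynomial.aeval ![x, u] (PlaneAlg.shear c f) = 0 := by
      rw [PlaneAlg.aeval_shear]
      have : u + algebraMap k K c * x = y := by rw [hu]; ring
      rw [this]
      exact hfxy
    have hgen : IntermediateField.adjoin k ({x, u} : Set K) = ⊤ := by
      rw [eq_top_iff, ← hxy, IntermediateField.adjoin_le_iff]
      intro z hz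
      rcases hz with rfl | hz
      · exact IntermediateField.subset_adjoin k _ (by simp)
      · rw [Set.mem_singleton_iff] at hz
        rw [hz]
        have h1 : u ∈ IntermediateField.adjoin k ({x, u} : Set K) :=
          IntermediateField.subset_adjoin k _ (by simp)
        have h2 : x ∈ IntermediateField.adjoin k ({x, u} : Set K) :=
          IntermediateField.subset_adjoin k _ (by simp)
        have : y = u + algebraMap k K c * x := by rw [hu]; ring
        rw [this]
        exact add_mem h1 (mul_mem (IntermediateField.algebraMap_mem _ c) h2)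
    exact PlaneDeg.transcendental_u hK (PlaneAlg.totalDegree_shear_le c f) hc x u hg hgen

/-- the relation ideal of a plane model is generated by the irreducible relation. -/
theorem ker_eq_span [Infinite k] (hK : IsFunctionField k K) (x y : K)
    (hxy : IntermediateField.adjoin k ({x, y} : Set K) = ⊤) (f : MvPolynomial (Fin 2) k)
    (hf : Irreducible f) (hfxy : MvPolynomial.aeval ![x, y] f = 0) :
    RingHom.ker (MvPolynomial.aeval ![x, y] : MvPolynomial (Fin 2) k →ₐ[k] K) =
      Ideal.span {f} := by
  obtain ⟨c, hdeg, hc, hirr, hg, hutr⟩ := good_coords hK x y hxy f hf hfxy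
  set u := y - algebraMap k K c * x with hu
  set g := PlaneAlg.shear c f with hgdef
  apply le_antisymm
  · intro h hh
    rw [RingHom.mem_ker] at hh
    rw [Ideal.mem_span_singleton]
    have hh' : MvPolynomial.aeval ![x, u] (PlaneAlg.shear c h) = 0 := by
      rw [PlaneAlg.aeval_shear]
      have : u + algebraMap k K c * x = y := by rw [hu]; ring
      rw [this]
      exact hh
    letI algAK : Algebra k[X] K := (Polynomial.aeval u : k[X] →ₐ[k] K).toRingHom.toAlgebra
    haveI : FaithfulSMul k[X] K :=
      (faithfulSMul_iff_algebraMap_injective _ _).mpr (transcendental_iff_injective.mp hutr)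
    obtain ⟨hnd, hlc⟩ := PlaneAlg.Phi_natDegree hdeg hc
    have hGirr : Irreducible (PlaneAlg.Phi k g) :=
      (MulEquiv.irreducible_iff (PlaneAlg.Phi k)).mpr hirr
    have hv : Polynomial.aeval x (PlaneAlg.Phi k g) = 0 := by
      rw [Polynomial.aeval_def]
      exact (PlaneAlg.eval₂_Phi u x g).trans hg
    have hv' : Polynomial.aeval x (PlaneAlg.Phi k (PlaneAlg.shear c h)) = 0 := by
      rw [Polynomial.aeval_def]
      exact (PlaneAlg.eval₂_Phi u x _).trans hh'
    have hunit : IsUnit (PlaneAlg.Phi k g).leadingCoeff := by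
      rw [hlc]
      exact (IsUnit.mk0 _ hc).map Polynomial.C
    have hd := dvd_of_aeval_eq_zero x (PlaneAlg.Phi k g) hGirr hunit hv _ hv'
    have h1 : g ∣ PlaneAlg.shear c h := (map_dvd_iff (PlaneAlg.Phi k)).mp hd
    exact (map_dvd_iff (PlaneAlg.shear c)).mp h1
  · rw [Ideal.span_le]
    intro h hh
    rw [Set.mem_singleton_iff] at hh
    rw [hh]
    exact hfxy

theorem range_pair (x y : K) : Set.range ![x, y] = {x, y} := by
  ext z
  simp only [Set.mem_range, Set.mem_insert_iff, Set.mem_singleton_iff]
  constructor
  · rintro ⟨i, rfl⟩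
    fin_cases i
    · left; rfl
    · right; rfl
  · rintro (rfl | rfl)
    · exact ⟨0, rfl⟩
    · exact ⟨1, rfl⟩

/-- `K` is the fraction field of the coordinate ring `k[x, y]`. -/
theorem isFractionRing_range (x y : K)
    (hxy : IntermediateField.adjoin k ({x, y} : Set K) = ⊤) :
    IsFractionRing (MvPolynomial.aeval ![x, y] : MvPolynomial (Fin 2) k →ₐ[k] K).range K := by
  apply IsFractionRing.of_field
  intro z
  have hz : z ∈ IntermediateField.adjoin k ({x, y} : Set K) := by rw [hxy]; trivial
  rw [IntermediateField.mem_adjoin_iff_div] at hz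
  obtain ⟨r, hr, s, hs, rfl⟩ := hz
  have hrange : Algebra.adjoin k ({x, y} : Set K) =
      (MvPolynomial.aeval ![x, y] : MvPolynomial (Fin 2) k →ₐ[k] K).range := by
    rw [← range_pair, Algebra.adjoin_range_eq_range_aeval]
  rw [hrange] at hr hs
  exact ⟨⟨r, hr⟩, ⟨s, hs⟩, rfl⟩

/-- two generating pairs with the same relation ideal differ by an automorphism. -/
theorem exists_algEquiv (x y x' y' : K)
    (hxy : IntermediateField.adjoin k ({x, y} : Set K) = ⊤)
    (hxy' : IntermediateField.adjoin k ({x', y'} : Set K) = ⊤)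
    (hker : RingHom.ker (MvPolynomial.aeval ![x, y] : MvPolynomial (Fin 2) k →ₐ[k] K) =
      RingHom.ker (MvPolynomial.aeval ![x', y'] : MvPolynomial (Fin 2) k →ₐ[k] K)) :
    ∃ σ : K ≃ₐ[k] K, σ x = x' ∧ σ y = y' := by
  set π : MvPolynomial (Fin 2) k →ₐ[k] K := MvPolynomial.aeval ![x, y] with hπ
  set π' : MvPolynomial (Fin 2) k →ₐ[k] K := MvPolynomial.aeval ![x', y'] with hπ'
  haveI := isFractionRing_range x y hxy
  haveI := isFractionRing_range x' y' hxy'
  have hk1 : RingHom.ker π.rangeRestrict = RingHom.ker π'.rangeRestrict := by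
    rw [AlgHom.ker_rangeRestrict, AlgHom.ker_rangeRestrict]
    exact hker
  let e1 := Ideal.quotientKerAlgEquivOfSurjective (AlgHom.rangeRestrict_surjective π)
  let e2 := Ideal.quotientKerAlgEquivOfSurjective (AlgHom.rangeRestrict_surjective π')
  let e : π.range ≃ₐ[k] π'.range :=
    (e1.symm.trans (Ideal.quotientEquivAlgOfEq k hk1)).trans e2
  have he : ∀ r : MvPolynomial (Fin 2) k, e (π.rangeRestrict r) = π'.rangeRestrict r := by
    intro r
    have h1 : e1.symm (π.rangeRestrict r) = Ideal.Quotient.mk _ r := by
      rw [AlgEquiv.symm_apply_eq]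
      exact (Ideal.quotientKerAlgEquivOfSurjective_mk _ r).symm
    simp only [e, AlgEquiv.trans_apply, h1]
    erw [Ideal.quotientEquivAlgOfEq_mk]
    exact Ideal.quotientKerAlgEquivOfSurjective_mk _ r
  let σ : K ≃ₐ[k] K := IsFractionRing.algEquivOfAlgEquiv e
  have hσ : ∀ r : MvPolynomial (Fin 2) k, σ (π r) = π' r := by
    intro r
    have h1 := IsFractionRing.algEquivOfAlgEquiv_algebraMap (K := K) (L := K) e (π.rangeRestrict r)
    rw [he] at h1
    exact h1
  refine ⟨σ, ?_, ?_⟩
  · have := hσ (MvPolynomial.X 0)
    simpa [hπ, hπ'] using this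
  · have := hσ (MvPolynomial.X 1)
    simpa [hπ, hπ'] using this

/-- algebra automorphisms agreeing on generators agree. -/
theorem algEquiv_ext_of_gen (x y : K) (hxy : IntermediateField.adjoin k ({x, y} : Set K) = ⊤)
    (σ τ : K ≃ₐ[k] K) (hx : σ x = τ x) (hy : σ y = τ y) : σ = τ := by
  let E : IntermediateField k K :=
    { carrier := {z | σ z = τ z}
      mul_mem' := by intro a b ha hb; simp only [Set.mem_setOf_eq] at *; rw [map_mul, map_mul, ha, hb]
      one_mem' := by simp
      add_mem' := by intro a b ha hb; simp only [Set.mem_setOf_eq] at *; rw [map_add, map_add, ha, hb]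
      zero_mem' := by simp
      algebraMap_mem' := by intro c; simp
      inv_mem' := by intro a ha; simp only [Set.mem_setOf_eq] at *; rw [map_inv₀, map_inv₀, ha] }
  have hle : IntermediateField.adjoin k ({x, y} : Set K) ≤ E := by
    rw [IntermediateField.adjoin_le_iff]
    intro z hz
    rcases hz with rfl | hz
    · exact hx
    · rw [Set.mem_singleton_iff] at hz
      rw [hz]
      exact hy
  ext z
  have hz : z ∈ IntermediateField.adjoin k ({x, y} : Set K) := by rw [hxy]; trivial
  exact hle hz

end Groth.Agent.H81.PlaneKer
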