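import Groth.Agent.H81.PlaneKer
import Mathlib

/-!
The local ring of a plane model at a finite point and the Jacobian criterion (affine form).
-/

set_option autoImplicit false

namespace Groth.Agent.H81.PlaneLocal

open FunFld WithZero

variable {k K : Type*} [Field k] [Field K] [Algebra k K]

/-- first order expansion of a polynomial at a point. -/
theorem exists_expand (c : Fin 2 → k) (G : MvPolynomial (Fin 2) k) :
    ∃ A B : MvPolynomial (Fin 2) k,
      G = MvPolynomial.C (MvPolynomial.eval c G) +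
          (MvPolynomial.X 0 - MvPolynomial.C (c 0)) * A +
          (MvPolynomial.X 1 - MvPolynomial.C (c 1)) * B ∧
      MvPolynomial.eval c A = MvPolynomial.eval c (MvPolynomial.pderiv 0 G) ∧
      MvPolynomial.eval c B = MvPolynomial.eval c (MvPolynomial.pderiv 1 G) := by
  induction G using MvPolynomial.induction_on with
  | C a => exact ⟨0, 0, by simp, by simp, by simp⟩
  | add p q hp hq =>
    obtain ⟨A1, B1, h1, h2, h3⟩ := hp
    obtain ⟨A2, B2, h1', h2', h3'⟩ := hq
    refine ⟨A1 + A2, B1 + B2, ?_, by simp [h2, h2'], by simp [h3, h3']⟩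
    rw [map_add, MvPolynomial.C_add]
    linear_combination h1 + h1'
  | mul_X p i hp =>
    obtain ⟨A, B, h1, h2, h3⟩ := hp
    fin_cases i
    · refine ⟨MvPolynomial.C (MvPolynomial.eval c p) + A * MvPolynomial.X 0,
        B * MvPolynomial.X 0, ?_, ?_, ?_⟩
      · simp only [Fin.zero_eta]
        rw [map_mul, MvPolynomial.eval_X, MvPolynomial.C_mul]
        linear_combination (MvPolynomial.X 0) * h1
      · simp only [Fin.zero_eta]
        rw [MvPolynomial.pderiv_mul, MvPolynomial.pderiv_X_self]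
        simp only [map_add, map_mul, MvPolynomial.eval_X, MvPolynomial.eval_C, map_one, h2]
        ring
      · simp only [Fin.zero_eta]
        rw [MvPolynomial.pderiv_mul, MvPolynomial.pderiv_X_of_ne (by decide)]
        simp only [map_add, map_mul, MvPolynomial.eval_X, map_zero, h3]
        ring
    · refine ⟨A * MvPolynomial.X 1,
        MvPolynomial.C (MvPolynomial.eval c p) + B * MvPolynomial.X 1, ?_, ?_, ?_⟩
      · simp only [Fin.mk_one]
        rw [map_mul, MvPolynomial.eval_X, MvPolynomial.C_mul]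
        linear_combination (MvPolynomial.X 1) * h1
      · simp only [Fin.mk_one]
        rw [MvPolynomial.pderiv_mul, MvPolynomial.pderiv_X_of_ne (by decide)]
        simp only [map_add, map_mul, MvPolynomial.eval_X, map_zero, h2]
        ring
      · simp only [Fin.mk_one]
        rw [MvPolynomial.pderiv_mul, MvPolynomial.pderiv_X_self]
        simp only [map_add, map_mul, MvPolynomial.eval_X, MvPolynomial.eval_C, map_one, h3]
        ring

theorem val_aeval_le (P : Place k K) {x y : K} (hx : P.1 x ≤ 1) (hy : P.1 y ≤ 1)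
    (G : MvPolynomial (Fin 2) k) : P.1 (MvPolynomial.aeval ![x, y] G) ≤ 1 := by
  induction G using MvPolynomial.induction_on with
  | C a =>
    rw [MvPolynomial.aeval_C]
    exact P.2.1 a
  | add p q hp hq =>
    rw [map_add]
    exact (P.1.map_add _ _).trans (max_le hp hq)
  | mul_X p i hp =>
    rw [map_mul, map_mul, MvPolynomial.aeval_X]
    fin_cases i
    · exact mul_le_one' hp hx
    · exact mul_le_one' hp hy

theorem val_le_of_sub_lt (P : Place k K) {x : K} (c : k) (h : P.1 (x - algebraMap k K c) < 1) :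
    P.1 x ≤ 1 := RatPlace.val_sub_const_le P c h

/-- a polynomial in `x, y` is congruent to its value at the point. -/
theorem val_sub_lt (P : Place k K) {x y : K} (c : Fin 2 → k)
    (hx : P.1 (x - algebraMap k K (c 0)) < 1) (hy : P.1 (y - algebraMap k K (c 1)) < 1)
    (G : MvPolynomial (Fin 2) k) :
    P.1 (MvPolynomial.aeval ![x, y] G - algebraMap k K (MvPolynomial.eval c G)) < 1 := by
  obtain ⟨A, B, h1, -, -⟩ := exists_expand c G
  have h2 := congrArg (MvPolynomial.aeval ![x, y] : MvPolynomial (Fin 2) k →ₐ[k] K) h1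
  simp only [map_add, map_mul, map_sub, MvPolynomial.aeval_X, MvPolynomial.aeval_C,
    Matrix.cons_val_zero, Matrix.cons_val_one] at h2
  have hx1 := val_le_of_sub_lt P _ hx
  have hy1 := val_le_of_sub_lt P _ hy
  have h3 : MvPolynomial.aeval ![x, y] G - algebraMap k K (MvPolynomial.eval c G) =
      (x - algebraMap k K (c 0)) * MvPolynomial.aeval ![x, y] A +
        (y - algebraMap k K (c 1)) * MvPolynomial.aeval ![x, y] B := by
    rw [h2]; ring
  rw [h3]
  refine lt_of_le_of_lt (P.1.map_add _ _) (max_lt ?_ ?_)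
  · rw [map_mul]
    calc P.1 (x - algebraMap k K (c 0)) * P.1 (MvPolynomial.aeval ![x, y] A)
        ≤ P.1 (x - algebraMap k K (c 0)) * 1 :=
          mul_le_mul' le_rfl (val_aeval_le P hx1 hy1 A)
      _ = P.1 (x - algebraMap k K (c 0)) := mul_one _
      _ < 1 := hx
  · rw [map_mul]
    calc P.1 (y - algebraMap k K (c 1)) * P.1 (MvPolynomial.aeval ![x, y] B)
        ≤ P.1 (y - algebraMap k K (c 1)) * 1 :=
          mul_le_mul' le_rfl (val_aeval_le P hx1 hy1 B)
      _ = P.1 (y - algebraMap k K (c 1)) := mul_one _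
      _ < 1 := hy

/-- a polynomial in `x, y` not vanishing at the point is a unit at `P`. -/
theorem val_eq_one_of_eval_ne (P : Place k K) {x y : K} (c : Fin 2 → k)
    (hx : P.1 (x - algebraMap k K (c 0)) < 1) (hy : P.1 (y - algebraMap k K (c 1)) < 1)
    (G : MvPolynomial (Fin 2) k) (hG : MvPolynomial.eval c G ≠ 0) :
    P.1 (MvPolynomial.aeval ![x, y] G) = 1 := by
  have h1 := val_sub_lt P c hx hy G
  have h2 : P.1 (algebraMap k K (MvPolynomial.eval c G)) = 1 := RatPlace.val_const P hG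
  have h3 : MvPolynomial.aeval ![x, y] G =
      algebraMap k K (MvPolynomial.eval c G) +
        (MvPolynomial.aeval ![x, y] G - algebraMap k K (MvPolynomial.eval c G)) := by ring
  rw [h3, Valuation.map_add_eq_of_lt_left _ (by rw [h2]; exact h1), h2]

/-- a polynomial in `x, y` of positive order at `P` vanishes at the point. -/
theorem eval_eq_zero_of_val_lt (P : Place k K) {x y : K} (c : Fin 2 → k)
    (hx : P.1 (x - algebraMap k K (c 0)) < 1) (hy : P.1 (y - algebraMap k K (c 1)) < 1)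
    (G : MvPolynomial (Fin 2) k) (hG : P.1 (MvPolynomial.aeval ![x, y] G) < 1) :
    MvPolynomial.eval c G = 0 := by
  by_contra h
  rw [val_eq_one_of_eval_ne P c hx hy G h] at hG
  exact lt_irrefl _ hG

theorem le_exp_neg_one {v : WithZero (Multiplicative ℤ)} (h : v < 1) : v ≤ exp (-1 : ℤ) := by
  by_cases hv : v = 0
  · rw [hv]; exact zero_le'
  · rw [← exp_log hv] at h ⊢
    rw [← exp_zero, exp_lt_exp] at h
    rw [exp_le_exp]
    omega

/-- abstract principal-maximal-ideal argument: if `r w = s a` with `w` a unit at `P`, the local ring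
is the valuation ring. -/
theorem loc_of_rel (P : Place k K) (B : Subalgebra k K) (hB1 : ∀ b ∈ B, P.1 b ≤ 1) (s r : K)
    (hs : s ∈ B)
    (hdec : ∀ b ∈ B, P.1 b < 1 → ∃ a1 ∈ B, ∃ a2 ∈ B, b = s * a1 + r * a2) (hPs : P.1 s < 1)
    (w a : K) (hw : w ∈ B) (ha : a ∈ B) (hPw : P.1 w = 1) (hrel : r * w = s * a)
    (hfrac : ∀ z : K, ∃ b1 ∈ B, ∃ b2 ∈ B, b2 ≠ 0 ∧ z * b2 = b1) :
    ∀ z : K, P.1 z ≤ 1 → ∃ u ∈ B, ∃ w' ∈ B, P.1 w' = 1 ∧ z * w' = u := by
  have hw0 : w ≠ 0 := by
    rintro rfl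
    rw [map_zero] at hPw
    exact zero_ne_one hPw
  have hfactor : ∀ N : ℕ, ∀ b ∈ B, b ≠ 0 → exp (-(N : ℤ)) ≤ P.1 b →
      ∃ n : ℕ, ∃ u ∈ B, ∃ w' ∈ B, P.1 u = 1 ∧ P.1 w' = 1 ∧ b * w' = s ^ n * u := by
    intro N
    induction N with
    | zero =>
      intro b hb hb0 hN
      refine ⟨0, b, hb, 1, B.one_mem, ?_, map_one _, by simp⟩
      apply le_antisymm (hB1 b hb)
      simpa using hN
    | succ N ih =>
      intro b hb hb0 hN
      by_cases hb1 : P.1 b = 1
      · exact ⟨0, b, hb, 1, B.one_mem, hb1, map_one _, by simp⟩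
      · have hblt : P.1 b < 1 := lt_of_le_of_ne (hB1 b hb) hb1
        obtain ⟨a1, ha1, a2, ha2, hdecb⟩ := hdec b hb hblt
        set b' := a1 * w + a * a2 with hb'
        have hb'B : b' ∈ B := B.add_mem (B.mul_mem ha1 hw) (B.mul_mem ha ha2)
        have hbw : b * w = s * b' := by
          rw [hdecb, hb']
          linear_combination a2 * hrel
        have hb'0 : b' ≠ 0 := by
          intro h0
          rw [h0, mul_zero] at hbw
          rcases mul_eq_zero.mp hbw with h | h
          · exact hb0 h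
          · exact hw0 h
        have hval : P.1 b = P.1 s * P.1 b' := by
          have := congrArg P.1 hbw
          rwa [map_mul, map_mul, hPw, mul_one] at this
        have hN' : exp (-(N : ℤ)) ≤ P.1 b' := by
          have h1 : P.1 b ≤ exp (-1 : ℤ) * P.1 b' := by
            rw [hval]
            exact mul_le_mul' (le_exp_neg_one hPs) le_rfl
          have h2 : exp (-((N + 1 : ℕ) : ℤ)) ≤ exp (-1 : ℤ) * P.1 b' := hN.trans h1
          have h3 : exp (1 : ℤ) * exp (-((N + 1 : ℕ) : ℤ)) ≤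
              exp (1 : ℤ) * (exp (-1 : ℤ) * P.1 b') := mul_le_mul' le_rfl h2
          rw [← mul_assoc, ← exp_add, ← exp_add] at h3
          have e1 : (1 : ℤ) + -((N + 1 : ℕ) : ℤ) = -(N : ℤ) := by push_cast; ring
          have e2 : (1 : ℤ) + -1 = 0 := by ring
          rw [e1, e2, exp_zero, one_mul] at h3
          exact h3
        obtain ⟨n, u, hu, w1, hw1, hPu, hPw1, hfac⟩ := ih b' hb'B hb'0 hN'
        refine ⟨n + 1, u, hu, w * w1, B.mul_mem hw hw1, hPu, by rw [map_mul, hPw, hPw1, one_mul],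
          ?_⟩
        calc b * (w * w1) = (b * w) * w1 := by ring
          _ = s * (b' * w1) := by rw [hbw]; ring
          _ = s ^ (n + 1) * u := by rw [hfac]; ring
  have hbound : ∀ b ∈ B, b ≠ 0 → ∃ N : ℕ, exp (-(N : ℤ)) ≤ P.1 b := by
    intro b hb hb0
    have hne : P.1 b ≠ 0 := (Valuation.ne_zero_iff _).mpr hb0
    obtain ⟨m, hm⟩ : ∃ m : ℤ, P.1 b = exp m := ⟨log (P.1 b), (exp_log hne).symm⟩
    refine ⟨(-m).toNat, ?_⟩
    rw [hm, exp_le_exp]
    omega
  intro z hz
  by_cases hz0 : z = 0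
  · exact ⟨0, B.zero_mem, 1, B.one_mem, map_one _, by rw [hz0, zero_mul]⟩
  obtain ⟨b1, hb1, b2, hb2, hb20, hzb⟩ := hfrac z
  have hb10 : b1 ≠ 0 := by
    rw [← hzb]
    exact mul_ne_zero hz0 hb20
  obtain ⟨N1, hN1⟩ := hbound b1 hb1 hb10
  obtain ⟨N2, hN2⟩ := hbound b2 hb2 hb20
  obtain ⟨n1, u1, hu1, w1, hw1, hPu1, hPw1, hf1⟩ := hfactor N1 b1 hb1 hb10 hN1
  obtain ⟨n2, u2, hu2, w2, hw2, hPu2, hPw2, hf2⟩ := hfactor N2 b2 hb2 hb20 hN2
  have hne_of_val : ∀ t : K, P.1 t = 1 → t ≠ 0 := by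
    intro t ht h0
    rw [h0, map_zero] at ht
    exact zero_ne_one ht
  have hs1 : s ^ n1 ≠ 0 := by
    intro h0
    rw [h0, zero_mul] at hf1
    rcases mul_eq_zero.mp hf1 with h | h
    · exact hb10 h
    · exact hne_of_val _ hPw1 h
  have hs2 : s ^ n2 ≠ 0 := by
    intro h0
    rw [h0, zero_mul] at hf2
    rcases mul_eq_zero.mp hf2 with h | h
    · exact hb20 h
    · exact hne_of_val _ hPw2 h
  have hmain : z * (s ^ n2 * (u2 * w1)) = s ^ n1 * (u1 * w2) := by
    calc z * (s ^ n2 * (u2 * w1)) = (z * (b2 * w2)) * w1 := by rw [hf2]; ring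
      _ = (b1 * w1) * w2 := by rw [← hzb]; ring
      _ = s ^ n1 * (u1 * w2) := by rw [hf1]; ring
  have hle : n2 ≤ n1 := by
    by_contra hlt
    push_neg at hlt
    have hv := congrArg P.1 hmain
    simp only [map_mul, map_pow, hPu1, hPu2, hPw1, hPw2, mul_one] at hv
    have hs0 : s ≠ 0 := by
      intro h0
      apply hs2
      rw [h0, zero_pow (by omega)]
    have hPs0 : 0 < P.1 s := zero_lt_iff.mpr ((Valuation.ne_zero_iff _).mpr hs0)
    have h1 : P.1 s ^ n2 < P.1 s ^ n1 := pow_lt_pow_right_of_lt_one₀ hPs0 hPs hlt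
    have h2 : P.1 s ^ n1 ≤ P.1 s ^ n2 := by
      rw [← hv]
      calc P.1 z * P.1 s ^ n2 ≤ 1 * P.1 s ^ n2 := mul_le_mul' hz le_rfl
        _ = P.1 s ^ n2 := one_mul _
    exact absurd h1 (not_lt.mpr h2)
  refine ⟨s ^ (n1 - n2) * (u1 * w2), ?_, u2 * w1, B.mul_mem hu2 hw1,
    by rw [map_mul, hPu2, hPw1, one_mul], ?_⟩
  · exact B.mul_mem (B.pow_mem hs _) (B.mul_mem hu1 hw2)
  · apply mul_left_cancel₀ hs2
    calc s ^ n2 * (z * (u2 * w1)) = z * (s ^ n2 * (u2 * w1)) := by ring
      _ = s ^ n1 * (u1 * w2) := hmain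
      _ = s ^ n2 * (s ^ (n1 - n2) * (u1 * w2)) := by
        have hpow : s ^ n1 = s ^ n2 * s ^ (n1 - n2) := by
          rw [← pow_add, Nat.add_sub_cancel' hle]
        rw [hpow]; ring

/-- every element of `K = k(x, y)` is a quotient of polynomials in `x, y`. -/
theorem exists_frac_range (x y : K) (hxy : IntermediateField.adjoin k ({x, y} : Set K) = ⊤)
    (z : K) :
    ∃ b1 ∈ (MvPolynomial.aeval ![x, y] : MvPolynomial (Fin 2) k →ₐ[k] K).range,
      ∃ b2 ∈ (MvPolynomial.aeval ![x, y] : MvPolynomial (Fin 2) k →ₐ[k] K).range,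
        b2 ≠ 0 ∧ z * b2 = b1 := by
  haveI := PlaneKer.isFractionRing_range (k := k) x y hxy
  obtain ⟨a, b, hb, hz⟩ := IsFractionRing.div_surjective
    (A := (MvPolynomial.aeval ![x, y] : MvPolynomial (Fin 2) k →ₐ[k] K).range) z
  have hb0 : (b : K) ≠ 0 := by
    intro h
    exact nonZeroDivisors.ne_zero hb (Subtype.ext h)
  refine ⟨a, a.2, b, b.2, hb0, ?_⟩
  rw [← hz]
  exact div_mul_cancel₀ (a : K) hb0

theorem aeval_X_sub_C (x y : K) (c : Fin 2 → k) (l : Fin 2) :
    MvPolynomial.aeval ![x, y] (MvPolynomial.X l - MvPolynomial.C (c l) : MvPolynomial (Fin 2) k) =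
      ![x, y] l - algebraMap k K (c l) := by
  rw [map_sub, MvPolynomial.aeval_X, MvPolynomial.aeval_C]

/-- the singular direction: if the local ring of the plane model at the point is the valuation
ring, some partial derivative does not vanish at the point. -/
theorem exists_pderiv_ne_zero [Infinite k] (hK : IsFunctionField k K) (x y : K)
    (hxy : IntermediateField.adjoin k ({x, y} : Set K) = ⊤) (F : MvPolynomial (Fin 2) k)
    (hF : Irreducible F) (hFxy : MvPolynomial.aeval ![x, y] F = 0) (P : Place k K)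
    (c : Fin 2 → k) (hx : P.1 (x - algebraMap k K (c 0)) < 1)
    (hy : P.1 (y - algebraMap k K (c 1)) < 1)
    (hns : ∀ z : K, P.1 z ≤ 1 →
      ∃ u ∈ (MvPolynomial.aeval ![x, y] : MvPolynomial (Fin 2) k →ₐ[k] K).range,
        ∃ w ∈ (MvPolynomial.aeval ![x, y] : MvPolynomial (Fin 2) k →ₐ[k] K).range,
          P.1 w = 1 ∧ z * w = u)
    (i i' : Fin 2) (hne : i ≠ i')
    (hle : P.1 (![x, y] i - algebraMap k K (c i)) ≤ P.1 (![x, y] i' - algebraMap k K (c i'))) :
    ∃ l, MvPolynomial.eval c (MvPolynomial.pderiv l F) ≠ 0 := by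
  have hker := PlaneKer.ker_eq_span hK x y hxy F hF hFxy
  have hFc : MvPolynomial.eval c F = 0 :=
    eval_eq_zero_of_val_lt P c hx hy F (by rw [hFxy, map_zero]; exact zero_lt_one)
  by_cases hs0 : ![x, y] i' - algebraMap k K (c i') = 0
  · have hmem : (MvPolynomial.X i' - MvPolynomial.C (c i') : MvPolynomial (Fin 2) k) ∈
        RingHom.ker (MvPolynomial.aeval ![x, y] : MvPolynomial (Fin 2) k →ₐ[k] K) := by
      rw [RingHom.mem_ker, aeval_X_sub_C, hs0]
    rw [hker, Ideal.mem_span_singleton] at hmem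
    obtain ⟨H, hH⟩ := hmem
    refine ⟨i', fun h0 => ?_⟩
    have h1 := congrArg (fun p => MvPolynomial.eval c (MvPolynomial.pderiv i' p)) hH
    simp only [map_sub, MvPolynomial.pderiv_X_self, MvPolynomial.pderiv_C, MvPolynomial.pderiv_mul,
      map_add, map_mul, h0, hFc, map_one, sub_zero, zero_mul, add_zero] at h1
    exact one_ne_zero h1
  · have hz : P.1 ((![x, y] i - algebraMap k K (c i)) / (![x, y] i' - algebraMap k K (c i'))) ≤
        1 := by
      rw [map_div₀]
      exact div_le_one_of_le₀ hle zero_le'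
    obtain ⟨u, hu, w, hw, hPw, hzw⟩ := hns _ hz
    obtain ⟨U, hU⟩ := (AlgHom.mem_range _).mp hu
    obtain ⟨W, hW⟩ := (AlgHom.mem_range _).mp hw
    have hrel : (![x, y] i - algebraMap k K (c i)) * w =
        (![x, y] i' - algebraMap k K (c i')) * u := by
      rw [← hzw]
      field_simp
    have hmem : ((MvPolynomial.X i - MvPolynomial.C (c i)) * W -
        (MvPolynomial.X i' - MvPolynomial.C (c i')) * U : MvPolynomial (Fin 2) k) ∈
        RingHom.ker (MvPolynomial.aeval ![x, y] : MvPolynomial (Fin 2) k →ₐ[k] K) := by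
      rw [RingHom.mem_ker, map_sub, map_mul, map_mul, aeval_X_sub_C, aeval_X_sub_C, hU, hW]
      exact sub_eq_zero.mpr hrel
    rw [hker, Ideal.mem_span_singleton] at hmem
    obtain ⟨H, hH⟩ := hmem
    refine ⟨i, fun h0 => ?_⟩
    have h1 := congrArg (fun p => MvPolynomial.eval c (MvPolynomial.pderiv i p)) hH
    simp only [map_sub, MvPolynomial.pderiv_X_self, MvPolynomial.pderiv_X_of_ne hne.symm,
      MvPolynomial.pderiv_C, MvPolynomial.pderiv_mul, map_add, map_mul, h0, hFc, map_one, map_zero,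
      MvPolynomial.eval_X, MvPolynomial.eval_C, sub_self, sub_zero, zero_mul, mul_zero, one_mul,
      add_zero] at h1
    have h2 := val_sub_lt P c hx hy W
    rw [hW, h1, map_zero, sub_zero, hPw] at h2
    exact lt_irrefl _ h2

/-- the nonsingular direction: if some partial derivative does not vanish at the point, the local
ring of the plane model at the point is the valuation ring. -/
theorem nonsing_of_pderiv_ne_zero (x y : K)
    (hxy : IntermediateField.adjoin k ({x, y} : Set K) = ⊤) (F : MvPolynomial (Fin 2) k)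
    (hFxy : MvPolynomial.aeval ![x, y] F = 0) (P : Place k K)
    (c : Fin 2 → k) (hx : P.1 (x - algebraMap k K (c 0)) < 1)
    (hy : P.1 (y - algebraMap k K (c 1)) < 1)
    (h : ¬ (MvPolynomial.eval c (MvPolynomial.pderiv 0 F) = 0 ∧
      MvPolynomial.eval c (MvPolynomial.pderiv 1 F) = 0)) :
    ∀ z : K, P.1 z ≤ 1 →
      ∃ u ∈ (MvPolynomial.aeval ![x, y] : MvPolynomial (Fin 2) k →ₐ[k] K).range,
        ∃ w ∈ (MvPolynomial.aeval ![x, y] : MvPolynomial (Fin 2) k →ₐ[k] K).range,
          P.1 w = 1 ∧ z * w = u := by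
  have hx1 : P.1 x ≤ 1 := val_le_of_sub_lt P _ hx
  have hy1 : P.1 y ≤ 1 := val_le_of_sub_lt P _ hy
  have hB1 : ∀ b ∈ (MvPolynomial.aeval ![x, y] : MvPolynomial (Fin 2) k →ₐ[k] K).range,
      P.1 b ≤ 1 := by
    intro b hb
    obtain ⟨G, rfl⟩ := (AlgHom.mem_range _).mp hb
    exact val_aeval_le P hx1 hy1 G
  have hFc : MvPolynomial.eval c F = 0 :=
    eval_eq_zero_of_val_lt P c hx hy F (by rw [hFxy, map_zero]; exact zero_lt_one)
  have hexpand : ∀ G : MvPolynomial (Fin 2) k, MvPolynomial.eval c G = 0 →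
      ∃ A1 A2 : MvPolynomial (Fin 2) k,
        MvPolynomial.aeval ![x, y] G =
          (x - algebraMap k K (c 0)) * MvPolynomial.aeval ![x, y] A1 +
            (y - algebraMap k K (c 1)) * MvPolynomial.aeval ![x, y] A2 ∧
        MvPolynomial.eval c A1 = MvPolynomial.eval c (MvPolynomial.pderiv 0 G) ∧
        MvPolynomial.eval c A2 = MvPolynomial.eval c (MvPolynomial.pderiv 1 G) := by
    intro G hG
    obtain ⟨A1, A2, h1, h2, h3⟩ := exists_expand c G
    refine ⟨A1, A2, ?_, h2, h3⟩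
    have h4 := congrArg (MvPolynomial.aeval ![x, y] : MvPolynomial (Fin 2) k →ₐ[k] K) h1
    simp only [map_add, map_mul, map_sub, MvPolynomial.aeval_X, MvPolynomial.aeval_C,
      Matrix.cons_val_zero, Matrix.cons_val_one] at h4
    rw [h4, hG, map_zero, zero_add]
  obtain ⟨A, A', hrelF, hA, hA'⟩ := hexpand F hFc
  rw [hFxy] at hrelF
  have hdec : ∀ b ∈ (MvPolynomial.aeval ![x, y] : MvPolynomial (Fin 2) k →ₐ[k] K).range,
      P.1 b < 1 →
      ∃ a1 ∈ (MvPolynomial.aeval ![x, y] : MvPolynomial (Fin 2) k →ₐ[k] K).range,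
        ∃ a2 ∈ (MvPolynomial.aeval ![x, y] : MvPolynomial (Fin 2) k →ₐ[k] K).range,
          b = (x - algebraMap k K (c 0)) * a1 + (y - algebraMap k K (c 1)) * a2 := by
    intro b hb hPb
    obtain ⟨G, rfl⟩ := (AlgHom.mem_range _).mp hb
    obtain ⟨A1, A2, h1, -, -⟩ := hexpand G (eval_eq_zero_of_val_lt P c hx hy G hPb)
    exact ⟨_, AlgHom.mem_range_self _ A1, _, AlgHom.mem_range_self _ A2, h1⟩
  have hfrac := exists_frac_range (k := k) x y hxy
  have hr : x - algebraMap k K (c 0) ∈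
      (MvPolynomial.aeval ![x, y] : MvPolynomial (Fin 2) k →ₐ[k] K).range :=
    (AlgHom.mem_range _).mpr ⟨MvPolynomial.X 0 - MvPolynomial.C (c 0), aeval_X_sub_C x y c 0⟩
  have hs : y - algebraMap k K (c 1) ∈
      (MvPolynomial.aeval ![x, y] : MvPolynomial (Fin 2) k →ₐ[k] K).range :=
    (AlgHom.mem_range _).mpr ⟨MvPolynomial.X 1 - MvPolynomial.C (c 1), aeval_X_sub_C x y c 1⟩
  by_cases h0 : MvPolynomial.eval c (MvPolynomial.pderiv 0 F) = 0
  · have h1 : MvPolynomial.eval c (MvPolynomial.pderiv 1 F) ≠ 0 := fun h1 => h ⟨h0, h1⟩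
    exact loc_of_rel P _ hB1 (x - algebraMap k K (c 0)) (y - algebraMap k K (c 1)) hr hdec hx
      (MvPolynomial.aeval ![x, y] A') (-MvPolynomial.aeval ![x, y] A)
      (AlgHom.mem_range_self _ A') (Subalgebra.neg_mem _ (AlgHom.mem_range_self _ A))
      (val_eq_one_of_eval_ne P c hx hy A' (by rw [hA']; exact h1))
      (by linear_combination -hrelF) hfrac
  · have hdec' : ∀ b ∈ (MvPolynomial.aeval ![x, y] : MvPolynomial (Fin 2) k →ₐ[k] K).range,
        P.1 b < 1 →
        ∃ a1 ∈ (MvPolynomial.aeval ![x, y] : MvPolynomial (Fin 2) k →ₐ[k] K).range,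
          ∃ a2 ∈ (MvPolynomial.aeval ![x, y] : MvPolynomial (Fin 2) k →ₐ[k] K).range,
            b = (y - algebraMap k K (c 1)) * a1 + (x - algebraMap k K (c 0)) * a2 := by
      intro b hb hPb
      obtain ⟨a1, ha1, a2, ha2, e⟩ := hdec b hb hPb
      exact ⟨a2, ha2, a1, ha1, by rw [e]; ring⟩
    exact loc_of_rel P _ hB1 (y - algebraMap k K (c 1)) (x - algebraMap k K (c 0)) hs hdec' hy
      (MvPolynomial.aeval ![x, y] A) (-MvPolynomial.aeval ![x, y] A')
      (AlgHom.mem_range_self _ A) (Subalgebra.neg_mem _ (AlgHom.mem_range_self _ A'))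
      (val_eq_one_of_eval_ne P c hx hy A (by rw [hA]; exact h0))
      (by linear_combination -hrelF) hfrac

/-- the affine Jacobian criterion for a plane model `k(x, y)`, `F(x, y) = 0`, at a point `c`. -/
theorem affine_jacobian [Infinite k] (hK : IsFunctionField k K) (x y : K)
    (hxy : IntermediateField.adjoin k ({x, y} : Set K) = ⊤) (F : MvPolynomial (Fin 2) k)
    (hF : Irreducible F) (hFxy : MvPolynomial.aeval ![x, y] F = 0) (P : Place k K)
    (c : Fin 2 → k) (hx : P.1 (x - algebraMap k K (c 0)) < 1)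
    (hy : P.1 (y - algebraMap k K (c 1)) < 1) :
    (∀ z : K, P.1 z ≤ 1 →
      ∃ u ∈ (MvPolynomial.aeval ![x, y] : MvPolynomial (Fin 2) k →ₐ[k] K).range,
        ∃ w ∈ (MvPolynomial.aeval ![x, y] : MvPolynomial (Fin 2) k →ₐ[k] K).range,
          P.1 w = 1 ∧ z * w = u) ↔
      ¬ (MvPolynomial.eval c (MvPolynomial.pderiv 0 F) = 0 ∧
        MvPolynomial.eval c (MvPolynomial.pderiv 1 F) = 0) := by
  constructor
  · rintro hns ⟨h0, h1⟩
    rcases le_total (P.1 (x - algebraMap k K (c 0))) (P.1 (y - algebraMap k K (c 1))) with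
      hle | hle
    · obtain ⟨l, hl⟩ := exists_pderiv_ne_zero hK x y hxy F hF hFxy P c hx hy hns 0 1 (by decide) hle
      fin_cases l
      · exact hl h0
      · exact hl h1
    · obtain ⟨l, hl⟩ := exists_pderiv_ne_zero hK x y hxy F hF hFxy P c hx hy hns 1 0 (by decide) hle
      fin_cases l
      · exact hl h0
      · exact hl h1
  · exact nonsing_of_pderiv_ne_zero x y hxy F hFxy P c hx hy

end Groth.Agent.H81.PlaneLocal
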