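import Groth.Agent.H81.IntMult
import Groth.Agent.H81.PlaneLocal
import Groth.Agent.H81.PlaneKer
import Groth.Prelude.Def_W4bk4goldsch45
import Mathlib

/-!
# Intersection multiplicity of a plane curve with `V(g)` at a point: `∑ ord_Q g = dim A/(f, g)`.
-/

set_option autoImplicit false

namespace Groth.Agent.H81.IntMult

open FunFld WithZero Groth.Agent.H55 MvPolynomial

section SameImage

variable {k K : Type*} [Field k] [Field K] [Algebra k K] {ι : Type*}

/-- (the forward direction of S11078, without linear independence) -/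
theorem sameImage_val {φ : ι → K} {P Q : Place k K} (h : SameImage φ P Q) {z : K}
    (hz : InLocRing φ P z) : Q.1 z ≤ 1 ∧ (Q.1 z < 1 ↔ P.1 z < 1) := by
  obtain ⟨j, hj0, hPj, hQj, hc⟩ := h
  obtain ⟨j', hj'0, hPj', u, hu, w, hw, hPw, hzw⟩ := hz
  choose c hcP hcQ using hc
  have hPb : P.1 (φ j' / φ j) = 1 := by
    rw [map_div₀, le_antisymm (hPj j') (hPj' j)]
    exact div_self ((Valuation.ne_zero_iff _).mpr hj0)
  have hcj' : c j' ≠ 0 := by
    intro h0
    have := (val_lt_one_iff_const_eq_zero P (hcP j')).mpr h0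
    rw [hPb] at this
    exact lt_irrefl _ this
  have e : ∀ i, φ i / φ j / (φ j' / φ j) = φ i / φ j' := by
    intro i
    field_simp
  have hP' : ∀ i, P.1 (φ i / φ j' - algebraMap k K (c i / c j')) < 1 := by
    intro i
    have := val_div_sub_lt_one P (hcP i) (hcP j') hcj'
    rwa [e] at this
  have hQ' : ∀ i, Q.1 (φ i / φ j' - algebraMap k K (c i / c j')) < 1 := by
    intro i
    have := val_div_sub_lt_one Q (hcQ i) (hcQ j') hcj'
    rwa [e] at this
  obtain ⟨du, hduP, hduQ⟩ := adjoin_const_two P Q _ _ hP' hQ' hu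
  obtain ⟨dw, hdwP, hdwQ⟩ := adjoin_const_two P Q _ _ hP' hQ' hw
  have hdw : dw ≠ 0 := by
    intro h0
    have := (val_lt_one_iff_const_eq_zero P hdwP).mpr h0
    rw [hPw] at this
    exact lt_irrefl _ this
  have hQw : Q.1 w = 1 := val_eq_one_of_sub_const Q hdwQ hdw
  have hQz : Q.1 z = Q.1 u := by rw [← hzw, map_mul, hQw, mul_one]
  have hPz : P.1 z = P.1 u := by rw [← hzw, map_mul, hPw, mul_one]
  rw [hQz, hPz]
  refine ⟨val_le_one_of_sub_const Q hduQ.le, ?_⟩
  rw [val_lt_one_iff_const_eq_zero Q hduQ, val_lt_one_iff_const_eq_zero P hduP]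

theorem same_const {r : ι → K} {P Q : Place k K} (h : Same r P Q) (cP : ι → k)
    (hcP : ∀ i, P.1 (r i - algebraMap k K (cP i)) < 1) (i : ι) :
    Q.1 (r i - algebraMap k K (cP i)) < 1 := by
  obtain ⟨c', h1, h2⟩ := h.2 i
  by_cases hcc : c' = cP i
  · rw [← hcc]; exact h2
  · exfalso
    have h3 : P.1 (algebraMap k K (cP i - c')) = 1 := pl_val_const P (sub_ne_zero.mpr (Ne.symm hcc))
    have h4 : algebraMap k K (cP i - c') =
        (r i - algebraMap k K c') - (r i - algebraMap k K (cP i)) := by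
      rw [map_sub]; ring
    rw [h4] at h3
    have h5 := P.1.map_sub_lt h1 (hcP i)
    rw [h3] at h5
    exact lt_irrefl _ h5

theorem same_iff_sameImage (r : ι → K) (j₀ : ι) (hj₀ : r j₀ = 1) (P Q : Place k K)
    (hP : IsFin r P) (cP : ι → k) (hcP : ∀ i, P.1 (r i - algebraMap k K (cP i)) < 1) :
    Same r P Q ↔ SameImage r P Q := by
  constructor
  · rintro ⟨hQfin, hc⟩
    refine ⟨j₀, by rw [hj₀]; exact one_ne_zero, fun i => by rw [hj₀, map_one]; exact hP i,
      fun i => by rw [hj₀, map_one]; exact hQfin i, fun i => ?_⟩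
    obtain ⟨c, h1, h2⟩ := hc i
    exact ⟨c, by rw [hj₀, div_one]; exact h1, by rw [hj₀, div_one]; exact h2⟩
  · intro h
    have key : ∀ i, Q.1 (r i - algebraMap k K (cP i)) < 1 := by
      intro i
      have hin : InLocRing r P (r i - algebraMap k K (cP i)) := by
        refine ⟨j₀, by rw [hj₀]; exact one_ne_zero, fun i => by rw [hj₀, map_one]; exact hP i,
          r i / r j₀ - algebraMap k K (cP i), ?_, 1, Subalgebra.one_mem _, map_one _,
          by rw [hj₀, div_one, mul_one]⟩
        exact Subalgebra.sub_mem _ (Algebra.subset_adjoin ⟨i, rfl⟩)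
          (Subalgebra.algebraMap_mem _ _)
      exact ((sameImage_val h hin).2).mpr (hcP i)
    exact ⟨fun i => val_le_one_of_sub_const Q (key i).le, fun i => ⟨cP i, hcP i, key i⟩⟩

end SameImage

section Main

variable {k K : Type*} [Field k] [Field K] [Algebra k K]

theorem main [IsAlgClosed k] (hK : FunFld.IsFunctionField k K) (x y : K)
    (hxy : IntermediateField.adjoin k ({x, y} : Set K) = ⊤) (f g : MvPolynomial (Fin 2) k)
    (hf : Irreducible f) (hfxy : MvPolynomial.aeval ![x, y] f = 0)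
    (hgxy : MvPolynomial.aeval ![x, y] g ≠ 0) (P : FunFld.Place k K) (c : Fin 2 → k)
    (hc : ∀ i, P.1 (![x, y] i - algebraMap k K (c i)) < 1)
    (M : Ideal (MvPolynomial (Fin 2) k)) [M.IsMaximal]
    (hM : M = Ideal.span {MvPolynomial.X 0 - MvPolynomial.C (c 0),
      MvPolynomial.X 1 - MvPolynomial.C (c 1)}) :
    ∑ᶠ Q ∈ {Q : FunFld.Place k K | FunFld.SameImage ![(1 : K), x, y] P Q},
        Q.ord (MvPolynomial.aeval ![x, y] g) =
      (Module.finrank k (Localization.AtPrime M ⧸
        Ideal.map (algebraMap (MvPolynomial (Fin 2) k) (Localization.AtPrime M))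
          (Ideal.span {f, g})) : ℤ) := by
  classical
  have hx : P.1 (x - algebraMap k K (c 0)) < 1 := by simpa using hc 0
  have hy : P.1 (y - algebraMap k K (c 1)) < 1 := by simpa using hc 1
  obtain ⟨r, hr⟩ : ∃ r : Fin 3 → K, r = ![(1 : K), x, y] := ⟨_, rfl⟩
  obtain ⟨cP, hcPdef⟩ : ∃ cP : Fin 3 → k, cP = ![1, c 0, c 1] := ⟨_, rfl⟩
  have hr0 : r 0 = 1 := by rw [hr]; rfl
  have hr1 : r 1 = x := by rw [hr]; rfl
  have hr2 : r 2 = y := by rw [hr]; rfl
  have hcP : ∀ i, P.1 (r i - algebraMap k K (cP i)) < 1 := by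
    intro i
    fin_cases i
    · show P.1 (r 0 - algebraMap k K (cP 0)) < 1
      rw [hr0, hcPdef]
      simp
    · show P.1 (r 1 - algebraMap k K (cP 1)) < 1
      rw [hr1, hcPdef]
      exact hx
    · show P.1 (r 2 - algebraMap k K (cP 2)) < 1
      rw [hr2, hcPdef]
      exact hy
  have hP : IsFin r P := fun i => val_le_one_of_sub_const P (hcP i).le
  have hgen : IntermediateField.adjoin k (Set.range r) = ⊤ := by
    rw [eq_top_iff, ← hxy]
    apply IntermediateField.adjoin.mono
    intro z hz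
    rcases hz with hz | hz
    · exact ⟨1, by rw [hr1, hz]⟩
    · exact ⟨2, by rw [hr2, Set.mem_singleton_iff.mp hz]⟩
  -- finiteness of the fibre
  have hSfin : {Q : Place k K | Same r P Q}.Finite := by
    by_cases hx0 : x - algebraMap k K (c 0) = 0
    · by_cases hy0 : y - algebraMap k K (c 1) = 0
      · exfalso
        obtain ⟨⟨t, ht, -⟩, -⟩ := hK
        have htop : (⊤ : IntermediateField k K) = ⊥ := by
          rw [← hxy, IntermediateField.adjoin_eq_bot_iff]
          intro z hz
          rcases hz with hz | hz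
          · rw [hz, sub_eq_zero.mp hx0]
            exact IntermediateField.algebraMap_mem _ _
          · rw [Set.mem_singleton_iff.mp hz, sub_eq_zero.mp hy0]
            exact IntermediateField.algebraMap_mem _ _
        have h1 : t ∈ (⊥ : IntermediateField k K) := htop ▸ IntermediateField.mem_top
        obtain ⟨d, hd⟩ := IntermediateField.mem_bot.mp h1
        exact ht (hd ▸ isAlgebraic_algebraMap d)
      · refine (zeros_finite hK _ hy0).subset ?_
        intro Q hQ
        have := same_const hQ cP hcP 2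
        rw [hr2, hcPdef] at this
        exact this
    · refine (zeros_finite hK _ hx0).subset ?_
      intro Q hQ
      have := same_const hQ cP hcP 1
      rw [hr1, hcPdef] at this
      exact this
  have hset : {Q : Place k K | SameImage ![(1 : K), x, y] P Q} = {Q | Same r P Q} := by
    ext Q
    rw [Set.mem_setOf_eq, Set.mem_setOf_eq, ← hr]
    exact (same_iff_sameImage r 0 hr0 P Q hP cP hcP).symm
  rw [hset, finsum_mem_eq_finite_toFinset_sum _ hSfin]
  have hS : ∀ Q, Q ∈ hSfin.toFinset ↔ Same r P Q := fun Q => by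
    rw [Set.Finite.mem_toFinset]; rfl
  have hAco : ∀ G : MvPolynomial (Fin 2) k, aeval ![x, y] G ∈ Acoord k r := by
    intro G
    have h1 : aeval ![x, y] G ∈ Algebra.adjoin k (Set.range ![x, y]) := by
      rw [Algebra.adjoin_range_eq_range_aeval]
      exact ⟨G, rfl⟩
    refine Algebra.adjoin_mono ?_ h1
    rintro _ ⟨i, rfl⟩
    fin_cases i
    · exact ⟨1, hr1⟩
    · exact ⟨2, hr2⟩
  have hAco' : ∀ u ∈ Acoord k r, ∃ G : MvPolynomial (Fin 2) k, aeval ![x, y] G = u := by
    intro u hu
    have h1 : Acoord k r ≤ (aeval ![x, y] : MvPolynomial (Fin 2) k →ₐ[k] K).range := by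
      apply Algebra.adjoin_le
      rintro _ ⟨i, rfl⟩
      match i with
      | 0 => exact ⟨1, by
          show aeval ![x, y] (1 : MvPolynomial (Fin 2) k) = r 0
          rw [map_one]; exact hr0.symm⟩
      | 1 => exact ⟨X 0, by
          show aeval ![x, y] (X 0 : MvPolynomial (Fin 2) k) = r 1
          rw [aeval_X]; exact hr1.symm⟩
      | 2 => exact ⟨X 1, by
          show aeval ![x, y] (X 1 : MvPolynomial (Fin 2) k) = r 2
          rw [aeval_X]; exact hr2.symm⟩
    exact h1 hu
  have hgO : aeval ![x, y] g ∈ locSub (Acoord k r) P := le_locSub _ _ (hAco g)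
  obtain ⟨hfin, hcount⟩ := relfr_locSub hK r 0 hr0 hgen P hP hSfin.toFinset hS _ hgxy hgO
  rw [← hcount]
  congr 1
  -- the algebraic identification
  have hMiff : ∀ G : MvPolynomial (Fin 2) k, G ∈ M ↔ eval c G = 0 := by
    intro G
    constructor
    · intro hG
      have hle : M ≤ RingHom.ker (eval c : MvPolynomial (Fin 2) k →+* k) := by
        rw [hM, Ideal.span_le]
        intro z hz
        rcases hz with hz | hz
        · rw [hz]; simp [RingHom.mem_ker]
        · rw [Set.mem_singleton_iff.mp hz]; simp [RingHom.mem_ker]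
      exact hle hG
    · intro hG
      obtain ⟨A, B, h1, -, -⟩ := PlaneLocal.exists_expand c G
      rw [h1, hG, map_zero, zero_add, hM]
      exact Ideal.add_mem _
        (Ideal.mul_mem_right _ _ (Ideal.subset_span (Set.mem_insert _ _)))
        (Ideal.mul_mem_right _ _ (Ideal.subset_span (Set.mem_insert_of_mem _ rfl)))
  have hunit : ∀ s : M.primeCompl, P.1 (aeval ![x, y] (s : MvPolynomial (Fin 2) k)) = 1 := by
    intro s
    apply PlaneLocal.val_eq_one_of_eval_ne P c hx hy
    intro h0
    exact s.2 ((hMiff _).mpr h0)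
  have hunit' : ∀ s : M.primeCompl,
      IsUnit ((aeval ![x, y] : MvPolynomial (Fin 2) k →ₐ[k] K) s) := by
    intro s
    apply IsUnit.mk0
    intro h0
    have := hunit s
    rw [h0, map_zero] at this
    exact zero_ne_one this
  obtain ⟨ψ, hψ⟩ : ∃ ψ : Localization.AtPrime M →ₐ[k] K,
      ∀ G, ψ (algebraMap (MvPolynomial (Fin 2) k) (Localization.AtPrime M) G) =
        aeval ![x, y] G :=
    ⟨IsLocalization.liftAlgHom (M := M.primeCompl) hunit', fun G => IsLocalization.lift_eq _ G⟩
  have hker : RingHom.ker (aeval ![x, y] : MvPolynomial (Fin 2) k →ₐ[k] K) = Ideal.span {f} :=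
    PlaneKer.ker_eq_span hK x y hxy f hf hfxy
  have hsurjmk : ∀ z : Localization.AtPrime M, ∃ (G : MvPolynomial (Fin 2) k) (s : M.primeCompl),
      z * algebraMap _ (Localization.AtPrime M) (s : MvPolynomial (Fin 2) k) =
        algebraMap _ (Localization.AtPrime M) G := by
    intro z
    obtain ⟨⟨G, s⟩, h⟩ := IsLocalization.surj M.primeCompl z
    exact ⟨G, s, h⟩
  have hψO : ∀ z, ψ z ∈ locSub (Acoord k r) P := by
    intro z
    obtain ⟨G, s, h⟩ := hsurjmk z
    have h1 := congrArg ψ h
    rw [map_mul, hψ, hψ] at h1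
    exact ⟨_, hAco G, _, hAco s, hunit s, h1⟩
  have hψsurj : ∀ u ∈ locSub (Acoord k r) P, ∃ z, ψ z = u := by
    rintro u ⟨a, ha, w, hw, hPw, huw⟩
    obtain ⟨Ga, rfl⟩ := hAco' a ha
    obtain ⟨Gw, rfl⟩ := hAco' w hw
    have hGw : Gw ∈ M.primeCompl := by
      intro hmem
      have h0 := (hMiff Gw).mp hmem
      have h1 := PlaneLocal.val_sub_lt P c hx hy Gw
      rw [h0, map_zero, sub_zero, hPw] at h1
      exact lt_irrefl _ h1
    refine ⟨IsLocalization.mk' (Localization.AtPrime M) Ga ⟨Gw, hGw⟩, ?_⟩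
    have hw0 : aeval ![x, y] Gw ≠ 0 := by
      intro h0
      rw [h0, map_zero] at hPw
      exact zero_ne_one hPw
    have h2 : ψ (IsLocalization.mk' (Localization.AtPrime M) Ga ⟨Gw, hGw⟩) * aeval ![x, y] Gw =
        aeval ![x, y] Ga := by
      rw [← hψ Gw, ← map_mul, ← hψ Ga]
      congr 1
      exact IsLocalization.mk'_spec _ Ga ⟨Gw, hGw⟩
    exact mul_right_cancel₀ hw0 (h2.trans huw.symm)
  have hkerψ : ∀ z, ψ z = 0 → ∃ b, z = algebraMap _ (Localization.AtPrime M) f * b := by
    intro z hz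
    obtain ⟨G, s, h⟩ := hsurjmk z
    have h1 := congrArg ψ h
    rw [map_mul, hψ, hψ, hz, zero_mul] at h1
    have h2 : G ∈ Ideal.span {f} := by
      rw [← hker, RingHom.mem_ker]
      exact h1.symm
    obtain ⟨H, rfl⟩ := Ideal.mem_span_singleton.mp h2
    refine ⟨IsLocalization.mk' (Localization.AtPrime M) H s, ?_⟩
    have hs : IsUnit (algebraMap _ (Localization.AtPrime M) (s : MvPolynomial (Fin 2) k)) :=
      IsLocalization.map_units _ s
    apply hs.mul_right_cancel
    rw [h, map_mul, mul_assoc, IsLocalization.mk'_spec]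
  set O : Submodule k K := Subalgebra.toSubmodule (locSub (Acoord k r) P) with hO
  set gt : K := aeval ![x, y] g with hgt
  set J : Ideal (Localization.AtPrime M) :=
    Ideal.map (algebraMap (MvPolynomial (Fin 2) k) (Localization.AtPrime M)) (Ideal.span {f, g})
    with hJ
  have hJspan : J = Ideal.span {algebraMap _ (Localization.AtPrime M) f,
      algebraMap _ (Localization.AtPrime M) g} := by
    rw [hJ, Ideal.map_span, Set.image_pair]
  let Φ : Localization.AtPrime M →ₗ[k] RelQ (gmul gt O) O :=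
    ((gmul gt O).comap O.subtype).mkQ ∘ₗ (ψ.toLinearMap.codRestrict O hψO)
  have hΦsurj : Function.Surjective Φ := by
    intro w
    obtain ⟨⟨u, hu⟩, rfl⟩ := Submodule.mkQ_surjective _ w
    obtain ⟨z, hz⟩ := hψsurj u hu
    refine ⟨z, ?_⟩
    show ((gmul gt O).comap O.subtype).mkQ (ψ.toLinearMap.codRestrict O hψO z) = _
    congr 1
    exact Subtype.ext hz
  have hΦker : LinearMap.ker Φ = J.restrictScalars k := by
    ext z
    rw [LinearMap.mem_ker, Submodule.restrictScalars_mem]
    show ((gmul gt O).comap O.subtype).mkQ (ψ.toLinearMap.codRestrict O hψO z) = 0 ↔ _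
    rw [Submodule.mkQ_apply, Submodule.Quotient.mk_eq_zero, Submodule.mem_comap]
    show ψ z ∈ gmul gt O ↔ z ∈ J
    rw [mem_gmul, hJspan, Ideal.mem_span_pair]
    constructor
    · rintro ⟨a, ha, hga⟩
      obtain ⟨a', rfl⟩ := hψsurj a ha
      have h1 : ψ (z - algebraMap _ (Localization.AtPrime M) g * a') = 0 := by
        rw [map_sub, map_mul, hψ, ← hga, sub_self]
      obtain ⟨b, hb⟩ := hkerψ _ h1
      refine ⟨b, a', ?_⟩
      have : z = algebraMap _ (Localization.AtPrime M) f * b +
          algebraMap _ (Localization.AtPrime M) g * a' := by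
        rw [← hb]; ring
      rw [this]; ring
    · rintro ⟨a, b, rfl⟩
      refine ⟨ψ b, hψO b, ?_⟩
      rw [map_add, map_mul, map_mul, hψ, hψ, hfxy, mul_zero, zero_add, mul_comm]
  have e1 : (Localization.AtPrime M ⧸ J) ≃ₗ[k] RelQ (gmul gt O) O :=
    ((Submodule.Quotient.restrictScalarsEquiv k J).symm.trans
      (Submodule.quotEquivOfEq _ _ hΦker.symm)).trans (Φ.quotKerEquivOfSurjective hΦsurj)
  exact e1.finrank_eq.symm

end Main

end Groth.Agent.H81.IntMult
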