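import Groth.Agent.H81.LocalN
import Groth.Agent.H81.Dehom
import Groth.Agent.H55.FFProj
import Mathlib

/-!
The Jacobian criterion for an affine model `k[y₁, …, yₙ] ⊆ K` of a function field at a point:
geometric core statements and the linear algebra relating them to the rank of the Jacobian matrix.
-/

set_option autoImplicit false

namespace Groth.Agent.H81.JacN

open FunFld WithZero MvPolynomial

variable {k K : Type*} [Field k] [Field K] [Algebra k K] {n : ℕ}

/-- every polynomial in `n` variables is the dehomogenization of a homogeneous polynomial. -/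
theorem exists_homogeneous_lift (j : Fin (n + 1)) (G : MvPolynomial (Fin n) k) :
    ∃ g : MvPolynomial (Fin (n + 1)) k, ∃ e : ℕ, g.IsHomogeneous e ∧ Dehom.D j g = G := by
  obtain ⟨G', hG'⟩ : ∃ G', G' = Dehom.incl j G := ⟨_, rfl⟩
  refine ⟨∑ i ∈ Finset.range (G'.totalDegree + 1),
    X j ^ (G'.totalDegree - i) * homogeneousComponent i G', G'.totalDegree, ?_, ?_⟩
  · apply IsHomogeneous.sum
    intro i hi
    have hi' := Finset.mem_range.mp hi
    have h1 : (X j ^ (G'.totalDegree - i) : MvPolynomial (Fin (n + 1)) k).IsHomogeneous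
        (G'.totalDegree - i) := isHomogeneous_X_pow j _
    have h2 := h1.mul (homogeneousComponent_isHomogeneous i G')
    have e1 : G'.totalDegree - i + i = G'.totalDegree := by omega
    rw [e1] at h2
    exact h2
  · rw [map_sum]
    have h : ∀ i ∈ Finset.range (G'.totalDegree + 1),
        Dehom.D j (X j ^ (G'.totalDegree - i) * homogeneousComponent i G') =
          Dehom.D j (homogeneousComponent i G') := by
      intro i _
      rw [map_mul, map_pow, Dehom.D_X_same, one_pow, one_mul]
    rw [Finset.sum_congr rfl h, ← map_sum, sum_homogeneousComponent, hG', Dehom.D_incl]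

/-- the graded evaluation of a homogeneous polynomial. -/
theorem aeval_C_mul_X (φ : Fin (n + 1) → K) {p : MvPolynomial (Fin (n + 1)) k} {e : ℕ}
    (hp : p.IsHomogeneous e) :
    aeval (fun i => Polynomial.C (φ i) * Polynomial.X) p =
      Polynomial.C (aeval φ p) * Polynomial.X ^ e := by
  have h1 : (fun i => Polynomial.C (φ i) * (Polynomial.X : Polynomial K)) =
      fun i => Polynomial.X * Polynomial.C (φ i) := by
    funext i
    rw [mul_comm]
  have h2 : ∀ q : MvPolynomial (Fin (n + 1)) k,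
      aeval (fun i => (Polynomial.C (φ i) : Polynomial K)) q = Polynomial.C (aeval φ q) := by
    intro q
    induction q using MvPolynomial.induction_on with
    | C a => rw [aeval_C, aeval_C, Polynomial.algebraMap_apply]
    | add p q hp hq => rw [map_add, map_add, hp, hq, map_add]
    | mul_X p i hp => rw [map_mul, map_mul, hp, aeval_X, aeval_X, map_mul]
  rw [h1, Dehom.aeval_mul_of_isHomogeneous hp, h2, mul_comm]

/-- the ideal of the affine model in the chart `X 0 ≠ 0` is generated by the dehomogenizations of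
homogeneous generators of the ideal of homogeneous relations. -/
theorem ker_eq_span_D (φ : Fin (n + 1) → K) (hφ0 : φ 0 ≠ 0) {r : ℕ}
    (f : Fin r → MvPolynomial (Fin (n + 1)) k)
    (hhom : ∀ a, (f a).IsHomogeneous (f a).totalDegree)
    (hgen : Ideal.span (Set.range f) =
      RingHom.ker (MvPolynomial.aeval fun i => Polynomial.C (φ i) * Polynomial.X))
    (ys : Fin n → K) (hys : ∀ i, ys i = φ i.succ / φ 0) :
    RingHom.ker (aeval ys : MvPolynomial (Fin n) k →ₐ[k] K) =
      Ideal.span (Set.range fun a => Dehom.D 0 (f a)) := by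
  have hψ : ∀ (p : MvPolynomial (Fin (n + 1)) k) (e : ℕ), p.IsHomogeneous e →
      aeval ys (Dehom.D 0 p) = (φ 0)⁻¹ ^ e * aeval φ p := by
    intro p e hp
    rw [Dehom.aeval_D]
    have h1 : Dehom.ins 0 (1 : K) ys = fun i => (φ 0)⁻¹ * φ i := by
      funext i
      rcases Fin.eq_self_or_eq_succAbove 0 i with h | ⟨i', h⟩
      · rw [h, Dehom.ins_same, inv_mul_cancel₀ hφ0]
      · rw [h, Dehom.ins_succAbove, hys, Fin.succAbove_zero, div_eq_inv_mul]
    rw [h1, Dehom.aeval_mul_of_isHomogeneous hp]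
  have hker : ∀ (p : MvPolynomial (Fin (n + 1)) k) (e : ℕ), p.IsHomogeneous e →
      (p ∈ RingHom.ker (MvPolynomial.aeval (R := k) fun i => Polynomial.C (φ i) * Polynomial.X) ↔
        aeval φ p = 0) := by
    intro p e hp
    rw [RingHom.mem_ker, aeval_C_mul_X φ hp]
    constructor
    · intro h
      rcases mul_eq_zero.mp h with h | h
      · exact Polynomial.C_eq_zero.mp h
      · exact absurd h (pow_ne_zero _ Polynomial.X_ne_zero)
    · intro h
      rw [h, map_zero, zero_mul]
  apply le_antisymm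
  · intro G hG
    rw [RingHom.mem_ker] at hG
    obtain ⟨g, e, hg, hDg⟩ := exists_homogeneous_lift 0 G
    have h1 : aeval φ g = 0 := by
      have h2 := hψ g e hg
      rw [hDg, hG] at h2
      rcases mul_eq_zero.mp h2.symm with h | h
      · exact absurd h (pow_ne_zero _ (inv_ne_zero hφ0))
      · exact h
    have h2 : g ∈ Ideal.span (Set.range f) := by
      rw [hgen, hker g e hg]
      exact h1
    rw [← hDg]
    have h3 : Ideal.span (Set.range f) ≤
        Ideal.comap (Dehom.D 0) (Ideal.span (Set.range fun a => Dehom.D 0 (f a))) := by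
      rw [Ideal.span_le]
      rintro _ ⟨a, rfl⟩
      exact Ideal.subset_span ⟨a, rfl⟩
    exact h3 h2
  · rw [Ideal.span_le]
    rintro _ ⟨a, rfl⟩
    show Dehom.D 0 (f a) ∈ RingHom.ker (aeval ys : MvPolynomial (Fin n) k →ₐ[k] K)
    rw [RingHom.mem_ker, hψ _ _ (hhom a)]
    have h1 : f a ∈ RingHom.ker
        (MvPolynomial.aeval (R := k) fun i => Polynomial.C (φ i) * Polynomial.X) := by
      rw [← hgen]
      exact Ideal.subset_span ⟨a, rfl⟩
    rw [(hker _ _ (hhom a)).mp h1, mul_zero]

section core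

theorem aeval_gen_eq_zero (ys : Fin n → K) {r : ℕ} (g : Fin r → MvPolynomial (Fin n) k)
    (hI : RingHom.ker (aeval ys : MvPolynomial (Fin n) k →ₐ[k] K) = Ideal.span (Set.range g))
    (a : Fin r) : aeval ys (g a) = 0 := by
  have h : g a ∈ RingHom.ker (aeval ys : MvPolynomial (Fin n) k →ₐ[k] K) := by
    rw [hI]
    exact Ideal.subset_span ⟨a, rfl⟩
  exact h

theorem eval_gen_eq_zero (P : Place k K) (ys : Fin n → K) (c : Fin n → k)
    (hc : ∀ i, P.1 (ys i - algebraMap k K (c i)) < 1) {r : ℕ}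
    (g : Fin r → MvPolynomial (Fin n) k)
    (hI : RingHom.ker (aeval ys : MvPolynomial (Fin n) k →ₐ[k] K) = Ideal.span (Set.range g))
    (a : Fin r) : eval c (g a) = 0 :=
  LocalN.eval_eq_zero_of_val_lt P ys c hc (g a)
    (by rw [aeval_gen_eq_zero ys g hI a, map_zero]; exact zero_lt_one)

theorem combo (P : Place k K) (ys : Fin n → K) (c : Fin n → k)
    (hc : ∀ i, P.1 (ys i - algebraMap k K (c i)) < 1) {r : ℕ}
    (g : Fin r → MvPolynomial (Fin n) k)
    (hI : RingHom.ker (aeval ys : MvPolynomial (Fin n) k →ₐ[k] K) = Ideal.span (Set.range g))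
    (β : Fin r → k) :
    aeval ys (∑ a, C (β a) * g a) = 0 ∧ eval c (∑ a, C (β a) * g a) = 0 ∧
      ∀ j, eval c (pderiv j (∑ a, C (β a) * g a)) = ∑ a, β a * eval c (pderiv j (g a)) := by
  refine ⟨?_, ?_, ?_⟩
  · rw [map_sum]
    apply Finset.sum_eq_zero
    intro a _
    rw [map_mul, aeval_gen_eq_zero ys g hI a, mul_zero]
  · rw [map_sum]
    apply Finset.sum_eq_zero
    intro a _
    rw [map_mul, eval_gen_eq_zero P ys c hc g hI a, mul_zero]
  · intro j
    rw [map_sum, map_sum]
    apply Finset.sum_congr rfl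
    intro a _
    rw [pderiv_C_mul, map_mul, eval_C]

theorem exp_neg_one_lt_one : (exp (-1 : ℤ) : WithZero (Multiplicative ℤ)) < 1 := by
  rw [← exp_zero, exp_lt_exp]
  norm_num

/-- the nonsingular direction. -/
theorem nonsing_of_rowspan (P : Place k K) (ys : Fin n → K) (c : Fin n → k)
    (hc : ∀ i, P.1 (ys i - algebraMap k K (c i)) < 1) {r : ℕ}
    (g : Fin r → MvPolynomial (Fin n) k)
    (hI : RingHom.ker (aeval ys : MvPolynomial (Fin n) k →ₐ[k] K) = Ideal.span (Set.range g))
    (hfrac : ∀ z : K, ∃ b1 ∈ (aeval ys : MvPolynomial (Fin n) k →ₐ[k] K).range,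
      ∃ b2 ∈ (aeval ys : MvPolynomial (Fin n) k →ₐ[k] K).range, b2 ≠ 0 ∧ z * b2 = b1)
    (l : Fin n) (α : Fin n → k) (β : Fin n → Fin r → k)
    (hβ : ∀ i j, (if j = i then (1 : k) else 0) - α i * (if j = l then 1 else 0) =
      ∑ a, β i a * eval c (pderiv j (g a))) :
    ∀ z : K, P.1 z ≤ 1 → ∃ u ∈ (aeval ys : MvPolynomial (Fin n) k →ₐ[k] K).range,
      ∃ w ∈ (aeval ys : MvPolynomial (Fin n) k →ₐ[k] K).range, P.1 w = 1 ∧ z * w = u := by
  classical
  have hv1 : ∀ i, P.1 (ys i) ≤ 1 := fun i => PlaneLocal.val_le_of_sub_lt P _ (hc i)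
  have hB1 : ∀ b ∈ (aeval ys : MvPolynomial (Fin n) k →ₐ[k] K).range, P.1 b ≤ 1 := by
    intro b hb
    obtain ⟨G, rfl⟩ := (AlgHom.mem_range _).mp hb
    exact LocalN.val_aeval_le P hv1 G
  have hex : ∀ i, ∃ A : Fin n → MvPolynomial (Fin n) k,
      (∑ a, C (β i a) * g a) = ∑ j, (X j - C (c j)) * A j ∧
      ∀ j, eval c (A j) = (if j = i then (1 : k) else 0) - α i * (if j = l then 1 else 0) := by
    intro i
    obtain ⟨-, h2, h3⟩ := combo P ys c hc g hI (β i)
    obtain ⟨A, hA1, hA2⟩ := LocalN.exists_expand c (∑ a, C (β i a) * g a)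
    rw [h2, map_zero, zero_add] at hA1
    exact ⟨A, hA1, fun j => by rw [hA2 j, h3 j, hβ i j]⟩
  choose A hA1 hA2 using hex
  have hG0 : ∀ i, aeval ys (∑ j, (X j - C (c j)) * A i j) = 0 := by
    intro i
    rw [← hA1 i]
    exact (combo P ys c hc g hI (β i)).1
  obtain ⟨AA, hAA⟩ : ∃ AA : Matrix (Fin n) (Fin n) (MvPolynomial (Fin n) k),
      AA = Matrix.of fun i j => A i j + C (α i) * (if j = l then 1 else 0) := ⟨_, rfl⟩
  obtain ⟨ρ, hρ⟩ : ∃ ρ : Fin n → MvPolynomial (Fin n) k, ρ = fun j => X j - C (c j) := ⟨_, rfl⟩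
  have hmul : ∀ i, (AA.mulVec ρ) i = (∑ j, (X j - C (c j)) * A i j) + C (α i) * ρ l := by
    intro i
    rw [hAA, hρ]
    show ∑ j, (A i j + C (α i) * (if j = l then 1 else 0)) * (X j - C (c j)) = _
    simp only [add_mul, Finset.sum_add_distrib]
    congr 1
    · apply Finset.sum_congr rfl
      intro j _
      ring
    · rw [Finset.sum_eq_single l]
      · rw [if_pos rfl, mul_one]
      · intro j _ hj
        rw [if_neg hj, mul_zero, zero_mul]
      · intro h
        exact absurd (Finset.mem_univ _) h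
  have hdet : eval c AA.det = 1 := by
    rw [RingHom.map_det]
    have h1 : (eval c).mapMatrix AA = 1 := by
      ext i j
      rw [RingHom.mapMatrix_apply, Matrix.map_apply, hAA]
      show eval c (A i j + C (α i) * (if j = l then 1 else 0)) =
        (1 : Matrix (Fin n) (Fin n) k) i j
      rw [map_add, map_mul, eval_C, hA2 i j, Matrix.one_apply]
      have e1 : (if j = i then (1 : k) else 0) = if i = j then 1 else 0 := by
        simp only [eq_comm]
      rw [e1]
      by_cases hjl : j = l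
      · simp only [if_pos hjl, map_one]
        ring
      · simp only [if_neg hjl, map_zero]
        ring
    rw [h1, Matrix.det_one]
  have hcr : ∀ i, AA.det * ρ i = ∑ j, AA.adjugate i j *
      ((∑ j', (X j' - C (c j')) * A j j') + C (α j) * ρ l) := by
    intro i
    have h1 : (AA.adjugate * AA).mulVec ρ = AA.det • ρ := by
      rw [Matrix.adjugate_mul, Matrix.smul_mulVec, Matrix.one_mulVec]
    rw [← Matrix.mulVec_mulVec] at h1
    have h2 := congrFun h1 i
    rw [Pi.smul_apply, smul_eq_mul] at h2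
    rw [← h2]
    show ∑ j, AA.adjugate i j * (AA.mulVec ρ) j = _
    apply Finset.sum_congr rfl
    intro j _
    rw [hmul j]
  obtain ⟨w, hwdef⟩ : ∃ w : K, w = aeval ys AA.det := ⟨_, rfl⟩
  have hPw : P.1 w = 1 := by
    rw [hwdef]
    exact LocalN.val_eq_one_of_eval_ne P ys c hc _ (by rw [hdet]; exact one_ne_zero)
  have hwB : w ∈ (aeval ys : MvPolynomial (Fin n) k →ₐ[k] K).range := by
    rw [hwdef]
    exact AlgHom.mem_range_self _ _
  have hρa : ∀ i, aeval ys (ρ i) = ys i - algebraMap k K (c i) := by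
    intro i
    rw [hρ]
    show aeval ys (X i - C (c i)) = _
    rw [map_sub, aeval_X, aeval_C]
  have hrel : ∀ i, (ys i - algebraMap k K (c i)) * w =
      (ys l - algebraMap k K (c l)) * aeval ys (∑ j, AA.adjugate i j * C (α j)) := by
    intro i
    have h1 := congrArg (aeval ys : MvPolynomial (Fin n) k →ₐ[k] K) (hcr i)
    rw [map_mul, map_sum] at h1
    have h2 : ∀ j, aeval ys (AA.adjugate i j *
        ((∑ j', (X j' - C (c j')) * A j j') + C (α j) * ρ l)) =
        aeval ys (AA.adjugate i j * C (α j)) * (ys l - algebraMap k K (c l)) := by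
      intro j
      rw [map_mul, map_add, hG0 j, zero_add, map_mul, map_mul, hρa]
      ring
    rw [Finset.sum_congr rfl (fun j _ => h2 j), ← Finset.sum_mul, ← map_sum, hρa, ← hwdef] at h1
    rw [mul_comm, h1, mul_comm]
  have hstep : ∀ b ∈ (aeval ys : MvPolynomial (Fin n) k →ₐ[k] K).range, P.1 b < 1 →
      ∃ b' ∈ (aeval ys : MvPolynomial (Fin n) k →ₐ[k] K).range,
        b * w = (ys l - algebraMap k K (c l)) * b' := by
    intro b hb hPb
    obtain ⟨Gb, rfl⟩ := (AlgHom.mem_range _).mp hb
    obtain ⟨Ab, h1, -⟩ := LocalN.aeval_expand ys c Gb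
      (LocalN.eval_eq_zero_of_val_lt P ys c hc Gb hPb)
    refine ⟨∑ j, aeval ys (∑ j', AA.adjugate j j' * C (α j')) * aeval ys (Ab j), ?_, ?_⟩
    · apply Subalgebra.sum_mem
      intro j _
      exact Subalgebra.mul_mem _ (AlgHom.mem_range_self _ _) (AlgHom.mem_range_self _ _)
    · rw [h1, Finset.sum_mul, Finset.mul_sum]
      apply Finset.sum_congr rfl
      intro j _
      calc (ys j - algebraMap k K (c j)) * aeval ys (Ab j) * w
          = ((ys j - algebraMap k K (c j)) * w) * aeval ys (Ab j) := by ring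
        _ = (ys l - algebraMap k K (c l)) *
            (aeval ys (∑ j', AA.adjugate j j' * C (α j')) * aeval ys (Ab j)) := by
          rw [hrel j]
          ring
  have hsB : ys l - algebraMap k K (c l) ∈
      (aeval ys : MvPolynomial (Fin n) k →ₐ[k] K).range := by
    rw [← hρa l]
    exact AlgHom.mem_range_self _ _
  exact LocalN.loc_of_step P _ hB1 (ys l - algebraMap k K (c l)) hsB (hc l) w hwB hPw hstep hfrac

/-- an element of the coordinate ring of order one, from nonsingularity. -/
theorem exists_unif (P : Place k K) (ys : Fin n → K)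
    (hns : ∀ z : K, P.1 z ≤ 1 → ∃ u ∈ (aeval ys : MvPolynomial (Fin n) k →ₐ[k] K).range,
      ∃ w ∈ (aeval ys : MvPolynomial (Fin n) k →ₐ[k] K).range, P.1 w = 1 ∧ z * w = u) :
    ∃ U0 : MvPolynomial (Fin n) k, P.1 (aeval ys U0) = exp (-1 : ℤ) := by
  obtain ⟨t, ht⟩ := P.2.2 (exp (-1 : ℤ))
  obtain ⟨u0, hu0, w0, -, hPw0, htw⟩ := hns t (by rw [ht]; exact exp_neg_one_lt_one.le)
  obtain ⟨U0, rfl⟩ := (AlgHom.mem_range _).mp hu0
  exact ⟨U0, by rw [← htw, map_mul, hPw0, mul_one, ht]⟩

/-- the row space of the Jacobian matrix is not everything. -/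
theorem not_rowspan_top (P : Place k K) (ys : Fin n → K) (c : Fin n → k)
    (hc : ∀ i, P.1 (ys i - algebraMap k K (c i)) < 1) {r : ℕ}
    (g : Fin r → MvPolynomial (Fin n) k)
    (hI : RingHom.ker (aeval ys : MvPolynomial (Fin n) k →ₐ[k] K) = Ideal.span (Set.range g))
    (hns : ∀ z : K, P.1 z ≤ 1 → ∃ u ∈ (aeval ys : MvPolynomial (Fin n) k →ₐ[k] K).range,
      ∃ w ∈ (aeval ys : MvPolynomial (Fin n) k →ₐ[k] K).range, P.1 w = 1 ∧ z * w = u) :
    ¬ ∃ β : Fin n → Fin r → k, ∀ i j,
      (if j = i then (1 : k) else 0) = ∑ a, β i a * eval c (pderiv j (g a)) := by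
  classical
  rintro ⟨β, hβ⟩
  obtain ⟨U0, hPu0⟩ := exists_unif P ys hns
  have hU0c : eval c U0 = 0 := LocalN.eval_eq_zero_of_val_lt P ys c hc U0
    (by rw [hPu0]; exact exp_neg_one_lt_one)
  obtain ⟨A0, hA0, -⟩ := LocalN.aeval_expand ys c U0 hU0c
  have hex : ∃ j1, ys j1 - algebraMap k K (c j1) ≠ 0 := by
    by_contra hall
    rw [not_exists] at hall
    have h0 : aeval ys U0 = 0 := by
      rw [hA0]
      apply Finset.sum_eq_zero
      intro j _
      rw [not_not.mp (hall j), zero_mul]
    rw [h0, map_zero] at hPu0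
    exact exp_ne_zero hPu0.symm
  obtain ⟨j1, hj1⟩ := hex
  obtain ⟨i0, -, hmax⟩ := Finset.exists_max_image Finset.univ
    (fun i => P.1 (ys i - algebraMap k K (c i))) ⟨j1, Finset.mem_univ _⟩
  have hpos : 0 < P.1 (ys i0 - algebraMap k K (c i0)) :=
    lt_of_lt_of_le (zero_lt_iff.mpr ((Valuation.ne_zero_iff _).mpr hj1))
      (hmax j1 (Finset.mem_univ _))
  obtain ⟨h1, h2, h3⟩ := combo P ys c hc g hI (β i0)
  obtain ⟨A, hA1, hA2⟩ := LocalN.aeval_expand ys c _ h2
  rw [h1] at hA1
  have hAc : ∀ j, eval c (A j) = if j = i0 then 1 else 0 := fun j => by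
    rw [hA2 j, h3 j, ← hβ i0 j]
  have hkey : ys i0 - algebraMap k K (c i0) = ∑ j, (ys j - algebraMap k K (c j)) *
      (algebraMap k K (eval c (A j)) - aeval ys (A j)) := by
    simp only [mul_sub, Finset.sum_sub_distrib]
    rw [← hA1, sub_zero, Finset.sum_eq_single i0]
    · rw [hAc i0, if_pos rfl, map_one, mul_one]
    · intro j _ hj
      rw [hAc j, if_neg hj, map_zero, mul_zero]
    · intro h
      exact absurd (Finset.mem_univ _) h
  have hlt : P.1 (ys i0 - algebraMap k K (c i0)) < P.1 (ys i0 - algebraMap k K (c i0)) := by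
    conv_lhs => rw [hkey]
    apply Valuation.map_sum_lt _ (ne_of_gt hpos)
    intro j _
    rw [map_mul]
    have hε : P.1 (algebraMap k K (eval c (A j)) - aeval ys (A j)) < 1 := by
      rw [Valuation.map_sub_swap]
      exact LocalN.val_sub_lt P ys c hc (A j)
    by_cases hj0 : ys j - algebraMap k K (c j) = 0
    · rw [hj0, map_zero, zero_mul]
      exact hpos
    · have hjpos : 0 < P.1 (ys j - algebraMap k K (c j)) :=
        zero_lt_iff.mpr ((Valuation.ne_zero_iff _).mpr hj0)
      calc P.1 (ys j - algebraMap k K (c j)) *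
            P.1 (algebraMap k K (eval c (A j)) - aeval ys (A j))
          < P.1 (ys j - algebraMap k K (c j)) * 1 := mul_lt_mul_of_pos_left hε hjpos
        _ = P.1 (ys j - algebraMap k K (c j)) := mul_one _
        _ ≤ P.1 (ys i0 - algebraMap k K (c i0)) := hmax j (Finset.mem_univ _)
  exact lt_irrefl _ hlt

/-- the row space of the Jacobian matrix contains a hyperplane. -/
theorem exists_alpha [IsAlgClosed k] (hK : IsFunctionField k K) (P : Place k K) (ys : Fin n → K)
    (c : Fin n → k) (hc : ∀ i, P.1 (ys i - algebraMap k K (c i)) < 1) {r : ℕ}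
    (g : Fin r → MvPolynomial (Fin n) k)
    (hI : RingHom.ker (aeval ys : MvPolynomial (Fin n) k →ₐ[k] K) = Ideal.span (Set.range g))
    (hns : ∀ z : K, P.1 z ≤ 1 → ∃ u ∈ (aeval ys : MvPolynomial (Fin n) k →ₐ[k] K).range,
      ∃ w ∈ (aeval ys : MvPolynomial (Fin n) k →ₐ[k] K).range, P.1 w = 1 ∧ z * w = u) :
    ∃ α : Fin n → k, ∀ lam : Fin n → k, ∑ i, lam i * α i = 0 →
      ∃ h : Fin r → k, ∀ j, lam j = ∑ a, h a * eval c (pderiv j (g a)) := by
  classical
  obtain ⟨U0, hPu0⟩ := exists_unif P ys hns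
  obtain ⟨u0, hu0⟩ : ∃ u0 : K, u0 = aeval ys U0 := ⟨_, rfl⟩
  rw [← hu0] at hPu0
  have hu00 : u0 ≠ 0 := by
    intro h
    rw [h, map_zero] at hPu0
    exact exp_ne_zero hPu0.symm
  have hU0c : eval c U0 = 0 := LocalN.eval_eq_zero_of_val_lt P ys c hc U0
    (by rw [← hu0, hPu0]; exact exp_neg_one_lt_one)
  have hr_le : ∀ i, P.1 ((ys i - algebraMap k K (c i)) / u0) ≤ 1 := by
    intro i
    rw [map_div₀, hPu0]
    exact div_le_one_of_le₀ (PlaneLocal.le_exp_neg_one (hc i)) zero_le'
  choose α hα using fun i => H55.exists_const_sub_lt_one hK P (hr_le i)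
  refine ⟨α, fun lam hlam => ?_⟩
  obtain ⟨s', hs'⟩ : ∃ s' : K, s' = ∑ i, algebraMap k K (lam i) *
      ((ys i - algebraMap k K (c i)) / u0 - algebraMap k K (α i)) := ⟨_, rfl⟩
  have hPs' : P.1 s' < 1 := by
    rw [hs']
    apply Valuation.map_sum_lt _ one_ne_zero
    intro i _
    rw [map_mul]
    calc P.1 (algebraMap k K (lam i)) *
          P.1 ((ys i - algebraMap k K (c i)) / u0 - algebraMap k K (α i))
        ≤ 1 * P.1 ((ys i - algebraMap k K (c i)) / u0 - algebraMap k K (α i)) :=
          mul_le_mul' (P.2.1 _) le_rfl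
      _ = P.1 ((ys i - algebraMap k K (c i)) / u0 - algebraMap k K (α i)) := one_mul _
      _ < 1 := hα i
  have hs'u : s' * u0 = ∑ i, algebraMap k K (lam i) * (ys i - algebraMap k K (c i)) := by
    have h0 : algebraMap k K (∑ i, lam i * α i) = 0 := by rw [hlam, map_zero]
    rw [map_sum] at h0
    rw [hs', Finset.sum_mul]
    have h1 : ∀ i, algebraMap k K (lam i) *
        ((ys i - algebraMap k K (c i)) / u0 - algebraMap k K (α i)) * u0 =
        algebraMap k K (lam i) * (ys i - algebraMap k K (c i)) -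
          algebraMap k K (lam i * α i) * u0 := by
      intro i
      rw [map_mul]
      field_simp
    rw [Finset.sum_congr rfl (fun i _ => h1 i), Finset.sum_sub_distrib, ← Finset.sum_mul, h0,
      zero_mul, sub_zero]
  have hz : P.1 (s' / u0) ≤ 1 := by
    rw [map_div₀, hPu0]
    exact div_le_one_of_le₀ (PlaneLocal.le_exp_neg_one hPs') zero_le'
  obtain ⟨v, hv, w, hw, hPw, hzw⟩ := hns _ hz
  obtain ⟨V, hV⟩ := (AlgHom.mem_range _).mp hv
  obtain ⟨W, hW⟩ := (AlgHom.mem_range _).mp hw
  have hWc : eval c W ≠ 0 := by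
    intro h0
    have h1 := LocalN.val_sub_lt P ys c hc W
    rw [h0, map_zero, sub_zero, hW, hPw] at h1
    exact lt_irrefl _ h1
  obtain ⟨S, hS⟩ : ∃ S : MvPolynomial (Fin n) k, S = ∑ i, C (lam i) * (X i - C (c i)) :=
    ⟨_, rfl⟩
  have hSa : aeval ys S = s' * u0 := by
    rw [hs'u, hS, map_sum]
    apply Finset.sum_congr rfl
    intro i _
    rw [map_mul, aeval_C, map_sub, aeval_X, aeval_C]
  have hmem : S * W - U0 * (U0 * V) ∈
      RingHom.ker (aeval ys : MvPolynomial (Fin n) k →ₐ[k] K) := by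
    rw [RingHom.mem_ker, map_sub, map_mul, map_mul, map_mul, hSa, ← hu0, hV, hW, ← hzw]
    field_simp
    ring
  rw [hI, Ideal.mem_span_range_iff_exists_fun] at hmem
  obtain ⟨H, hH⟩ := hmem
  have hSc : eval c S = 0 := by
    rw [hS, map_sum]
    apply Finset.sum_eq_zero
    intro i _
    simp
  have hSd : ∀ j, eval c (pderiv j S) = lam j := by
    intro j
    rw [hS, map_sum, map_sum, Finset.sum_eq_single j]
    · rw [pderiv_C_mul, map_mul, eval_C, map_sub, pderiv_X_self, pderiv_C, sub_zero, map_one,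
        mul_one]
    · intro i _ hij
      rw [pderiv_C_mul, map_sub, pderiv_X_of_ne hij, pderiv_C, sub_zero, mul_zero, map_zero]
    · intro h
      exact absurd (Finset.mem_univ _) h
  refine ⟨fun a => eval c (H a) / eval c W, fun j => ?_⟩
  have h1 := congrArg (fun p => eval c (pderiv j p)) hH
  simp only [map_sum, map_sub, pderiv_mul, map_add, map_mul, hSc, hSd, hU0c,
    eval_gen_eq_zero P ys c hc g hI, mul_zero, zero_mul, add_zero, zero_add, sub_zero] at h1
  have h2 : ∑ a, eval c (H a) / eval c W * eval c (pderiv j (g a)) =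
      (∑ a, eval c (H a) * eval c (pderiv j (g a))) / eval c W := by
    rw [Finset.sum_div]
    apply Finset.sum_congr rfl
    intro a _
    ring
  rw [h2, h1, mul_div_assoc, div_self hWc, mul_one]

end core

section linalg

/-- linear algebra: from rank `n - 1` to a complementary coordinate vector. -/
theorem exists_of_rank {r : ℕ} (hn : 1 ≤ n) (J : Matrix (Fin r) (Fin n) k)
    (hJ : J.rank = n - 1) :
    ∃ (l : Fin n) (α : Fin n → k) (β : Fin n → Fin r → k), ∀ i j,
      (if j = i then (1 : k) else 0) - α i * (if j = l then 1 else 0) = ∑ a, β i a * J a j := by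
  classical
  obtain ⟨W, hWdef⟩ : ∃ W : Submodule k (Fin n → k), W = Submodule.span k (Set.range J.row) :=
    ⟨_, rfl⟩
  have hW : Module.finrank k W = n - 1 := by
    rw [hWdef, ← Matrix.rank_eq_finrank_span_row]
    exact hJ
  have hne : W ≠ ⊤ := by
    intro h
    rw [h, finrank_top, Module.finrank_fin_fun] at hW
    omega
  obtain ⟨e, he⟩ : ∃ e : Fin n → (Fin n → k), e = fun i j => if j = i then 1 else 0 := ⟨_, rfl⟩
  obtain ⟨l, hl⟩ : ∃ l, e l ∉ W := by
    by_contra hall
    rw [not_exists] at hall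
    apply hne
    rw [eq_top_iff]
    intro v _
    have hv : v = ∑ i, v i • e i := by
      funext j
      rw [he]
      simp [Finset.sum_apply]
    rw [hv]
    exact W.sum_mem fun i _ => W.smul_mem _ (not_not.mp (hall i))
  have hsup : W ⊔ Submodule.span k {e l} = ⊤ := by
    apply Submodule.eq_top_of_finrank_eq
    have hlt : W < W ⊔ Submodule.span k {e l} := by
      apply lt_of_le_of_ne le_sup_left
      intro h
      apply hl
      rw [h]
      exact Submodule.mem_sup_right (Submodule.mem_span_singleton_self _)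
    have h1 := Submodule.finrank_lt_finrank_of_lt hlt
    have h2 := Submodule.finrank_le (W ⊔ Submodule.span k {e l})
    rw [Module.finrank_fin_fun] at h2 ⊢
    omega
  have hmem : ∀ i, ∃ a : k, ∃ β : Fin r → k, e i - a • e l = ∑ b, β b • J.row b := by
    intro i
    have hi : e i ∈ W ⊔ Submodule.span k {e l} := by
      rw [hsup]
      trivial
    obtain ⟨y, hy, z, hz, hyz⟩ := Submodule.mem_sup.mp hi
    obtain ⟨a, rfl⟩ := Submodule.mem_span_singleton.mp hz
    rw [hWdef] at hy
    obtain ⟨β, hβ⟩ := (Submodule.mem_span_range_iff_exists_fun k).mp hy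
    refine ⟨a, β, ?_⟩
    rw [hβ, ← hyz]
    abel
  choose α β hαβ using hmem
  refine ⟨l, α, β, fun i j => ?_⟩
  have h1 := congrFun (hαβ i) j
  rw [he] at h1
  simpa [Finset.sum_apply, Matrix.row_apply] using h1

/-- linear algebra: the rank is `n - 1` when the row space is proper and contains a hyperplane. -/
theorem rank_of_rowspan {r : ℕ} (J : Matrix (Fin r) (Fin n) k)
    (h1 : ¬ ∃ β : Fin n → Fin r → k, ∀ i j,
      (if j = i then (1 : k) else 0) = ∑ a, β i a * J a j)
    (h2 : ∃ α : Fin n → k, ∀ lam : Fin n → k, ∑ i, lam i * α i = 0 →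
      ∃ h : Fin r → k, ∀ j, lam j = ∑ a, h a * J a j) :
    J.rank = n - 1 := by
  classical
  rw [Matrix.rank_eq_finrank_span_row]
  obtain ⟨W, hWdef⟩ : ∃ W : Submodule k (Fin n → k), W = Submodule.span k (Set.range J.row) :=
    ⟨_, rfl⟩
  rw [← hWdef]
  have hmemW : ∀ lam : Fin n → k, (∃ h : Fin r → k, ∀ j, lam j = ∑ a, h a * J a j) →
      lam ∈ W := by
    rintro lam ⟨h, hh⟩
    rw [hWdef, Submodule.mem_span_range_iff_exists_fun]
    refine ⟨h, ?_⟩
    funext j
    rw [hh j]
    simp [Finset.sum_apply, Matrix.row_apply]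
  have hWmem : ∀ lam ∈ W, ∃ h : Fin r → k, ∀ j, lam j = ∑ a, h a * J a j := by
    intro lam hlam
    rw [hWdef, Submodule.mem_span_range_iff_exists_fun] at hlam
    obtain ⟨h, hh⟩ := hlam
    refine ⟨h, fun j => ?_⟩
    rw [← hh]
    simp [Finset.sum_apply, Matrix.row_apply]
  have hne : W ≠ ⊤ := by
    intro htop
    apply h1
    have h3 : ∀ i : Fin n, ∃ h : Fin r → k, ∀ j,
        (if j = i then (1 : k) else 0) = ∑ a, h a * J a j := by
      intro i
      exact hWmem (fun j => if j = i then 1 else 0) (by rw [htop]; trivial)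
    choose β hβ using h3
    exact ⟨β, hβ⟩
  have hup : Module.finrank k W < n := by
    have h3 := Submodule.finrank_lt hne
    rwa [Module.finrank_fin_fun] at h3
  obtain ⟨α, hα⟩ := h2
  obtain ⟨α', hα'⟩ : ∃ α' : (Fin n → k) →ₗ[k] k, ∀ v, α' v = ∑ i, v i * α i := by
    refine ⟨∑ i, α i • LinearMap.proj i, fun v => ?_⟩
    simp [LinearMap.sum_apply, mul_comm]
  have hker : LinearMap.ker α' ≤ W := by
    intro v hv
    rw [LinearMap.mem_ker, hα'] at hv
    exact hmemW v (hα v hv)
  have h3 := LinearMap.finrank_range_add_finrank_ker α'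
  rw [Module.finrank_fin_fun] at h3
  have h4 : Module.finrank k (LinearMap.range α') ≤ 1 := by
    have h5 := Submodule.finrank_le (LinearMap.range α')
    rwa [Module.finrank_self] at h5
  have h5 := Submodule.finrank_mono hker
  omega

end linalg

end Groth.Agent.H81.JacN
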