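import Groth.Agent.H26.DepthLib
import Mathlib.RingTheory.Regular.Flat
import Mathlib.RingTheory.Regular.LinearMap
import Mathlib.RingTheory.Flat.Stability
import Mathlib.RingTheory.Flat.Localization

/-!
# Depth of kernels of maps between flat modules, and depth `≥ 2` from a covering of the punctured
spectrum (helper81)

Pure algebra used for S1698 (depth of the stalk of a direct image).
-/

set_option autoImplicit false
universe u v w

open RingTheory.Sequence
open scoped Pointwise TensorProduct

namespace Groth.Agent.H81.PushDepth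

section Flat

variable {A : Type u} [CommRing A]

theorem isWeaklyRegular_of_flat {P : Type v} [AddCommGroup P] [Module A P] [Module.Flat A P]
    {rs : List A} (h : IsWeaklyRegular A rs) : IsWeaklyRegular P rs :=
  ((TensorProduct.lid A P).isWeaklyRegular_congr rs).mp (h.isWeaklyRegular_rTensor (M₂ := P))

theorem mem_smul_top_iff {N : Type v} [AddCommGroup N] [Module A N] (a : A) (n : N) :
    n ∈ (a • (⊤ : Submodule A N)) ↔ ∃ y : N, a • y = n := by
  rw [Submodule.mem_smul_pointwise_iff_exists]
  simp

/-- A left exact sequence `0 → N → P → Q`: weakly regular sequences of length `≤ 2` on `P` whose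
first term is regular on `Q` are weakly regular on `N`. -/
theorem isWeaklyRegular_of_leftExact {N : Type v} {P : Type w} {Q : Type*}
    [AddCommGroup N] [Module A N] [AddCommGroup P] [Module A P] [AddCommGroup Q] [Module A Q]
    (ι : N →ₗ[A] P) (d : P →ₗ[A] Q) (hι : Function.Injective ι) (hex : Function.Exact ι d)
    {rs : List A} (hlen : rs.length ≤ 2) (hP : IsWeaklyRegular P rs)
    (hQ : IsWeaklyRegular Q (rs.take 1)) : IsWeaklyRegular N rs := by
  match rs, hlen, hP, hQ with
  | [], _, _, _ => exact IsWeaklyRegular.nil A N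
  | [a], _, hP, _ =>
    rw [isWeaklyRegular_cons_iff] at hP ⊢
    exact ⟨hP.1.of_injective ι hι, IsWeaklyRegular.nil A _⟩
  | [a, b], _, hP, hQ =>
    rw [isWeaklyRegular_cons_iff] at hP
    have hP2 := hP.2
    rw [isWeaklyRegular_cons_iff] at hP2
    have hQa : IsSMulRegular Q a := by
      have h1 : IsWeaklyRegular Q [a] := hQ
      rw [isWeaklyRegular_cons_iff] at h1
      exact h1.1
    have hNa : IsSMulRegular N a := hP.1.of_injective ι hι
    rw [isWeaklyRegular_cons_iff]
    refine ⟨hNa, ?_⟩
    rw [isWeaklyRegular_cons_iff]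
    refine ⟨?_, IsWeaklyRegular.nil A _⟩
    have hPb : IsSMulRegular (P ⧸ (a • (⊤ : Submodule A P))) b := hP2.1
    change IsSMulRegular (N ⧸ (a • (⊤ : Submodule A N))) b
    rw [isSMulRegular_quotient_iff_mem_of_smul_mem] at hPb ⊢
    intro n hn
    rw [mem_smul_top_iff] at hn ⊢
    obtain ⟨n₁, hn₁⟩ := hn
    have h1 : ι n ∈ (a • (⊤ : Submodule A P)) := by
      apply hPb
      rw [mem_smul_top_iff]
      exact ⟨ι n₁, by rw [← map_smul, hn₁, map_smul]⟩
    rw [mem_smul_top_iff] at h1
    obtain ⟨y, hy⟩ := h1
    have h2 : d y = 0 := by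
      apply hQa
      change a • d y = a • 0
      rw [smul_zero, ← map_smul, hy]
      exact hex.apply_apply_eq_zero n
    obtain ⟨m, hm⟩ := (hex y).mp h2
    refine ⟨m, hι ?_⟩
    rw [map_smul, hm, hy]
  | a :: b :: c :: l, hlen, _, _ =>
    simp at hlen

end Flat

section Depth

variable {A : Type u} [CommRing A] [IsLocalRing A]

theorem maximalIdeal_smul_top_ne_top :
    IsLocalRing.maximalIdeal A • (⊤ : Submodule A A) ≠ ⊤ := by
  intro h
  have h1 : (1 : A) ∈ IsLocalRing.maximalIdeal A • (⊤ : Submodule A A) := by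
    rw [h]; trivial
  have h2 : IsLocalRing.maximalIdeal A • (⊤ : Submodule A A) ≤ IsLocalRing.maximalIdeal A := by
    rw [Submodule.smul_le]
    intro r hr n _
    exact Ideal.mul_mem_right n _ hr
  exact (IsLocalRing.maximalIdeal.isMaximal A).ne_top
    ((Ideal.eq_top_iff_one _).mpr (h2 h1))

/-- If every weakly regular sequence of length `≤ 2` on `A` inside the maximal ideal is weakly
regular on `N`, then `min 2 (depth A) ≤ depth N`. -/
theorem min_two_depth_le {N : Type v} [AddCommGroup N] [Module A N]
    (h : ∀ rs : List A, rs.length ≤ 2 → IsWeaklyRegular A rs → IsWeaklyRegular N rs) :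
    min (2 : ℕ∞) (LocCoh.depth A A) ≤ LocCoh.depth A N := by
  by_contra hlt
  rw [not_le, lt_min_iff] at hlt
  obtain ⟨h2, hA⟩ := hlt
  have hne : LocCoh.depth A N ≠ ⊤ := ne_top_of_lt h2
  obtain ⟨n, hn⟩ := ENat.ne_top_iff_exists.mp hne
  rw [← hn] at h2 hA
  have hn2 : n + 1 ≤ 2 := by
    have : (n : ℕ∞) < ((2 : ℕ) : ℕ∞) := h2
    have := Nat.cast_lt.mp this
    omega
  have hA' : ((n + 1 : ℕ) : ℕ∞) ≤ LocCoh.depth A A := by
    have := Order.add_one_le_of_lt hA
    simpa using this
  obtain ⟨rs, hlen, hreg, hmem⟩ := Groth.Agent.H26.DepthLib.exists_of_le_idealDepth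
    (IsLocalRing.maximalIdeal A) (n + 1) hA' maximalIdeal_smul_top_ne_top
  have h3 := Groth.Agent.H26.DepthLib.length_le_idealDepth (IsLocalRing.maximalIdeal A)
    (h rs (by omega) hreg) hmem
  change ((rs.length : ℕ) : ℕ∞) ≤ LocCoh.depth A N at h3
  rw [hlen, ← hn] at h3
  have := Nat.cast_le.mp h3
  omega

end Depth

section Localized

variable {R : Type u} [CommRing R] (T : Submonoid R) {A : Type u} [CommRing A] [Algebra R A]
  [IsLocalization T A] [IsLocalRing A]

/-- Part (6), algebraic core: `N` is the localization of `M`, and `M` is the kernel of a map between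
flat `R`-modules. -/
theorem min_two_depth_le_of_localized_leftExact
    {M P Q : Type u} [AddCommGroup M] [Module R M] [AddCommGroup P] [Module R P]
    [AddCommGroup Q] [Module R Q] [Module.Flat R P] [Module.Flat R Q]
    (ι : M →ₗ[R] P) (d : P →ₗ[R] Q) (hι : Function.Injective ι) (hex : Function.Exact ι d)
    {N : Type u} [AddCommGroup N] [Module R N] [Module A N] [IsScalarTower R A N]
    (g : M →ₗ[R] N) [IsLocalizedModule T g] :
    min (2 : ℕ∞) (LocCoh.depth A A) ≤ LocCoh.depth A N := by
  haveI : Module.Flat R A := IsLocalization.flat A T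
  apply min_two_depth_le
  intro rs hlen hreg
  let e : A ⊗[R] M ≃ₗ[A] N := (IsLocalizedModule.isBaseChange T A g).equiv
  refine (e.isWeaklyRegular_congr rs).mp ?_
  have hι' : Function.Injective (ι.baseChange A) := by
    have := Module.Flat.lTensor_preserves_injective_linearMap (M := A) ι hι
    rwa [← LinearMap.baseChange_eq_ltensor] at this
  have hex' : Function.Exact (ι.baseChange A) (d.baseChange A) := by
    have := Module.Flat.lTensor_exact A hex
    rwa [← LinearMap.baseChange_eq_ltensor, ← LinearMap.baseChange_eq_ltensor] at this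
  exact isWeaklyRegular_of_leftExact (ι.baseChange A) (d.baseChange A) hι' hex' hlen
    (isWeaklyRegular_of_flat hreg)
    (isWeaklyRegular_of_flat (Groth.Agent.H26.DepthLib.isWeaklyRegular_take hreg 1))

end Localized

end Groth.Agent.H81.PushDepth
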