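import Mathlib
import Groth.Prelude.Def_FlatMod2

/-!
# (LFn-ISO) for S4820 (helper57's squad)

Being finite locally free of rank `n` is invariant under isomorphism.
-/

set_option autoImplicit false
universe u
open AlgebraicGeometry CategoryTheory Limits TopologicalSpace

namespace Groth.Agent.H81.LFn_ISO

theorem isFinLocFreeOfRank_of_iso {Z : Scheme.{u}} (n : ℕ) {M N : Z.Modules} (e : M ≅ N)
    (h : FlatMod.IsFinLocFreeOfRank n M) : FlatMod.IsFinLocFreeOfRank n N := by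
  intro x
  obtain ⟨U, hxU, ⟨i⟩⟩ := h x
  exact ⟨U, hxU, ⟨((Scheme.Modules.restrictFunctor U.ι).mapIso e).symm ≪≫ i⟩⟩

/-- (LFn-ISO) -/
theorem isFinLocFreeOfRank_iff_of_iso {Z : Scheme.{u}} (n : ℕ) {M N : Z.Modules} (e : M ≅ N) :
    FlatMod.IsFinLocFreeOfRank n M ↔ FlatMod.IsFinLocFreeOfRank n N :=
  ⟨isFinLocFreeOfRank_of_iso n e, isFinLocFreeOfRank_of_iso n e.symm⟩

end Groth.Agent.H81.LFn_ISO
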