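import Groth.Agent.H81.GenusZero
import Groth.Agent.H55.FFCons3

/-!
Weights of linear series, cusps, and propagation of weight bounds along chains of components
(limit linear series counting), on top of `plucker_genus_zero`.
-/

set_option autoImplicit false

namespace Groth.Agent.H81.LC

open FunFld Module Groth.Agent.H55 Groth.Agent.H81.LinSer Groth.Agent.H81.Plucker

section Numeric

lemma card_filter_lt_succ {N : ℕ} (T : Finset (Fin (N + 1))) (l : Fin N) :
    (T.filter (· < l.succ)).card =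
      (T.filter (· < l.castSucc)).card + (if l.castSucc ∈ T then 1 else 0) := by
  rw [Finset.card_filter, Finset.card_filter, ← Finset.sum_ite_eq' T l.castSucc (fun _ => 1),
    ← Finset.sum_add_distrib]
  refine Finset.sum_congr rfl (fun j _ => ?_)
  have h1 : (j < l.succ) ↔ (j < l.castSucc ∨ j = l.castSucc) := by
    simp only [Fin.lt_def, Fin.ext_iff, Fin.val_succ, Fin.val_castSucc]; omega
  have h2 : ¬ (j < l.castSucc ∧ j = l.castSucc) := by
    rintro ⟨h, h'⟩; rw [h'] at h; exact lt_irrefl _ h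
  by_cases ha : j < l.castSucc
  · have hb : ¬ j = l.castSucc := fun h' => h2 ⟨ha, h'⟩
    have hc : j < l.succ := h1.mpr (Or.inl ha)
    rw [if_pos hc, if_pos ha, if_neg hb]
    rfl
  · by_cases hb : j = l.castSucc
    · have hc : j < l.succ := h1.mpr (Or.inr hb)
      rw [if_pos hc, if_neg ha, if_pos hb]
    · have hc : ¬ j < l.succ := fun h' => (h1.mp h').elim ha hb
      rw [if_neg hc, if_neg ha, if_neg hb]
      rfl

lemma card_filter_gt_castSucc {N : ℕ} (T : Finset (Fin (N + 1))) (l : Fin N) :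
    (T.filter (l.castSucc < ·)).card =
      (T.filter (l.succ < ·)).card + (if l.succ ∈ T then 1 else 0) := by
  rw [Finset.card_filter, Finset.card_filter, ← Finset.sum_ite_eq' T l.succ (fun _ => 1),
    ← Finset.sum_add_distrib]
  refine Finset.sum_congr rfl (fun j _ => ?_)
  have h1 : (l.castSucc < j) ↔ (l.succ < j ∨ j = l.succ) := by
    simp only [Fin.lt_def, Fin.ext_iff, Fin.val_succ, Fin.val_castSucc]; omega
  have h2 : ¬ (l.succ < j ∧ j = l.succ) := by
    rintro ⟨h, h'⟩; rw [h'] at h; exact lt_irrefl _ h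
  by_cases ha : l.succ < j
  · have hb : ¬ j = l.succ := fun h' => h2 ⟨ha, h'⟩
    have hc : l.castSucc < j := h1.mpr (Or.inl ha)
    rw [if_pos hc, if_pos ha, if_neg hb]
    rfl
  · by_cases hb : j = l.succ
    · have hc : l.castSucc < j := h1.mpr (Or.inr hb)
      rw [if_pos hc, if_neg ha, if_pos hb]
    · have hc : ¬ l.castSucc < j := fun h' => (h1.mp h').elim ha hb
      rw [if_neg hc, if_neg ha, if_neg hb]
      rfl

/-- Propagation of lower bounds for the weights at the upper nodes along a chain. -/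
theorem chain_lower_T (N : ℕ) (SA SB : Fin (N + 1) → ℕ) (M c₀ r : ℕ) (T : Finset (Fin (N + 1)))
    (ha : ∀ l : Fin N, SB l.castSucc + SA l.succ = M)
    (hb : ∀ i : Fin (N + 1), (i : ℕ) < N →
      (if 0 < (i : ℕ) then SA i else c₀) + SB i + (if i ∈ T then r else 0) ≤ M) :
    ∀ i : Fin (N + 1),
      c₀ + r * (T.filter (· < i)).card ≤ (if 0 < (i : ℕ) then SA i else c₀) := by
  intro i
  induction i using Fin.induction with
  | zero =>
    have : T.filter (· < (0 : Fin (N + 1))) = ∅ := by
      ext j; simp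
    simp [this]
  | succ l ih =>
    have h1 := ha l
    have h2 := hb l.castSucc (by simp)
    have h3 := card_filter_lt_succ T l
    have hpos : 0 < ((l.succ : Fin (N + 1)) : ℕ) := by simp
    rw [if_pos hpos, h3, mul_add]
    by_cases hT : l.castSucc ∈ T
    · rw [if_pos hT] at h2 ⊢
      rw [mul_one]
      omega
    · rw [if_neg hT] at h2 ⊢
      rw [mul_zero]
      omega

/-- Propagation of lower bounds for the weights at the lower nodes, down a chain. -/
theorem chain_upper_T (N : ℕ) (SA SB : Fin (N + 1) → ℕ) (M c₀ r : ℕ) (T : Finset (Fin (N + 1)))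
    (ha : ∀ l : Fin N, SB l.castSucc + SA l.succ = M)
    (hb : ∀ i : Fin (N + 1), 0 < (i : ℕ) →
      SA i + (if (i : ℕ) < N then SB i else c₀) + (if i ∈ T then r else 0) ≤ M) :
    ∀ i : Fin (N + 1),
      c₀ + r * (T.filter (i < ·)).card ≤ (if (i : ℕ) < N then SB i else c₀) := by
  intro i
  induction i using Fin.reverseInduction with
  | last =>
    have : T.filter ((Fin.last N) < ·) = ∅ := by
      ext j; simp [Fin.lt_def]; intro _; exact Nat.le_of_lt_succ j.2
    simp [this]
  | cast l ih =>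
    have h1 := ha l
    have h2 := hb l.succ (by simp)
    have h3 := card_filter_gt_castSucc T l
    have hlt : ((l.castSucc : Fin (N + 1)) : ℕ) < N := by simp
    rw [if_pos hlt, h3, mul_add]
    by_cases hT : l.succ ∈ T
    · rw [if_pos hT] at h2 ⊢
      rw [mul_one]
      omega
    · rw [if_neg hT] at h2 ⊢
      rw [mul_zero]
      omega

/-- Cusps propagate down a chain ending in a component where `cA ≤ 1`. -/
theorem cusp_chain (n : ℕ) (cA cB : Fin (n + 1) → ℕ) (r : ℕ)
    (ha : ∀ l : Fin n, cB l.castSucc + cA l.succ = r + 1)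
    (hb : ∀ l : Fin (n + 1), 0 < (l : ℕ) → (l : ℕ) < n → cA l + cB l ≤ r + 1)
    (hN : cA (Fin.last n) ≤ 1) :
    ∀ l : Fin (n + 1), (l : ℕ) < n → r ≤ cB l := by
  have key : ∀ l : Fin (n + 1), (0 < (l : ℕ) → cA l ≤ 1) ∧ ((l : ℕ) < n → r ≤ cB l) := by
    intro l
    induction l using Fin.reverseInduction with
    | last => exact ⟨fun _ => hN, fun h => absurd h (by simp)⟩
    | cast l ih =>
      have h1 := ih.1 (by simp)
      have h2 := ha l
      have h3 : r ≤ cB l.castSucc := by omega
      refine ⟨fun hpos => ?_, fun _ => h3⟩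
      have := hb l.castSucc hpos (by simp)
      omega
  exact fun l hl => (key l).2 hl

end Numeric


section FF

variable {k K : Type*} [Field k] [Field K] [Algebra k K]

/-- `∑_{n=1}^d dim V(-nP)`, the weight of `V` at `P` plus `r(r+1)/2`. -/
noncomputable def wsum (V : Submodule k K) (D : FunFld.Divisor k K) (d : ℕ)
    (P : FunFld.Place k K) : ℕ :=
  ∑ n ∈ Finset.range d, finrank k ↥(V ⊓ FunFld.L (D - Finsupp.single P ((n : ℤ) + 1)))

lemma wsum_def (V : Submodule k K) (D : FunFld.Divisor k K) (d : ℕ) (P : FunFld.Place k K) :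
    wsum V D d P =
      ∑ n ∈ Finset.range d, finrank k ↥(V ⊓ FunFld.L (D - Finsupp.single P ((n : ℤ) + 1))) := rfl

variable [IsAlgClosed k] (hK : FunFld.IsFunctionField k K)

include hK in
lemma dimAt_step (V : Submodule k K) [FiniteDimensional k V] (D : FunFld.Divisor k K)
    (P : FunFld.Place k K) (n : ℕ) :
    finrank k ↥(V ⊓ FunFld.L (D - Finsupp.single P (n : ℤ))) ≤
      finrank k ↥(V ⊓ FunFld.L (D - Finsupp.single P ((n + 1 : ℕ) : ℤ))) + 1 := by
  have h := finrank_inf_L_le hK V (D - Finsupp.single P (n : ℤ)) P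
  have e : D - Finsupp.single P (n : ℤ) - Finsupp.single P 1 =
      D - Finsupp.single P ((n + 1 : ℕ) : ℤ) := by
    rw [Nat.cast_succ, Finsupp.single_add]; abel
  rw [e] at h
  exact h

include hK in
lemma dimAt_steps (V : Submodule k K) [FiniteDimensional k V] (D : FunFld.Divisor k K)
    (P : FunFld.Place k K) (m n : ℕ) :
    finrank k ↥(V ⊓ FunFld.L (D - Finsupp.single P (m : ℤ))) ≤
      finrank k ↥(V ⊓ FunFld.L (D - Finsupp.single P ((m + n : ℕ) : ℤ))) + n := by
  induction n with
  | zero => simp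
  | succ n ih =>
    have := dimAt_step hK V D P (m + n)
    have e : m + (n + 1) = m + n + 1 := by omega
    rw [e]
    omega

lemma dimAt_zero (V : Submodule k K) (D : FunFld.Divisor k K) (hV : V ≤ FunFld.L D)
    (P : FunFld.Place k K) :
    finrank k ↥(V ⊓ FunFld.L (D - Finsupp.single P ((0 : ℕ) : ℤ))) = finrank k ↥V := by
  rw [Nat.cast_zero, Finsupp.single_zero, sub_zero, inf_eq_left.mpr hV]

include hK in
lemma dimAt_large (V : Submodule k K) (D : FunFld.Divisor k K) (d : ℕ) (hD : D.deg = d)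
    (P : FunFld.Place k K) (n : ℕ) (hn : d < n) :
    finrank k ↥(V ⊓ FunFld.L (D - Finsupp.single P (n : ℤ))) = 0 := by
  rw [inf_L_single_eq_bot hK D d hD V P n (by exact_mod_cast hn), finrank_bot]

include hK in
lemma rank_le_deg (V : Submodule k K) (D : FunFld.Divisor k K) (d r : ℕ) (hD : D.deg = d)
    (hV : V ≤ FunFld.L D) (hVr : finrank k ↥V = r + 1) (P : FunFld.Place k K) : r ≤ d := by
  haveI : FiniteDimensional k V := Module.finite_of_finrank_pos (by omega)
  have h1 := dimAt_steps hK V D P 0 (d + 1)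
  rw [dimAt_zero V D hV P, hVr, dimAt_large hK V D d hD P (0 + (d + 1)) (by omega)] at h1
  omega

include hK in
/-- Weights are nonnegative. -/
theorem weight_nonneg (V : Submodule k K) (D : FunFld.Divisor k K) (d r : ℕ) (hD : D.deg = d)
    (hV : V ≤ FunFld.L D) (hVr : finrank k ↥V = r + 1) (P : FunFld.Place k K) :
    r * (r + 1) / 2 ≤ wsum V D d P := by
  haveI : FiniteDimensional k V := Module.finite_of_finrank_pos (by omega)
  have h := tri_le_sum r d (fun n => finrank k ↥(V ⊓ FunFld.L (D - Finsupp.single P (n : ℤ))))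
    (rank_le_deg hK V D d r hD hV hVr P) (fun n => by
      have h1 := dimAt_steps hK V D P 0 n
      rw [dimAt_zero V D hV P, hVr, zero_add] at h1
      exact h1)
  rw [wsum_def]
  refine h.trans (le_of_eq (Finset.sum_congr rfl (fun n _ => ?_)))
  rw [Nat.cast_succ]

include hK in
/-- A cusp has weight at least `r`. -/
theorem cusp_weight (V : Submodule k K) (D : FunFld.Divisor k K) (d r : ℕ) (hD : D.deg = d)
    (hV : V ≤ FunFld.L D) (hVr : finrank k ↥V = r + 1) (Q : FunFld.Place k K)
    (hcusp : r ≤ finrank k ↥(V ⊓ FunFld.L (D - Finsupp.single Q (2 : ℤ)))) :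
    r * (r + 1) / 2 + r ≤ wsum V D d Q := by
  haveI : FiniteDimensional k V := Module.finite_of_finrank_pos (by omega)
  rcases Nat.eq_zero_or_pos r with hr0 | hr0
  · subst hr0; simp
  have hc2 : r ≤ finrank k ↥(V ⊓ FunFld.L (D - Finsupp.single Q ((2 : ℕ) : ℤ))) := by
    exact_mod_cast hcusp
  have hd2 : 2 ≤ d := by
    by_contra hlt
    rw [dimAt_large hK V D d hD Q 2 (by omega)] at hc2
    omega
  have hrd : r + 1 ≤ d := by
    have h1 := dimAt_steps hK V D Q 2 (d - 1)
    rw [dimAt_large hK V D d hD Q (2 + (d - 1)) (by omega)] at h1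
    omega
  obtain ⟨d', rfl⟩ : ∃ d', d = d' + 1 := ⟨d - 1, by omega⟩
  have h := tri_le_sum r d'
    (fun n => if n = 0 then r + 1 else
      finrank k ↥(V ⊓ FunFld.L (D - Finsupp.single Q ((n + 1 : ℕ) : ℤ))))
    (by omega) (fun n => by
      by_cases hn : n = 0
      · simp [hn]
      · rw [if_neg hn]
        have h1 := dimAt_steps hK V D Q 2 (n - 1)
        have e : 2 + (n - 1) = n + 1 := by omega
        rw [e] at h1
        omega)
  have h1 : finrank k ↥(V ⊓ FunFld.L (D - Finsupp.single Q ((1 : ℕ) : ℤ))) ≥ r := by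
    have := dimAt_step hK V D Q 1
    have hmono : finrank k ↥(V ⊓ FunFld.L (D - Finsupp.single Q ((2 : ℕ) : ℤ))) ≤
        finrank k ↥(V ⊓ FunFld.L (D - Finsupp.single Q ((1 : ℕ) : ℤ))) :=
      Submodule.finrank_mono (inf_L_single_mono V D Q (by norm_num))
    omega
  rw [wsum_def, Finset.sum_range_succ']
  have h2 : ∑ n ∈ Finset.range d', (if n + 1 = 0 then r + 1 else
      finrank k ↥(V ⊓ FunFld.L (D - Finsupp.single Q ((n + 1 + 1 : ℕ) : ℤ)))) =
      ∑ n ∈ Finset.range d',
        finrank k ↥(V ⊓ FunFld.L (D - Finsupp.single Q (((n + 1 : ℕ) : ℤ) + 1))) := by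
    refine Finset.sum_congr rfl (fun n _ => ?_)
    rw [if_neg (by omega), Nat.cast_succ (n + 1)]
  rw [h2] at h
  unfold tri at h
  have h3 : finrank k ↥(V ⊓ FunFld.L (D - Finsupp.single Q (((0 : ℕ) : ℤ) + 1))) ≥ r := by
    have e : ((0 : ℕ) : ℤ) + 1 = ((1 : ℕ) : ℤ) := by norm_num
    rw [e]; exact h1
  omega

include hK in
/-- On a curve of positive genus a divisor of degree one has `ℓ ≤ 1`. -/
theorem ell_le_one_of_genus_pos (hg : 0 < FunFld.genus k K) (E : FunFld.Divisor k K)
    (hE : E.deg = 1) : FunFld.ell E ≤ 1 := by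
  classical
  by_contra hcon
  push_neg at hcon
  obtain ⟨f, hf0, hf⟩ := exists_ne_zero_of_ell_pos E (by omega)
  have h1 := nonneg_of_mem_L hK E hf0 hf
  have hdeg : (E + FunFld.div k f).deg = 1 := by rw [deg_add, deg_div hK, hE]; norm_num
  have hne : E + FunFld.div k f ≠ 0 := by
    intro h
    rw [h, deg_zero] at hdeg
    norm_num at hdeg
  obtain ⟨R, hR⟩ : ∃ R, (E + FunFld.div k f) R ≠ 0 := by
    by_contra hall
    push_neg at hall
    exact hne (Finsupp.ext hall)
  have hR1 : 1 ≤ (E + FunFld.div k f) R := by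
    have := h1 R
    simp only [Finsupp.coe_zero, Pi.zero_apply] at this
    omega
  have hle : (Finsupp.single R (1 : ℤ) : FunFld.Divisor k K) ≤ E + FunFld.div k f := by
    intro P
    by_cases hPR : P = R
    · rw [hPR, Finsupp.single_eq_same]; exact hR1
    · rw [Finsupp.single_eq_of_ne hPR]
      have := h1 P
      simpa using this
  have h2 : E + FunFld.div k f - Finsupp.single R (1 : ℤ) = 0 := by
    apply eq_zero_of_nonneg_of_deg_eq_zero hK (sub_nonneg.mpr hle)
    rw [deg_sub, hdeg, deg_single, deg_eq_one_of_isAlgClosed hK R]; norm_num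
  have h3 : E + FunFld.div k f = Finsupp.single R (1 : ℤ) := sub_eq_zero.mp h2
  have h4 := ell_add_div hK E hf0
  rw [h3, ell_single_one_of_genus_pos R hK (deg_eq_one_of_isAlgClosed hK R) hg] at h4
  omega

include hK in
/-- Plücker inequality on a genus zero field for a family of distinct places with known lower
bounds on their weights. -/
theorem plk_fam [CharZero k] (hg : FunFld.genus k K = 0) (D : FunFld.Divisor k K) (d r : ℕ)
    (hD : D.deg = d) (V : Submodule k K) (hV : V ≤ FunFld.L D) (hVr : finrank k ↥V = r + 1)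
    (Q' : FunFld.Place k K) {ι : Type*} (J : Finset ι) (P : ι → FunFld.Place k K) (b : ι → ℕ)
    (hinj : Set.InjOn P (J : Set ι)) (hne : ∀ j ∈ J, P j ≠ Q')
    (hb : ∀ j ∈ J, b j + r * (r + 1) / 2 ≤ wsum V D d (P j)) :
    wsum V D d Q' + ∑ j ∈ J, b j + (r + 1) * r ≤ (r + 1) * d + r * (r + 1) / 2 := by
  classical
  have key := GZ.plucker_genus_zero hK hg D d r hD V hV hVr Q' (J.image P) (by
    simp only [Finset.mem_image, not_exists, not_and]
    intro j hj h
    exact hne j hj h)
  rw [Finset.sum_image hinj, Finset.card_image_of_injOn hinj] at key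
  have h1 := Finset.sum_le_sum hb
  rw [Finset.sum_add_distrib, Finset.sum_const, smul_eq_mul] at h1
  simp only [← wsum_def] at key
  nlinarith [key, h1]


include hK in
/-- Plücker inequality on a genus zero field for a duplicate-free list of places. -/
theorem plk_list [CharZero k] (hg : FunFld.genus k K = 0) (D : FunFld.Divisor k K) (d r : ℕ)
    (hD : D.deg = d) (V : Submodule k K) (hV : V ≤ FunFld.L D) (hVr : finrank k ↥V = r + 1)
    (Q' : FunFld.Place k K) (L : List (FunFld.Place k K)) (hnd : L.Nodup) (hne : Q' ∉ L) :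
    wsum V D d Q' + (L.map (fun R => wsum V D d R - r * (r + 1) / 2)).sum + (r + 1) * r ≤
      (r + 1) * d + r * (r + 1) / 2 := by
  classical
  have h := plk_fam hK hg D d r hD V hV hVr Q' L.toFinset id
    (fun R => wsum V D d R - r * (r + 1) / 2) (Set.injOn_id _)
    (fun R hR h' => hne (by rw [id] at h'; rw [← h']; exact List.mem_toFinset.mp hR))
    (fun R _ => by
      have := weight_nonneg hK V D d r hD hV hVr R
      simp only [id]
      omega)
  rw [List.sum_toFinset _ hnd] at h
  exact h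

include hK in
/-- Plücker inequality with up to three optional extra places. -/
theorem plk_opt3 [CharZero k] (hg : FunFld.genus k K = 0) (D : FunFld.Divisor k K) (d r : ℕ)
    (hD : D.deg = d) (V : Submodule k K) (hV : V ≤ FunFld.L D) (hVr : finrank k ↥V = r + 1)
    (Q' : FunFld.Place k K) (c₁ c₂ c₃ : Prop) [Decidable c₁] [Decidable c₂] [Decidable c₃]
    (P₁ P₂ P₃ : FunFld.Place k K) (b₁ b₂ b₃ : ℕ)
    (h₁ : c₁ → P₁ ≠ Q' ∧ b₁ + r * (r + 1) / 2 ≤ wsum V D d P₁)
    (h₂ : c₂ → P₂ ≠ Q' ∧ b₂ + r * (r + 1) / 2 ≤ wsum V D d P₂)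
    (h₃ : c₃ → P₃ ≠ Q' ∧ b₃ + r * (r + 1) / 2 ≤ wsum V D d P₃)
    (h₁₂ : c₁ → c₂ → P₁ ≠ P₂) (h₁₃ : c₁ → c₃ → P₁ ≠ P₃) (h₂₃ : c₂ → c₃ → P₂ ≠ P₃) :
    wsum V D d Q' + (if c₁ then b₁ else 0) + (if c₂ then b₂ else 0) + (if c₃ then b₃ else 0) +
      (r + 1) * r ≤ (r + 1) * d + r * (r + 1) / 2 := by
  classical
  have hb₁ : c₁ → b₁ ≤ wsum V D d P₁ - r * (r + 1) / 2 := fun h => by have := (h₁ h).2; omega
  have hb₂ : c₂ → b₂ ≤ wsum V D d P₂ - r * (r + 1) / 2 := fun h => by have := (h₂ h).2; omega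
  have hb₃ : c₃ → b₃ ≤ wsum V D d P₃ - r * (r + 1) / 2 := fun h => by have := (h₃ h).2; omega
  have hn₁ : c₁ → Q' ≠ P₁ := fun h => ((h₁ h).1).symm
  have hn₂ : c₂ → Q' ≠ P₂ := fun h => ((h₂ h).1).symm
  have hn₃ : c₃ → Q' ≠ P₃ := fun h => ((h₃ h).1).symm
  have key := plk_list hK hg D d r hD V hV hVr Q'
    ((if c₁ then [P₁] else []) ++ (if c₂ then [P₂] else []) ++ (if c₃ then [P₃] else []))
    (by by_cases hc1 : c₁ <;> by_cases hc2 : c₂ <;> by_cases hc3 : c₃ <;> simp_all)
    (by by_cases hc1 : c₁ <;> by_cases hc2 : c₂ <;> by_cases hc3 : c₃ <;> simp_all)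
  by_cases hc1 : c₁ <;> by_cases hc2 : c₂ <;> by_cases hc3 : c₃ <;>
    simp only [hc1, hc2, hc3, if_true, if_false, List.map_append, List.map_cons, List.map_nil,
      List.sum_append, List.sum_cons, List.sum_nil, List.append_nil, List.nil_append,
      forall_true_left] at key hb₁ hb₂ hb₃ ⊢ <;> omega

end FF


section CardLemmas

lemma card_erase_eq {N : ℕ} (T : Finset (Fin (N + 1))) (i : Fin (N + 1)) :
    (T.erase i).card = (T.filter (· < i)).card + (T.filter (i < ·)).card := by
  rw [← Finset.filter_ne' T i, Finset.card_filter, Finset.card_filter, Finset.card_filter,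
    ← Finset.sum_add_distrib]
  refine Finset.sum_congr rfl (fun j _ => ?_)
  rcases lt_trichotomy j i with h | h | h
  · rw [if_pos (ne_of_lt h), if_pos h, if_neg (not_lt_of_gt h)]
  · subst h; simp
  · rw [if_pos (ne_of_gt h), if_neg (not_lt_of_gt h), if_pos h]

lemma card_eq_erase_add {N : ℕ} (T : Finset (Fin (N + 1))) (i : Fin (N + 1)) :
    T.card = (T.erase i).card + (if i ∈ T then 1 else 0) := by
  by_cases h : i ∈ T
  · rw [if_pos h, Finset.card_erase_add_one h]
  · rw [if_neg h, Finset.erase_eq_of_notMem h]; rfl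

end CardLemmas

section Backbone

variable {k : Type*} [Field k] [IsAlgClosed k] [CharZero k]
  (N : ℕ) (Z : Fin (N + 1) → Type*) [∀ i, Field (Z i)] [∀ i, Algebra k (Z i)]
  (hZ : ∀ i, FunFld.IsFunctionField k (Z i)) (hrat : ∀ i, FunFld.genus k (Z i) = 0)
  (d r : ℕ) (D : ∀ i, FunFld.Divisor k (Z i)) (hD : ∀ i, (D i).deg = d)
  (V : ∀ i, Submodule k (Z i)) (hV : ∀ i, V i ≤ FunFld.L (D i))
  (hVr : ∀ i, Module.finrank k ↥(V i) = r + 1)
  (A B : ∀ i, FunFld.Place k (Z i))
  (hAB : ∀ i : Fin (N + 1), 0 < (i : ℕ) → (i : ℕ) < N → A i ≠ B i)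
  (hcomp : ∀ (l : Fin N) (m : ℕ), m ≤ d + 1 →
      Module.finrank k ↥((V l.castSucc) ⊓ FunFld.L ((D l.castSucc) - Finsupp.single (B l.castSucc) ((m : ℤ)))) +
        Module.finrank k ↥((V l.succ) ⊓ FunFld.L ((D l.succ) - Finsupp.single (A l.succ) ((d : ℤ) + 1 - m))) = r + 1)
  (T : Finset (Fin (N + 1))) (Q : ∀ i, FunFld.Place k (Z i))
  (hQA : ∀ i ∈ T, 0 < (i : ℕ) → Q i ≠ A i) (hQB : ∀ i ∈ T, (i : ℕ) < N → Q i ≠ B i)
  (hcusp : ∀ i ∈ T, r ≤ Module.finrank k ↥((V i) ⊓ FunFld.L ((D i) - Finsupp.single (Q i) ((2 : ℤ)))))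

include hZ hrat hD hV hVr hAB hcomp hQA hQB hcusp in
/-- Lower bound for the weight at the upper node place of each backbone component. -/
theorem backbone_A (i : Fin (N + 1)) :
    r * (r + 1) / 2 + r * (T.filter (· < i)).card ≤
      (if 0 < (i : ℕ) then wsum (V i) (D i) d (A i) else r * (r + 1) / 2) := by
  refine chain_lower_T N (fun i => wsum (V i) (D i) d (A i)) (fun i => wsum (V i) (D i) d (B i))
    ((r + 1) * d) (r * (r + 1) / 2) r T ?_ ?_ i
  · intro l
    exact compat_sum (V l.castSucc) (D l.castSucc) (B l.castSucc) (V l.succ) (D l.succ)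
      (A l.succ) d r (hcomp l)
  · intro i hi
    have hhalf := half_add_half r
    have hcomm : (r + 1) * r = r * (r + 1) := Nat.mul_comm _ _
    have hnn := weight_nonneg (hZ i) (V i) (D i) d r (hD i) (hV i) (hVr i) (A i)
    have key := plk_opt3 (hZ i) (hrat i) (D i) d r (hD i) (V i) (hV i) (hVr i) (B i)
      (0 < (i : ℕ)) (i ∈ T) False (A i) (Q i) (B i)
      (wsum (V i) (D i) d (A i) - r * (r + 1) / 2) r 0
      (fun h => ⟨hAB i h hi, by omega⟩)
      (fun h => ⟨hQB i h hi, by
        have := cusp_weight (hZ i) (V i) (D i) d r (hD i) (hV i) (hVr i) (Q i) (hcusp i h)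
        omega⟩)
      (fun h => h.elim)
      (fun h h' => (hQA i h' h).symm) (fun _ h => h.elim) (fun _ h => h.elim)
    beta_reduce
    by_cases h0 : 0 < (i : ℕ)
    · rw [if_pos h0] at key ⊢
      simp only [if_false] at key
      omega
    · rw [if_neg h0] at key ⊢
      simp only [if_false] at key
      omega

include hZ hrat hD hV hVr hAB hcomp hQA hQB hcusp in
/-- Lower bound for the weight at the lower node place of each backbone component. -/
theorem backbone_B (i : Fin (N + 1)) :
    r * (r + 1) / 2 + r * (T.filter (i < ·)).card ≤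
      (if (i : ℕ) < N then wsum (V i) (D i) d (B i) else r * (r + 1) / 2) := by
  refine chain_upper_T N (fun i => wsum (V i) (D i) d (A i)) (fun i => wsum (V i) (D i) d (B i))
    ((r + 1) * d) (r * (r + 1) / 2) r T ?_ ?_ i
  · intro l
    exact compat_sum (V l.castSucc) (D l.castSucc) (B l.castSucc) (V l.succ) (D l.succ)
      (A l.succ) d r (hcomp l)
  · intro i hi
    have hhalf := half_add_half r
    have hcomm : (r + 1) * r = r * (r + 1) := Nat.mul_comm _ _
    have hnn := weight_nonneg (hZ i) (V i) (D i) d r (hD i) (hV i) (hVr i) (B i)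
    have key := plk_opt3 (hZ i) (hrat i) (D i) d r (hD i) (V i) (hV i) (hVr i) (A i)
      ((i : ℕ) < N) (i ∈ T) False (B i) (Q i) (A i)
      (wsum (V i) (D i) d (B i) - r * (r + 1) / 2) r 0
      (fun h => ⟨(hAB i hi h).symm, by omega⟩)
      (fun h => ⟨hQA i h hi, by
        have := cusp_weight (hZ i) (V i) (D i) d r (hD i) (hV i) (hVr i) (Q i) (hcusp i h)
        omega⟩)
      (fun h => h.elim)
      (fun h h' => (hQB i h' h).symm) (fun _ h => h.elim) (fun _ h => h.elim)
    beta_reduce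
    by_cases h0 : (i : ℕ) < N
    · rw [if_pos h0] at key ⊢
      simp only [if_false] at key
      omega
    · rw [if_neg h0] at key ⊢
      simp only [if_false] at key
      omega

end Backbone

end Groth.Agent.H81.LC
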