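import Groth.Agent.H81.LimitChain

/-!
Positive genus tails: the aspect on a component of positive genus has `m_{r-1} ≤ d - 2` at any place.
-/

set_option autoImplicit false

namespace Groth.Agent.H81.LC

open FunFld Module Groth.Agent.H55 Groth.Agent.H81.LinSer

variable {k K : Type*} [Field k] [Field K] [Algebra k K] [IsAlgClosed k]

theorem dimA_le_one_of_genus_pos (hK : FunFld.IsFunctionField k K) (hg : 0 < FunFld.genus k K)
    (D : FunFld.Divisor k K) (d : ℕ) (hD : D.deg = d) (V : Submodule k K)
    (A : FunFld.Place k K) :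
    finrank k ↥(V ⊓ FunFld.L (D - Finsupp.single A ((d : ℤ) + 1 - 2))) ≤ 1 := by
  have hdeg : (D - Finsupp.single A ((d : ℤ) + 1 - 2)).deg = 1 := by
    rw [deg_sub, deg_single, deg_eq_one_of_isAlgClosed hK A, hD]
    push_cast
    ring
  have h1 := ell_le_one_of_genus_pos hK hg _ hdeg
  haveI := L_finite hK (D - Finsupp.single A ((d : ℤ) + 1 - 2))
  have h2 : finrank k ↥(V ⊓ FunFld.L (D - Finsupp.single A ((d : ℤ) + 1 - 2))) ≤
      finrank k ↥(FunFld.L (D - Finsupp.single A ((d : ℤ) + 1 - 2))) :=
    Submodule.finrank_mono inf_le_right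
  unfold FunFld.ell at h1
  omega

end Groth.Agent.H81.LC
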