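import Groth.Agent.H81.LimitChain2

/-!
Sections with prescribed divisors: existence from dimension counts, and rigidity on a rational curve
with a cusp elsewhere.
-/

set_option autoImplicit false

namespace Groth.Agent.H81.LC

open FunFld Module WithZero Groth.Agent.H55 Groth.Agent.H81.LinSer

variable {k K : Type*} [Field k] [Field K] [Algebra k K] [IsAlgClosed k]

/-- A nonzero element of a subspace of positive dimension. -/
lemma exists_ne_zero_of_finrank_pos (U : Submodule k K) [FiniteDimensional k U]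
    (h : 0 < finrank k ↥U) : ∃ f ∈ U, f ≠ 0 := by
  obtain ⟨x, hx⟩ := Module.finrank_pos_iff_exists_ne_zero.mp h
  exact ⟨x.1, x.2, fun h0 => hx (Subtype.ext h0)⟩

lemma finrank_pos_of_mem (U : Submodule k K) [FiniteDimensional k U] {f : K} (hf : f ∈ U)
    (hf0 : f ≠ 0) : 1 ≤ finrank k ↥U := by
  have : 0 < finrank k ↥U :=
    Module.finrank_pos_iff_exists_ne_zero.mpr ⟨⟨f, hf⟩, fun h => hf0 (congrArg Subtype.val h)⟩
  omega

/-- From a dimension count: a section with divisor exactly `n₁ P + n₂ Q`, `n₁ + n₂ = d`. -/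
theorem exists_section (hK : FunFld.IsFunctionField k K) (D : FunFld.Divisor k K) (d : ℕ)
    (hD : D.deg = d) (V : Submodule k K) [FiniteDimensional k V] {P Q : FunFld.Place k K}
    (hPQ : P ≠ Q) (n₁ n₂ : ℕ) (hn : n₁ + n₂ = d)
    (hdim : finrank k ↥V + 1 ≤ finrank k ↥(V ⊓ FunFld.L (D - Finsupp.single P (n₁ : ℤ))) +
      finrank k ↥(V ⊓ FunFld.L (D - Finsupp.single Q (n₂ : ℤ)))) :
    ∃ f ∈ V, f ≠ 0 ∧
      FunFld.div k f + D = Finsupp.single P (n₁ : ℤ) + Finsupp.single Q (n₂ : ℤ) := by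
  have h1 := Submodule.finrank_sup_add_finrank_inf_eq
    (V ⊓ FunFld.L (D - Finsupp.single P (n₁ : ℤ))) (V ⊓ FunFld.L (D - Finsupp.single Q (n₂ : ℤ)))
  have h2 : finrank k ↥((V ⊓ FunFld.L (D - Finsupp.single P (n₁ : ℤ))) ⊔
      (V ⊓ FunFld.L (D - Finsupp.single Q (n₂ : ℤ)))) ≤ finrank k ↥V :=
    Submodule.finrank_mono (sup_le inf_le_left inf_le_left)
  obtain ⟨f, hf, hf0⟩ := exists_ne_zero_of_finrank_pos
    ((V ⊓ FunFld.L (D - Finsupp.single P (n₁ : ℤ))) ⊓
      (V ⊓ FunFld.L (D - Finsupp.single Q (n₂ : ℤ)))) (by omega)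
  refine ⟨f, hf.1.1, hf0, ?_⟩
  have hfL := inf_L_two_le V D hPQ (n₁ : ℤ) (n₂ : ℤ) hf
  have hnn := nonneg_of_mem_L hK _ hf0 hfL
  have hz := eq_zero_of_nonneg_of_deg_eq_zero hK hnn (by
    rw [deg_add, deg_sub, deg_sub, deg_single, deg_single, deg_div hK,
      deg_eq_one_of_isAlgClosed hK P, deg_eq_one_of_isAlgClosed hK Q, hD]
    push_cast
    rw [← hn]
    push_cast
    ring)
  calc FunFld.div k f + D
      = (D - Finsupp.single P (n₁ : ℤ) - Finsupp.single Q (n₂ : ℤ) + FunFld.div k f) +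
        (Finsupp.single P (n₁ : ℤ) + Finsupp.single Q (n₂ : ℤ)) := by abel
    _ = _ := by rw [hz, zero_add]

/-- Membership in `L(D - nR)` read off from the divisor of `f`. -/
lemma mem_L_sub_single (hK : FunFld.IsFunctionField k K) (D : FunFld.Divisor k K) {f : K}
    (hf0 : f ≠ 0) (hf : f ∈ FunFld.L D) (R : FunFld.Place k K) (n : ℤ)
    (hn : n ≤ (FunFld.div k f + D) R) : f ∈ FunFld.L (D - Finsupp.single R n) := by
  classical
  intro R'
  rw [pl_val_le_exp_iff R' hf0, Finsupp.sub_apply]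
  by_cases h : R' = R
  · rw [h, Finsupp.single_eq_same]
    rw [Finsupp.add_apply, div_apply hK] at hn
    omega
  · rw [Finsupp.single_eq_of_ne h, sub_zero]
    have := hf R'
    rwa [pl_val_le_exp_iff R' hf0] at this

lemma sum_indicator_eq (d m : ℕ) (h : m ≤ d) :
    ∑ n ∈ Finset.range d, (if n < m then 1 else 0) = m := by
  rw [Finset.sum_boole]
  have : (Finset.range d).filter (fun j => j < m) = Finset.range m := by
    ext j
    simp only [Finset.mem_filter, Finset.mem_range]
    omega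
  simp [this]

/-- Lower bound for `∑ dim U(-nP)` when `U` contains `f, g` independent with known orders. -/
lemma wsum_pair_ge (hK : FunFld.IsFunctionField k K) (D : FunFld.Divisor k K) (d : ℕ)
    (U : Submodule k K) [FiniteDimensional k U] (hU2 : finrank k ↥U = 2) {f g : K}
    (hfU : f ∈ U) (hgU : g ∈ U) (hf0 : f ≠ 0) (hg0 : g ≠ 0) (hUL : U ≤ FunFld.L D)
    (hspan : ∀ W : Submodule k K, f ∈ W → g ∈ W → U ≤ W)
    (P : FunFld.Place k K) (a b : ℕ) (ha : (a : ℤ) ≤ (FunFld.div k f + D) P)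
    (hb : (b : ℤ) ≤ (FunFld.div k g + D) P) (had : a ≤ d) (hbd : b ≤ d) :
    a + b ≤ wsum U D d P := by
  have hterm : ∀ n ∈ Finset.range d, (if n < a then 1 else 0) + (if n < b then 1 else 0) ≤
      finrank k ↥(U ⊓ FunFld.L (D - Finsupp.single P ((n : ℤ) + 1))) := by
    intro n _
    by_cases h1 : n < a
    · have hfm : f ∈ FunFld.L (D - Finsupp.single P ((n : ℤ) + 1)) :=
        mem_L_sub_single hK D hf0 (hUL hfU) P _ (by omega)
      by_cases h2 : n < b
      · have hgm : g ∈ FunFld.L (D - Finsupp.single P ((n : ℤ) + 1)) :=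
          mem_L_sub_single hK D hg0 (hUL hgU) P _ (by omega)
        have hle : U ≤ FunFld.L (D - Finsupp.single P ((n : ℤ) + 1)) := hspan _ hfm hgm
        rw [if_pos h1, if_pos h2, inf_eq_left.mpr hle, hU2]
      · rw [if_pos h1, if_neg h2]
        exact finrank_pos_of_mem _ ⟨hfU, hfm⟩ hf0
    · by_cases h2 : n < b
      · have hgm : g ∈ FunFld.L (D - Finsupp.single P ((n : ℤ) + 1)) :=
          mem_L_sub_single hK D hg0 (hUL hgU) P _ (by omega)
        rw [if_neg h1, if_pos h2]
        exact finrank_pos_of_mem _ ⟨hgU, hgm⟩ hg0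
      · rw [if_neg h1, if_neg h2]
        exact Nat.zero_le _
  have := Finset.sum_le_sum hterm
  rw [Finset.sum_add_distrib, sum_indicator_eq d a had, sum_indicator_eq d b hbd] at this
  exact this


lemma deg_of_support_single (hK : FunFld.IsFunctionField k K) (E : FunFld.Divisor k K)
    (P : FunFld.Place k K) (hE : ∀ R : FunFld.Place k K, R ≠ P → E R = 0) : E.deg = E P := by
  classical
  have h1 : E = Finsupp.single P (E P) := by
    ext R
    by_cases h : R = P
    · rw [h, Finsupp.single_eq_same]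
    · rw [Finsupp.single_eq_of_ne h]; exact hE R h
  rw [h1, deg_single, deg_eq_one_of_isAlgClosed hK P, Finsupp.single_eq_same]
  simp

lemma deg_of_support_pair (hK : FunFld.IsFunctionField k K) (E : FunFld.Divisor k K)
    {P P' : FunFld.Place k K} (hPP' : P ≠ P')
    (hE : ∀ R : FunFld.Place k K, R ≠ P → R ≠ P' → E R = 0) : E.deg = E P + E P' := by
  classical
  have h1 : E = Finsupp.single P (E P) + Finsupp.single P' (E P') := by
    ext R
    rw [Finsupp.add_apply]
    by_cases h : R = P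
    · rw [h, Finsupp.single_eq_same, Finsupp.single_eq_of_ne hPP', add_zero]
    · by_cases h' : R = P'
      · rw [h', Finsupp.single_eq_same, Finsupp.single_eq_of_ne (Ne.symm hPP'), zero_add]
      · rw [Finsupp.single_eq_of_ne h, Finsupp.single_eq_of_ne h', hE R h h', add_zero]
  have h2 : E.deg = FunFld.Divisor.deg (Finsupp.single P (E P) + Finsupp.single P' (E P') : FunFld.Divisor k K) := by rw [← h1]
  rw [h2, deg_add, deg_single, deg_single, deg_eq_one_of_isAlgClosed hK P,
    deg_eq_one_of_isAlgClosed hK P']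
  simp

lemma wsum_ge_mul (hK : FunFld.IsFunctionField k K) (D : FunFld.Divisor k K) (d : ℕ)
    (U : Submodule k K) [FiniteDimensional k U] (Q : FunFld.Place k K) (m : ℕ) (hm : m ≤ d) :
    m * finrank k ↥(U ⊓ FunFld.L (D - Finsupp.single Q (m : ℤ))) ≤ wsum U D d Q := by
  rw [wsum_def]
  calc m * finrank k ↥(U ⊓ FunFld.L (D - Finsupp.single Q (m : ℤ)))
      = ∑ _n ∈ Finset.range m, finrank k ↥(U ⊓ FunFld.L (D - Finsupp.single Q (m : ℤ))) := by
        rw [Finset.sum_const, Finset.card_range, smul_eq_mul]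
    _ ≤ ∑ n ∈ Finset.range m,
        finrank k ↥(U ⊓ FunFld.L (D - Finsupp.single Q ((n : ℤ) + 1))) := by
        refine Finset.sum_le_sum (fun n hn => ?_)
        have := Finset.mem_range.mp hn
        exact Submodule.finrank_mono (inf_L_single_mono U D Q (by omega))
    _ ≤ _ := Finset.sum_le_sum_of_subset (Finset.range_mono hm)

/-- **Rigidity**: on a rational curve, if `V` has a cusp at `Q` then, up to a scalar, at most one
member of `V` has its divisor supported on two given places other than `Q`. -/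
theorem eq_smul_of_supported [CharZero k] (hK : FunFld.IsFunctionField k K)
    (hg0 : FunFld.genus k K = 0) (d r : ℕ) (D : FunFld.Divisor k K) (hD : D.deg = d)
    (V : Submodule k K) (hV : V ≤ FunFld.L D) (hVr : finrank k ↥V = r + 1)
    (Q : FunFld.Place k K)
    (hcusp : r ≤ finrank k ↥(V ⊓ FunFld.L (D - Finsupp.single Q ((2 : ℤ)))))
    (P P' : FunFld.Place k K) (hP : P ≠ Q) (hP' : P' ≠ Q)
    (f g : K) (hf : f ∈ V) (hg : g ∈ V) (hf0 : f ≠ 0) (hg0' : g ≠ 0)
    (hfs : ∀ R : FunFld.Place k K, R ≠ P → R ≠ P' → (FunFld.div k f + D) R = 0)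
    (hgs : ∀ R : FunFld.Place k K, R ≠ P → R ≠ P' → (FunFld.div k g + D) R = 0) :
    ∃ c : k, g = c • f := by
  classical
  by_contra hne
  push_neg at hne
  haveI : FiniteDimensional k V := Module.finite_of_finrank_pos (by omega)
  have hli : LinearIndependent k ![f, g] :=
    (LinearIndependent.pair_iff' hf0).mpr (fun a h => hne a h.symm)
  obtain ⟨U, hUdef⟩ : ∃ U : Submodule k K, U = Submodule.span k (Set.range ![f, g]) := ⟨_, rfl⟩
  have hU2 : finrank k ↥U = 2 := by rw [hUdef, finrank_span_eq_card hli]; simp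
  have hfU : f ∈ U := by rw [hUdef]; exact Submodule.subset_span ⟨0, rfl⟩
  have hgU : g ∈ U := by rw [hUdef]; exact Submodule.subset_span ⟨1, rfl⟩
  have hUW : ∀ W : Submodule k K, f ∈ W → g ∈ W → U ≤ W := by
    intro W h1 h2
    rw [hUdef]
    refine Submodule.span_le.mpr ?_
    rintro _ ⟨i, rfl⟩
    fin_cases i
    · exact h1
    · exact h2
  have hUV : U ≤ V := hUW V hf hg
  have hUL : U ≤ FunFld.L D := hUV.trans hV
  haveI : FiniteDimensional k U := Submodule.finiteDimensional_of_le hUV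
  have hd1 := rank_le_deg hK U D d 1 hD hUL hU2 P
  have hEf : (0 : FunFld.Divisor k K) ≤ FunFld.div k f + D := by
    have := nonneg_of_mem_L hK D hf0 (hV hf); rwa [add_comm] at this
  have hEg : (0 : FunFld.Divisor k K) ≤ FunFld.div k g + D := by
    have := nonneg_of_mem_L hK D hg0' (hV hg); rwa [add_comm] at this
  have hdegf : (FunFld.div k f + D).deg = d := by rw [deg_add, deg_div hK, hD, zero_add]
  have hdegg : (FunFld.div k g + D).deg = d := by rw [deg_add, deg_div hK, hD, zero_add]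
  -- the cusp forces weight at `Q`
  have hUQ : 2 ≤ wsum U D d Q := by
    have h1 := Submodule.finrank_sup_add_finrank_inf_eq U
      (V ⊓ FunFld.L (D - Finsupp.single Q ((2 : ℤ))))
    have h2 : finrank k ↥(U ⊔ (V ⊓ FunFld.L (D - Finsupp.single Q ((2 : ℤ))))) ≤ finrank k ↥V :=
      Submodule.finrank_mono (sup_le hUV inf_le_left)
    have h3 : finrank k ↥(U ⊓ (V ⊓ FunFld.L (D - Finsupp.single Q ((2 : ℤ))))) ≤
        finrank k ↥(U ⊓ FunFld.L (D - Finsupp.single Q (((2 : ℕ) : ℤ)))) := by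
      rw [Nat.cast_ofNat]
      exact Submodule.finrank_mono (inf_le_inf_left _ inf_le_right)
    have h4 : 1 ≤ finrank k ↥(U ⊓ FunFld.L (D - Finsupp.single Q (((2 : ℕ) : ℤ)))) := by omega
    have hd2 : 2 ≤ d := by
      by_contra hlt
      have := dimAt_large hK U D d hD Q 2 (by omega)
      omega
    have := wsum_ge_mul hK D d U Q 2 hd2
    omega
  have hnnP := weight_nonneg hK U D d 1 hD hUL hU2 P
  have hnnP' := weight_nonneg hK U D d 1 hD hUL hU2 P'
  by_cases hPP' : P = P'
  · subst hPP'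
    have hfP : (FunFld.div k f + D) P = d := by
      rw [← deg_of_support_single hK _ P (fun R h => hfs R h h)]; exact hdegf
    have hgP : (FunFld.div k g + D) P = d := by
      rw [← deg_of_support_single hK _ P (fun R h => hgs R h h)]; exact hdegg
    have hw := wsum_pair_ge hK D d U hU2 hfU hgU hf0 hg0' hUL hUW P d d (by rw [hfP]) (by rw [hgP])
      le_rfl le_rfl
    have key := plk_opt3 hK hg0 D d 1 hD U hUL hU2 Q True False False P P P
      (wsum U D d P - 1) 0 0
      (fun _ => ⟨hP, by omega⟩) (fun h => h.elim) (fun h => h.elim)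
      (fun _ h => h.elim) (fun _ h => h.elim) (fun h _ => h.elim)
    simp only [if_true, if_false] at key
    omega
  · have hsumf : (FunFld.div k f + D) P + (FunFld.div k f + D) P' = d := by
      rw [← deg_of_support_pair hK _ hPP' hfs]; exact hdegf
    have hsumg : (FunFld.div k g + D) P + (FunFld.div k g + D) P' = d := by
      rw [← deg_of_support_pair hK _ hPP' hgs]; exact hdegg
    have hfP0 : 0 ≤ (FunFld.div k f + D) P := by simpa using hEf P
    have hfP'0 : 0 ≤ (FunFld.div k f + D) P' := by simpa using hEf P'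
    have hgP0 : 0 ≤ (FunFld.div k g + D) P := by simpa using hEg P
    have hgP'0 : 0 ≤ (FunFld.div k g + D) P' := by simpa using hEg P'
    obtain ⟨a, ha⟩ : ∃ a : ℕ, (a : ℤ) = (FunFld.div k f + D) P := ⟨_, Int.toNat_of_nonneg hfP0⟩
    obtain ⟨a', ha'⟩ : ∃ a : ℕ, (a : ℤ) = (FunFld.div k f + D) P' := ⟨_, Int.toNat_of_nonneg hfP'0⟩
    obtain ⟨b, hb⟩ : ∃ a : ℕ, (a : ℤ) = (FunFld.div k g + D) P := ⟨_, Int.toNat_of_nonneg hgP0⟩
    obtain ⟨b', hb'⟩ : ∃ a : ℕ, (a : ℤ) = (FunFld.div k g + D) P' := ⟨_, Int.toNat_of_nonneg hgP'0⟩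
    have hw1 := wsum_pair_ge hK D d U hU2 hfU hgU hf0 hg0' hUL hUW P a b ha.le hb.le
      (by omega) (by omega)
    have hw2 := wsum_pair_ge hK D d U hU2 hfU hgU hf0 hg0' hUL hUW P' a' b' ha'.le hb'.le
      (by omega) (by omega)
    have key := plk_opt3 hK hg0 D d 1 hD U hUL hU2 Q True True False P P' P
      (wsum U D d P - 1) (wsum U D d P' - 1) 0
      (fun _ => ⟨hP, by omega⟩) (fun _ => ⟨hP', by omega⟩) (fun h => h.elim)
      (fun _ _ => hPP') (fun _ h => h.elim) (fun _ h => h.elim)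
    simp only [if_true, if_false] at key
    omega

end Groth.Agent.H81.LC
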