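import Groth.Agent.H81.PlaneLocal
import Mathlib

/-!
Local study of an affine model `k[y₁, …, yₙ] ⊆ K` at a point (any number of variables), the
principal-maximal-ideal criterion in "step" form, and invariance of the rank of a matrix under a
bijective field homomorphism.
-/

set_option autoImplicit false

namespace Groth.Agent.H81.LocalN

open FunFld WithZero MvPolynomial

variable {k K : Type*} [Field k] [Field K] [Algebra k K] {σ : Type*} [Fintype σ]

/-- first order expansion of a polynomial at a point (any number of variables). -/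
theorem exists_expand [DecidableEq σ] (c : σ → k) (G : MvPolynomial σ k) :
    ∃ A : σ → MvPolynomial σ k,
      G = C (eval c G) + ∑ i, (X i - C (c i)) * A i ∧
      ∀ i, eval c (A i) = eval c (pderiv i G) := by
  induction G using MvPolynomial.induction_on with
  | C a => exact ⟨fun _ => 0, by simp, by simp⟩
  | add p q hp hq =>
    obtain ⟨A1, h1, h2⟩ := hp
    obtain ⟨A2, h1', h2'⟩ := hq
    refine ⟨fun i => A1 i + A2 i, ?_, fun i => by simp [h2, h2']⟩
    simp only [mul_add, Finset.sum_add_distrib, map_add]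
    linear_combination h1 + h1'
  | mul_X p i0 hp =>
    obtain ⟨A, h1, h2⟩ := hp
    refine ⟨fun i => A i * X i0 + (if i = i0 then C (eval c p) else 0), ?_, ?_⟩
    · have hs : ∑ i, (X i - C (c i)) * (A i * X i0 + (if i = i0 then C (eval c p) else 0)) =
          (∑ i, (X i - C (c i)) * A i) * X i0 + (X i0 - C (c i0)) * C (eval c p) := by
        simp only [mul_add, Finset.sum_add_distrib, Finset.sum_mul]
        congr 1
        · apply Finset.sum_congr rfl
          intro i _
          ring
        · rw [Finset.sum_eq_single i0]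
          · rw [if_pos rfl]
          · intro j _ hj
            rw [if_neg hj, mul_zero]
          · intro h
            exact absurd (Finset.mem_univ _) h
      rw [hs, map_mul, eval_X, C_mul]
      linear_combination (X i0) * h1
    · intro i
      beta_reduce
      rw [pderiv_mul]
      by_cases h : i = i0
      · subst h
        rw [pderiv_X_self, if_pos rfl]
        simp only [map_add, map_mul, eval_X, eval_C, map_one, h2]
        ring
      · rw [pderiv_X_of_ne (Ne.symm h), if_neg h]
        simp only [map_add, map_mul, eval_X, map_zero, h2]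
        ring

theorem val_aeval_le (P : Place k K) {v : σ → K} (hv : ∀ i, P.1 (v i) ≤ 1)
    (G : MvPolynomial σ k) : P.1 (aeval v G) ≤ 1 := by
  induction G using MvPolynomial.induction_on with
  | C a =>
    rw [aeval_C]
    exact P.2.1 a
  | add p q hp hq =>
    rw [map_add]
    exact (P.1.map_add _ _).trans (max_le hp hq)
  | mul_X p i hp =>
    rw [map_mul, map_mul, aeval_X]
    exact mul_le_one' hp (hv i)

/-- expansion of the value of a polynomial vanishing at the point. -/
theorem aeval_expand (v : σ → K) (c : σ → k) (G : MvPolynomial σ k) (hG : eval c G = 0) :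
    ∃ A : σ → MvPolynomial σ k,
      aeval v G = ∑ i, (v i - algebraMap k K (c i)) * aeval v (A i) ∧
      ∀ i, eval c (A i) = eval c (pderiv i G) := by
  classical
  obtain ⟨A, h1, h2⟩ := exists_expand c G
  refine ⟨A, ?_, h2⟩
  rw [hG, map_zero, zero_add] at h1
  have h3 := congrArg (aeval v : MvPolynomial σ k →ₐ[k] K) h1
  rw [h3, map_sum]
  apply Finset.sum_congr rfl
  intro i _
  rw [map_mul, map_sub, aeval_X, aeval_C]

/-- a polynomial in the coordinates is congruent to its value at the point. -/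
theorem val_sub_lt (P : Place k K) (v : σ → K) (c : σ → k)
    (hv : ∀ i, P.1 (v i - algebraMap k K (c i)) < 1) (G : MvPolynomial σ k) :
    P.1 (aeval v G - algebraMap k K (eval c G)) < 1 := by
  have hv1 : ∀ i, P.1 (v i) ≤ 1 := fun i => PlaneLocal.val_le_of_sub_lt P _ (hv i)
  obtain ⟨A, h1, -⟩ := aeval_expand v c (G - C (eval c G)) (by simp)
  rw [map_sub, aeval_C] at h1
  rw [h1]
  apply Valuation.map_sum_lt _ one_ne_zero
  intro i _
  rw [map_mul]
  calc P.1 (v i - algebraMap k K (c i)) * P.1 (aeval v (A i))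
      ≤ P.1 (v i - algebraMap k K (c i)) * 1 := mul_le_mul' le_rfl (val_aeval_le P hv1 (A i))
    _ = P.1 (v i - algebraMap k K (c i)) := mul_one _
    _ < 1 := hv i

theorem val_eq_one_of_eval_ne (P : Place k K) (v : σ → K) (c : σ → k)
    (hv : ∀ i, P.1 (v i - algebraMap k K (c i)) < 1) (G : MvPolynomial σ k)
    (hG : eval c G ≠ 0) : P.1 (aeval v G) = 1 := by
  have h1 := val_sub_lt P v c hv G
  have h2 : P.1 (algebraMap k K (eval c G)) = 1 := RatPlace.val_const P hG
  have h3 : aeval v G = algebraMap k K (eval c G) + (aeval v G - algebraMap k K (eval c G)) := by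
    ring
  rw [h3, Valuation.map_add_eq_of_lt_left _ (by rw [h2]; exact h1), h2]

theorem eval_eq_zero_of_val_lt (P : Place k K) (v : σ → K) (c : σ → k)
    (hv : ∀ i, P.1 (v i - algebraMap k K (c i)) < 1) (G : MvPolynomial σ k)
    (hG : P.1 (aeval v G) < 1) : eval c G = 0 := by
  by_contra h
  rw [val_eq_one_of_eval_ne P v c hv G h] at hG
  exact lt_irrefl _ hG

/-- abstract principal-maximal-ideal argument in "step" form: if every element of `B` of positive
order at `P`, multiplied by the unit `w`, is divisible in `B` by the fixed element `s` of positive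
order, then the local ring of `B` at `P` is the valuation ring. -/
theorem loc_of_step (P : Place k K) (B : Subalgebra k K) (hB1 : ∀ b ∈ B, P.1 b ≤ 1) (s : K)
    (hs : s ∈ B) (hPs : P.1 s < 1) (w : K) (hw : w ∈ B) (hPw : P.1 w = 1)
    (hstep : ∀ b ∈ B, P.1 b < 1 → ∃ b' ∈ B, b * w = s * b')
    (hfrac : ∀ z : K, ∃ b1 ∈ B, ∃ b2 ∈ B, b2 ≠ 0 ∧ z * b2 = b1) :
    ∀ z : K, P.1 z ≤ 1 → ∃ u ∈ B, ∃ w' ∈ B, P.1 w' = 1 ∧ z * w' = u := by
  have hw0 : w ≠ 0 := by
    rintro rfl
    rw [map_zero] at hPw
    exact zero_ne_one hPw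
  have hfactor : ∀ N : ℕ, ∀ b ∈ B, b ≠ 0 → exp (-(N : ℤ)) ≤ P.1 b →
      ∃ n : ℕ, ∃ u ∈ B, ∃ w' ∈ B, P.1 u = 1 ∧ P.1 w' = 1 ∧ b * w' = s ^ n * u := by
    intro N
    induction N with
    | zero =>
      intro b hb hb0 hN
      refine ⟨0, b, hb, 1, B.one_mem, ?_, map_one _, by simp⟩
      apply le_antisymm (hB1 b hb)
      simpa using hN
    | succ N ih =>
      intro b hb hb0 hN
      by_cases hb1 : P.1 b = 1
      · exact ⟨0, b, hb, 1, B.one_mem, hb1, map_one _, by simp⟩
      · have hblt : P.1 b < 1 := lt_of_le_of_ne (hB1 b hb) hb1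
        obtain ⟨b', hb'B, hbw⟩ := hstep b hb hblt
        have hb'0 : b' ≠ 0 := by
          intro h0
          rw [h0, mul_zero] at hbw
          rcases mul_eq_zero.mp hbw with h | h
          · exact hb0 h
          · exact hw0 h
        have hval : P.1 b = P.1 s * P.1 b' := by
          have := congrArg P.1 hbw
          rwa [map_mul, map_mul, hPw, mul_one] at this
        have hN' : exp (-(N : ℤ)) ≤ P.1 b' := by
          have h1 : P.1 b ≤ exp (-1 : ℤ) * P.1 b' := by
            rw [hval]
            exact mul_le_mul' (PlaneLocal.le_exp_neg_one hPs) le_rfl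
          have h2 : exp (-((N + 1 : ℕ) : ℤ)) ≤ exp (-1 : ℤ) * P.1 b' := hN.trans h1
          have h3 : exp (1 : ℤ) * exp (-((N + 1 : ℕ) : ℤ)) ≤
              exp (1 : ℤ) * (exp (-1 : ℤ) * P.1 b') := mul_le_mul' le_rfl h2
          rw [← mul_assoc, ← exp_add, ← exp_add] at h3
          have e1 : (1 : ℤ) + -((N + 1 : ℕ) : ℤ) = -(N : ℤ) := by push_cast; ring
          have e2 : (1 : ℤ) + -1 = 0 := by ring
          rw [e1, e2, exp_zero, one_mul] at h3
          exact h3
        obtain ⟨n, u, hu, w1, hw1, hPu, hPw1, hfac⟩ := ih b' hb'B hb'0 hN'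
        refine ⟨n + 1, u, hu, w * w1, B.mul_mem hw hw1, hPu, by rw [map_mul, hPw, hPw1, one_mul],
          ?_⟩
        calc b * (w * w1) = (b * w) * w1 := by ring
          _ = s * (b' * w1) := by rw [hbw]; ring
          _ = s ^ (n + 1) * u := by rw [hfac]; ring
  have hbound : ∀ b ∈ B, b ≠ 0 → ∃ N : ℕ, exp (-(N : ℤ)) ≤ P.1 b := by
    intro b hb hb0
    have hne : P.1 b ≠ 0 := (Valuation.ne_zero_iff _).mpr hb0
    obtain ⟨m, hm⟩ : ∃ m : ℤ, P.1 b = exp m := ⟨log (P.1 b), (exp_log hne).symm⟩
    refine ⟨(-m).toNat, ?_⟩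
    rw [hm, exp_le_exp]
    omega
  intro z hz
  by_cases hz0 : z = 0
  · exact ⟨0, B.zero_mem, 1, B.one_mem, map_one _, by rw [hz0, zero_mul]⟩
  obtain ⟨b1, hb1, b2, hb2, hb20, hzb⟩ := hfrac z
  have hb10 : b1 ≠ 0 := by
    rw [← hzb]
    exact mul_ne_zero hz0 hb20
  obtain ⟨N1, hN1⟩ := hbound b1 hb1 hb10
  obtain ⟨N2, hN2⟩ := hbound b2 hb2 hb20
  obtain ⟨n1, u1, hu1, w1, hw1, hPu1, hPw1, hf1⟩ := hfactor N1 b1 hb1 hb10 hN1
  obtain ⟨n2, u2, hu2, w2, hw2, hPu2, hPw2, hf2⟩ := hfactor N2 b2 hb2 hb20 hN2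
  have hne_of_val : ∀ t : K, P.1 t = 1 → t ≠ 0 := by
    intro t ht h0
    rw [h0, map_zero] at ht
    exact zero_ne_one ht
  have hs1 : s ^ n1 ≠ 0 := by
    intro h0
    rw [h0, zero_mul] at hf1
    rcases mul_eq_zero.mp hf1 with h | h
    · exact hb10 h
    · exact hne_of_val _ hPw1 h
  have hs2 : s ^ n2 ≠ 0 := by
    intro h0
    rw [h0, zero_mul] at hf2
    rcases mul_eq_zero.mp hf2 with h | h
    · exact hb20 h
    · exact hne_of_val _ hPw2 h
  have hmain : z * (s ^ n2 * (u2 * w1)) = s ^ n1 * (u1 * w2) := by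
    calc z * (s ^ n2 * (u2 * w1)) = (z * (b2 * w2)) * w1 := by rw [hf2]; ring
      _ = (b1 * w1) * w2 := by rw [← hzb]; ring
      _ = s ^ n1 * (u1 * w2) := by rw [hf1]; ring
  have hle : n2 ≤ n1 := by
    by_contra hlt
    rw [not_le] at hlt
    have hv := congrArg P.1 hmain
    simp only [map_mul, map_pow, hPu1, hPu2, hPw1, hPw2, mul_one] at hv
    have hs0 : s ≠ 0 := by
      intro h0
      apply hs2
      rw [h0, zero_pow (by omega)]
    have hPs0 : 0 < P.1 s := zero_lt_iff.mpr ((Valuation.ne_zero_iff _).mpr hs0)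
    have h1 : P.1 s ^ n2 < P.1 s ^ n1 := pow_lt_pow_right_of_lt_one₀ hPs0 hPs hlt
    have h2 : P.1 s ^ n1 ≤ P.1 s ^ n2 := by
      rw [← hv]
      calc P.1 z * P.1 s ^ n2 ≤ 1 * P.1 s ^ n2 := mul_le_mul' hz le_rfl
        _ = P.1 s ^ n2 := one_mul _
    exact absurd h1 (not_lt.mpr h2)
  refine ⟨s ^ (n1 - n2) * (u1 * w2), ?_, u2 * w1, B.mul_mem hu2 hw1,
    by rw [map_mul, hPu2, hPw1, one_mul], ?_⟩
  · exact B.mul_mem (B.pow_mem hs _) (B.mul_mem hu1 hw2)
  · apply mul_left_cancel₀ hs2
    calc s ^ n2 * (z * (u2 * w1)) = z * (s ^ n2 * (u2 * w1)) := by ring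
      _ = s ^ n1 * (u1 * w2) := hmain
      _ = s ^ n2 * (s ^ (n1 - n2) * (u1 * w2)) := by
        have hpow : s ^ n1 = s ^ n2 * s ^ (n1 - n2) := by
          rw [← pow_add, Nat.add_sub_cancel' hle]
        rw [hpow]; ring

/-- the rank of a matrix does not change under a bijective field homomorphism. -/
theorem rank_map_of_bijective {k L : Type*} [Field k] [Field L] [Algebra k L]
    (h : Function.Bijective (algebraMap k L)) {r n : ℕ} (J : Matrix (Fin r) (Fin n) k) :
    (J.map (algebraMap k L)).rank = J.rank := by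
  let e : k ≃+* L := RingEquiv.ofBijective (algebraMap k L) h
  have hfw : ∀ x : Fin n → k, (J.map (algebraMap k L)).mulVec (fun i => e (x i)) =
      fun i => e (J.mulVec x i) := by
    intro x
    funext i
    exact (RingHom.map_mulVec (algebraMap k L) J x i).symm
  let E : (Fin r → k) ≃+ (Fin r → L) := AddEquiv.piCongrRight (fun _ => e.toAddEquiv)
  have hmap : ∀ v : Fin r → k, v ∈ LinearMap.range J.mulVecLin ↔
      E v ∈ LinearMap.range (J.map (algebraMap k L)).mulVecLin := by
    intro v
    constructor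
    · rintro ⟨x, rfl⟩
      refine ⟨fun i => e (x i), ?_⟩
      rw [Matrix.mulVecLin_apply, hfw]
      rfl
    · rintro ⟨x', hx'⟩
      refine ⟨fun i => e.symm (x' i), ?_⟩
      apply E.injective
      rw [← hx', Matrix.mulVecLin_apply, Matrix.mulVecLin_apply]
      have h1 := hfw (fun i => e.symm (x' i))
      simp only [RingEquiv.apply_symm_apply] at h1
      rw [h1]
      rfl
  let j : LinearMap.range J.mulVecLin ≃+ LinearMap.range (J.map (algebraMap k L)).mulVecLin :=
    { toFun := fun v => ⟨E v.1, (hmap v.1).mp v.2⟩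
      invFun := fun v' => ⟨E.symm v'.1, (hmap _).mpr (by rw [E.apply_symm_apply]; exact v'.2)⟩
      left_inv := fun v => Subtype.ext (E.symm_apply_apply _)
      right_inv := fun v' => Subtype.ext (E.apply_symm_apply _)
      map_add' := fun v w => Subtype.ext (map_add E _ _) }
  have hrank := lift_rank_eq_of_equiv_equiv (R := k) (R' := L) (algebraMap k L) j h (by
    intro c v
    apply Subtype.ext
    funext i
    show e (c * v.1 i) = algebraMap k L c * e (v.1 i)
    rw [map_mul]
    rfl)
  unfold Matrix.rank Module.finrank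
  have h2 := congrArg Cardinal.toNat hrank
  simpa using h2.symm

end Groth.Agent.H81.LocalN
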