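import Mathlib
import Groth.Agent.H65.FormalInv
import Groth.Prelude.Def_QuadSing

/-!
# Formal Morse lemma over an arbitrary commutative ring

A power series agreeing with `Q + a` (with `Q` a non-degenerate quadratic form) up to order `m ≥ 2`
is carried to `Q + a` by a coordinate change `x ↦ x + h` with `h` of order `≥ m`.
The successive approximation follows the pattern of `Groth.Agent.S3206` (helper65), and the
invertibility of the coordinate change uses `Groth.Agent.H65.FormalInv`.
-/

set_option autoImplicit false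

universe u

namespace Groth.Agent.H81.Morse

open MvPowerSeries Finsupp Groth.Agent.H65

theorem exists_seq {α : Type*} (I : ℕ → α → Prop) (Rel : ℕ → α → α → Prop) (a0 : α) (h0 : I 0 a0)
    (step : ∀ N a, I N a → ∃ b, I (N + 1) b ∧ Rel N a b) :
    ∃ E : ℕ → α, (∀ N, I N (E N)) ∧ ∀ N, Rel N (E N) (E (N + 1)) := by
  classical
  let E' : (N : ℕ) → {a // I N a} := fun N =>
    Nat.rec (motive := fun N => {a // I N a}) ⟨a0, h0⟩
      (fun N p => ⟨Classical.choose (step N p.1 p.2),
        (Classical.choose_spec (step N p.1 p.2)).1⟩) N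
  refine ⟨fun N => (E' N).1, fun N => (E' N).2, fun N => ?_⟩
  exact (Classical.choose_spec (step N (E' N).1 (E' N).2)).2

variable {A : Type u} [CommRing A] {n : ℕ}

/-- order (total degree) at least `N` -/
abbrev Ord (g : MvPowerSeries (Fin n) A) (N : ℕ) : Prop := WOrd (fun _ : Fin n => 1) g N

theorem wdeg (e : Fin n →₀ ℕ) : weight (fun _ : Fin n => 1) e = e.degree :=
  (DFunLike.congr_fun degree_eq_weight_one e).symm

theorem wdeg_add_single (e : Fin n →₀ ℕ) (j : Fin n) :
    weight (fun _ : Fin n => 1) (e + single j 1) = weight (fun _ : Fin n => 1) e + 1 := by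
  rw [map_add, weight_single, one_smul]

theorem exists_div (h : MvPowerSeries (Fin n) A) (N : ℕ) (hh : Ord h (N + 1)) :
    ∃ δ : Fin n → MvPowerSeries (Fin n) A, (∀ j, Ord (δ j) N) ∧ h = ∑ j, X j * δ j := by
  classical
  let δ : Fin n → MvPowerSeries (Fin n) A := fun j e' =>
    if (∀ i, i < j → e' i = 0) then coeff (e' + single j 1) h else 0
  have hδ : ∀ j e', coeff e' (δ j) =
      if (∀ i, i < j → e' i = 0) then coeff (e' + single j 1) h else 0 := fun j e' => rfl
  refine ⟨δ, ?_, ?_⟩
  · intro j e' he'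
    rw [hδ]
    split_ifs with hc
    · apply hh
      rw [wdeg_add_single]
      omega
    · rfl
  · ext e
    rw [map_sum]
    have hterm : ∀ j, coeff e (X j * δ j) =
        if (e j ≠ 0 ∧ ∀ i, i < j → e i = 0) then coeff e h else 0 := by
      intro j
      rw [X_def, coeff_monomial_mul, one_mul, hδ]
      by_cases hj : e j ≠ 0
      · have hle : single j 1 ≤ e := single_le_iff.mpr (Nat.one_le_iff_ne_zero.mpr hj)
        rw [if_pos hle, tsub_add_cancel_of_le hle]
        have hiff : (∀ i, i < j → (e - single j 1 : Fin n →₀ ℕ) i = 0) ↔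
            (∀ i, i < j → e i = 0) := by
          have hval : ∀ i, i < j → (e - single j 1 : Fin n →₀ ℕ) i = e i := by
            intro i hi
            rw [Finsupp.tsub_apply, Finsupp.single_apply, if_neg hi.ne', tsub_zero]
          constructor
          · intro H i hi
            rw [← hval i hi]
            exact H i hi
          · intro H i hi
            rw [hval i hi]
            exact H i hi
        by_cases hc : ∀ i, i < j → e i = 0
        · rw [if_pos (hiff.mpr hc), if_pos ⟨hj, hc⟩]
        · rw [if_neg (fun h' => hc (hiff.mp h')), if_neg (fun h' => hc h'.2)]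
      · have hle : ¬ single j 1 ≤ e := fun hle =>
          hj (Nat.one_le_iff_ne_zero.mp (single_le_iff.mp hle))
        rw [if_neg hle, if_neg (fun hc => hj hc.1)]
    simp_rw [hterm]
    by_cases h0 : e = 0
    · subst h0
      rw [Finset.sum_eq_zero]
      · exact hh 0 (by simp)
      · intro j _
        rw [if_neg]
        intro hc
        exact hc.1 rfl
    · have hne : e.support.Nonempty := support_nonempty_iff.mpr h0
      have hj0 : e (e.support.min' hne) ≠ 0 := mem_support_iff.mp (Finset.min'_mem _ hne)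
      have hmin : ∀ i, i < e.support.min' hne → e i = 0 := by
        intro i hi
        by_contra hne'
        have := Finset.min'_le e.support i (mem_support_iff.mpr hne')
        exact absurd hi (not_lt.mpr this)
      rw [Finset.sum_eq_single (e.support.min' hne)]
      · rw [if_pos ⟨hj0, hmin⟩]
      · intro j _ hj
        rw [if_neg]
        rintro ⟨hj1, hj2⟩
        apply hj
        rcases lt_trichotomy j (e.support.min' hne) with hlt | heq | hgt
        · exact absurd (hmin j hlt) hj1
        · exact heq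
        · exact absurd (hj2 _ hgt) hj0
      · intro h
        exact absurd (Finset.mem_univ _) h

section Quad

variable (q : Fin n → Fin n → A)

/-- the quadratic form `Σ_{i ≤ j} q i j · v i v j` -/
noncomputable def Qv (v : Fin n → MvPowerSeries (Fin n) A) : MvPowerSeries (Fin n) A :=
  ∑ i, ∑ j, if i ≤ j then C (q i j) * (v i * v j) else 0

/-- its polar form -/
noncomputable def Bv (u v : Fin n → MvPowerSeries (Fin n) A) : MvPowerSeries (Fin n) A :=
  ∑ i, ∑ j, if i ≤ j then C (q i j) * (u i * v j + v i * u j) else 0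

theorem Qv_add (u v : Fin n → MvPowerSeries (Fin n) A) :
    Qv q (u + v) = Qv q u + Bv q u v + Qv q v := by
  simp only [Qv, Bv, ← Finset.sum_add_distrib]
  apply Finset.sum_congr rfl
  intro i _
  apply Finset.sum_congr rfl
  intro j _
  split_ifs
  · simp only [Pi.add_apply]
    ring
  · simp

theorem Bv_add_left (u u' v : Fin n → MvPowerSeries (Fin n) A) :
    Bv q (u + u') v = Bv q u v + Bv q u' v := by
  simp only [Bv, ← Finset.sum_add_distrib]
  apply Finset.sum_congr rfl
  intro i _
  apply Finset.sum_congr rfl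
  intro j _
  split_ifs
  · simp only [Pi.add_apply]
    ring
  · simp

theorem ord_C_mul {g : MvPowerSeries (Fin n) A} {N : ℕ} (c : A) (hg : Ord g N) :
    Ord (C c * g) N := by
  have := (WOrd.zero_order (fun _ : Fin n => 1) (C c : MvPowerSeries (Fin n) A)).mul hg
  rwa [zero_add] at this

theorem Bv_ord {u v : Fin n → MvPowerSeries (Fin n) A} {a b : ℕ} (hu : ∀ i, Ord (u i) a)
    (hv : ∀ i, Ord (v i) b) : Ord (Bv q u v) (a + b) := by
  apply WOrd.sum
  intro i _
  apply WOrd.sum
  intro j _
  split_ifs
  · apply ord_C_mul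
    apply WOrd.add
    · exact (hu i).mul (hv j)
    · have := (hv i).mul (hu j)
      rwa [add_comm] at this
  · exact WOrd.zero _ _

theorem Qv_ord {v : Fin n → MvPowerSeries (Fin n) A} {b : ℕ}
    (hv : ∀ i, Ord (v i) b) : Ord (Qv q v) (b + b) := by
  apply WOrd.sum
  intro i _
  apply WOrd.sum
  intro j _
  split_ifs
  · apply ord_C_mul
    exact (hv i).mul (hv j)
  · exact WOrd.zero _ _

/-- the coordinate family -/
noncomputable def Xv : Fin n → MvPowerSeries (Fin n) A := fun i => X i

theorem pm_apply (i j : Fin n) : VanCyc.polarMatrix q i j =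
    if i = j then 2 * q i i else if i < j then q i j else q j i := rfl

theorem Bv_X (δ : Fin n → MvPowerSeries (Fin n) A) :
    Bv q Xv δ = ∑ i, X i * ∑ j, C (VanCyc.polarMatrix q i j) * δ j := by
  have h1 : Bv q Xv δ =
      (∑ i, ∑ j, if i ≤ j then C (q i j) * ((X i : MvPowerSeries (Fin n) A) * δ j) else 0) +
      (∑ i, ∑ j, if i ≤ j then C (q i j) * (δ i * (X j : MvPowerSeries (Fin n) A)) else 0) := by
    simp only [Bv, Xv, ← Finset.sum_add_distrib]
    apply Finset.sum_congr rfl
    intro i _
    apply Finset.sum_congr rfl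
    intro j _
    split_ifs
    · ring
    · simp
  rw [h1, Finset.sum_comm (f := fun i j =>
    if i ≤ j then C (q i j) * (δ i * (X j : MvPowerSeries (Fin n) A)) else 0),
    ← Finset.sum_add_distrib]
  apply Finset.sum_congr rfl
  intro i _
  rw [Finset.mul_sum, ← Finset.sum_add_distrib]
  apply Finset.sum_congr rfl
  intro j _
  rw [pm_apply]
  rcases lt_trichotomy i j with h | h | h
  · rw [if_pos h.le, if_neg (not_le.mpr h), if_neg h.ne, if_pos h]
    ring
  · subst h
    rw [if_pos le_rfl, if_pos le_rfl, if_pos rfl, map_mul]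
    have h2 : (C (2 : A) : MvPowerSeries (Fin n) A) = 2 := map_ofNat C 2
    rw [h2]
    ring
  · rw [if_neg (not_le.mpr h), if_pos h.le, if_neg h.ne', if_neg (not_lt.mpr h.le)]
    ring

theorem solve (hq : IsUnit (VanCyc.polarMatrix q).det) (ρ : Fin n → MvPowerSeries (Fin n) A) :
    ∃ δ : Fin n → MvPowerSeries (Fin n) A,
      (∀ K, (∀ j, Ord (ρ j) K) → ∀ j, Ord (δ j) K) ∧
      ∀ i, ∑ j, C (VanCyc.polarMatrix q i j) * δ j = ρ i := by
  classical
  refine ⟨fun j => ∑ l, C ((VanCyc.polarMatrix q)⁻¹ j l) * ρ l, ?_, ?_⟩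
  · intro K hρ j
    apply WOrd.sum
    intro l _
    exact ord_C_mul _ (hρ l)
  · intro i
    simp only [Finset.mul_sum]
    rw [Finset.sum_comm]
    have h1 : ∀ l, ∑ j, C (VanCyc.polarMatrix q i j) *
        (C ((VanCyc.polarMatrix q)⁻¹ j l) * ρ l) =
        C ((1 : Matrix (Fin n) (Fin n) A) i l) * ρ l := by
      intro l
      rw [← Matrix.mul_nonsing_inv _ hq, Matrix.mul_apply, map_sum, Finset.sum_mul]
      apply Finset.sum_congr rfl
      intro j _
      rw [map_mul, mul_assoc]
    simp_rw [h1, Matrix.one_apply]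
    rw [Finset.sum_eq_single i]
    · rw [if_pos rfl, map_one, one_mul]
    · intro l _ hl
      rw [if_neg (Ne.symm hl), map_zero, zero_mul]
    · intro h
      exact absurd (Finset.mem_univ _) h

theorem step (hq : IsUnit (VanCyc.polarMatrix q).det) (F : MvPowerSeries (Fin n) A) (a : A)
    (m : ℕ) (hm : 2 ≤ m) (N : ℕ) (ε : Fin n → MvPowerSeries (Fin n) A)
    (hε : ∀ i, Ord (ε i) m) (hr : Ord (F - C a - Qv q (Xv + ε)) (N + m + 1)) :
    ∃ δ : Fin n → MvPowerSeries (Fin n) A, (∀ i, Ord (δ i) (N + m)) ∧
      Ord (F - C a - Qv q (Xv + ε + δ)) (N + m + 2) := by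
  obtain ⟨ρ, hρ, hrρ⟩ := exists_div (F - C a - Qv q (Xv + ε)) (N + m) hr
  obtain ⟨δ, hδord, hδ⟩ := solve q hq ρ
  have hδ' := hδord (N + m) hρ
  refine ⟨δ, hδ', ?_⟩
  have e1 := Qv_add q (Xv + ε) δ
  have e2 := Bv_add_left q Xv ε δ
  have e5 : Bv q Xv δ = F - C a - Qv q (Xv + ε) := by
    rw [Bv_X, hrρ]
    apply Finset.sum_congr rfl
    intro i _
    rw [hδ i]
  have key : F - C a - Qv q (Xv + ε + δ) = - Bv q ε δ - Qv q δ := by
    rw [e1, e2, e5]
    ring
  rw [key]
  apply WOrd.sub
  · exact ((Bv_ord q hε hδ').neg).mono (by omega)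
  · exact (Qv_ord q hδ').mono (by omega)

theorem exists_eps (hq : IsUnit (VanCyc.polarMatrix q).det) (F : MvPowerSeries (Fin n) A) (a : A)
    (m : ℕ) (hm : 2 ≤ m) (hF : Ord (F - C a - Qv q Xv) (m + 1)) :
    ∃ ε : Fin n → MvPowerSeries (Fin n) A, (∀ i, Ord (ε i) m) ∧ F = Qv q (Xv + ε) + C a := by
  classical
  obtain ⟨E, hE, hEstep⟩ := exists_seq
    (fun N (ε : Fin n → MvPowerSeries (Fin n) A) => (∀ i, Ord (ε i) m) ∧
      Ord (F - C a - Qv q (Xv + ε)) (N + m + 1))
    (fun N ε ε' => ∀ i, Ord (ε' i - ε i) (N + m)) 0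
    ⟨fun i => WOrd.zero _ _, by rw [add_zero, zero_add]; exact hF⟩
    (by
      rintro N ε ⟨hε1, hε2⟩
      obtain ⟨δ, hδ1, hδ2⟩ := step q hq F a m hm N ε hε1 hε2
      refine ⟨ε + δ, ⟨fun i => ?_, ?_⟩, fun i => ?_⟩
      · exact (hε1 i).add ((hδ1 i).mono (by omega))
      · rw [← add_assoc]
        exact hδ2.mono (by omega)
      · rw [Pi.add_apply, add_sub_cancel_left]
        exact hδ1 i)
  have tele : ∀ M d i, Ord (E (M + d) i - E M i) (M + m) := by
    intro M d i
    induction d with
    | zero => rw [add_zero, sub_self]; exact WOrd.zero _ _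
    | succ d ih =>
      have h1 := hEstep (M + d) i
      have : E (M + (d + 1)) i - E M i =
          (E (M + d + 1) i - E (M + d) i) + (E (M + d) i - E M i) := by
        rw [← add_assoc]; ring
      rw [this]
      exact (h1.mono (by omega)).add ih
  let ε : Fin n → MvPowerSeries (Fin n) A := fun i e => coeff e (E e.degree i)
  have hεc : ∀ i e, coeff e (ε i) = coeff e (E e.degree i) := fun i e => rfl
  have near : ∀ N i, Ord (ε i - E N i) (N + m) := by
    intro N i e he
    rw [wdeg] at he
    rw [map_sub, sub_eq_zero, hεc]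
    by_cases hle : e.degree ≤ N
    · obtain ⟨d, hd⟩ := Nat.exists_eq_add_of_le hle
      have h1 := tele e.degree d i e (by rw [wdeg]; omega)
      rw [map_sub, sub_eq_zero, ← hd] at h1
      exact h1.symm
    · obtain ⟨d, hd⟩ := Nat.exists_eq_add_of_le (le_of_not_ge hle)
      have h1 := tele N d i e (by rw [wdeg]; omega)
      rw [map_sub, sub_eq_zero, ← hd] at h1
      exact h1
  have hεm : ∀ i, Ord (ε i) m := by
    intro i
    have h1 := near 0 i
    have h2 := (hE 0).1 i
    have : ε i = (ε i - E 0 i) + E 0 i := by ring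
    rw [this]
    exact (h1.mono (by omega)).add h2
  have hfinal : F - C a - Qv q (Xv + ε) = 0 := by
    ext e
    rw [map_zero]
    have hN := hE e.degree
    have hd : ∀ i, Ord ((ε - E e.degree : Fin n → MvPowerSeries (Fin n) A) i)
        (e.degree + m) := fun i => near e.degree i
    have hsplit : Xv + ε = (Xv + E e.degree) + (ε - E e.degree) := by abel
    have hXE : ∀ i, Ord ((Xv + E e.degree : Fin n → MvPowerSeries (Fin n) A) i) 1 := by
      intro i
      rw [Pi.add_apply]
      exact (WOrd.var (fun _ : Fin n => 1) i).add ((hN.1 i).mono (by omega))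
    have key : F - C a - Qv q (Xv + ε) = (F - C a - Qv q (Xv + E e.degree)) -
        (Bv q (Xv + E e.degree) (ε - E e.degree) + Qv q (ε - E e.degree)) := by
      rw [hsplit, Qv_add]
      ring
    rw [key]
    have hO : Ord ((F - C a - Qv q (Xv + E e.degree)) -
        (Bv q (Xv + E e.degree) (ε - E e.degree) + Qv q (ε - E e.degree)))
        (e.degree + 1) := by
      apply WOrd.sub (hN.2.mono (by omega))
      apply WOrd.add
      · exact (Bv_ord q hXE hd).mono (by omega)
      · exact (Qv_ord q hd).mono (by omega)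
    exact hO e (by rw [wdeg]; omega)
  refine ⟨ε, hεm, ?_⟩
  linear_combination hfinal

end Quad

/-- a coordinate change `x ↦ x + ε` with `ε` of order at least two is bijective and raises the
order of `f ↦ f(x + ε) - f`. -/
theorem subst_props (ε : Fin n → MvPowerSeries (Fin n) A) (hε : ∀ i, Ord (ε i) 2)
    (hs : HasSubst (fun i => X i + ε i)) :
    Function.Bijective (substAlgHom (R := A) hs) ∧
      ∀ (f : MvPowerSeries (Fin n) A) N, Ord f N →
        Ord (subst (fun i => X i + ε i) f - f) (N + 1) := by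
  have hnear : ∀ i, WNear (fun _ : Fin n => 1) (X i + ε i)
      ((1 : Fin n → A) i • (X i : MvPowerSeries (Fin n) A)) 1 := by
    intro i
    rw [Pi.one_apply, one_smul]
    refine ⟨WOrd.var (fun _ : Fin n => 1) i, ?_⟩
    rw [add_sub_cancel_left]
    exact hε i
  have hT : ∀ (f : MvPowerSeries (Fin n) A) N, Ord f N →
      Ord (subst (fun i => X i + ε i) f - f) (N + 1) := by
    intro f N hf
    have h1 := word_subst_sub_rescale (fun i => X i + ε i) (1 : Fin n → A) hnear hs hf
    rwa [rescale_one, RingHom.id_apply] at h1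
  refine ⟨?_, hT⟩
  have hb := bijective_of_word (fun _ : Fin n => 1) (substAlgHom (R := A) hs).toLinearMap
    (by
      intro f N hf
      rw [AlgHom.toLinearMap_apply, substAlgHom_apply]
      exact hT f N hf)
  exact hb

theorem main (q : Fin n → Fin n → A) (hq : VanCyc.QuadNondeg q) (a : A) (m : ℕ) (hm : 2 ≤ m)
    (F : MvPowerSeries (Fin n) A)
    (hF : ∀ e : Fin n →₀ ℕ, e.degree ≤ m →
      MvPowerSeries.coeff e F = MvPowerSeries.coeff e
        ((VanCyc.quadPoly q + MvPolynomial.C a : MvPolynomial (Fin n) A) :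
          MvPowerSeries (Fin n) A)) :
    ∃ h : Fin n → MvPowerSeries (Fin n) A,
      (∀ (i : Fin n) (e : Fin n →₀ ℕ), e.degree < m → MvPowerSeries.coeff e (h i) = 0) ∧
      MvPowerSeries.HasSubst (fun i => MvPowerSeries.X i + h i) ∧
      MvPowerSeries.subst (fun i => MvPowerSeries.X i + h i) F =
        ((VanCyc.quadPoly q + MvPolynomial.C a : MvPolynomial (Fin n) A) :
          MvPowerSeries (Fin n) A) ∧
      Nonempty ((MvPowerSeries (Fin n) A ⧸ Ideal.span {F}) ≃ₐ[A]
        (MvPowerSeries (Fin n) A ⧸ Ideal.span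
          {((VanCyc.quadPoly q + MvPolynomial.C a : MvPolynomial (Fin n) A) :
            MvPowerSeries (Fin n) A)})) := by
  classical
  obtain ⟨G, hGdef⟩ : ∃ G : MvPowerSeries (Fin n) A,
      G = ((VanCyc.quadPoly q + MvPolynomial.C a : MvPolynomial (Fin n) A) :
        MvPowerSeries (Fin n) A) := ⟨_, rfl⟩
  rw [← hGdef]
  -- evaluation of `G`
  have hG : ∀ v : Fin n → MvPowerSeries (Fin n) A, HasSubst v → subst v G = Qv q v + C a := by
    intro v hv
    rw [hGdef, subst_coe, map_add, MvPolynomial.aeval_C, VanCyc.quadPoly, map_sum]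
    congr 1
    apply Finset.sum_congr rfl
    intro i _
    rw [map_sum]
    apply Finset.sum_congr rfl
    intro j _
    split_ifs
    · rw [map_mul, map_mul, MvPolynomial.aeval_C, MvPolynomial.aeval_X, MvPolynomial.aeval_X,
        mul_assoc]
      rfl
    · rw [map_zero]
  have hGX : G = Qv q Xv + C a := by
    have h1 := hG Xv HasSubst.X
    have h2 : subst (Xv : Fin n → MvPowerSeries (Fin n) A) G = G := by
      have := congrFun (subst_self (σ := Fin n) (R := A)) G
      exact this
    rw [h2] at h1
    exact h1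
  have hF' : Ord (F - C a - Qv q Xv) (m + 1) := by
    intro e he
    rw [wdeg] at he
    have h1 : F - C a - Qv q Xv = F - G := by rw [hGX]; ring
    rw [h1, map_sub, sub_eq_zero, hGdef]
    exact hF e (by omega)
  obtain ⟨ε, hεm, hFε⟩ := exists_eps q hq F a m hm hF'
  have hε2 : ∀ i, Ord (ε i) 2 := fun i => (hεm i).mono hm
  have hs : HasSubst (fun i => X i + ε i) := by
    apply hasSubst_of_constantCoeff_zero
    intro i
    rw [map_add, constantCoeff_X, zero_add, ← coeff_zero_eq_constantCoeff_apply]
    exact hε2 i 0 (by simp)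
  obtain ⟨hbij, hraise⟩ := subst_props ε hε2 hs
  obtain ⟨Φ, hΦdef⟩ : ∃ Φ : MvPowerSeries (Fin n) A ≃ₐ[A] MvPowerSeries (Fin n) A,
      Φ = AlgEquiv.ofBijective (substAlgHom (R := A) hs) hbij := ⟨_, rfl⟩
  have hΦ : ∀ f, Φ f = subst (fun i => X i + ε i) f := by
    intro f
    rw [hΦdef, AlgEquiv.ofBijective_apply, substAlgHom_apply]
  have hΦG : Φ G = F := by
    rw [hΦ, hG _ hs, hFε]
    rfl
  have hΦX : ∀ i, Φ (X i) = X i + ε i := by
    intro i
    rw [hΦ, subst_X hs]
  obtain ⟨h, hhdef⟩ : ∃ h : Fin n → MvPowerSeries (Fin n) A,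
      h = fun i => Φ.symm (X i) - X i := ⟨_, rfl⟩
  have hh1 : ∀ i, X i + h i = Φ.symm (X i) := by
    intro i
    rw [hhdef]
    ring
  have hΦh : ∀ i, Φ (h i) = - ε i := by
    intro i
    have h1 : Φ (X i + h i) = X i := by rw [hh1, AlgEquiv.apply_symm_apply]
    rw [map_add, hΦX] at h1
    linear_combination h1
  have hhord : ∀ i j, j ≤ m → Ord (h i) j := by
    intro i j
    induction j with
    | zero => intro _; exact WOrd.zero_order _ _
    | succ j ih =>
      intro hj
      have ih' := ih (by omega)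
      intro e he
      by_cases hlt : weight (fun _ : Fin n => 1) e < j
      · exact ih' e hlt
      · have h1 : coeff e (Φ (h i) - h i) = 0 := by
          rw [hΦ]
          exact hraise (h i) j ih' e he
        have h2 : coeff e (Φ (h i)) = 0 := by
          rw [hΦh, map_neg, neg_eq_zero]
          exact hεm i e (by omega)
        rw [map_sub, h2, zero_sub, neg_eq_zero] at h1
        exact h1
  have hhm : ∀ i, Ord (h i) m := fun i => hhord i m le_rfl
  have hsh : HasSubst (fun i => X i + h i) := by
    apply hasSubst_of_constantCoeff_zero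
    intro i
    rw [map_add, constantCoeff_X, zero_add, ← coeff_zero_eq_constantCoeff_apply]
    exact hhm i 0 (by simp; omega)
  have hSh : ∀ f, subst (fun i => X i + h i) f = Φ.symm f := by
    intro f
    have h1 : Φ (subst (fun i => X i + h i) f) = f := by
      rw [hΦ, subst_comp_subst_apply hsh hs]
      have h2 : (fun s => subst (fun i => X i + ε i) (X s + h s)) =
          (X : Fin n → MvPowerSeries (Fin n) A) := by
        funext s
        rw [← hΦ, hh1, AlgEquiv.apply_symm_apply]
      rw [h2]
      exact congrFun (subst_self (σ := Fin n) (R := A)) f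
    rw [← h1, AlgEquiv.symm_apply_apply, h1]
  refine ⟨h, ?_, hsh, ?_, ?_⟩
  · intro i e he
    exact hhm i e (by rw [wdeg]; exact he)
  · rw [hSh, ← hΦG, AlgEquiv.symm_apply_apply]
  · refine ⟨Ideal.quotientEquivAlg _ _ Φ.symm ?_⟩
    rw [Ideal.map_span, Set.image_singleton]
    congr 2
    show G = Φ.symm F
    rw [← hΦG, AlgEquiv.symm_apply_apply]

end Groth.Agent.H81.Morse
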