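import Mathlib

/-!
The coordinate ring `A = k[X₀, X₁]/(X₀ X₁)` of the node: the two axis inclusions `k[T] → A`,
the two axis projections `A → k[T]`, normal forms, and primality of the ideals `(x̄ⱼ)`.
-/

set_option autoImplicit false

namespace Groth.Agent.H81.NodeB

universe u

variable (k : Type u) [Field k]

/-- The ideal `(X₀ X₁)`. -/
noncomputable abbrev I : Ideal (MvPolynomial (Fin 2) k) :=
  Ideal.span {(MvPolynomial.X 0 * MvPolynomial.X 1 : MvPolynomial (Fin 2) k)}

/-- The node ring. -/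
noncomputable abbrev A : Type u := MvPolynomial (Fin 2) k ⧸ I k

/-- The class of the variable `X l`. -/
noncomputable def xb (l : Fin 2) : A k := Ideal.Quotient.mk (I k) (MvPolynomial.X l)

variable {k}

theorem xb_mul {i j : Fin 2} (hij : i ≠ j) : xb k i * xb k j = 0 := by
  have h01 : xb k 0 * xb k 1 = 0 := by
    unfold xb
    rw [← map_mul]
    exact Ideal.Quotient.eq_zero_iff_mem.2 (Ideal.subset_span rfl)
  fin_cases i <;> fin_cases j
  · exact absurd rfl hij
  · exact h01
  · rw [mul_comm]; exact h01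
  · exact absurd rfl hij

variable (k)

/-- The axis inclusion `k[T] → A`, `T ↦ x̄ᵢ`. -/
noncomputable def ι (i : Fin 2) : Polynomial k →+* A k :=
  (Ideal.Quotient.mk (I k)).comp
    (Polynomial.aeval (MvPolynomial.X i : MvPolynomial (Fin 2) k)).toRingHom

/-- The polynomial-level axis projection. -/
noncomputable def ev₀ (i : Fin 2) : MvPolynomial (Fin 2) k →+* Polynomial k :=
  MvPolynomial.eval₂Hom Polynomial.C (fun l => if l = i then Polynomial.X else 0)

theorem ev₀_I (i : Fin 2) : ∀ a ∈ I k, ev₀ k i a = 0 := by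
  intro a ha
  obtain ⟨c, rfl⟩ := Ideal.mem_span_singleton'.1 ha
  rw [map_mul, map_mul]
  unfold ev₀
  rw [MvPolynomial.eval₂Hom_X', MvPolynomial.eval₂Hom_X']
  fin_cases i <;> simp

/-- The axis projection `A → k[T]`, `x̄ᵢ ↦ T`, `x̄ⱼ ↦ 0`. -/
noncomputable def ev (i : Fin 2) : A k →+* Polynomial k :=
  Ideal.Quotient.lift (I k) (ev₀ k i) (ev₀_I k i)

variable {k}

theorem ι_X (i : Fin 2) : ι k i Polynomial.X = xb k i := by
  unfold ι xb
  simp

theorem ι_C (i : Fin 2) (c : k) : ι k i (Polynomial.C c) = Ideal.Quotient.mk (I k) (MvPolynomial.C c) := by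
  unfold ι
  simp

theorem ev_xb_same (i : Fin 2) : ev k i (xb k i) = Polynomial.X := by
  unfold ev xb
  rw [Ideal.Quotient.lift_mk]
  unfold ev₀
  rw [MvPolynomial.eval₂Hom_X', if_pos rfl]

theorem ev_xb_ne {i j : Fin 2} (hij : i ≠ j) : ev k i (xb k j) = 0 := by
  unfold ev xb
  rw [Ideal.Quotient.lift_mk]
  unfold ev₀
  rw [MvPolynomial.eval₂Hom_X', if_neg (Ne.symm hij)]

theorem ev_ι (i : Fin 2) (p : Polynomial k) : ev k i (ι k i p) = p := by
  have h : (ev k i).comp (ι k i) = RingHom.id _ := by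
    refine Polynomial.ringHom_ext (fun c => ?_) ?_
    · rw [RingHom.comp_apply, ι_C]
      unfold ev
      rw [Ideal.Quotient.lift_mk]
      unfold ev₀
      rw [MvPolynomial.eval₂Hom_C]
      rfl
    · rw [RingHom.comp_apply, ι_X, ev_xb_same]
      rfl
  exact RingHom.congr_fun h p

/-- Normal form: every element of `A` is `ι p + x̄ⱼ b`. -/
theorem normal_form {i j : Fin 2} (hij : i ≠ j) (a : A k) :
    ∃ (p : Polynomial k) (b : A k), a = ι k i p + xb k j * b := by
  obtain ⟨q, rfl⟩ := Ideal.Quotient.mk_surjective a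
  induction q using MvPolynomial.induction_on with
  | C c => exact ⟨Polynomial.C c, 0, by rw [ι_C, mul_zero, add_zero]⟩
  | add q₁ q₂ h₁ h₂ =>
    obtain ⟨p₁, b₁, e₁⟩ := h₁
    obtain ⟨p₂, b₂, e₂⟩ := h₂
    exact ⟨p₁ + p₂, b₁ + b₂, by rw [map_add, e₁, e₂, map_add]; ring⟩
  | mul_X q l h =>
    obtain ⟨p, b, e⟩ := h
    have hl : l = i ∨ l = j := by
      fin_cases i <;> fin_cases j <;> fin_cases l <;> simp_all
    rcases hl with rfl | rfl
    · refine ⟨p * Polynomial.X, b * xb k l, ?_⟩
      rw [map_mul, e, map_mul, ι_X]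
      show _ * xb k l = _
      ring
    · refine ⟨0, Ideal.Quotient.mk (I k) q, ?_⟩
      rw [map_mul, map_zero, zero_add]
      show _ * xb k l = _
      ring

theorem ker_ev {i j : Fin 2} (hij : i ≠ j) : RingHom.ker (ev k i) = Ideal.span {xb k j} := by
  apply le_antisymm
  · intro a ha
    rw [RingHom.mem_ker] at ha
    obtain ⟨p, b, rfl⟩ := normal_form hij a
    rw [map_add, map_mul, ev_ι, ev_xb_ne hij, zero_mul, add_zero] at ha
    rw [ha, map_zero, zero_add]
    exact Ideal.mul_mem_right _ _ (Ideal.subset_span rfl)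
  · rw [Ideal.span_le]
    rintro _ rfl
    exact ev_xb_ne hij

theorem span_xb_isPrime {i j : Fin 2} (hij : i ≠ j) : (Ideal.span {xb k j}).IsPrime := by
  rw [← ker_ev hij]
  exact RingHom.ker_isPrime _

theorem ev_surjective (i : Fin 2) : Function.Surjective (ev k i) :=
  fun p => ⟨ι k i p, ev_ι i p⟩

end Groth.Agent.H81.NodeB
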