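import Mathlib
import Groth.Agent.H81.NodeRingB

/-!
Rank invariants of modules over the node ring `A = k[X₀, X₁]/(X₀ X₁)`: the rank over `k[T]`
along the axis inclusion `ι i`. Additive on short exact sequences of finitely generated modules.
-/

set_option autoImplicit false

namespace Groth.Agent.H81.NodeB

open Cardinal

universe u

variable {k : Type u} [Field k]

/-- Restriction of scalars along `ι i`, as a type synonym. -/
def RS (_i : Fin 2) (M : Type u) : Type u := M

section Basic

variable (i : Fin 2) (M : Type u) [AddCommGroup M] [Module (A k) M]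

instance : AddCommGroup (RS i M) := inferInstanceAs (AddCommGroup M)

noncomputable instance instModuleRS : Module (Polynomial k) (RS i M) := Module.compHom M (ι k i)

variable {M}

noncomputable instance instModuleRSA : Module (A k) (RS i M) := inferInstanceAs (Module (A k) M)

theorem RS_smul (p : Polynomial k) (x : RS i M) : p • x = ι k i p • x := rfl

variable {N : Type u} [AddCommGroup N] [Module (A k) N]

/-- An `A`-linear map as a `k[T]`-linear map. -/
noncomputable def rsMap (f : M →ₗ[A k] N) : RS i M →ₗ[Polynomial k] RS i N where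
  toFun := f
  map_add' := f.map_add
  map_smul' p x := f.map_smul (ι k i p) x

@[simp] theorem rsMap_apply (f : M →ₗ[A k] N) (x : M) : rsMap i f (show RS i M from x) = f x := rfl

/-- The rank along the `i`-th axis. -/
noncomputable def rk (k : Type u) [Field k] (i : Fin 2) (M : Type u) [AddCommGroup M]
    [Module (A k) M] : ℕ := Module.finrank (Polynomial k) (RS i M)

theorem rank_zero_of_killed (h : ∀ x : M, xb k i • x = 0) :
    Module.rank (Polynomial k) (RS i M) = 0 := by
  rw [rank_eq_zero_iff]
  intro x
  refine ⟨Polynomial.X, Polynomial.X_ne_zero, ?_⟩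
  rw [RS_smul, ι_X]
  exact h x

theorem rank_add {M₁ M₂ M₃ : Type u} [AddCommGroup M₁] [Module (A k) M₁]
    [AddCommGroup M₂] [Module (A k) M₂] [AddCommGroup M₃] [Module (A k) M₃]
    (f : M₁ →ₗ[A k] M₂) (g : M₂ →ₗ[A k] M₃) (hf : Function.Injective f)
    (hg : Function.Surjective g) (hfg : Function.Exact f g) :
    Module.rank (Polynomial k) (RS i M₂) =
      Module.rank (Polynomial k) (RS i M₁) + Module.rank (Polynomial k) (RS i M₃) := by
  have h1 := rank_quotient_add_rank_of_isDomain (LinearMap.range (rsMap i f))
  have h2 : Module.rank (Polynomial k) ↥(LinearMap.range (rsMap i f)) =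
      Module.rank (Polynomial k) (RS i M₁) :=
    (LinearEquiv.ofInjective (rsMap i f) hf).rank_eq.symm
  have hker : LinearMap.ker (rsMap i g) = LinearMap.range (rsMap i f) := by
    ext x
    rw [LinearMap.mem_ker, LinearMap.mem_range]
    exact hfg x
  have h3 : Module.rank (Polynomial k) (RS i M₂ ⧸ LinearMap.range (rsMap i f)) =
      Module.rank (Polynomial k) (RS i M₃) := by
    rw [← hker]
    exact ((rsMap i g).quotKerEquivOfSurjective hg).rank_eq
  rw [← h1, h2, h3, add_comm]

end Basic

section Finite

variable {i j : Fin 2} (hij : i ≠ j) (M : Type u) [AddCommGroup M] [Module (A k) M]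

include hij in
theorem rank_lt_aleph0 [Module.Finite (A k) M] :
    Module.rank (Polynomial k) (RS i M) < ℵ₀ := by
  classical
  -- the submodule `x̄ⱼ M`
  let mj : M →ₗ[A k] M := LinearMap.lsmul (A k) M (xb k j)
  let N : Submodule (Polynomial k) (RS i M) := LinearMap.range (rsMap i mj)
  have hN : Module.rank (Polynomial k) ↥N = 0 := by
    rw [rank_eq_zero_iff]
    rintro ⟨x, y, rfl⟩
    refine ⟨Polynomial.X, Polynomial.X_ne_zero, ?_⟩
    apply Subtype.ext
    show (Polynomial.X : Polynomial k) • (rsMap i mj y) = 0
    rw [RS_smul, ι_X]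
    show xb k i • (xb k j • y) = 0
    rw [smul_smul, xb_mul hij]
    exact zero_smul (A k) y
  obtain ⟨s, hs⟩ := (Module.finite_def.1 (inferInstance : Module.Finite (A k) M))
  have hgen : ∀ m : M, (N.mkQ (show RS i M from m)) ∈
      Submodule.span (Polynomial k) ((fun m : M => N.mkQ (show RS i M from m)) '' (s : Set M)) := by
    intro m
    have hm : m ∈ Submodule.span (A k) (s : Set M) := by rw [hs]; trivial
    induction hm using Submodule.span_induction with
    | mem x hx => exact Submodule.subset_span ⟨x, hx, rfl⟩
    | zero => exact Submodule.zero_mem _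
    | add x y _ _ hx hy =>
      have : N.mkQ (show RS i M from (x + y)) =
          N.mkQ (show RS i M from x) + N.mkQ (show RS i M from y) := map_add _ _ _
      rw [this]
      exact Submodule.add_mem _ hx hy
    | smul a x _ hx =>
      obtain ⟨p, b, rfl⟩ := normal_form hij a
      have e1 : N.mkQ (show RS i M from ((ι k i p + xb k j * b) • x)) =
          p • N.mkQ (show RS i M from x) +
            N.mkQ (show RS i M from (xb k j • (b • x))) := by
        rw [add_smul, mul_smul]
        have : (show RS i M from (ι k i p • x + xb k j • b • x)) =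
            p • (show RS i M from x) + (show RS i M from (xb k j • b • x)) := rfl
        rw [this, map_add, map_smul]
      have e2 : N.mkQ (show RS i M from (xb k j • (b • x))) = 0 := by
        rw [Submodule.mkQ_apply, Submodule.Quotient.mk_eq_zero]
        exact ⟨(show RS i M from (b • x)), rfl⟩
      rw [e1, e2, add_zero]
      exact Submodule.smul_mem _ _ hx
  haveI : Module.Finite (Polynomial k) (RS i M ⧸ N) := by
    refine ⟨⟨s.image (fun m : M => N.mkQ (show RS i M from m)), ?_⟩⟩
    rw [Finset.coe_image, eq_top_iff]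
    rintro q -
    obtain ⟨m, rfl⟩ := N.mkQ_surjective q
    exact hgen m
  have h1 := rank_quotient_add_rank_of_isDomain N
  rw [hN, add_zero] at h1
  rw [← h1]
  exact Module.rank_lt_aleph0 _ _

end Finite

section Additive

variable {i j : Fin 2} (hij : i ≠ j)

include hij in
theorem rk_add {M₁ M₂ M₃ : Type u} [AddCommGroup M₁] [Module (A k) M₁]
    [AddCommGroup M₂] [Module (A k) M₂] [AddCommGroup M₃] [Module (A k) M₃]
    [Module.Finite (A k) M₁] [Module.Finite (A k) M₃]
    (f : M₁ →ₗ[A k] M₂) (g : M₂ →ₗ[A k] M₃) (hf : Function.Injective f)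
    (hg : Function.Surjective g) (hfg : Function.Exact f g) :
    rk k i M₂ = rk k i M₁ + rk k i M₃ := by
  unfold rk Module.finrank
  rw [rank_add i f g hf hg hfg,
    Cardinal.toNat_add (rank_lt_aleph0 hij M₁) (rank_lt_aleph0 hij M₃)]

end Additive

section Values

variable {i j : Fin 2} (hij : i ≠ j)

theorem rk_quot_same (i : Fin 2) : rk k i (A k ⧸ Ideal.span {xb k i}) = 0 := by
  unfold rk Module.finrank
  rw [rank_zero_of_killed, map_zero]
  intro x
  obtain ⟨a, rfl⟩ := Ideal.Quotient.mk_surjective x
  show Ideal.Quotient.mk _ (xb k i * a) = 0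
  exact Ideal.Quotient.eq_zero_iff_mem.2 (Ideal.mul_mem_right _ _ (Ideal.subset_span rfl))

include hij in
theorem rk_quot_other : rk k i (A k ⧸ Ideal.span {xb k j}) = 1 := by
  have hz : ∀ a ∈ Ideal.span {xb k j}, ev k i a = 0 := by
    intro a ha
    rw [← ker_ev hij] at ha
    exact ha
  let e₀ : (A k ⧸ Ideal.span {xb k j}) →+* Polynomial k := Ideal.Quotient.lift _ (ev k i) hz
  let e : RS i (A k ⧸ Ideal.span {xb k j}) →ₗ[Polynomial k] Polynomial k :=
    { toFun := e₀
      map_add' := e₀.map_add
      map_smul' := by
        intro p x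
        obtain ⟨a, rfl⟩ := Ideal.Quotient.mk_surjective (show A k ⧸ Ideal.span {xb k j} from x)
        show e₀ (Ideal.Quotient.mk _ (ι k i p * a)) = p * e₀ (Ideal.Quotient.mk _ a)
        simp only [e₀, Ideal.Quotient.lift_mk, map_mul, ev_ι] }
  have hinj : Function.Injective e := by
    rw [← LinearMap.ker_eq_bot, LinearMap.ker_eq_bot']
    intro x hx
    obtain ⟨a, rfl⟩ := Ideal.Quotient.mk_surjective (show A k ⧸ Ideal.span {xb k j} from x)
    have h1 : ev k i a = 0 := hx
    have h2 : a ∈ Ideal.span {xb k j} := by rw [← ker_ev hij]; exact h1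
    exact Ideal.Quotient.eq_zero_iff_mem.2 h2
  have hsurj : Function.Surjective e := by
    intro p
    refine ⟨(show RS i (A k ⧸ Ideal.span {xb k j}) from Ideal.Quotient.mk _ (ι k i p)), ?_⟩
    show e₀ (Ideal.Quotient.mk _ (ι k i p)) = p
    simp only [e₀, Ideal.Quotient.lift_mk, ev_ι]
  unfold rk
  rw [(LinearEquiv.ofBijective e ⟨hinj, hsurj⟩).finrank_eq, Module.finrank_self]

end Values

end Groth.Agent.H81.NodeB
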