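import Mathlib
import Groth.Agent.H81.NodeRank
import Groth.Prelude.Def_KZero

/-!
`K₀` of finitely generated modules over the node ring: classes of modules, additivity, the two
rank homomorphisms to `ℤ`, and generation by the two axes.
-/

set_option autoImplicit false

namespace Groth.Agent.H81.NodeB

open CategoryTheory KZero

universe u

variable (k : Type u) [Field k]

/-- Finitely generated modules. -/
abbrev PF : ObjectProperty (ModuleCat.{u} (A k)) := fun M => Module.Finite (A k) M

/-- The class of a finitely generated module. -/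
noncomputable def clM (N : Type u) [AddCommGroup N] [Module (A k) N] [h : Module.Finite (A k) N] :
    K0sub (PF k) :=
  QuotientAddGroup.mk (FreeAbelianGroup.of (⟨ModuleCat.of (A k) N, h⟩ : Subtype (PF k)))

theorem clSub_of (N : Type u) [AddCommGroup N] [Module (A k) N] [h : Module.Finite (A k) N] :
    clSub (PF k) (ModuleCat.of (A k) N) = clM k N := by
  unfold clSub
  rw [dif_pos (show PF k (ModuleCat.of (A k) N) from h)]
  rfl

variable {k}

/-- Additivity of classes on short exact sequences. -/
theorem clM_add {N₁ N₂ N₃ : Type u} [AddCommGroup N₁] [Module (A k) N₁] [Module.Finite (A k) N₁]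
    [AddCommGroup N₂] [Module (A k) N₂] [Module.Finite (A k) N₂]
    [AddCommGroup N₃] [Module (A k) N₃] [Module.Finite (A k) N₃]
    (f : N₁ →ₗ[A k] N₂) (g : N₂ →ₗ[A k] N₃) (hf : Function.Injective f)
    (hg : Function.Surjective g) (hfg : Function.Exact f g) :
    clM k N₂ = clM k N₁ + clM k N₃ := by
  let S : ShortComplex (ModuleCat.{u} (A k)) :=
    ModuleCat.shortComplexOfCompEqZero f g hfg.linearMap_comp_eq_zero
  have hS : S.ShortExact := ModuleCat.shortComplex_shortExact S hfg hf hg
  have hmem : (FreeAbelianGroup.of (⟨ModuleCat.of (A k) N₂, ‹_›⟩ : Subtype (PF k)) -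
      FreeAbelianGroup.of (⟨ModuleCat.of (A k) N₁, ‹_›⟩ : Subtype (PF k)) -
      FreeAbelianGroup.of (⟨ModuleCat.of (A k) N₃, ‹_›⟩ : Subtype (PF k))) ∈ relSub (PF k) :=
    AddSubgroup.subset_closure ⟨S, ‹Module.Finite (A k) N₁›, ‹Module.Finite (A k) N₂›,
      ‹Module.Finite (A k) N₃›, hS, rfl⟩
  have h0 := (QuotientAddGroup.eq_zero_iff _).2 hmem
  rw [QuotientAddGroup.mk_sub, QuotientAddGroup.mk_sub, sub_sub, sub_eq_zero] at h0
  exact h0

theorem clM_subsingleton (N : Type u) [AddCommGroup N] [Module (A k) N] [Module.Finite (A k) N]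
    [Subsingleton N] : clM k N = 0 := by
  have h := clM_add (k := k) (0 : N →ₗ[A k] N) (0 : N →ₗ[A k] N)
    (Function.injective_of_subsingleton _) (Function.surjective_to_subsingleton _)
    (fun x => ⟨fun _ => ⟨0, Subsingleton.elim _ _⟩, fun _ => Subsingleton.elim _ _⟩)
  exact (add_eq_left.1 h.symm)

theorem clM_equiv {N₁ N₂ : Type u} [AddCommGroup N₁] [Module (A k) N₁] [Module.Finite (A k) N₁]
    [AddCommGroup N₂] [Module (A k) N₂] [Module.Finite (A k) N₂] (e : N₁ ≃ₗ[A k] N₂) :
    clM k N₂ = clM k N₁ := by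
  have h := clM_add (k := k) (e : N₁ →ₗ[A k] N₂) (0 : N₂ →ₗ[A k] PUnit.{u + 1}) e.injective
    (Function.surjective_to_subsingleton _) ((e.exact_zero_iff_surjective _).2 e.surjective)
  rw [clM_subsingleton PUnit.{u + 1}, add_zero] at h
  exact h

variable (k)

/-- The rank homomorphism `K₀ → ℤ` along the `i`-th axis. -/
noncomputable def rho {i j : Fin 2} (hij : i ≠ j) : K0sub (PF k) →+ ℤ :=
  QuotientAddGroup.lift (relSub (PF k))
    (FreeAbelianGroup.lift (fun X : Subtype (PF k) => (rk k i X.1 : ℤ)))
    (by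
      rw [relSub, AddSubgroup.closure_le]
      rintro x ⟨S, h₁, h₂, h₃, hS, rfl⟩
      haveI : Module.Finite (A k) S.X₁ := h₁
      haveI : Module.Finite (A k) S.X₂ := h₂
      haveI : Module.Finite (A k) S.X₃ := h₃
      have hadd := rk_add hij S.f.hom S.g.hom hS.moduleCat_injective_f hS.moduleCat_surjective_g
        ((ShortComplex.ShortExact.moduleCat_exact_iff_function_exact S).1 hS.exact)
      show FreeAbelianGroup.lift _ _ = 0
      rw [map_sub, map_sub, FreeAbelianGroup.lift_apply_of, FreeAbelianGroup.lift_apply_of,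
        FreeAbelianGroup.lift_apply_of]
      show (rk k i S.X₂ : ℤ) - rk k i S.X₁ - rk k i S.X₃ = 0
      rw [hadd]
      push_cast
      ring)

variable {k}

theorem rho_clM {i j : Fin 2} (hij : i ≠ j) (N : Type u) [AddCommGroup N] [Module (A k) N]
    [Module.Finite (A k) N] : rho k hij (clM k N) = rk k i N := by
  unfold rho clM
  rw [QuotientAddGroup.lift_mk, FreeAbelianGroup.lift_apply_of]

end Groth.Agent.H81.NodeB
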