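import Mathlib
import Groth.Agent.H81.NodeK0

/-!
Generation of `K₀` of the node ring by the classes of the two axes.
-/

set_option autoImplicit false

namespace Groth.Agent.H81.NodeB

open CategoryTheory KZero

universe u

variable {k : Type u} [Field k]

/-- An ideal strictly containing `(x̄ⱼ)` has a quotient of class zero. -/
theorem clM_quot_of_lt {i j : Fin 2} (hij : i ≠ j) (p : Ideal (A k))
    (hle : Ideal.span {xb k j} ≤ p) (hne : p ≠ Ideal.span {xb k j}) :
    clM k (A k ⧸ p) = 0 := by
  haveI hJprime := span_xb_isPrime (k := k) hij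
  set J : Ideal (A k) := Ideal.span {xb k j} with hJ
  set 𝔞 : Ideal (Polynomial k) := p.map (ev k i) with h𝔞
  set g : Polynomial k := Submodule.IsPrincipal.generator 𝔞 with hgdef
  have hg : Ideal.span {g} = 𝔞 := Ideal.span_singleton_generator 𝔞
  have hker : RingHom.ker (ev k i) = J := ker_ev hij
  have hg0 : g ≠ 0 := by
    intro h0
    apply hne
    apply le_antisymm _ hle
    intro a ha
    rw [← hker, RingHom.mem_ker]
    have h1 : ev k i a ∈ 𝔞 := Ideal.mem_map_of_mem _ ha
    rw [← hg, h0, Ideal.mem_span_singleton'] at h1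
    obtain ⟨c, hc⟩ := h1
    rw [← hc, mul_zero]
  set γ : A k := ι k i g with hγ
  have hγp : γ ∈ p := by
    have h1 : g ∈ 𝔞 := by rw [← hg]; exact Ideal.subset_span rfl
    obtain ⟨q, hq, hqg⟩ := (Ideal.mem_map_iff_of_surjective (ev k i) (ev_surjective i)).1 h1
    have h2 : γ - q ∈ J := by
      rw [← hker, RingHom.mem_ker, map_sub, hγ, ev_ι, hqg, sub_self]
    have h3 : γ = (γ - q) + q := by ring
    rw [h3]
    exact p.add_mem (hle h2) hq
  have hγJ : γ ∉ J := by
    intro h
    rw [← hker, RingHom.mem_ker, hγ, ev_ι] at h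
    exact hg0 h
  let φ : (A k ⧸ J) →ₗ[A k] (A k ⧸ J) := LinearMap.lsmul (A k) (A k ⧸ J) γ
  let ψ : (A k ⧸ J) →ₗ[A k] (A k ⧸ p) := Submodule.factor hle
  have hφ : Function.Injective φ := by
    rw [← LinearMap.ker_eq_bot, LinearMap.ker_eq_bot']
    intro x hx
    obtain ⟨a, rfl⟩ := Ideal.Quotient.mk_surjective x
    have h1 : Ideal.Quotient.mk J (γ * a) = 0 := hx
    rw [Ideal.Quotient.eq_zero_iff_mem] at h1
    rcases hJprime.mem_or_mem h1 with h | h
    · exact absurd h hγJ
    · exact Ideal.Quotient.eq_zero_iff_mem.2 h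
  have hψ : Function.Surjective ψ := Submodule.factor_surjective hle
  have hex : Function.Exact φ ψ := by
    intro y
    obtain ⟨a, rfl⟩ := Ideal.Quotient.mk_surjective y
    have hψa : ψ (Ideal.Quotient.mk J a) = Ideal.Quotient.mk p a := rfl
    rw [hψa, Ideal.Quotient.eq_zero_iff_mem]
    constructor
    · intro ha
      have h1 : ev k i a ∈ 𝔞 := Ideal.mem_map_of_mem _ ha
      rw [← hg, Ideal.mem_span_singleton'] at h1
      obtain ⟨c, hc⟩ := h1
      refine ⟨Ideal.Quotient.mk J (ι k i c), ?_⟩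
      show Ideal.Quotient.mk J (γ * ι k i c) = Ideal.Quotient.mk J a
      rw [Ideal.Quotient.eq, ← hker, RingHom.mem_ker, map_sub, map_mul, hγ, ev_ι, ev_ι, ← hc]
      ring
    · rintro ⟨x, hx⟩
      obtain ⟨b, rfl⟩ := Ideal.Quotient.mk_surjective x
      have h1 : Ideal.Quotient.mk J (γ * b) = Ideal.Quotient.mk J a := hx
      rw [Ideal.Quotient.eq] at h1
      have h2 : a = γ * b - (γ * b - a) := by ring
      rw [h2]
      exact p.sub_mem (p.mul_mem_right _ hγp) (hle h1)
  have h := clM_add (k := k) φ ψ hφ hψ hex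
  exact (add_eq_left.1 h.symm)

theorem clM_quot_mem_zmultiples {i j : Fin 2} (hij : i ≠ j) (p : Ideal (A k))
    (hj : xb k j ∈ p) :
    clM k (A k ⧸ p) ∈ AddSubgroup.zmultiples (clM k (A k ⧸ Ideal.span {xb k j})) := by
  have hle : Ideal.span {xb k j} ≤ p := by
    rw [Ideal.span_le]
    rintro _ rfl
    exact hj
  by_cases hp : p = Ideal.span {xb k j}
  · subst hp
    exact AddSubgroup.mem_zmultiples _
  · rw [clM_quot_of_lt hij p hle hp]
    exact AddSubgroup.zero_mem _

variable (k)

/-- The homomorphism `ℤ × ℤ → K₀`, `(a, b) ↦ a [A/(x̄₀)] + b [A/(x̄₁)]`. -/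
noncomputable def Psi : ℤ × ℤ →+ K0sub (PF k) :=
  AddMonoidHom.coprod (zmultiplesHom _ (clM k (A k ⧸ Ideal.span {xb k 0})))
    (zmultiplesHom _ (clM k (A k ⧸ Ideal.span {xb k 1})))

theorem Psi_apply (p : ℤ × ℤ) :
    Psi k p = p.1 • clM k (A k ⧸ Ideal.span {xb k 0}) + p.2 • clM k (A k ⧸ Ideal.span {xb k 1}) := by
  unfold Psi
  rw [AddMonoidHom.coprod_apply, zmultiplesHom_apply, zmultiplesHom_apply]

theorem zmultiples_le_range (l : Fin 2) :
    AddSubgroup.zmultiples (clM k (A k ⧸ Ideal.span {xb k l})) ≤ (Psi k).range := by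
  rw [AddSubgroup.zmultiples_le]
  fin_cases l
  · exact ⟨(1, 0), by rw [Psi_apply]; simp⟩
  · exact ⟨(0, 1), by rw [Psi_apply]; simp⟩

theorem clM_mem_range (N : Type u) [AddCommGroup N] [Module (A k) N] [hN : Module.Finite (A k) N] :
    clM k N ∈ (Psi k).range := by
  refine IsNoetherianRing.induction_on_isQuotientEquivQuotientPrime (A := A k)
    (motive := fun N _ _ _ => clM k N ∈ (Psi k).range) hN ?_ ?_ ?_
  · intro N _ _ _ _
    rw [clM_subsingleton]
    exact AddSubgroup.zero_mem _
  · intro N _ _ _ p e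
    rw [clM_equiv e.symm]
    have h0 : xb k 0 * xb k 1 ∈ p.1 := by
      rw [xb_mul (by decide)]
      exact Ideal.zero_mem _
    rcases p.2.mem_or_mem h0 with h | h
    · exact zmultiples_le_range k 0
        (clM_quot_mem_zmultiples (i := 1) (j := 0) (by decide) p.1 h)
    · exact zmultiples_le_range k 1
        (clM_quot_mem_zmultiples (i := 0) (j := 1) (by decide) p.1 h)
  · intro N₁ _ _ _ N₂ _ _ _ N₃ _ _ _ f g hf hg hfg h1 h3
    rw [clM_add f g hf hg hfg]
    exact AddSubgroup.add_mem _ h1 h3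

theorem Psi_surjective : Function.Surjective (Psi k) := by
  intro x
  rw [← AddMonoidHom.mem_range]
  induction x using QuotientAddGroup.induction_on with
  | H y =>
    induction y using FreeAbelianGroup.induction_on with
    | zero => exact AddSubgroup.zero_mem _
    | of X =>
      obtain ⟨X, hX⟩ := X
      haveI : Module.Finite (A k) X := hX
      exact clM_mem_range k X
    | neg X hX =>
      rw [QuotientAddGroup.mk_neg]
      exact AddSubgroup.neg_mem _ hX
    | add x y hx hy =>
      rw [QuotientAddGroup.mk_add]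
      exact AddSubgroup.add_mem _ hx hy

theorem Psi_injective : Function.Injective (Psi k) := by
  rw [injective_iff_map_eq_zero]
  intro p hp
  have h10 : (1 : Fin 2) ≠ 0 := by decide
  have h01 : (0 : Fin 2) ≠ 1 := by decide
  have e1 := congrArg (rho k h10) hp
  have e2 := congrArg (rho k h01) hp
  rw [Psi_apply, map_add, map_zsmul, map_zsmul, rho_clM, rho_clM, map_zero] at e1 e2
  rw [rk_quot_other h10, rk_quot_same] at e1
  rw [rk_quot_same, rk_quot_other h01] at e2
  ext
  · simpa using e1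
  · simpa using e2

end Groth.Agent.H81.NodeB
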