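import Groth.Agent.H81.NodeRing
import Mathlib.CategoryTheory.Monoidal.Tor
import Mathlib.Algebra.Category.ModuleCat.Monoidal.Basic
import Mathlib.Algebra.Category.ModuleCat.Projective
import Mathlib.Algebra.Category.ModuleCat.Abelian
import Mathlib.CategoryTheory.Abelian.Projective.Dimension
import Mathlib.CategoryTheory.Abelian.Projective.Resolution
import Mathlib.Algebra.Homology.ShortComplex.ModuleCat

/-!
# The periodic free resolution of the residue field of the node
-/

set_option autoImplicit false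
universe u

namespace Groth.Agent.H81.Node

open CategoryTheory

variable (k : Type u) [Field k]

/-- the alternating element: `y, x, y, x, ...` -/
noncomputable def cc (m : ℕ) : A k := if Even m then yy k else xx k

lemma cc_zero : cc k 0 = yy k := if_pos ⟨0, rfl⟩

lemma cc_one : cc k 1 = xx k := if_neg Nat.not_even_one

lemma cc_mul_succ (m : ℕ) : cc k m * cc k (m + 1) = 0 := by
  unfold cc
  by_cases h : Even m
  · rw [if_pos h, if_neg (by rw [Nat.even_add_one]; exact not_not.mpr h), yx]
  · rw [if_neg h, if_pos (by rw [Nat.even_add_one]; exact h), xy]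

lemma ann_cc (m : ℕ) (u : A k) (h : cc k m * u = 0) : ∃ w, u = cc k (m + 1) * w := by
  unfold cc at *
  by_cases hm : Even m
  · rw [if_pos hm] at h
    rw [if_neg (by rw [Nat.even_add_one]; exact not_not.mpr hm)]
    exact ann_y k u h
  · rw [if_neg hm] at h
    rw [if_pos (by rw [Nat.even_add_one]; exact hm)]
    exact ann_x k u h

lemma cc_mem (m : ℕ) : cc k m ∈ mm k := by
  unfold cc
  split_ifs
  · exact Ideal.subset_span (by simp)
  · exact Ideal.subset_span (by simp)

/-- the first differential `(u, v) ↦ x u + y v` -/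
noncomputable def d1 : (A k × A k) →ₗ[A k] A k :=
  LinearMap.coprod (LinearMap.mulLeft (A k) (xx k)) (LinearMap.mulLeft (A k) (yy k))

lemma d1_apply (p : A k × A k) : d1 k p = xx k * p.1 + yy k * p.2 := by
  simp [d1]

/-- the diagonal differential `(u, v) ↦ (a u, b v)` -/
noncomputable def dd (a b : A k) : (A k × A k) →ₗ[A k] (A k × A k) :=
  LinearMap.prodMap (LinearMap.mulLeft (A k) a) (LinearMap.mulLeft (A k) b)

lemma dd_apply (a b : A k) (p : A k × A k) : dd k a b p = (a * p.1, b * p.2) := by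
  simp [dd]

/-- the terms of the resolution -/
noncomputable def PX : ℕ → ModuleCat.{u} (A k)
  | 0 => ModuleCat.of (A k) (A k)
  | _ + 1 => ModuleCat.of (A k) (A k × A k)

/-- the differentials of the resolution -/
noncomputable def Pd : ∀ n, PX k (n + 1) ⟶ PX k n
  | 0 => ModuleCat.ofHom (d1 k)
  | m + 1 => ModuleCat.ofHom (dd k (cc k m) (cc k (m + 1)))

lemma Pd_sq (n : ℕ) : Pd k (n + 1) ≫ Pd k n = 0 := by
  cases n with
  | zero =>
    apply ModuleCat.hom_ext
    apply LinearMap.ext
    intro (p : A k × A k)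
    change d1 k (dd k (cc k 0) (cc k 1) p) = 0
    rw [dd_apply, d1_apply, cc_zero, cc_one]
    change xx k * (yy k * p.1) + yy k * (xx k * p.2) = 0
    rw [← mul_assoc, ← mul_assoc, xy, yx, zero_mul, zero_mul, add_zero]
  | succ m =>
    apply ModuleCat.hom_ext
    apply LinearMap.ext
    intro (p : A k × A k)
    change dd k (cc k m) (cc k (m + 1)) (dd k (cc k (m + 1)) (cc k (m + 1 + 1)) p) = 0
    rw [dd_apply, dd_apply]
    change (cc k m * (cc k (m + 1) * p.1), cc k (m + 1) * (cc k (m + 1 + 1) * p.2)) = 0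
    rw [← mul_assoc, ← mul_assoc, cc_mul_succ, cc_mul_succ, zero_mul, zero_mul]
    rfl

/-- the periodic complex -/
noncomputable def Pc : ChainComplex (ModuleCat.{u} (A k)) ℕ :=
  ChainComplex.of (PX k) (Pd k) (Pd_sq k)

lemma Pc_d (n : ℕ) : (Pc k).d (n + 1) n = Pd k n := ChainComplex.of_d _ _ _

lemma Pc_exactAt_succ (n : ℕ) : (Pc k).ExactAt (n + 1) := by
  rw [HomologicalComplex.exactAt_iff' _ (n + 2) (n + 1) n (by simp) (by simp),
    ShortComplex.moduleCat_exact_iff]
  intro p hp
  rw [show ((Pc k).sc' (n + 2) (n + 1) n).g = Pd k n from Pc_d k n] at hp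
  rw [show ((Pc k).sc' (n + 2) (n + 1) n).f = Pd k (n + 1) from Pc_d k (n + 1)]
  cases n with
  | zero =>
    change A k × A k at p
    change d1 k p = 0 at hp
    rw [d1_apply] at hp
    obtain ⟨h3, h4⟩ := x_add_y k _ _ hp
    obtain ⟨w1, hw1⟩ := ann_x k _ h3
    obtain ⟨w2, hw2⟩ := ann_y k _ h4
    refine ⟨((w1, w2) : A k × A k), ?_⟩
    change dd k (cc k 0) (cc k 1) (w1, w2) = p
    rw [dd_apply, cc_zero, cc_one]
    exact Prod.ext hw1.symm hw2.symm
  | succ m =>
    change A k × A k at p
    change dd k (cc k m) (cc k (m + 1)) p = 0 at hp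
    rw [dd_apply] at hp
    have h3 : cc k m * p.1 = 0 := congrArg Prod.fst hp
    have h4 : cc k (m + 1) * p.2 = 0 := congrArg Prod.snd hp
    obtain ⟨w1, hw1⟩ := ann_cc k _ _ h3
    obtain ⟨w2, hw2⟩ := ann_cc k _ _ h4
    refine ⟨((w1, w2) : A k × A k), ?_⟩
    change dd k (cc k (m + 1)) (cc k (m + 1 + 1)) (w1, w2) = p
    rw [dd_apply]
    exact Prod.ext hw1.symm hw2.symm

/-- the augmentation -/
noncomputable def Ppi : Pc k ⟶
    (ChainComplex.single₀ (ModuleCat.{u} (A k))).obj (ModuleCat.of (A k) (A k ⧸ mm k)) :=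
  ((Pc k).toSingle₀Equiv _).symm ⟨ModuleCat.ofHom (Submodule.mkQ (mm k)), by
    rw [Pc_d]
    apply ModuleCat.hom_ext
    apply LinearMap.ext
    intro (p : A k × A k)
    change Submodule.mkQ (mm k) (d1 k p) = 0
    rw [d1_apply, Submodule.mkQ_apply, Submodule.Quotient.mk_eq_zero]
    exact Ideal.add_mem _ (Ideal.mul_mem_right _ _ (Ideal.subset_span (by simp)))
      (Ideal.mul_mem_right _ _ (Ideal.subset_span (by simp)))⟩

lemma Ppi_f_zero : (Ppi k).f 0 = ModuleCat.ofHom (Submodule.mkQ (mm k)) := by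
  exact ChainComplex.toSingle₀Equiv_symm_apply_f_zero _ _

end Groth.Agent.H81.Node
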