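import Mathlib.Algebra.MvPolynomial.Division
import Mathlib.Algebra.MvPolynomial.CommRing
import Mathlib.RingTheory.Ideal.Quotient.Operations
import Mathlib.RingTheory.Ideal.Maps
import Mathlib.RingTheory.SimpleModule.Basic
import Mathlib.RingTheory.Length
import Mathlib.Tactic

/-!
# The node `k[x, y]/(xy)`: basic ring facts
-/

set_option autoImplicit false
universe u

namespace Groth.Agent.H81.Node

open MvPolynomial

variable (k : Type u) [Field k]

/-- the polynomial ring in two variables -/
abbrev R0 := MvPolynomial (Fin 2) k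

/-- the ideal `(xy)` -/
noncomputable abbrev I0 : Ideal (R0 k) := Ideal.span {(X 0 * X 1 : MvPolynomial (Fin 2) k)}

/-- the node -/
abbrev A := R0 k ⧸ I0 k

/-- class of `x` -/
noncomputable abbrev xx : A k := Ideal.Quotient.mk (I0 k) (X 0)

/-- class of `y` -/
noncomputable abbrev yy : A k := Ideal.Quotient.mk (I0 k) (X 1)

/-- the maximal ideal of the origin -/
noncomputable abbrev mm : Ideal (A k) := Ideal.span {xx k, yy k}

lemma xy : xx k * yy k = 0 := by
  rw [← map_mul, Ideal.Quotient.eq_zero_iff_mem]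
  exact Ideal.subset_span rfl

lemma yx : yy k * xx k = 0 := by rw [mul_comm, xy]

lemma ann_x (u : A k) (h : xx k * u = 0) : ∃ w, u = yy k * w := by
  obtain ⟨f, rfl⟩ := Ideal.Quotient.mk_surjective u
  rw [← map_mul, Ideal.Quotient.eq_zero_iff_mem, Ideal.mem_span_singleton] at h
  obtain ⟨h', hh⟩ := h
  have hf : f = X 1 * h' := by
    apply mul_left_cancel₀ (X_ne_zero (R := k) (0 : Fin 2))
    rw [hh]; ring
  exact ⟨Ideal.Quotient.mk _ h', by rw [hf, map_mul]⟩

lemma ann_y (u : A k) (h : yy k * u = 0) : ∃ w, u = xx k * w := by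
  obtain ⟨f, rfl⟩ := Ideal.Quotient.mk_surjective u
  rw [← map_mul, Ideal.Quotient.eq_zero_iff_mem, Ideal.mem_span_singleton] at h
  obtain ⟨h', hh⟩ := h
  have hf : f = X 0 * h' := by
    apply mul_left_cancel₀ (X_ne_zero (R := k) (1 : Fin 2))
    rw [hh]; ring
  exact ⟨Ideal.Quotient.mk _ h', by rw [hf, map_mul]⟩

lemma x_eq_y (u v : A k) (h : xx k * u = yy k * v) : yy k * v = 0 := by
  obtain ⟨f, rfl⟩ := Ideal.Quotient.mk_surjective u
  obtain ⟨f', rfl⟩ := Ideal.Quotient.mk_surjective v
  rw [← map_mul, ← map_mul, Ideal.Quotient.eq, Ideal.mem_span_singleton] at h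
  obtain ⟨h', hh⟩ := h
  have h1 : (X 0 : R0 k) ∣ X 1 * f' := ⟨f - X 1 * h', by linear_combination -hh⟩
  rcases X_dvd_mul_iff.mp h1 with h2 | h2
  · exact absurd (X_dvd_X.mp h2) (by decide)
  · obtain ⟨f'', rfl⟩ := h2
    rw [← map_mul, Ideal.Quotient.eq_zero_iff_mem, Ideal.mem_span_singleton]
    exact ⟨f'', by ring⟩

lemma x_add_y (u v : A k) (h : xx k * u + yy k * v = 0) : xx k * u = 0 ∧ yy k * v = 0 := by
  have h1 : xx k * u = yy k * (-v) := by linear_combination h
  have h2 := x_eq_y k u (-v) h1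
  have h3 : yy k * v = 0 := by linear_combination -h2
  exact ⟨by linear_combination h - h3, h3⟩

/-- evaluation at the origin -/
noncomputable def psi : A k →+* k :=
  Ideal.Quotient.lift (I0 k) (eval (fun _ => (0 : k)) : R0 k →+* k) (by
    intro a ha
    rw [Ideal.mem_span_singleton] at ha
    obtain ⟨b, rfl⟩ := ha
    simp)

lemma sub_C_mem (f : R0 k) :
    f - C (eval (fun _ => (0 : k)) f) ∈ Ideal.span {(X 0 : R0 k), X 1} := by
  induction f using MvPolynomial.induction_on with
  | C a => simp
  | add p q hp hq =>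
    have := Ideal.add_mem _ hp hq
    convert this using 1
    simp only [map_add]; ring
  | mul_X p i _ =>
    have hX : (X i : R0 k) ∈ Ideal.span {(X 0 : R0 k), X 1} := by
      fin_cases i
      · exact Ideal.subset_span (by simp)
      · exact Ideal.subset_span (by simp)
    simp only [map_mul, eval_X, mul_zero, map_zero, sub_zero]
    exact Ideal.mul_mem_left _ _ hX

lemma mm_eq_ker : mm k = RingHom.ker (psi k) := by
  apply le_antisymm
  · rw [Ideal.span_le]
    rintro z (rfl | rfl)
    · simp [psi]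
    · simp [psi]
  · intro u hu
    obtain ⟨f, rfl⟩ := Ideal.Quotient.mk_surjective u
    have hf : eval (fun _ => (0 : k)) f = 0 := by simpa [psi] using hu
    have h1 := sub_C_mem k f
    rw [hf, map_zero, sub_zero] at h1
    have h2 := Ideal.mem_map_of_mem (Ideal.Quotient.mk (I0 k)) h1
    rwa [Ideal.map_span, Set.image_pair] at h2

instance mm_isMaximal : (mm k).IsMaximal := by
  rw [mm_eq_ker]
  exact RingHom.ker_isMaximal_of_surjective (psi k)
    (fun a => ⟨Ideal.Quotient.mk _ (C a), by simp [psi]⟩)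

lemma length_kappa : Module.length (A k) (A k ⧸ mm k) = 1 := by
  rw [Module.length_eq_one_iff, isSimpleModule_iff_isCoatom]
  exact Ideal.isMaximal_def.mp (mm_isMaximal k)

end Groth.Agent.H81.Node
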