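import Groth.Agent.H81.NodeRes
import Groth.Agent.H72.Splice
import Mathlib.CategoryTheory.Abelian.LeftDerived
import Mathlib.LinearAlgebra.TensorProduct.Prod

/-!
# Tor of the residue field of the node against itself
-/

set_option autoImplicit false
universe u v' u' v''

namespace Groth.Agent.H81.Node

open CategoryTheory CategoryTheory.Limits MonoidalCategory TensorProduct

section General

variable {C : Type u'} [Category.{v'} C] [Abelian C] [EnoughProjectives C]
  {D : Type u'} [Category.{v''} D] [Abelian D]

/-- Dimension shifting (vanishing form). -/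
theorem isZero_leftDerived_succ_of_shortExact (F : C ⥤ D) [F.Additive]
    (S : ShortComplex C) (hS : S.ShortExact) [Projective S.X₂] (n : ℕ)
    (h : IsZero ((F.leftDerived (n + 1)).obj S.X₁)) :
    IsZero ((F.leftDerived (n + 2)).obj S.X₃) := by
  let Q := ProjectiveResolution.of S.X₁
  let P := Groth.Agent.H72.splice S hS Q
  refine IsZero.of_iso ?_ (P.isoLeftDerivedObj F (n + 2))
  have hQ : IsZero ((HomologicalComplex.homologyFunctor D _ (n + 1)).obj
      ((F.mapHomologicalComplex _).obj Q.complex)) :=
    IsZero.of_iso h (Q.isoLeftDerivedObj F (n + 1)).symm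
  erw [← HomologicalComplex.exactAt_iff_isZero_homology] at hQ ⊢
  rw [HomologicalComplex.exactAt_iff' _ (n + 3) (n + 2) (n + 1) (by simp) (by simp)]
  rw [HomologicalComplex.exactAt_iff' _ (n + 2) (n + 1) n (by simp) (by simp)] at hQ
  exact hQ

/-- Higher left derived functors vanish above the projective dimension. -/
theorem isZero_leftDerived_of_pdLT (F : C ⥤ D) [F.Additive] :
    ∀ (n : ℕ) (X : C) [HasProjectiveDimensionLT X n] (j : ℕ), n ≤ j → 1 ≤ j →
      IsZero ((F.leftDerived j).obj X) := by
  intro n
  induction n with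
  | zero =>
    intro X _ j _ hj1
    haveI : HasProjectiveDimensionLT X 1 := hasProjectiveDimensionLT_of_ge X 0 1 (by omega)
    haveI : Projective X := projective_iff_hasProjectiveDimensionLT_one.mpr inferInstance
    obtain ⟨j', rfl⟩ : ∃ j', j = j' + 1 := ⟨j - 1, by omega⟩
    exact F.isZero_leftDerived_obj_projective_succ j' X
  | succ n ih =>
    intro X _ j hj hj1
    cases n with
    | zero =>
      haveI : Projective X := projective_iff_hasProjectiveDimensionLT_one.mpr inferInstance
      obtain ⟨j', rfl⟩ : ∃ j', j = j' + 1 := ⟨j - 1, by omega⟩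
      exact F.isZero_leftDerived_obj_projective_succ j' X
    | succ m =>
      obtain ⟨j', rfl⟩ : ∃ j', j = j' + 2 := ⟨j - 2, by omega⟩
      let S : ShortComplex C :=
        ShortComplex.mk (kernel.ι (Projective.π X)) (Projective.π X) (kernel.condition _)
      have hS : S.ShortExact :=
        { exact := ShortComplex.exact_of_f_is_kernel _ (kernelIsKernel _)
          mono_f := by dsimp [S]; infer_instance
          epi_g := by dsimp [S]; infer_instance }
      haveI : Projective S.X₂ := by dsimp [S]; infer_instance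
      haveI : HasProjectiveDimensionLT S.X₃ (m + 2) := by dsimp [S]; infer_instance
      haveI : HasProjectiveDimensionLT S.X₁ (m + 1) :=
        (hS.hasProjectiveDimensionLT_X₃_iff m inferInstance).mp inferInstance
      have h1 := ih S.X₁ (j' + 1) (by omega) (by omega)
      exact isZero_leftDerived_succ_of_shortExact F S hS j' h1

end General

variable (k : Type u) [Field k]

instance Ppi_quasiIso : QuasiIso (Ppi k) := ⟨fun n => by
  cases n with
  | zero =>
    rw [ChainComplex.quasiIsoAt₀_iff, ShortComplex.quasiIso_iff_of_zeros' _ ?_ rfl rfl]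
    · constructor
      · rw [ShortComplex.moduleCat_exact_iff]
        intro a ha
        change A k at a
        change (ConcreteCategory.hom ((Ppi k).f 0)) a = 0 at ha
        rw [Ppi_f_zero] at ha
        change Submodule.mkQ (mm k) a = 0 at ha
        rw [Submodule.mkQ_apply, Submodule.Quotient.mk_eq_zero, Ideal.mem_span_pair] at ha
        obtain ⟨u, v, huv⟩ := ha
        refine ⟨((u, v) : A k × A k), ?_⟩
        change (ConcreteCategory.hom ((Pc k).d 1 0)) ((u, v) : A k × A k) = a
        rw [Pc_d]
        change d1 k (u, v) = a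
        rw [d1_apply, ← huv]
        ring
      · change Epi ((Ppi k).f 0)
        rw [Ppi_f_zero]
        exact (ModuleCat.epi_iff_surjective _).mpr (Submodule.mkQ_surjective _)
    · exact (Pc k).shape _ _ (by simp)
  | succ n =>
    rw [quasiIsoAt_iff_exactAt' (hL := ChainComplex.exactAt_succ_single_obj _ _)]
    exact Pc_exactAt_succ k n⟩

/-- the periodic free resolution of the residue field of the node -/
noncomputable def Pres : ProjectiveResolution (ModuleCat.of (A k) (A k ⧸ mm k)) where
  complex := Pc k
  projective := fun n => by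
    cases n with
    | zero => exact (inferInstance : Projective (ModuleCat.of (A k) (A k)))
    | succ n => exact (inferInstance : Projective (ModuleCat.of (A k) (A k × A k)))
  π := Ppi k

lemma smul_kappa (a : A k) (ha : a ∈ mm k) (c : A k ⧸ mm k) : a • c = 0 := by
  obtain ⟨c', rfl⟩ := Submodule.Quotient.mk_surjective _ c
  rw [← Submodule.Quotient.mk_smul, Submodule.Quotient.mk_eq_zero]
  exact Ideal.mul_mem_right _ _ ha

lemma tmul_smul_zero {N : Type u} [AddCommGroup N] [Module (A k) N] (a : A k) (ha : a ∈ mm k)
    (c : A k ⧸ mm k) (q : N) : c ⊗ₜ[A k] (a • q) = 0 := by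
  rw [← TensorProduct.smul_tmul, smul_kappa k a ha, TensorProduct.zero_tmul]

lemma lTensor_dd (a b : A k) (ha : a ∈ mm k) (hb : b ∈ mm k) :
    LinearMap.lTensor (A k ⧸ mm k) (dd k a b) = 0 := by
  apply TensorProduct.ext'
  intro c p
  rw [LinearMap.lTensor_tmul, dd_apply, LinearMap.zero_apply]
  have h : ((a * p.1, b * p.2) : A k × A k) =
      a • ((p.1, 0) : A k × A k) + b • ((0, p.2) : A k × A k) := by
    ext <;> simp
  have e1 := tmul_smul_zero k a ha c ((p.1, 0) : A k × A k)
  have e2 := tmul_smul_zero k b hb c ((0, p.2) : A k × A k)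
  rw [h, TensorProduct.tmul_add, e1, e2, add_zero]

lemma lTensor_d1 : LinearMap.lTensor (A k ⧸ mm k) (d1 k) = 0 := by
  apply TensorProduct.ext'
  intro c p
  rw [LinearMap.lTensor_tmul, d1_apply, LinearMap.zero_apply]
  have e1 := tmul_smul_zero k (xx k) (Ideal.subset_span (by simp)) c p.1
  have e2 := tmul_smul_zero k (yy k) (Ideal.subset_span (by simp)) c p.2
  rw [show xx k * p.1 + yy k * p.2 = xx k • p.1 + yy k • p.2 from rfl, TensorProduct.tmul_add,
    e1, e2, add_zero]

/-- the residue field as an object -/
noncomputable abbrev kap : ModuleCat.{u} (A k) := ModuleCat.of (A k) (A k ⧸ mm k)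

/-- tensoring with the residue field -/
noncomputable abbrev TF : ModuleCat.{u} (A k) ⥤ ModuleCat.{u} (A k) :=
  (tensoringLeft (ModuleCat.{u} (A k))).obj (kap k)

lemma whisker_Pd (n : ℕ) : (kap k) ◁ (Pd k n) = 0 := by
  apply ModuleCat.hom_ext
  rw [ModuleCat.hom_whiskerLeft]
  cases n with
  | zero => exact lTensor_d1 k
  | succ m => exact lTensor_dd k _ _ (cc_mem k m) (cc_mem k (m + 1))

/-- the complex computing Tor -/
noncomputable abbrev KK : ChainComplex (ModuleCat.{u} (A k)) ℕ :=
  ((TF k).mapHomologicalComplex _).obj (Pc k)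

lemma KK_d (n : ℕ) : (KK k).d (n + 1) n = 0 := by
  show (TF k).map ((Pc k).d (n + 1) n) = 0
  rw [Pc_d]
  exact whisker_Pd k n

/-- homology of a complex with zero differentials -/
noncomputable def homIso (n : ℕ) : (KK k).homology (n + 1) ≅ (KK k).X (n + 1) :=
  (ShortComplex.homologyMapIso ((KK k).isoSc' (n + 2) (n + 1) n (by simp) (by simp))) ≪≫
    (ShortComplex.HomologyData.ofZeros ((KK k).sc' (n + 2) (n + 1) n)
      (KK_d k (n + 1)) (KK_d k n)).left.homologyIso

theorem length_tor_succ (n : ℕ) :
    Module.length (A k)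
      (((Tor (ModuleCat.{u} (A k)) (n + 1)).obj (kap k)).obj (kap k) : ModuleCat (A k)) = 2 := by
  have e : ((Tor (ModuleCat.{u} (A k)) (n + 1)).obj (kap k)).obj (kap k) ≅ (KK k).X (n + 1) :=
    ((Pres k).isoLeftDerivedObj (TF k) (n + 1)) ≪≫ homIso k n
  rw [e.toLinearEquiv.length_eq]
  show Module.length (A k) (TensorProduct (A k) (A k ⧸ mm k) (A k × A k)) = 2
  rw [(TensorProduct.prodRight (A k) (A k) (A k ⧸ mm k) (A k) (A k)).length_eq, Module.length_prod,
    (TensorProduct.rid (A k) (A k ⧸ mm k)).length_eq, length_kappa]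
  rfl

theorem not_pdLT (n : ℕ) : ¬ HasProjectiveDimensionLT (kap k) n := by
  intro h
  have hz := isZero_leftDerived_of_pdLT (TF k) n (kap k) (n + 1) (by omega) (by omega)
  have h2 := length_tor_succ k n
  haveI : Subsingleton
      (((Tor (ModuleCat.{u} (A k)) (n + 1)).obj (kap k)).obj (kap k) : ModuleCat (A k)) :=
    ModuleCat.subsingleton_of_isZero hz
  have h3 : Module.length (A k)
      (((Tor (ModuleCat.{u} (A k)) (n + 1)).obj (kap k)).obj (kap k) : ModuleCat (A k)) = 0 :=
    Module.length_eq_zero
  rw [h3] at h2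
  exact absurd h2 (by norm_num)

end Groth.Agent.H81.Node
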