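import Groth.Agent.H55.FFUnram
import Mathlib

/-!
# The norm formula `deg P · ord_P (N x) = ∑_{Q | P} deg Q · ord_Q x`

for a finite extension `K'/K` of function fields of one variable (no separability hypothesis).
Strategy: Galois case via the transitive Galois action, separable case via a Galois closure,
purely inseparable case via `N x = x ^ n`, and a tower lemma.
-/

set_option autoImplicit false

namespace Groth.Agent.H81.NormF

open FunFld WithZero Groth.Agent.H55

section Basic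

variable {k K K' : Type*} [Field k] [Field K] [Field K'] [Algebra k K] [Algebra K K']
  [Algebra k K'] [IsScalarTower k K K']

/-- The norm formula at `P` for `x`. -/
def NF (P : Place k K) (x : K') : Prop :=
  ∀ Qs : Finset (Place k K'), (∀ Q, Q ∈ Qs ↔ IsOver Q P) →
    (P.deg : ℤ) * P.ord (Algebra.norm K x) = ∑ Q ∈ Qs, (Q.deg : ℤ) * Q.ord x

theorem nf_zero [FiniteDimensional K K'] (P : Place k K) : NF P (0 : K') := by
  intro Qs _
  rw [Algebra.norm_zero, pl_ord_zero, mul_zero]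
  symm
  apply Finset.sum_eq_zero
  intro Q _
  rw [pl_ord_zero, mul_zero]

theorem ord_prod {ι : Type*} (P : Place k K) (s : Finset ι) (f : ι → K) (hf : ∀ i ∈ s, f i ≠ 0) :
    P.ord (∏ i ∈ s, f i) = ∑ i ∈ s, P.ord (f i) := by
  classical
  induction s using Finset.induction_on with
  | empty => simp [pl_ord_one]
  | insert a s ha ih =>
    rw [Finset.prod_insert ha, Finset.sum_insert ha,
      pl_ord_mul P (hf a (Finset.mem_insert_self a s))
        (Finset.prod_ne_zero_iff.mpr (fun i hi => hf i (Finset.mem_insert_of_mem hi))),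
      ih (fun i hi => hf i (Finset.mem_insert_of_mem hi))]

/-- If `N x = x ^ n` (e.g. `x ∈ K`, or `K'/K` purely inseparable), the norm formula holds. -/
theorem nf_of_pow [FiniteDimensional K K'] (hK : G.IsFF1 k K) (P : Place k K) (x : K')
    (h : algebraMap K K' (Algebra.norm K x) = x ^ Module.finrank K K') : NF P x := by
  classical
  intro Qs hQs
  obtain ⟨hfin, hsum⟩ := G.sum_ramIdx_mul_deg (K' := K') hK P
  have hs := hsum Qs hQs
  have hn : 0 < Module.finrank K K' := Module.finrank_pos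
  have hterm : ∀ Q ∈ Qs, ((ramIdx Q P : ℕ) : ℤ) * P.ord (Algebra.norm K x) =
      (Module.finrank K K' : ℤ) * Q.ord x := by
    intro Q hQ
    have hO := isOverWith_ramIdx ((hQs Q).mp hQ)
    rw [← ord_eq_of_isOverWith hO, h, pl_ord_pow]
  have hs' : ((Module.finrank K K' : ℕ) : ℤ) * (P.deg : ℤ) =
      ∑ Q ∈ Qs, ((ramIdx Q P : ℕ) : ℤ) * (Q.deg : ℤ) := by
    have := congrArg (fun n : ℕ => (n : ℤ)) hs
    simp only [Nat.cast_sum, Nat.cast_mul] at this
    exact this.symm
  have h1 : (Module.finrank K K' : ℤ) * ((P.deg : ℤ) * P.ord (Algebra.norm K x)) =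
      (Module.finrank K K' : ℤ) * ∑ Q ∈ Qs, (Q.deg : ℤ) * Q.ord x := by
    rw [Finset.mul_sum, ← mul_assoc, hs', Finset.sum_mul]
    refine Finset.sum_congr rfl (fun Q hQ => ?_)
    have := hterm Q hQ
    calc ((ramIdx Q P : ℕ) : ℤ) * (Q.deg : ℤ) * P.ord (Algebra.norm K x)
        = (Q.deg : ℤ) * (((ramIdx Q P : ℕ) : ℤ) * P.ord (Algebra.norm K x)) := by ring
      _ = (Module.finrank K K' : ℤ) * ((Q.deg : ℤ) * Q.ord x) := by rw [this]; ring
  exact mul_left_cancel₀ (by exact_mod_cast hn.ne') h1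

theorem nf_algebraMap [FiniteDimensional K K'] (hK : G.IsFF1 k K) (P : Place k K) (y : K) :
    NF P (algebraMap K K' y) :=
  nf_of_pow hK P _ (by rw [Algebra.norm_algebraMap, map_pow])

/-- The Galois case. -/
theorem nf_galois [FiniteDimensional K K'] [IsGalois K K'] (hK : G.IsFF1 k K) (P : Place k K)
    (x : K') : NF P x := by
  classical
  by_cases hx : x = 0
  · subst hx; exact nf_zero P
  intro Qs hQs
  obtain ⟨Q₀, e, he⟩ := exists_place_over (K' := K') hK P
  obtain ⟨-, hall⟩ := G.galois_places hK Q₀ P e he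
  obtain ⟨hfin, hsum⟩ := G.sum_ramIdx_mul_deg (K' := K') hK P
  have hs := hsum Qs hQs
  have he0 := isOverWith_pos he
  have hQ₀mem : Q₀ ∈ Qs := (hQs Q₀).mpr ⟨e, he⟩
  set A : ℤ := P.ord (Algebra.norm K x) with hA
  set T : ℤ := ∑ Q' ∈ Qs, Q'.ord x with hT
  have hi : ∀ Q₁ ∈ Qs, ∑ σ : K' ≃ₐ[K] K', (comapGal Q₁ σ).ord x = (e : ℤ) * A := by
    intro Q₁ hQ₁
    have h1 := (hall Q₁ ((hQs Q₁).mp hQ₁)).1
    rw [hA, ← ord_eq_of_isOverWith h1, Algebra.norm_eq_prod_automorphisms,
      ord_prod Q₁ _ _ (fun σ _ => by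
        intro h0
        exact hx ((map_eq_zero_iff σ σ.injective).mp h0))]
    rfl
  have hperm : ∀ σ : K' ≃ₐ[K] K', ∑ Q₁ ∈ Qs, (comapGal Q₁ σ).ord x = T := by
    intro σ
    refine Finset.sum_nbij' (fun Q₁ => comapGal Q₁ σ) (fun Q' => comapGal Q' σ⁻¹) ?_ ?_ ?_ ?_ ?_
    · intro Q₁ hQ₁
      obtain ⟨e', h'⟩ := (hQs Q₁).mp hQ₁
      exact (hQs _).mpr ⟨e', comapGal_isOverWith h' σ⟩
    · intro Q₁ hQ₁
      obtain ⟨e', h'⟩ := (hQs Q₁).mp hQ₁
      exact (hQs _).mpr ⟨e', comapGal_isOverWith h' σ⁻¹⟩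
    · intro Q₁ _
      apply pl_ext
      intro y
      show Q₁.1 (σ (σ.symm y)) = Q₁.1 y
      rw [σ.apply_symm_apply]
    · intro Q₁ _
      apply pl_ext
      intro y
      show Q₁.1 (σ.symm (σ y)) = Q₁.1 y
      rw [σ.symm_apply_apply]
    · intro Q₁ _
      rfl
  have hd : (Qs.card : ℤ) * ((e : ℤ) * A) =
      (Fintype.card (K' ≃ₐ[K] K') : ℤ) * T := by
    calc (Qs.card : ℤ) * ((e : ℤ) * A)
        = ∑ Q₁ ∈ Qs, ∑ σ : K' ≃ₐ[K] K', (comapGal Q₁ σ).ord x := by
          rw [Finset.sum_congr rfl hi, Finset.sum_const, nsmul_eq_mul]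
      _ = ∑ σ : K' ≃ₐ[K] K', ∑ Q₁ ∈ Qs, (comapGal Q₁ σ).ord x := Finset.sum_comm
      _ = ∑ _σ : K' ≃ₐ[K] K', T := Finset.sum_congr rfl (fun σ _ => hperm σ)
      _ = (Fintype.card (K' ≃ₐ[K] K') : ℤ) * T := by
          rw [Finset.sum_const, Finset.card_univ, nsmul_eq_mul]
  have hcard : Fintype.card (K' ≃ₐ[K] K') = Module.finrank K K' := by
    rw [← Nat.card_eq_fintype_card]
    exact IsGalois.card_aut_eq_finrank K K'
  have hs' : Qs.card * (e * Q₀.deg) = Module.finrank K K' * P.deg := by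
    rw [← hs, Finset.sum_congr rfl (fun Q hQ => by
      obtain ⟨h3, h4⟩ := hall Q ((hQs Q).mp hQ)
      rw [ramIdx_eq h3, h4]), Finset.sum_const, smul_eq_mul]
  have hs'' : (Qs.card : ℤ) * ((e : ℤ) * (Q₀.deg : ℤ)) =
      (Module.finrank K K' : ℤ) * (P.deg : ℤ) := by exact_mod_cast hs'
  have hdegs : ∀ Q ∈ Qs, (Q.deg : ℤ) * Q.ord x = (Q₀.deg : ℤ) * Q.ord x := fun Q hQ => by
    rw [(hall Q ((hQs Q).mp hQ)).2]
  rw [Finset.sum_congr rfl hdegs, ← Finset.mul_sum]
  have hpos : (0 : ℤ) < (Qs.card : ℤ) * e := by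
    have : 0 < Qs.card := Finset.card_pos.mpr ⟨Q₀, hQ₀mem⟩
    positivity
  apply mul_left_cancel₀ hpos.ne'
  rw [hcard] at hd
  linear_combination (P.deg : ℤ) * hd - T * hs''

end Basic

section Tower

variable {k K M L : Type*} [Field k] [Field K] [Field M] [Field L] [Algebra k K] [Algebra k M]
  [Algebra k L] [Algebra K M] [Algebra M L] [Algebra K L] [IsScalarTower k K M]
  [IsScalarTower k M L] [IsScalarTower k K L] [IsScalarTower K M L]

theorem sum_tower [FiniteDimensional K M] [FiniteDimensional M L] (hK : G.IsFF1 k K)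
    (P : Place k K) (x : L) (h2 : ∀ Q₁ : Place k M, IsOver Q₁ P → NF Q₁ x)
    (Qs₁ : Finset (Place k M)) (hQs₁ : ∀ Q, Q ∈ Qs₁ ↔ IsOver Q P)
    (Qs : Finset (Place k L)) (hQs : ∀ Q, Q ∈ Qs ↔ IsOver Q P) :
    ∑ Q₁ ∈ Qs₁, (Q₁.deg : ℤ) * Q₁.ord (Algebra.norm M x) = ∑ Q ∈ Qs, (Q.deg : ℤ) * Q.ord x := by
  classical
  have hM : G.IsFF1 k M := isFF1_of_finite hK
  have hunder : ∀ Q : Place k L, ∃ Q₁ : Place k M, IsOver Q Q₁ := fun Q => by
    obtain ⟨Q₁, e, h⟩ := exists_place_under hM Q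
    exact ⟨Q₁, e, h⟩
  choose u hu using hunder
  have hmaps : ∀ Q ∈ Qs, u Q ∈ Qs₁ := by
    intro Q hQ
    obtain ⟨e, he⟩ := (hQs Q).mp hQ
    obtain ⟨e₂, he₂⟩ := hu Q
    obtain ⟨P', e₁, he₁⟩ := exists_place_under hK (u Q)
    have h3 := isOverWith_trans he₂ he₁
    obtain ⟨hPP, -⟩ := isOverWith_unique he h3
    exact (hQs₁ _).mpr ⟨e₁, by rw [hPP]; exact he₁⟩
  rw [← Finset.sum_fiberwise_of_maps_to hmaps]
  refine Finset.sum_congr rfl (fun Q₁ hQ₁ => ?_)
  refine h2 Q₁ ((hQs₁ Q₁).mp hQ₁) _ (fun Q => ?_)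
  rw [Finset.mem_filter]
  constructor
  · rintro ⟨_, rfl⟩
    exact hu Q
  · intro hQ
    obtain ⟨e₂, he₂⟩ := hQ
    obtain ⟨e₁, he₁⟩ := (hQs₁ Q₁).mp hQ₁
    refine ⟨(hQs Q).mpr ⟨_, isOverWith_trans he₂ he₁⟩, ?_⟩
    obtain ⟨e₃, he₃⟩ := hu Q
    exact (isOverWith_unique he₃ he₂).1

theorem nf_tower [FiniteDimensional K M] [FiniteDimensional M L] (hK : G.IsFF1 k K)
    (P : Place k K) (x : L) (h1 : NF P (Algebra.norm M x))
    (h2 : ∀ Q₁ : Place k M, IsOver Q₁ P → NF Q₁ x) : NF (K' := L) P x := by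
  intro Qs hQs
  obtain ⟨hfin, -⟩ := G.sum_ramIdx_mul_deg (K' := M) hK P
  have hQs₁ : ∀ Q, Q ∈ hfin.toFinset ↔ IsOver Q P := fun Q => by
    rw [Set.Finite.mem_toFinset]; rfl
  rw [← sum_tower hK P x h2 hfin.toFinset hQs₁ Qs hQs, ← h1 hfin.toFinset hQs₁,
    Algebra.norm_norm]

theorem nf_tower_bot [FiniteDimensional K M] [FiniteDimensional M L] (hK : G.IsFF1 k K)
    (P : Place k K) (x : L) (h1 : NF (K' := L) P x)
    (h2 : ∀ Q₁ : Place k M, IsOver Q₁ P → NF Q₁ x) : NF P (Algebra.norm M x) := by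
  intro Qs₁ hQs₁
  haveI : FiniteDimensional K L := FiniteDimensional.trans K M L
  obtain ⟨hfin, -⟩ := G.sum_ramIdx_mul_deg (K' := L) hK P
  have hQs : ∀ Q, Q ∈ hfin.toFinset ↔ IsOver Q P := fun Q => by
    rw [Set.Finite.mem_toFinset]; rfl
  rw [sum_tower hK P x h2 Qs₁ hQs₁ hfin.toFinset hQs, ← h1 hfin.toFinset hQs,
    Algebra.norm_norm]

/-- The separable case, given a Galois extension `L/K` containing `M`. -/
theorem nf_of_galois_top [FiniteDimensional K M] [FiniteDimensional K L] [IsGalois K L]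
    (hK : G.IsFF1 k K) (P : Place k K) (x : M) : NF P x := by
  classical
  haveI : FiniteDimensional M L := FiniteDimensional.right K M L
  have hM : G.IsFF1 k M := isFF1_of_finite hK
  have h1 : NF (K' := L) P (algebraMap M L x) := nf_galois hK P _
  have h2 : ∀ Q₁ : Place k M, IsOver Q₁ P → NF (K' := L) Q₁ (algebraMap M L x) :=
    fun Q₁ _ => nf_algebraMap hM Q₁ x
  have h3 := nf_tower_bot hK P (algebraMap M L x) h1 h2
  rw [Algebra.norm_algebraMap] at h3
  intro Qs hQs
  have h4 := h3 Qs hQs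
  rw [map_pow, pl_ord_pow] at h4
  have hm : 0 < Module.finrank M L := Module.finrank_pos
  apply mul_left_cancel₀ (show ((Module.finrank M L : ℕ) : ℤ) ≠ 0 by exact_mod_cast hm.ne')
  rw [Finset.mul_sum]
  calc ((Module.finrank M L : ℕ) : ℤ) * ((P.deg : ℤ) * P.ord (Algebra.norm K x))
      = (P.deg : ℤ) * (((Module.finrank M L : ℕ) : ℤ) * P.ord (Algebra.norm K x)) := by ring
    _ = ∑ Q ∈ Qs, (Q.deg : ℤ) * Q.ord (x ^ Module.finrank M L) := h4
    _ = ∑ Q ∈ Qs, ((Module.finrank M L : ℕ) : ℤ) * ((Q.deg : ℤ) * Q.ord x) :=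
        Finset.sum_congr rfl (fun Q _ => by rw [pl_ord_pow]; ring)

end Tower

section PInsep

variable {k K K' : Type*} [Field k] [Field K] [Field K'] [Algebra k K] [Algebra K K']
  [Algebra k K'] [IsScalarTower k K K']

open IntermediateField in
theorem norm_pinsep [FiniteDimensional K K'] [IsPurelyInseparable K K'] (x : K') :
    algebraMap K K' (Algebra.norm K x) = x ^ Module.finrank K K' := by
  classical
  obtain ⟨n, hn⟩ := IsPurelyInseparable.minpoly_eq_X_sub_C_pow K (ringExpChar K) x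
  have hsplit : ((minpoly K x).map (algebraMap K K')).Splits := by
    rw [hn]
    exact (Polynomial.Splits.X_sub_C x).pow _
  rw [Algebra.norm_eq_prod_roots K' hsplit]
  have hroots : (minpoly K x).aroots K' = (ringExpChar K ^ n) • {x} := by
    rw [Polynomial.aroots_def, hn, Polynomial.roots_pow, Polynomial.roots_X_sub_C]
  rw [hroots, Multiset.prod_nsmul, Multiset.prod_singleton, ← pow_mul]
  congr 1
  have hint : IsIntegral K x := Algebra.IsIntegral.isIntegral x
  have hdeg : Module.finrank K K⟮x⟯ = ringExpChar K ^ n := by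
    rw [IntermediateField.adjoin.finrank hint]
    have := congrArg Polynomial.natDegree hn
    rw [Polynomial.natDegree_map, Polynomial.natDegree_pow, Polynomial.natDegree_X_sub_C,
      mul_one] at this
    exact this
  rw [← hdeg, Module.finrank_mul_finrank]

theorem nf_pinsep [FiniteDimensional K K'] [IsPurelyInseparable K K'] (hK : G.IsFF1 k K)
    (P : Place k K) (x : K') : NF P x :=
  nf_of_pow hK P x (norm_pinsep x)

end PInsep

section GaloisClosure

universe u v

theorem exists_galois (K : Type u) (S : Type v) [Field K] [Field S] [Algebra K S]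
    [FiniteDimensional K S] [Algebra.IsSeparable K S] :
    ∃ (N : Type v) (_ : Field N) (_ : Algebra K N) (_ : Algebra S N),
      IsScalarTower K S N ∧ FiniteDimensional K N ∧ IsGalois K N := by
  haveI : Algebra.IsAlgebraic K S := Algebra.IsAlgebraic.of_finite K S
  haveI : IsAlgClosure K (AlgebraicClosure S) :=
    ⟨AlgebraicClosure.isAlgClosed S, Algebra.IsAlgebraic.trans K S (AlgebraicClosure S)⟩
  haveI : Normal K (AlgebraicClosure S) := IsAlgClosure.normal _ _
  refine ⟨IntermediateField.normalClosure K S (AlgebraicClosure S), inferInstance, inferInstance,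
    inferInstance, inferInstance, inferInstance, ?_⟩
  haveI : Algebra.IsSeparable K (IntermediateField.normalClosure K S (AlgebraicClosure S)) := by
    haveI : ∀ f : S →ₐ[K] AlgebraicClosure S, Algebra.IsSeparable K f.fieldRange := fun f =>
      AlgEquiv.Algebra.isSeparable (AlgEquiv.ofInjectiveField f)
    show Algebra.IsSeparable K ↥(⨆ f : S →ₐ[K] AlgebraicClosure S, f.fieldRange)
    exact IntermediateField.isSeparable_iSup _ _
  exact ⟨⟩

end GaloisClosure

section Main

variable {k K K' : Type*} [Field k] [Field K] [Field K'] [Algebra k K] [Algebra K K']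
  [Algebra k K'] [IsScalarTower k K K']

theorem nf_main [FiniteDimensional K K'] (hK : G.IsFF1 k K) (P : Place k K) (x : K') :
    NF P x := by
  classical
  haveI : Algebra.IsAlgebraic K K' := Algebra.IsAlgebraic.of_finite K K'
  haveI : IsScalarTower k (separableClosure K K') K' :=
    IsScalarTower.of_algebraMap_eq (fun c => rfl)
  haveI : IsPurelyInseparable (separableClosure K K') K' :=
    separableClosure.isPurelyInseparable K K'
  haveI : Algebra.IsSeparable K (separableClosure K K') := separableClosure.isSeparable K K'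
  have hS : G.IsFF1 k (separableClosure K K') := isFF1_of_finite hK
  obtain ⟨N, iF, iA, iB, iT, iFD, iG⟩ := exists_galois K (separableClosure K K')
  letI := iF
  letI := iA
  letI := iB
  haveI := iT
  haveI := iFD
  haveI := iG
  letI : Algebra k N := ((algebraMap K N).comp (algebraMap k K)).toAlgebra
  haveI : IsScalarTower k K N := IsScalarTower.of_algebraMap_eq (fun _ => rfl)
  haveI : IsScalarTower k (separableClosure K K') N := IsScalarTower.of_algebraMap_eq (fun c => by
    show algebraMap K N (algebraMap k K c) =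
      algebraMap (separableClosure K K') N (algebraMap k (separableClosure K K') c)
    rw [IsScalarTower.algebraMap_apply K (separableClosure K K') N,
      ← IsScalarTower.algebraMap_apply k K (separableClosure K K')])
  exact nf_tower (M := separableClosure K K') hK P x
    (nf_of_galois_top (L := N) hK P _) (fun Q₁ _ => nf_pinsep hS Q₁ x)

end Main

end Groth.Agent.H81.NormF
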