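import Groth.Agent.H81.JacN
import Groth.Agent.H81.PlaneKer
import Groth.Agent.H55.FFBasic
import Mathlib

/-!
Homogenization of plane relations: existence of an irreducible relation between two elements of a
function field, homogenization of a polynomial, and the ideal of homogeneous relations of the
plane map `(1 : x : y)`.
-/

set_option autoImplicit false

namespace Groth.Agent.H81.PlaneHom

open FunFld MvPolynomial

variable {k K : Type*} [Field k] [Field K] [Algebra k K]

section relation

open IntermediateField IntermediateField.algebraAdjoinAdjoin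

/-- two elements of a function field of one variable are algebraically dependent. -/
theorem exists_relation (hK : IsFunctionField k K) (x y : K) :
    ∃ g : MvPolynomial (Fin 2) k, g ≠ 0 ∧ aeval ![x, y] g = 0 := by
  classical
  by_cases hy : IsAlgebraic k y
  · obtain ⟨c, hc⟩ := hK.2 y hy
    refine ⟨X 1 - C c, ?_, ?_⟩
    · intro h
      have h1 := congrArg (MvPolynomial.eval (fun _ : Fin 2 => c + 1)) h
      rw [map_sub, eval_X, eval_C, map_zero] at h1
      have h2 : (1 : k) = 0 := by linear_combination h1
      exact one_ne_zero h2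
    · rw [map_sub, aeval_X, aeval_C, hc]
      simp
  · have hytr : Transcendental k y := hy
    haveI := H55.ff_finite hK hytr
    have hx : IsAlgebraic k⟮y⟯ x := Algebra.IsAlgebraic.isAlgebraic x
    have hx' : IsAlgebraic (Algebra.adjoin k ({y} : Set K)) x :=
      (IsFractionRing.isAlgebraic_iff (Algebra.adjoin k ({y} : Set K)) k⟮y⟯ K).mpr hx
    obtain ⟨p, hp0, hpx⟩ := hx'
    have hcoef : ∀ i, ∃ q : Polynomial k, Polynomial.aeval y q = (p.coeff i : K) := by
      intro i
      have h1 : (p.coeff i : K) ∈ (Polynomial.aeval y : Polynomial k →ₐ[k] K).range := by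
        rw [← Algebra.adjoin_singleton_eq_range_aeval]
        exact (p.coeff i).2
      exact (AlgHom.mem_range _).mp h1
    choose q hq using hcoef
    obtain ⟨P, hP⟩ : ∃ P : Polynomial (Polynomial k),
        P = ∑ i ∈ Finset.range (p.natDegree + 1), Polynomial.C (q i) * Polynomial.X ^ i :=
      ⟨_, rfl⟩
    have hPcoeff : ∀ i ∈ Finset.range (p.natDegree + 1), P.coeff i = q i := by
      intro i hi
      rw [hP, Polynomial.finset_sum_coeff]
      simp only [Polynomial.coeff_C_mul, Polynomial.coeff_X_pow]
      rw [Finset.sum_eq_single i]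
      · simp
      · intro j _ hj
        simp [hj.symm]
      · intro h
        exact absurd hi h
    have hP0 : P ≠ 0 := by
      intro h
      apply hp0
      ext i
      by_cases hi : i ∈ Finset.range (p.natDegree + 1)
      · have h1 := hPcoeff i hi
        rw [h, Polynomial.coeff_zero] at h1
        have h2 := hq i
        rw [← h1, map_zero] at h2
        rw [Polynomial.coeff_zero]
        exact h2.symm
      · rw [Finset.mem_range, not_lt] at hi
        rw [Polynomial.coeff_eq_zero_of_natDegree_lt (by omega), Polynomial.coeff_zero]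
    have hPx : Polynomial.eval₂
        ((Polynomial.aeval y : Polynomial k →ₐ[k] K) : Polynomial k →+* K) x P = 0 := by
      rw [hP, Polynomial.eval₂_finset_sum]
      have h1 : ∀ i ∈ Finset.range (p.natDegree + 1), Polynomial.eval₂
          ((Polynomial.aeval y : Polynomial k →ₐ[k] K) : Polynomial k →+* K) x
          (Polynomial.C (q i) * Polynomial.X ^ i) = (p.coeff i : K) * x ^ i := by
        intro i _
        rw [Polynomial.eval₂_mul, Polynomial.eval₂_C, Polynomial.eval₂_pow, Polynomial.eval₂_X]
        show Polynomial.aeval y (q i) * x ^ i = _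
        rw [hq i]
      rw [Finset.sum_congr rfl h1, ← hpx, Polynomial.aeval_eq_sum_range]
      apply Finset.sum_congr rfl
      intro i _
      rw [Algebra.smul_def]
      rfl
    refine ⟨(PlaneAlg.Phi k).symm P, ?_, ?_⟩
    · intro h
      apply hP0
      have h1 := congrArg (PlaneAlg.Phi k) h
      rwa [AlgEquiv.apply_symm_apply, map_zero] at h1
    · rw [← PlaneAlg.eval₂_Phi y x, AlgEquiv.apply_symm_apply]
      exact hPx

end relation

/-- two elements of a function field of one variable satisfy an irreducible relation. -/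
theorem exists_irreducible_relation (hK : IsFunctionField k K) (x y : K) :
    ∃ F : MvPolynomial (Fin 2) k, Irreducible F ∧ aeval ![x, y] F = 0 := by
  obtain ⟨g, hg0, hg⟩ := exists_relation hK x y
  have hprime : (RingHom.ker (aeval ![x, y] : MvPolynomial (Fin 2) k →ₐ[k] K)).IsPrime :=
    RingHom.ker_isPrime _
  obtain ⟨s, hs, hsg⟩ := UniqueFactorizationMonoid.exists_prime_factors g hg0
  have hmem : s.prod ∈ RingHom.ker (aeval ![x, y] : MvPolynomial (Fin 2) k →ₐ[k] K) := by
    obtain ⟨u, hu⟩ := hsg.symm
    rw [← hu]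
    exact Ideal.mul_mem_right _ _ (RingHom.mem_ker.mpr hg)
  rw [hprime.multiset_prod_mem_iff_exists_mem] at hmem
  obtain ⟨F, hFs, hF⟩ := hmem
  exact ⟨F, (hs F hFs).irreducible, hF⟩

theorem homogeneousComponent_totalDegree_ne_zero {σ : Type*} (F : MvPolynomial σ k) (hF : F ≠ 0) :
    homogeneousComponent F.totalDegree F ≠ 0 := by
  classical
  have hne : F.support.Nonempty := by
    rwa [Finset.nonempty_iff_ne_empty, Ne, MvPolynomial.support_eq_empty]
  obtain ⟨m, hm, hsup⟩ := Finset.exists_mem_eq_sup F.support hne (fun s => s.sum fun _ e => e)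
  intro h0
  have h1 := congrArg (coeff m) h0
  rw [coeff_homogeneousComponent, coeff_zero] at h1
  have hdeg : m.degree = F.totalDegree := by
    rw [MvPolynomial.totalDegree, hsup]
    rfl
  rw [if_pos hdeg] at h1
  exact (MvPolynomial.mem_support_iff.mp hm) h1

variable {n : ℕ}

/-- homogenization with respect to `X j`. -/
noncomputable def hom (j : Fin (n + 1)) (F : MvPolynomial (Fin n) k) :
    MvPolynomial (Fin (n + 1)) k :=
  ∑ i ∈ Finset.range (F.totalDegree + 1),
    X j ^ (F.totalDegree - i) * Dehom.incl j (homogeneousComponent i F)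

theorem hom_isHomogeneous (j : Fin (n + 1)) (F : MvPolynomial (Fin n) k) :
    (hom j F).IsHomogeneous F.totalDegree := by
  apply IsHomogeneous.sum
  intro i hi
  have hi' := Finset.mem_range.mp hi
  have h1 : (X j ^ (F.totalDegree - i) : MvPolynomial (Fin (n + 1)) k).IsHomogeneous
      (F.totalDegree - i) := isHomogeneous_X_pow j _
  have h2 : (Dehom.incl j (homogeneousComponent i F)).IsHomogeneous i :=
    (homogeneousComponent_isHomogeneous i F).rename_isHomogeneous
  have h3 := h1.mul h2
  have e1 : F.totalDegree - i + i = F.totalDegree := by omega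
  rw [e1] at h3
  exact h3

theorem D_hom (j : Fin (n + 1)) (F : MvPolynomial (Fin n) k) : Dehom.D j (hom j F) = F := by
  rw [hom, map_sum]
  have h : ∀ i ∈ Finset.range (F.totalDegree + 1),
      Dehom.D j (X j ^ (F.totalDegree - i) * Dehom.incl j (homogeneousComponent i F)) =
        homogeneousComponent i F := by
    intro i _
    rw [map_mul, map_pow, Dehom.D_X_same, one_pow, one_mul, Dehom.D_incl]
  rw [Finset.sum_congr rfl h, sum_homogeneousComponent]

theorem hom_ne_zero (j : Fin (n + 1)) (F : MvPolynomial (Fin n) k) (hF : F ≠ 0) :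
    hom j F ≠ 0 := by
  intro h
  apply hF
  rw [← D_hom j F, h, map_zero]

/-- the substitution `X j ↦ 0`. -/
noncomputable def Z (j : Fin (n + 1)) :
    MvPolynomial (Fin (n + 1)) k →ₐ[k] MvPolynomial (Fin n) k :=
  aeval (Dehom.ins j (0 : MvPolynomial (Fin n) k) X)

theorem Z_X_same (j : Fin (n + 1)) : Z (k := k) j (X j) = 0 := by
  rw [Z, aeval_X, Dehom.ins_same]

theorem Z_incl (j : Fin (n + 1)) (G : MvPolynomial (Fin n) k) : Z j (Dehom.incl j G) = G := by
  rw [Z, Dehom.incl, aeval_rename, Dehom.ins_comp_succAbove, aeval_X_left_apply]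

theorem Z_hom (j : Fin (n + 1)) (F : MvPolynomial (Fin n) k) :
    Z j (hom j F) = homogeneousComponent F.totalDegree F := by
  rw [hom, map_sum, Finset.sum_eq_single F.totalDegree]
  · rw [map_mul, map_pow, Nat.sub_self, pow_zero, one_mul, Z_incl]
  · intro i hi hne
    have hi' := Finset.mem_range.mp hi
    rw [map_mul, map_pow, Z_X_same, zero_pow (by omega), zero_mul]
  · intro h
    exact absurd (Finset.mem_range.mpr (Nat.lt_succ_self _)) h

theorem not_X_dvd_hom (j : Fin (n + 1)) (F : MvPolynomial (Fin n) k) (hF : F ≠ 0) :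
    ¬ X j ∣ hom j F := by
  rintro ⟨q, hq⟩
  have h1 := congrArg (Z j) hq
  rw [Z_hom, map_mul, Z_X_same, zero_mul] at h1
  exact homogeneousComponent_totalDegree_ne_zero F hF h1

/-- cancellation of powers of `X j`. -/
theorem dvd_of_pow_mul_eq (j : Fin (n + 1)) (f : MvPolynomial (Fin (n + 1)) k)
    (hf : ¬ X j ∣ f) :
    ∀ (N d : ℕ) (h p : MvPolynomial (Fin (n + 1)) k),
      X j ^ N * p = X j ^ d * (f * h) → f ∣ p := by
  have hX0 : (X j : MvPolynomial (Fin (n + 1)) k) ≠ 0 := X_ne_zero j
  have hXp : Prime (X j : MvPolynomial (Fin (n + 1)) k) := X_prime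
  intro N
  induction N with
  | zero =>
    intro d h p hp
    rw [pow_zero, one_mul] at hp
    rw [hp]
    exact ⟨X j ^ d * h, by ring⟩
  | succ N ih =>
    intro d h p hp
    cases d with
    | zero =>
      rw [pow_zero, one_mul] at hp
      have hdvd : X j ∣ f * h := ⟨X j ^ N * p, by rw [← hp, pow_succ]; ring⟩
      rcases hXp.dvd_or_dvd hdvd with h1 | ⟨h', rfl⟩
      · exact absurd h1 hf
      · apply ih 0 h' p
        apply mul_left_cancel₀ hX0
        rw [pow_zero, one_mul]
        calc X j * (X j ^ N * p) = X j ^ (N + 1) * p := by ring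
          _ = f * (X j * h') := hp
          _ = X j * (f * h') := by ring
    | succ d =>
      apply ih d h p
      apply mul_left_cancel₀ hX0
      calc X j * (X j ^ N * p) = X j ^ (N + 1) * p := by ring
        _ = X j ^ (d + 1) * (f * h) := hp
        _ = X j * (X j ^ d * (f * h)) := by ring

/-- homogeneous polynomials with the same dehomogenization differ by a power of `X j`. -/
theorem pow_mul_eq_of_D_eq (j : Fin (n + 1)) {p q : MvPolynomial (Fin (n + 1)) k} {d e : ℕ}
    (hp : p.IsHomogeneous d) (hq : q.IsHomogeneous e) (h : Dehom.D j p = Dehom.D j q) :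
    X j ^ e * p = X j ^ d * q := by
  apply IsFractionRing.injective (MvPolynomial (Fin (n + 1)) k) (Dehom.FR k n)
  rw [map_mul, map_mul, map_pow, map_pow, Dehom.algebraMap_eq_of_isHomogeneous j hp,
    Dehom.algebraMap_eq_of_isHomogeneous j hq, h]
  ring

theorem mem_ker_iff (φ : Fin (n + 1) → K) {p : MvPolynomial (Fin (n + 1)) k} {e : ℕ}
    (hp : p.IsHomogeneous e) :
    p ∈ RingHom.ker (MvPolynomial.aeval (R := k) fun i => Polynomial.C (φ i) * Polynomial.X) ↔
      aeval φ p = 0 := by
  rw [RingHom.mem_ker, JacN.aeval_C_mul_X φ hp]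
  constructor
  · intro h
    rcases mul_eq_zero.mp h with h | h
    · exact Polynomial.C_eq_zero.mp h
    · exact absurd h (pow_ne_zero _ Polynomial.X_ne_zero)
  · intro h
    rw [h, map_zero, zero_mul]

/-- the homogeneous components of a relation are relations. -/
theorem component_mem_ker (φ : Fin (n + 1) → K) (p : MvPolynomial (Fin (n + 1)) k)
    (hp : p ∈ RingHom.ker
      (MvPolynomial.aeval (R := k) fun i => Polynomial.C (φ i) * Polynomial.X)) (d : ℕ) :
    aeval φ (homogeneousComponent d p) = 0 := by
  classical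
  rw [RingHom.mem_ker] at hp
  have h2 : MvPolynomial.aeval (R := k) (fun i => Polynomial.C (φ i) * Polynomial.X) p =
      ∑ i ∈ Finset.range (p.totalDegree + 1),
        Polynomial.C (aeval φ (homogeneousComponent i p)) * Polynomial.X ^ i := by
    conv_lhs => rw [← sum_homogeneousComponent p]
    rw [map_sum]
    apply Finset.sum_congr rfl
    intro i _
    exact JacN.aeval_C_mul_X φ (homogeneousComponent_isHomogeneous i p)
  rw [h2] at hp
  by_cases hd : d ∈ Finset.range (p.totalDegree + 1)
  · have h3 := congrArg (fun P => Polynomial.coeff P d) hp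
    simp only [Polynomial.finset_sum_coeff, Polynomial.coeff_C_mul, Polynomial.coeff_X_pow,
      Polynomial.coeff_zero] at h3
    rw [Finset.sum_eq_single d] at h3
    · simpa using h3
    · intro i _ hi
      simp [Ne.symm hi]
    · intro h
      exact absurd hd h
  · rw [Finset.mem_range, not_lt] at hd
    have h5 : p.totalDegree < d := by omega
    rw [homogeneousComponent_eq_zero d p h5, map_zero]

/-- the ideal of homogeneous relations of the plane map `(1 : x : y)` is generated by the
homogenization of the irreducible affine relation. -/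
theorem ker_graded_eq_span [Infinite k] (hK : IsFunctionField k K) (x y : K)
    (hxy : IntermediateField.adjoin k ({x, y} : Set K) = ⊤) (F : MvPolynomial (Fin 2) k)
    (hF : Irreducible F) (hFxy : aeval ![x, y] F = 0) :
    RingHom.ker (MvPolynomial.aeval (R := k)
      fun i => Polynomial.C (![(1 : K), x, y] i) * Polynomial.X) = Ideal.span {hom 0 F} := by
  have hφ : ∀ p : MvPolynomial (Fin 3) k,
      aeval ![(1 : K), x, y] p = aeval ![x, y] (Dehom.D 0 p) := by
    intro p
    have hv : Dehom.ins 0 (1 : K) ![x, y] = ![(1 : K), x, y] := by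
      funext i
      refine Fin.cases ?_ (fun i' => ?_) i
      · rw [Dehom.ins_same]
        rfl
      · have h1 : i'.succ = (0 : Fin 3).succAbove i' := by rw [Fin.succAbove_zero]
        rw [h1, Dehom.ins_succAbove, ← h1]
        rfl
    rw [Dehom.aeval_D, hv]
  have hker := PlaneKer.ker_eq_span hK x y hxy F hF hFxy
  have hfh := hom_isHomogeneous (0 : Fin 3) F
  have hDf := D_hom (0 : Fin 3) F
  apply le_antisymm
  · intro p hp
    rw [Ideal.mem_span_singleton]
    have hcomp : ∀ d, hom 0 F ∣ homogeneousComponent d p := by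
      intro d
      have h1 := component_mem_ker ![(1 : K), x, y] p hp d
      rw [hφ] at h1
      have h2 : Dehom.D 0 (homogeneousComponent d p) ∈
          RingHom.ker (aeval ![x, y] : MvPolynomial (Fin 2) k →ₐ[k] K) := h1
      rw [hker, Ideal.mem_span_singleton] at h2
      obtain ⟨H, hH⟩ := h2
      obtain ⟨h, e', hh, hDh⟩ := JacN.exists_homogeneous_lift (0 : Fin 3) H
      have h3 : Dehom.D 0 (homogeneousComponent d p) = Dehom.D 0 (hom 0 F * h) := by
        rw [map_mul, hDf, hDh, hH]
      have h4 := pow_mul_eq_of_D_eq 0 (homogeneousComponent_isHomogeneous d p) (hfh.mul hh) h3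
      exact dvd_of_pow_mul_eq 0 (hom 0 F) (not_X_dvd_hom 0 F hF.ne_zero) _ _ h _ h4
    rw [← sum_homogeneousComponent p]
    exact Finset.dvd_sum fun d _ => hcomp d
  · rw [Ideal.span_le]
    intro q hq
    rw [Set.mem_singleton_iff] at hq
    rw [hq]
    show hom 0 F ∈ RingHom.ker _
    rw [mem_ker_iff _ hfh, hφ, hDf]
    exact hFxy

end Groth.Agent.H81.PlaneHom
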