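import Mathlib

/-!
The Plücker inequality for a finite-dimensional space of polynomials over an algebraically closed
field of characteristic zero, by induction on the dimension using the map `f ↦ W(f₀, f)`
(the two-term polynomial Wronskian), without determinants.
-/

set_option autoImplicit false

namespace Groth.Agent.H81.Plucker

open Polynomial Module

section Abstract

variable {k E E' : Type*} [Field k] [AddCommGroup E] [Module k E] [AddCommGroup E'] [Module k E']

lemma finrank_ker_domRestrict_le_one (φ : E →ₗ[k] E') (U : Submodule k E) [FiniteDimensional k U]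
    (f₀ : E) (hker : ∀ f ∈ U, φ f = 0 → f ∈ Submodule.span k {f₀}) :
    finrank k (LinearMap.ker (φ.domRestrict U)) ≤ 1 := by
  have h1 : finrank k (LinearMap.ker (φ.domRestrict U)) =
      finrank k ((LinearMap.ker (φ.domRestrict U)).map U.subtype) :=
    (Submodule.finrank_map_subtype_eq U _).symm
  rw [h1]
  have h2 : (LinearMap.ker (φ.domRestrict U)).map U.subtype ≤ Submodule.span k {f₀} := by
    rintro _ ⟨u, hu, rfl⟩
    exact hker u u.2 (by simpa using hu)
  calc _ ≤ finrank k (Submodule.span k {f₀}) := Submodule.finrank_mono h2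
    _ ≤ 1 := (finrank_span_le_card ({f₀} : Set E)).trans (by simp)

lemma finrank_le_map_add_one (φ : E →ₗ[k] E') (U : Submodule k E) [FiniteDimensional k U] (f₀ : E)
    (hker : ∀ f ∈ U, φ f = 0 → f ∈ Submodule.span k {f₀}) :
    finrank k U ≤ finrank k (U.map φ) + 1 := by
  have h := LinearMap.finrank_range_add_finrank_ker (φ.domRestrict U)
  rw [LinearMap.range_domRestrict] at h
  have hk := finrank_ker_domRestrict_le_one φ U f₀ hker
  omega

lemma finrank_eq_map_add_one (φ : E →ₗ[k] E') (U : Submodule k E) [FiniteDimensional k U] (f₀ : E)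
    (hf₀ : f₀ ∈ U) (hne : f₀ ≠ 0) (hφ : φ f₀ = 0)
    (hker : ∀ f ∈ U, φ f = 0 → f ∈ Submodule.span k {f₀}) :
    finrank k U = finrank k (U.map φ) + 1 := by
  have h := LinearMap.finrank_range_add_finrank_ker (φ.domRestrict U)
  rw [LinearMap.range_domRestrict] at h
  have hk := finrank_ker_domRestrict_le_one φ U f₀ hker
  have hk' : 0 < finrank k (LinearMap.ker (φ.domRestrict U)) := by
    rw [Module.finrank_pos_iff_exists_ne_zero]
    refine ⟨⟨⟨f₀, hf₀⟩, by simpa using hφ⟩, ?_⟩
    intro h0
    apply hne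
    have := congrArg (fun x : LinearMap.ker (φ.domRestrict U) => ((x : U) : E)) h0
    simpa using this
  omega

lemma finrank_le_map (φ : E →ₗ[k] E') (U : Submodule k E) [FiniteDimensional k U]
    (hker : ∀ f ∈ U, φ f = 0 → f = 0) :
    finrank k U ≤ finrank k (U.map φ) := by
  have hinj : Function.Injective (φ.domRestrict U) := by
    rw [← LinearMap.ker_eq_bot, LinearMap.ker_eq_bot']
    intro u hu
    exact Subtype.ext (hker u u.2 (by simpa using hu))
  have := LinearMap.finrank_range_of_inj hinj
  rw [LinearMap.range_domRestrict] at this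
  omega

lemma finrank_le_inf_ker_add_one (ℓ : E →ₗ[k] k) (U : Submodule k E) [FiniteDimensional k U] :
    finrank k U ≤ finrank k ↥(U ⊓ LinearMap.ker ℓ) + 1 := by
  have h := LinearMap.finrank_range_add_finrank_ker (ℓ.domRestrict U)
  have h1 : finrank k (LinearMap.range (ℓ.domRestrict U)) ≤ 1 := by
    have := Submodule.finrank_le (LinearMap.range (ℓ.domRestrict U))
    rwa [Module.finrank_self] at this
  have h2 : finrank k (LinearMap.ker (ℓ.domRestrict U)) ≤ finrank k ↥(U ⊓ LinearMap.ker ℓ) := by
    rw [← Submodule.finrank_map_subtype_eq U (LinearMap.ker (ℓ.domRestrict U))]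
    refine Submodule.finrank_mono ?_
    rintro _ ⟨u, hu, rfl⟩
    exact ⟨u.2, by simpa using hu⟩
  omega

/-- The basic counting lemma comparing the dimension sums of `𝒱` and of its image under `φ`. -/
theorem count_shift (F : ℕ → Submodule k E) (F' : ℕ → Submodule k E') (hF : Antitone F)
    (hF' : Antitone F')
    (φ : E →ₗ[k] E') (V : Submodule k E) [FiniteDimensional k V] (f₀ : E) (e t s r : ℕ)
    (h0 : V.map φ ≤ F' s)
    (hφ : ∀ j, 1 ≤ j → (V ⊓ F (j + t)).map φ ≤ F' (j + s))
    (hker : ∀ f ∈ V, φ f = 0 → f ∈ Submodule.span k {f₀})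
    (hf0 : f₀ ∉ F (e + 1))
    (hr : finrank k ↥(V.map φ) = r)
    (M M' : ℕ) (hM : M + s ≤ M') :
    s * r + ∑ j ∈ Finset.range M, finrank k ↥(V ⊓ F (j + 1 + t)) ≤
      ∑ n ∈ Finset.range M', finrank k ↥(V.map φ ⊓ F' (n + 1)) + (e - t) := by
  -- Step 1: restrict the range
  have hsub : ∑ n ∈ Finset.range (s + M), finrank k ↥(V.map φ ⊓ F' (n + 1)) ≤
      ∑ n ∈ Finset.range M', finrank k ↥(V.map φ ⊓ F' (n + 1)) :=
    Finset.sum_le_sum_of_subset (Finset.range_mono (by omega))
  rw [Finset.sum_range_add] at hsub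
  -- Step 2: the first `s` terms are equal to `r`
  have hfirst : ∑ n ∈ Finset.range s, finrank k ↥(V.map φ ⊓ F' (n + 1)) = s * r := by
    rw [Finset.sum_eq_card_nsmul (b := r), Finset.card_range, smul_eq_mul]
    intro n hn
    have hn' : n + 1 ≤ s := by have := Finset.mem_range.mp hn; omega
    have : V.map φ ⊓ F' (n + 1) = V.map φ := inf_eq_left.mpr (h0.trans (hF' hn'))
    rw [this, hr]
  -- Step 3: termwise comparison
  have hterm : ∀ j ∈ Finset.range M, finrank k ↥(V ⊓ F (j + 1 + t)) ≤
      finrank k ↥(V.map φ ⊓ F' (s + j + 1)) + (if j < e - t then 1 else 0) := by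
    intro j _
    have hle : (V ⊓ F (j + 1 + t)).map φ ≤ V.map φ ⊓ F' (s + j + 1) := by
      have e1 : s + j + 1 = j + 1 + s := by omega
      rw [e1]
      exact le_inf (Submodule.map_mono inf_le_left) (hφ (j + 1) (by omega))
    have h1 : finrank k ↥((V ⊓ F (j + 1 + t)).map φ) ≤ finrank k ↥(V.map φ ⊓ F' (s + j + 1)) :=
      Submodule.finrank_mono hle
    by_cases hj : j < e - t
    · rw [if_pos hj]
      have := finrank_le_map_add_one φ (V ⊓ F (j + 1 + t)) f₀
        (fun f hf hf' => hker f hf.1 hf')
      omega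
    · rw [if_neg hj]
      have := finrank_le_map φ (V ⊓ F (j + 1 + t)) (by
        intro f hf hf'
        obtain ⟨c, rfl⟩ := Submodule.mem_span_singleton.mp (hker f hf.1 hf')
        by_cases hc : c = 0
        · rw [hc, zero_smul]
        · exfalso
          apply hf0
          have h2 : f₀ ∈ F (j + 1 + t) := by
            have := (F (j + 1 + t)).smul_mem c⁻¹ hf.2
            rwa [smul_smul, inv_mul_cancel₀ hc, one_smul] at this
          exact hF (by omega : e + 1 ≤ j + 1 + t) h2)
      omega
  -- Step 4: count of the correction terms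
  have hcount : ∑ j ∈ Finset.range M, (if j < e - t then 1 else 0) ≤ e - t := by
    rw [Finset.sum_boole]
    have : (Finset.range M).filter (fun j => j < e - t) ⊆ Finset.range (e - t) := by
      intro j hj
      exact Finset.mem_range.mpr (Finset.mem_filter.mp hj).2
    simpa using Finset.card_le_card this
  have hsum := Finset.sum_le_sum hterm
  rw [Finset.sum_add_distrib] at hsum
  omega

end Abstract


section Poly

variable {k : Type*} [Field k]

/-- The multiples of `(X - a)^n`. -/
noncomputable def mulSub (a : k) (n : ℕ) : Submodule k k[X] :=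
  (Ideal.span {(X - C a) ^ n}).restrictScalars k

lemma mem_mulSub {a : k} {n : ℕ} {p : k[X]} : p ∈ mulSub a n ↔ (X - C a) ^ n ∣ p := by
  simp [mulSub, Ideal.mem_span_singleton]

lemma mulSub_antitone (a : k) : Antitone (mulSub a) := fun _ _ h _ hp =>
  mem_mulSub.mpr ((pow_dvd_pow _ h).trans (mem_mulSub.mp hp))

lemma mulSub_zero (a : k) : mulSub a 0 = ⊤ := by
  ext p; simp [mem_mulSub]

/-- The filtration at infinity of the space of polynomials of degree at most `D`. -/
noncomputable def infSub (D n : ℕ) : Submodule k k[X] := Polynomial.degreeLT k (D + 1 - n)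

lemma infSub_antitone (D : ℕ) : Antitone (infSub (k := k) D) := fun _ _ h =>
  Polynomial.degreeLT_mono (by omega)

lemma pow_dvd_derivative' {a : k} {n : ℕ} {p : k[X]} (h : (X - C a) ^ n ∣ p) :
    (X - C a) ^ (n - 1) ∣ derivative p := by
  obtain ⟨q, rfl⟩ := h
  rw [derivative_mul, derivative_X_sub_C_pow]
  exact dvd_add ((dvd_mul_left _ _).mul_right _) ((pow_dvd_pow _ (Nat.sub_le n 1)).mul_right _)

lemma wronskian_dvd {a : k} {e j : ℕ} {f₀ f : k[X]} (h0 : (X - C a) ^ e ∣ f₀)
    (hf : (X - C a) ^ j ∣ f) : (X - C a) ^ (e + j - 1) ∣ wronskian f₀ f := by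
  unfold wronskian
  refine dvd_sub ?_ ?_
  · have := mul_dvd_mul h0 (pow_dvd_derivative' hf)
    rw [← pow_add] at this
    exact (pow_dvd_pow _ (by omega)).trans this
  · have := mul_dvd_mul (pow_dvd_derivative' h0) hf
    rw [← pow_add] at this
    exact (pow_dvd_pow _ (by omega)).trans this

lemma wronskian_mem_infSub {f₀ f : k[X]} {D j : ℕ} (hD : 1 ≤ D) (hf : f ∈ infSub D j) :
    wronskian f₀ f ∈ infSub (D + f₀.natDegree - 1) j := by
  unfold infSub at hf ⊢
  rw [mem_degreeLT] at hf ⊢
  by_cases hw : wronskian f₀ f = 0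
  · rw [hw, degree_zero]; exact WithBot.bot_lt_coe _
  have hf0 : f ≠ 0 := by
    rintro rfl; exact hw (wronskian_zero_right _)
  have h1 := natDegree_wronskian_lt_add hw
  have h2 : f.natDegree < D + 1 - j := (natDegree_lt_iff_degree_lt hf0).mpr hf
  rw [← natDegree_lt_iff_degree_lt hw]
  omega

lemma mem_span_of_wronskian_eq_zero [CharZero k] {f₀ f : k[X]} (hf0 : f₀ ≠ 0)
    (h : wronskian f₀ f = 0) : f ∈ Submodule.span k {f₀} := by
  classical
  have hg0 : EuclideanDomain.gcd f₀ f ≠ 0 := by
    intro h0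
    exact hf0 (EuclideanDomain.gcd_eq_zero_iff.mp h0).1
  obtain ⟨a, ha⟩ := EuclideanDomain.gcd_dvd_left f₀ f
  obtain ⟨b, hb⟩ := EuclideanDomain.gcd_dvd_right f₀ f
  set g := EuclideanDomain.gcd f₀ f with hg
  have hcop : IsCoprime a b := by
    refine ⟨EuclideanDomain.gcdA f₀ f, EuclideanDomain.gcdB f₀ f, ?_⟩
    have h1 := EuclideanDomain.gcd_eq_gcd_ab f₀ f
    rw [← hg] at h1
    apply mul_left_cancel₀ hg0
    calc g * (EuclideanDomain.gcdA f₀ f * a + EuclideanDomain.gcdB f₀ f * b)
        = (g * a) * EuclideanDomain.gcdA f₀ f + (g * b) * EuclideanDomain.gcdB f₀ f := by ring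
      _ = g * 1 := by rw [← ha, ← hb, ← h1, mul_one]
  have hw : wronskian a b = 0 := by
    have h2 : wronskian f₀ f = g ^ 2 * wronskian a b := by
      rw [ha, hb]
      simp only [wronskian, derivative_mul]
      ring
    rw [h2] at h
    exact (mul_eq_zero.mp h).resolve_left (pow_ne_zero 2 hg0)
  obtain ⟨ha', hb'⟩ := hcop.wronskian_eq_zero_iff.mp hw
  have ea := eq_C_of_derivative_eq_zero ha'
  have eb := eq_C_of_derivative_eq_zero hb'
  have hα : a.coeff 0 ≠ 0 := by
    intro h0
    apply hf0
    rw [ha, ea, h0, C_0, mul_zero]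
  rw [Submodule.mem_span_singleton]
  refine ⟨b.coeff 0 / a.coeff 0, ?_⟩
  rw [hb, ha, ea, eb, smul_eq_C_mul]
  simp only [coeff_C_zero]
  rw [← mul_assoc, mul_comm (C _) g, mul_assoc, ← C_mul, div_mul_cancel₀ _ hα]

lemma finrank_degreeLT (n : ℕ) : finrank k ↥(degreeLT k n) = n := by
  rw [(degreeLTEquiv k n).finrank_eq, Module.finrank_fin_fun]

lemma finrank_mulSub_step (V : Submodule k k[X]) [FiniteDimensional k V] (a : k) (n : ℕ) :
    finrank k ↥(V ⊓ mulSub a n) ≤ finrank k ↥(V ⊓ mulSub a (n + 1)) + 1 := by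
  let ℓ : k[X] →ₗ[k] k := (lcoeff k n).comp (taylor a)
  have h := finrank_le_inf_ker_add_one ℓ (V ⊓ mulSub a n)
  have hle : (V ⊓ mulSub a n) ⊓ LinearMap.ker ℓ ≤ V ⊓ mulSub a (n + 1) := by
    rintro p ⟨⟨hpV, hpn⟩, hpℓ⟩
    refine ⟨hpV, ?_⟩
    change p ∈ mulSub a n at hpn
    change p ∈ mulSub a (n + 1)
    rw [mem_mulSub, X_sub_C_pow_dvd_iff, X_pow_dvd_iff] at hpn ⊢
    intro d hd
    rcases Nat.lt_succ_iff_lt_or_eq.mp hd with h' | h'
    · exact hpn d h'
    · subst h'
      have : ℓ p = 0 := hpℓ
      simpa [ℓ, taylor_apply] using this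
  have := Submodule.finrank_mono hle
  omega

lemma finrank_mulSub_ge (V : Submodule k k[X]) [FiniteDimensional k V] (a : k) (n : ℕ) :
    finrank k ↥V ≤ finrank k ↥(V ⊓ mulSub a n) + n := by
  induction n with
  | zero => rw [mulSub_zero, inf_top_eq]; omega
  | succ n ih =>
    have := finrank_mulSub_step V a n
    omega

/-- The triangular number. -/
def tri (r : ℕ) : ℕ := r * (r + 1) / 2

lemma tri_succ (r : ℕ) : tri (r + 1) = tri r + (r + 1) := by
  unfold tri
  have h := Nat.even_mul_succ_self r
  obtain ⟨m, hm⟩ := h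
  have : (r + 1) * (r + 1 + 1) = r * (r + 1) + 2 * (r + 1) := by ring
  rw [this, hm]
  omega

lemma two_mul_tri (r : ℕ) : 2 * tri r = r * (r + 1) := by
  unfold tri
  obtain ⟨m, hm⟩ := Nat.even_mul_succ_self r
  rw [hm]; omega

/-- A sequence dropping by at most one each step has sum at least the triangular number. -/
lemma tri_le_sum : ∀ (r D : ℕ) (α : ℕ → ℕ), r ≤ D → (∀ n, r + 1 ≤ α n + n) →
    tri r ≤ ∑ n ∈ Finset.range D, α (n + 1) := by
  intro r
  induction r with
  | zero => intro D α _ _; simp [tri]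
  | succ r ih =>
    intro D α hD hα
    obtain ⟨D', rfl⟩ : ∃ D', D = D' + 1 := ⟨D - 1, by omega⟩
    rw [Finset.sum_range_succ', tri_succ]
    have h1 := ih D' (fun n => α (n + 1)) (by omega) (fun n => by have := hα (n + 1); omega)
    have h2 := hα 1
    simp only [zero_add]
    omega


lemma sum_rootMultiplicity_le (f : k[X]) (S : Finset k) :
    ∑ a ∈ S, rootMultiplicity a f ≤ f.natDegree := by
  classical
  calc ∑ a ∈ S, rootMultiplicity a f = ∑ a ∈ S, f.roots.count a := by simp [count_roots]
    _ ≤ ∑ a ∈ f.roots.toFinset, f.roots.count a :=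
        Finset.sum_le_sum_of_ne_zero
          (fun a _ ha => Multiset.mem_toFinset.mpr (Multiset.count_ne_zero.mp ha))
    _ = Multiset.card f.roots := Multiset.toFinset_sum_count_eq _
    _ ≤ f.natDegree := card_roots' f

lemma sum_rootMultiplicity_eq [IsAlgClosed k] [DecidableEq k] (f : k[X]) (S : Finset k)
    (hS : f.roots.toFinset ⊆ S) : ∑ a ∈ S, rootMultiplicity a f = f.natDegree := by
  calc ∑ a ∈ S, rootMultiplicity a f = ∑ a ∈ S, f.roots.count a := by simp [count_roots]
    _ = ∑ a ∈ f.roots.toFinset, f.roots.count a :=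
        (Finset.sum_subset hS (fun a _ ha => Multiset.count_eq_zero.mpr
          (fun h => ha (Multiset.mem_toFinset.mpr h)))).symm
    _ = Multiset.card f.roots := Multiset.toFinset_sum_count_eq _
    _ = f.natDegree := IsAlgClosed.card_roots_eq_natDegree

lemma sum_indicator_le (D m : ℕ) : ∑ n ∈ Finset.range D, (if n < m then 1 else 0) ≤ m := by
  rw [Finset.sum_boole]
  have : (Finset.range D).filter (fun j => j < m) ⊆ Finset.range m := by
    intro j hj
    exact Finset.mem_range.mpr (Finset.mem_filter.mp hj).2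
  simpa using Finset.card_le_card this

lemma base_case (D : ℕ) (V : Submodule k k[X]) (hV : finrank k ↥V = 1)
    (hVD : V ≤ degreeLT k (D + 1)) (S : Finset k) :
    (∑ a ∈ S, ∑ n ∈ Finset.range D, finrank k ↥(V ⊓ mulSub a (n + 1))) +
      (∑ n ∈ Finset.range D, finrank k ↥(V ⊓ infSub D (n + 1))) ≤ D := by
  haveI : FiniteDimensional k V := Module.finite_of_finrank_pos (by omega)
  obtain ⟨v, hv0, hv⟩ := finrank_eq_one_iff'.mp hV
  have hf0 : (v : k[X]) ≠ 0 := fun h => hv0 (Subtype.ext h)
  have hspan : ∀ p ∈ V, ∃ c : k, p = c • (v : k[X]) := by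
    intro p hp
    obtain ⟨c, hc⟩ := hv ⟨p, hp⟩
    exact ⟨c, by rw [← Submodule.coe_smul, hc]⟩
  have hbot : ∀ (W : Submodule k k[X]), (v : k[X]) ∉ W → finrank k ↥(V ⊓ W) = 0 := by
    intro W hW
    have : V ⊓ W = ⊥ := by
      rw [eq_bot_iff]
      rintro p ⟨hpV, hpW⟩
      obtain ⟨c, rfl⟩ := hspan p hpV
      by_cases hc : c = 0
      · simp [hc]
      · exfalso
        apply hW
        have := W.smul_mem c⁻¹ hpW
        rwa [smul_smul, inv_mul_cancel₀ hc, one_smul] at this
    rw [this, finrank_bot]
  have hle1 : ∀ (W : Submodule k k[X]), finrank k ↥(V ⊓ W) ≤ 1 := by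
    intro W
    have := Submodule.finrank_mono (inf_le_left : V ⊓ W ≤ V)
    omega
  have hA : ∀ a n, finrank k ↥(V ⊓ mulSub a (n + 1)) ≤
      if n < rootMultiplicity a (v : k[X]) then 1 else 0 := by
    intro a n
    by_cases hn : n < rootMultiplicity a (v : k[X])
    · rw [if_pos hn]; exact hle1 _
    · rw [if_neg hn, hbot]
      intro h
      have := (le_rootMultiplicity_iff hf0).mpr (mem_mulSub.mp h)
      omega
  have hndD : (v : k[X]).natDegree ≤ D := by
    have := hVD v.2
    rw [mem_degreeLT] at this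
    have := (natDegree_lt_iff_degree_lt hf0).mpr this
    omega
  have hB : ∀ n, finrank k ↥(V ⊓ infSub D (n + 1)) ≤
      if n < D - (v : k[X]).natDegree then 1 else 0 := by
    intro n
    by_cases hn : n < D - (v : k[X]).natDegree
    · rw [if_pos hn]; exact hle1 _
    · rw [if_neg hn, hbot]
      intro h
      unfold infSub at h
      rw [mem_degreeLT] at h
      have := (natDegree_lt_iff_degree_lt hf0).mpr h
      omega
  have h1 : ∑ a ∈ S, ∑ n ∈ Finset.range D, finrank k ↥(V ⊓ mulSub a (n + 1)) ≤
      (v : k[X]).natDegree := by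
    calc _ ≤ ∑ a ∈ S, rootMultiplicity a (v : k[X]) := by
          refine Finset.sum_le_sum (fun a _ => ?_)
          exact (Finset.sum_le_sum (fun n _ => hA a n)).trans (sum_indicator_le _ _)
      _ ≤ _ := sum_rootMultiplicity_le _ S
  have h2 : ∑ n ∈ Finset.range D, finrank k ↥(V ⊓ infSub D (n + 1)) ≤
      D - (v : k[X]).natDegree :=
    (Finset.sum_le_sum (fun n _ => hB n)).trans (sum_indicator_le _ _)
  omega


/-- **Plücker inequality** for spaces of polynomials of degree at most `D`. -/
theorem poly_plucker [IsAlgClosed k] [CharZero k] : ∀ (r D : ℕ) (V : Submodule k k[X]),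
    finrank k ↥V = r + 1 → V ≤ degreeLT k (D + 1) → ∀ S : Finset k,
    (∑ a ∈ S, ∑ n ∈ Finset.range D, finrank k ↥(V ⊓ mulSub a (n + 1))) +
      (∑ n ∈ Finset.range D, finrank k ↥(V ⊓ infSub D (n + 1))) + (r + 1) * r ≤
      (r + 1) * D + (S.card + 1) * tri r := by
  intro r
  induction r with
  | zero =>
    intro D V hV hVD S
    have := base_case D V hV hVD S
    simp only [tri]
    omega
  | succ r ih =>
    intro D V hV hVD S
    classical
    haveI : FiniteDimensional k V := Module.finite_of_finrank_pos (by omega)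
    obtain ⟨f₀, hf₀V, hnd⟩ : ∃ f₀ ∈ V, 1 ≤ f₀.natDegree := by
      by_contra hcon
      push_neg at hcon
      have hle : V ≤ degreeLT k 1 := by
        intro p hp
        rw [mem_degreeLT]
        have h1 := hcon p hp
        exact lt_of_le_of_lt degree_le_natDegree (by exact_mod_cast h1)
      have := Submodule.finrank_mono hle
      rw [finrank_degreeLT, hV] at this
      omega
    have hf₀0 : f₀ ≠ 0 := by rintro rfl; simp at hnd
    have hndD : f₀.natDegree ≤ D := by
      have h1 := hVD hf₀V
      rw [mem_degreeLT] at h1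
      have := (natDegree_lt_iff_degree_lt hf₀0).mpr h1
      omega
    have hD1 : 1 ≤ D := by omega
    obtain ⟨φ, hφ_apply⟩ : ∃ φ : k[X] →ₗ[k] k[X], ∀ f, φ f = wronskian f₀ f :=
      ⟨wronskianBilin k f₀, fun f => rfl⟩
    have hker : ∀ f ∈ V, φ f = 0 → f ∈ Submodule.span k {f₀} := fun f _ hf =>
      mem_span_of_wronskian_eq_zero hf₀0 (by rw [← hφ_apply]; exact hf)
    have hrank : finrank k ↥(V.map φ) = r + 1 := by
      have := finrank_eq_map_add_one φ V f₀ hf₀V hf₀0
        (by rw [hφ_apply]; exact wronskian_self_eq_zero f₀) hker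
      omega
    obtain ⟨Db, hDb⟩ : ∃ Db, Db + 1 = D + f₀.natDegree := ⟨D + f₀.natDegree - 1, by omega⟩
    have hDb' : D + f₀.natDegree - 1 = Db := by omega
    have hVb : V.map φ ≤ degreeLT k (Db + 1) := by
      rintro _ ⟨f, hf, rfl⟩
      have h1 : f ∈ infSub D 0 := by simpa [infSub] using hVD hf
      have := wronskian_mem_infSub (f₀ := f₀) hD1 h1
      rw [hDb'] at this
      rw [hφ_apply]
      simpa [infSub] using this
    have IH := ih Db (V.map φ) hrank hVb (S ∪ f₀.roots.toFinset)
    -- local inequalities at finite points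
    have hloc : ∀ a ∈ S ∪ f₀.roots.toFinset,
        (∑ n ∈ Finset.range D, finrank k ↥(V ⊓ mulSub a (n + 1))) + r * rootMultiplicity a f₀ ≤
        (∑ n ∈ Finset.range Db, finrank k ↥(V.map φ ⊓ mulSub a (n + 1))) + (r + 1) := by
      intro a _
      obtain ⟨e, he⟩ : ∃ e, e = rootMultiplicity a f₀ := ⟨_, rfl⟩
      rw [← he]
      have hediv : (X - C a) ^ e ∣ f₀ := by rw [he]; exact pow_rootMultiplicity_dvd f₀ a
      have he_le : e ≤ f₀.natDegree := by
        have := natDegree_le_of_dvd hediv hf₀0
        rwa [natDegree_pow, natDegree_X_sub_C, mul_one] at this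
      have hnot : f₀ ∉ mulSub a (e + 1) := fun h => by
        rw [he] at h
        exact pow_rootMultiplicity_not_dvd hf₀0 a (mem_mulSub.mp h)
      rcases Nat.eq_zero_or_pos e with he0 | he0
      · subst he0
        have h := count_shift (mulSub a) (mulSub a) (mulSub_antitone a) (mulSub_antitone a) φ V f₀
          0 1 0 (r + 1)
          (by rw [mulSub_zero]; exact le_top)
          (fun j _ => by
            rintro _ ⟨f, hf, rfl⟩
            rw [mem_mulSub, hφ_apply]
            have := wronskian_dvd (a := a) (e := 0) (j := j + 1) (f₀ := f₀) (f := f) (by simp)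
              (mem_mulSub.mp hf.2)
            simpa using this)
          hker hnot hrank D Db (by omega)
        obtain ⟨D', rfl⟩ : ∃ D', D = D' + 1 := ⟨D - 1, by omega⟩
        rw [Finset.sum_range_succ] at h
        rw [Finset.sum_range_succ']
        have hα1 : finrank k ↥(V ⊓ mulSub a (0 + 1)) < finrank k ↥V := by
          refine Submodule.finrank_lt_finrank_of_lt (lt_of_le_of_ne inf_le_left (fun h' => ?_))
          have : f₀ ∈ V ⊓ mulSub a (0 + 1) := by rw [h']; exact hf₀V
          exact hnot this.2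
        omega
      · obtain ⟨e', rfl⟩ : ∃ e', e = e' + 1 := ⟨e - 1, by omega⟩
        have h := count_shift (mulSub a) (mulSub a) (mulSub_antitone a) (mulSub_antitone a) φ V f₀
          (e' + 1) 0 e' (r + 1)
          (by
            rintro _ ⟨f, _, rfl⟩
            rw [mem_mulSub, hφ_apply]
            have := wronskian_dvd (a := a) (j := 0) (f := f) hediv (by simp)
            simpa using this)
          (fun j _ => by
            rintro _ ⟨f, hf, rfl⟩
            rw [mem_mulSub, hφ_apply]
            have := wronskian_dvd (a := a) hediv (mem_mulSub.mp hf.2)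
            have e1 : e' + 1 + (j + 0) - 1 = j + e' := by omega
            rwa [e1] at this)
          hker hnot hrank D Db (by omega)
        simp only [add_zero, Nat.sub_zero] at h
        nlinarith [h]
    -- at infinity
    have hinf : (∑ n ∈ Finset.range D, finrank k ↥(V ⊓ infSub D (n + 1))) ≤
        (∑ n ∈ Finset.range Db, finrank k ↥(V.map φ ⊓ infSub Db (n + 1))) +
          (D - f₀.natDegree) := by
      have h := count_shift (infSub D) (infSub Db) (infSub_antitone D) (infSub_antitone Db) φ V f₀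
        (D - f₀.natDegree) 0 0 (r + 1)
        (by simpa [infSub] using hVb)
        (fun j _ => by
          rintro _ ⟨f, hf, rfl⟩
          have := wronskian_mem_infSub (f₀ := f₀) hD1 hf.2
          rw [hDb'] at this
          rw [hφ_apply]
          exact this)
        hker
        (by
          unfold infSub
          rw [mem_degreeLT]
          have : D + 1 - (D - f₀.natDegree + 1) = f₀.natDegree := by omega
          rw [this, degree_eq_natDegree hf₀0]
          exact lt_irrefl _)
        hrank D Db (by omega)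
      simpa using h
    -- weights are nonnegative
    have hnonneg : ∀ a, tri (r + 1) ≤ ∑ n ∈ Finset.range D, finrank k ↥(V ⊓ mulSub a (n + 1)) := by
      intro a
      refine tri_le_sum (r + 1) D (fun n => finrank k ↥(V ⊓ mulSub a n)) ?_ (fun n => ?_)
      · have := Submodule.finrank_mono hVD
        rw [finrank_degreeLT, hV] at this
        omega
      · have := finrank_mulSub_ge V a n
        rw [hV] at this
        omega
    have hsumroots : ∑ a ∈ S ∪ f₀.roots.toFinset, rootMultiplicity a f₀ = f₀.natDegree :=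
      sum_rootMultiplicity_eq f₀ _ Finset.subset_union_right
    have h_i : (∑ a ∈ S ∪ f₀.roots.toFinset,
          ∑ n ∈ Finset.range D, finrank k ↥(V ⊓ mulSub a (n + 1))) + r * f₀.natDegree ≤
        (∑ a ∈ S ∪ f₀.roots.toFinset,
          ∑ n ∈ Finset.range Db, finrank k ↥(V.map φ ⊓ mulSub a (n + 1))) +
          (r + 1) * (S ∪ f₀.roots.toFinset).card := by
      have := Finset.sum_le_sum hloc
      rw [Finset.sum_add_distrib, Finset.sum_add_distrib, ← Finset.mul_sum, hsumroots,
        Finset.sum_const, smul_eq_mul] at this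
      linarith
    obtain ⟨c, hc⟩ : ∃ c, (S ∪ f₀.roots.toFinset).card = S.card + c :=
      ⟨(S ∪ f₀.roots.toFinset).card - S.card, by
        have := Finset.card_le_card (Finset.subset_union_left : S ⊆ S ∪ f₀.roots.toFinset)
        omega⟩
    have h_iv : (∑ a ∈ S, ∑ n ∈ Finset.range D, finrank k ↥(V ⊓ mulSub a (n + 1))) +
        c * tri (r + 1) ≤
        ∑ a ∈ S ∪ f₀.roots.toFinset, ∑ n ∈ Finset.range D, finrank k ↥(V ⊓ mulSub a (n + 1)) := by
      rw [← Finset.sum_sdiff (Finset.subset_union_left : S ⊆ S ∪ f₀.roots.toFinset)]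
      have hcard : ((S ∪ f₀.roots.toFinset) \ S).card = c := by
        have := Finset.card_sdiff_add_card_eq_card
          (Finset.subset_union_left : S ⊆ S ∪ f₀.roots.toFinset)
        omega
      have : c * tri (r + 1) ≤ ∑ a ∈ (S ∪ f₀.roots.toFinset) \ S,
          ∑ n ∈ Finset.range D, finrank k ↥(V ⊓ mulSub a (n + 1)) := by
        rw [← hcard, ← smul_eq_mul, ← Finset.sum_const]
        exact Finset.sum_le_sum (fun a _ => hnonneg a)
      omega
    have hm : (r + 1) * Db + (r + 1) = (r + 1) * D + (r + 1) * f₀.natDegree := by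
      have := congrArg (fun x => (r + 1) * x) hDb
      simp only [mul_add, mul_one] at this
      linarith
    have hsub : D - f₀.natDegree + f₀.natDegree = D := Nat.sub_add_cancel hndD
    rw [hc] at IH h_i
    rw [tri_succ] at h_iv ⊢
    nlinarith [h_i, hinf, IH, h_iv, hm, hsub, two_mul_tri r]

end Poly

end Groth.Agent.H81.Plucker
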