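import Groth.Agent.H81.PushDepth1
import Mathlib.RingTheory.Ideal.Colon

/-!
# Depth `≥ 2` from a covering of the punctured spectrum (helper81)

* `exists_regular_of_no_socle`
* `two_le_depth_of_cover`
* `cover_localized`
-/

set_option autoImplicit false
universe u v w

open RingTheory.Sequence
open scoped Pointwise TensorProduct

namespace Groth.Agent.H81.PushDepth

section Socle

variable {A : Type u} [CommRing A] [IsLocalRing A] [IsNoetherianRing A]

theorem exists_regular_of_no_socle {N : Type v} [AddCommGroup N] [Module A N] [Module.Finite A N]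
    (h : ∀ n : N, (∀ x ∈ IsLocalRing.maximalIdeal A, x • n = 0) → n = 0) :
    ∃ a ∈ IsLocalRing.maximalIdeal A, IsSMulRegular N a := by
  have key : ∀ χ : (A ⧸ IsLocalRing.maximalIdeal A) →ₗ[A] N, χ = 0 := by
    intro χ
    have h0 : χ (Ideal.Quotient.mk _ 1) = 0 := by
      apply h
      intro x hx
      rw [← map_smul]
      have : x • (Ideal.Quotient.mk (IsLocalRing.maximalIdeal A) 1) = 0 := by
        rw [Algebra.smul_def, Ideal.Quotient.algebraMap_eq, ← map_mul, mul_one]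
        exact Ideal.Quotient.eq_zero_iff_mem.mpr hx
      rw [this, map_zero]
    apply LinearMap.ext
    intro q
    obtain ⟨t, rfl⟩ := Ideal.Quotient.mk_surjective q
    have h1 : (Ideal.Quotient.mk (IsLocalRing.maximalIdeal A) t) =
        t • (Ideal.Quotient.mk (IsLocalRing.maximalIdeal A) 1) := by
      rw [Algebra.smul_def, Ideal.Quotient.algebraMap_eq, ← map_mul, mul_one]
    rw [h1, map_smul, h0, smul_zero]
    rfl
  have hsub : Subsingleton ((A ⧸ IsLocalRing.maximalIdeal A) →ₗ[A] N) :=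
    ⟨fun φ ψ => (key φ).trans (key ψ).symm⟩
  obtain ⟨r, hr, hreg⟩ := IsSMulRegular.subsingleton_linearMap_iff.mp hsub
  rw [Ideal.annihilator_quotient] at hr
  exact ⟨r, hr, hreg⟩

/-- Part (3), algebraic core. -/
theorem two_le_depth_of_cover {N : Type v} [AddCommGroup N] [Module A N] [Module.Finite A N]
    {k : ℕ} (r : Fin k → A) (hr : Ideal.span (Set.range r) = IsLocalRing.maximalIdeal A)
    (h1 : ∀ n : N, (∀ j, ∃ e : ℕ, r j ^ e • n = 0) → n = 0)
    (h2 : ∀ y : Fin k → N, (∀ j l, r l • y j = r j • y l) →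
      ∃ n : N, ∀ j, ∃ c : ℕ, r j ^ c • (r j • n - y j) = 0) :
    (2 : ℕ∞) ≤ LocCoh.depth A N := by
  by_cases hN : IsLocalRing.maximalIdeal A • (⊤ : Submodule A N) = ⊤
  · unfold LocCoh.depth
    rw [Groth.Agent.H26.DepthLib.idealDepth_eq_top_of_smul_top _ hN]
    exact le_top
  have hrm : ∀ j, r j ∈ IsLocalRing.maximalIdeal A := fun j =>
    hr ▸ Ideal.subset_span ⟨j, rfl⟩
  have hsoc : ∀ n : N, (∀ x ∈ IsLocalRing.maximalIdeal A, x • n = 0) → n = 0 := by
    intro n hn
    apply h1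
    intro j
    refine ⟨1, ?_⟩
    rw [pow_one]
    exact hn _ (hrm j)
  obtain ⟨a, ham, hareg⟩ := exists_regular_of_no_socle hsoc
  have hsoc2 : ∀ nb : N ⧸ (a • (⊤ : Submodule A N)),
      (∀ x ∈ IsLocalRing.maximalIdeal A, x • nb = 0) → nb = 0 := by
    intro nb hn
    obtain ⟨n, rfl⟩ := Submodule.Quotient.mk_surjective _ nb
    rw [Submodule.Quotient.mk_eq_zero, mem_smul_top_iff]
    have hx : ∀ j, ∃ nj : N, a • nj = r j • n := by
      intro j
      have := hn (r j) (hrm j)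
      rw [← Submodule.Quotient.mk_smul, Submodule.Quotient.mk_eq_zero, mem_smul_top_iff] at this
      exact this
    choose y hy using hx
    obtain ⟨z, hz⟩ := h2 y (by
      intro j l
      apply hareg
      change a • (r l • y j) = a • (r j • y l)
      rw [smul_comm a (r l), hy j, smul_comm a (r j), hy l, smul_comm])
    refine ⟨z, ?_⟩
    rw [← sub_eq_zero]
    apply h1
    intro j
    obtain ⟨c, hc⟩ := hz j
    refine ⟨c + 1, ?_⟩
    have : r j ^ (c + 1) • (a • z - n) = a • (r j ^ c • (r j • z - y j)) := by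
      rw [pow_succ, mul_smul, smul_sub (r j), ← hy j, smul_comm (r j) a z, ← smul_sub, smul_comm]
    rw [this, hc, smul_zero]
  haveI : Module.Finite A (N ⧸ (a • (⊤ : Submodule A N))) := Module.Finite.quotient A _
  obtain ⟨b, hbm, hbreg⟩ := exists_regular_of_no_socle hsoc2
  have hreg : IsWeaklyRegular N [a, b] := by
    rw [isWeaklyRegular_cons_iff]
    refine ⟨hareg, ?_⟩
    rw [isWeaklyRegular_cons_iff]
    exact ⟨hbreg, IsWeaklyRegular.nil A _⟩
  have := Groth.Agent.H26.DepthLib.length_le_idealDepth (IsLocalRing.maximalIdeal A) hreg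
    (by
      intro x hx
      simp only [List.mem_cons, List.not_mem_nil, or_false] at hx
      rcases hx with rfl | rfl
      · exact ham
      · exact hbm)
  exact this

end Socle

section Transfer

variable {R : Type u} [CommRing R] (T : Submonoid R) {M : Type v} {N : Type w}
  [AddCommGroup M] [Module R M] [AddCommGroup N] [Module R N] (g : M →ₗ[R] N)
  [IsLocalizedModule T g]

theorem prod_erase_smul {ι : Type*} [Fintype ι] [DecidableEq ι] (t : ι → R) (j : ι)
    {X : Type*} [AddCommGroup X] [Module R X] (x : X) :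
    (∏ i, t i) • x = (∏ i ∈ Finset.univ.erase j, t i) • (t j • x) := by
  rw [← mul_smul, Finset.prod_erase_mul _ _ (Finset.mem_univ j)]

include T g in
theorem cover_localized {k : ℕ} (ρ : Fin k → R)
    (h1 : ∀ μ : M, (∀ j, ∃ e : ℕ, ρ j ^ e • μ = 0) → μ = 0)
    (h2 : ∀ ν : Fin k → M, (∀ j l, ρ l • ν j = ρ j • ν l) →
      ∃ μ : M, ∀ j, ∃ c : ℕ, ρ j ^ c • (ρ j • μ - ν j) = 0) :
    (∀ n : N, (∀ j, ∃ e : ℕ, ρ j ^ e • n = 0) → n = 0) ∧
    (∀ y : Fin k → N, (∀ j l, ρ l • y j = ρ j • y l) →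
      ∃ n : N, ∀ j, ∃ c : ℕ, ρ j ^ c • (ρ j • n - y j) = 0) := by
  classical
  have hinj : ∀ (τ : R), τ ∈ T → ∀ n : N, τ • n = 0 → n = 0 := by
    intro τ hτ n hn
    apply IsLocalizedModule.smul_injective g ⟨τ, hτ⟩
    change (⟨τ, hτ⟩ : T) • n = (⟨τ, hτ⟩ : T) • (0 : N)
    rw [smul_zero]
    exact hn
  have hker : ∀ μ : M, g μ = 0 → ∃ τ ∈ T, τ • μ = 0 := by
    intro μ hμ
    have : g μ = g 0 := by rw [hμ, map_zero]
    obtain ⟨c, hc⟩ := IsLocalizedModule.exists_of_eq (S := T) this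
    rw [smul_zero] at hc
    exact ⟨c.1, c.2, hc⟩
  constructor
  · intro n hn
    obtain ⟨⟨μ, t⟩, ht⟩ := IsLocalizedModule.surj T g n
    simp only at ht
    have hj : ∀ j, ∃ e : ℕ, ∃ τ ∈ T, τ • (ρ j ^ e • μ) = 0 := by
      intro j
      obtain ⟨e, he⟩ := hn j
      refine ⟨e, hker _ ?_⟩
      rw [map_smul, ← ht, smul_comm, he, smul_zero]
    choose e τ hτT hτ using hj
    have hprod : (∏ j, τ j) ∈ T := prod_mem (fun j _ => hτT j)
    have hzero : (∏ j, τ j) • μ = 0 := by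
      apply h1
      intro j
      refine ⟨e j, ?_⟩
      rw [smul_comm, prod_erase_smul τ j, hτ j, smul_zero]
    have hg : g μ = 0 := by
      apply hinj _ hprod
      rw [← map_smul, hzero, map_zero]
    apply hinj t.1 t.2
    change t • n = 0
    rw [ht, hg]
  · intro y hy
    have hrep : ∀ j, ∃ μ : M, ∃ t ∈ T, t • y j = g μ := by
      intro j
      obtain ⟨⟨μ, t⟩, ht⟩ := IsLocalizedModule.surj T g (y j)
      exact ⟨μ, t.1, t.2, ht⟩
    choose μ₀ t₀ ht₀T ht₀ using hrep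
    set T0 : R := ∏ j, t₀ j with hT0
    have hT0T : T0 ∈ T := prod_mem (fun j _ => ht₀T j)
    obtain ⟨μ', hμ'g⟩ : ∃ μ' : Fin k → M, ∀ j, g (μ' j) = T0 • y j := by
      refine ⟨fun j => (∏ i ∈ Finset.univ.erase j, t₀ i) • μ₀ j, fun j => ?_⟩
      rw [map_smul, ← ht₀ j, hT0, prod_erase_smul t₀ j]
    have hcomp : ∀ p : Fin k × Fin k, ∃ τ ∈ T,
        τ • (ρ p.2 • μ' p.1 - ρ p.1 • μ' p.2) = 0 := by
      intro p
      apply hker
      rw [map_sub, map_smul, map_smul, hμ'g, hμ'g, smul_comm (ρ p.2), smul_comm (ρ p.1),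
        hy p.1 p.2, sub_self]
    choose τ hτT hτ using hcomp
    set τ0 : R := ∏ p, τ p with hτ0
    have hτ0T : τ0 ∈ T := prod_mem (fun p _ => hτT p)
    obtain ⟨ν, hν⟩ : ∃ ν : Fin k → M, ∀ j, ν j = τ0 • μ' j := ⟨fun j => τ0 • μ' j, fun _ => rfl⟩
    obtain ⟨μ, hμ⟩ := h2 ν (by
      intro j l
      rw [hν, hν, ← sub_eq_zero]
      rw [smul_comm (ρ l), smul_comm (ρ j), ← smul_sub, hτ0, prod_erase_smul τ (j, l)]
      have := hτ (j, l)
      simp only at this
      rw [this, smul_zero])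
    have hs : τ0 * T0 ∈ T := mul_mem hτ0T hT0T
    refine ⟨IsLocalizedModule.mk' g μ ⟨τ0 * T0, hs⟩, ?_⟩
    have hn : g μ = (τ0 * T0) • IsLocalizedModule.mk' g μ ⟨τ0 * T0, hs⟩ :=
      (IsLocalizedModule.mk'_eq_iff (f := g) (s := (⟨τ0 * T0, hs⟩ : T))).mp rfl
    intro j
    obtain ⟨c, hc⟩ := hμ j
    refine ⟨c, ?_⟩
    apply hinj _ hs
    have hνg : g (ν j) = (τ0 * T0) • y j := by
      rw [hν, map_smul, hμ'g, mul_smul]
    rw [smul_comm, smul_sub, smul_comm _ (ρ j), ← hn, ← hνg, ← map_smul, ← map_sub, ← map_smul,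
      hc, map_zero]

end Transfer

end Groth.Agent.H81.PushDepth
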