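import Groth.Agent.H81.PushDepth2
import Groth.Agent.H8.QCohPush
import Groth.Agent.H8.FlatAffine

/-!
# Depth of the stalk of a direct image, part (6) (helper81)
-/

set_option autoImplicit false
set_option linter.style.haveILetI false
universe u

open CategoryTheory CategoryTheory.Limits AlgebraicGeometry TopologicalSpace Opposite
open Groth.Agent.H8

namespace Groth.Agent.H81.PushDepth

theorem flat_pi {ι : Type*} [Finite ι] {R : Type*} [CommRing R] (M : ι → Type*)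
    [∀ i, AddCommGroup (M i)] [∀ i, Module R (M i)] [∀ i, Module.Flat R (M i)] :
    Module.Flat R (∀ i, M i) := by
  classical
  cases nonempty_fintype ι
  exact Module.Flat.of_linearEquiv (DFinsupp.linearEquivFunOnFintype (R := R) (M := M)).symm

variable {X : Scheme.{u}} (F : X.Modules)

/-- module structure on sections over `U ≤ W` through `φ : R → Γ(X, W)`. -/
@[reducible] noncomputable def modOver {W : X.Opens} {R : Type u} [CommRing R]
    (φ : R →+* Γ(X, W)) {U : X.Opens} (hUW : U ≤ W) : Module R Γ(F, U) :=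
  Module.compHom Γ(F, U) ((X.presheaf.map (homOfLE hUW).op).hom.comp φ)

set_option maxHeartbeats 800000 in
theorem exists_leftExact_flat {W : X.Opens}
    (hW : IsCompact (W : Set X)) (hW' : IsQuasiSeparated (W : Set X))
    {R : Type u} [CommRing R] (φ : R →+* Γ(X, W))
    (hflat : ∀ (U : X.Opens) (_ : IsAffineOpen U) (hUW : U ≤ W),
       @Module.Flat R Γ(F, U) _ _ (modOver F φ hUW)) :
    ∃ (P Q : Type u) (_ : AddCommGroup P) (_ : AddCommGroup Q) (_ : Module R P) (_ : Module R Q)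
      (_ : Module.Flat R P) (_ : Module.Flat R Q) (ι : Γ(F, W) →+ P) (d : P →ₗ[R] Q),
      (∀ (r : R) (m : Γ(F, W)), ι (φ r • m) = r • ι m) ∧ Function.Injective ι ∧
        (∀ y, d y = 0 ↔ ∃ m, ι m = y) := by
  classical
  obtain ⟨𝒮, hfin, h𝒮⟩ :=
    (isCompact_and_isOpen_iff_finite_and_eq_biUnion_affineOpens (U := (W : Set X))).mp ⟨hW, W.2⟩
  have hle : ∀ U ∈ 𝒮, (U : X.Opens) ≤ W := fun U hU x hx => by
    change x ∈ (W : Set X)
    rw [h𝒮]
    exact Set.mem_biUnion hU hx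
  haveI := hfin.to_subtype
  have hpair : ∀ p : 𝒮 × 𝒮, ∃ 𝒯 : Set X.affineOpens, 𝒯.Finite ∧
      (((p.1.1 : X.Opens) ⊓ (p.2.1 : X.Opens) : X.Opens) : Set X) = ⋃ T ∈ 𝒯, (T : Set X) := by
    intro p
    exact (isCompact_and_isOpen_iff_finite_and_eq_biUnion_affineOpens).mp
      ⟨hW' _ _ (hle p.1.1 p.1.2) p.1.1.1.2 p.1.1.2.isCompact (hle p.2.1 p.2.2) p.2.1.1.2
        p.2.1.2.isCompact, ((p.1.1 : X.Opens) ⊓ (p.2.1 : X.Opens)).2⟩
  choose 𝒯 h𝒯fin h𝒯 using hpair
  have hTle : ∀ (p : 𝒮 × 𝒮) (T : X.affineOpens), T ∈ 𝒯 p →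
      (T : X.Opens) ≤ (p.1.1 : X.Opens) ⊓ (p.2.1 : X.Opens) := by
    intro p T hT x hx
    change x ∈ (((p.1.1 : X.Opens) ⊓ (p.2.1 : X.Opens) : X.Opens) : Set X)
    rw [h𝒯 p]
    exact Set.mem_biUnion hT hx
  haveI : ∀ p, Finite ↥(𝒯 p) := fun p => (h𝒯fin p).to_subtype
  have hK1 : ∀ k : (Σ p : 𝒮 × 𝒮, ↥(𝒯 p)), ((k.2.1 : X.affineOpens) : X.Opens) ≤ (k.1.1.1 : X.Opens) :=
    fun k => (hTle k.1 k.2.1 k.2.2).trans inf_le_left
  have hK2 : ∀ k : (Σ p : 𝒮 × 𝒮, ↥(𝒯 p)), ((k.2.1 : X.affineOpens) : X.Opens) ≤ (k.1.2.1 : X.Opens) :=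
    fun k => (hTle k.1 k.2.1 k.2.2).trans inf_le_right
  letI mP : ∀ i : 𝒮, Module R Γ(F, (i.1 : X.Opens)) := fun i => modOver F φ (hle i.1 i.2)
  letI mQ : ∀ k : (Σ p : 𝒮 × 𝒮, ↥(𝒯 p)), Module R Γ(F, ((k.2.1 : X.affineOpens) : X.Opens)) :=
    fun k => modOver F φ ((hK1 k).trans (hle k.1.1.1 k.1.1.2))
  haveI fP : ∀ i : 𝒮, Module.Flat R Γ(F, (i.1 : X.Opens)) := fun i => hflat _ i.1.2 _
  haveI fQ : ∀ k : (Σ p : 𝒮 × 𝒮, ↥(𝒯 p)),
      Module.Flat R Γ(F, ((k.2.1 : X.affineOpens) : X.Opens)) := fun k => hflat _ k.2.1.2 _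
  let ι : Γ(F, W) →+ (∀ i : 𝒮, Γ(F, (i.1 : X.Opens))) :=
    { toFun := fun m i => F.presheaf.map (homOfLE (hle i.1 i.2)).op m
      map_zero' := by funext i; exact map_zero _
      map_add' := fun a b => by funext i; exact map_add _ a b }
  let d : (∀ i : 𝒮, Γ(F, (i.1 : X.Opens))) →ₗ[R]
      (∀ k : (Σ p : 𝒮 × 𝒮, ↥(𝒯 p)), Γ(F, ((k.2.1 : X.affineOpens) : X.Opens))) :=
    { toFun := fun y k => F.presheaf.map (homOfLE (hK1 k)).op (y k.1.1) -
        F.presheaf.map (homOfLE (hK2 k)).op (y k.1.2)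
      map_add' := fun a b => by
        funext k
        simp only [Pi.add_apply, map_add]
        abel
      map_smul' := fun r y => by
        funext k
        simp only [Pi.smul_apply, RingHom.id_apply]
        change F.presheaf.map (homOfLE (hK1 k)).op
            ((X.presheaf.map (homOfLE (hle k.1.1.1 k.1.1.2)).op (φ r)) • y k.1.1) -
          F.presheaf.map (homOfLE (hK2 k)).op
            ((X.presheaf.map (homOfLE (hle k.1.2.1 k.1.2.2)).op (φ r)) • y k.1.2) =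
          (X.presheaf.map (homOfLE ((hK1 k).trans (hle k.1.1.1 k.1.1.2))).op (φ r)) •
            (F.presheaf.map (homOfLE (hK1 k)).op (y k.1.1) -
              F.presheaf.map (homOfLE (hK2 k)).op (y k.1.2))
        rw [res_smul, res_smul, ringRes_res, ringRes_res, smul_sub] }
  refine ⟨(∀ i : 𝒮, Γ(F, (i.1 : X.Opens))),
    (∀ k : (Σ p : 𝒮 × 𝒮, ↥(𝒯 p)), Γ(F, ((k.2.1 : X.affineOpens) : X.Opens))),
    inferInstance, inferInstance, inferInstance, inferInstance, flat_pi _, flat_pi _, ι, d,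
    ?_, ?_, ?_⟩
  · intro r m
    funext i
    change F.presheaf.map (homOfLE (hle i.1 i.2)).op (φ r • m) =
      (X.presheaf.map (homOfLE (hle i.1 i.2)).op (φ r)) •
        F.presheaf.map (homOfLE (hle i.1 i.2)).op m
    rw [res_smul]
  · intro m m' hmm
    refine section_eq_of_cover F m m' (fun x hxW => ?_)
    obtain ⟨U, hU𝒮, hxU⟩ : ∃ U ∈ 𝒮, x ∈ (U : X.Opens) := by
      have hx' : x ∈ (W : Set X) := hxW
      rw [h𝒮] at hx'
      simpa using hx'
    exact ⟨U, hle U hU𝒮, hxU, congrFun hmm ⟨U, hU𝒮⟩⟩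
  · intro y
    constructor
    · intro hy
      have hyk : ∀ k : (Σ p : 𝒮 × 𝒮, ↥(𝒯 p)), F.presheaf.map (homOfLE (hK1 k)).op (y k.1.1) =
          F.presheaf.map (homOfLE (hK2 k)).op (y k.1.2) := fun k =>
        sub_eq_zero.mp (congrFun hy k)
      have hcompat : TopCat.Presheaf.IsCompatible F.presheaf (fun i : 𝒮 => (i.1 : X.Opens)) y := by
        intro i j
        change F.presheaf.map
            (homOfLE (inf_le_left : (i.1 : X.Opens) ⊓ (j.1 : X.Opens) ≤ i.1)).op (y i) =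
          F.presheaf.map (homOfLE (inf_le_right : (i.1 : X.Opens) ⊓ (j.1 : X.Opens) ≤ j.1)).op
            (y j)
        refine section_eq_of_cover F _ _ (fun x hx => ?_)
        obtain ⟨T, hT, hxT⟩ : ∃ T ∈ 𝒯 (i, j), x ∈ (T : X.Opens) := by
          have hx' : x ∈ (((i.1 : X.Opens) ⊓ (j.1 : X.Opens) : X.Opens) : Set X) := hx
          rw [h𝒯 (i, j)] at hx'
          simpa using hx'
        refine ⟨T, hTle (i, j) T hT, hxT, ?_⟩
        rw [res_res, res_res]
        exact hyk ⟨(i, j), ⟨T, hT⟩⟩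
      have hcover : W ≤ iSup (fun i : 𝒮 => (i.1 : X.Opens)) := by
        intro x hxW
        have hx' : x ∈ (W : Set X) := hxW
        rw [h𝒮] at hx'
        obtain ⟨U, hU𝒮, hxU⟩ : ∃ U ∈ 𝒮, x ∈ (U : X.Opens) := by simpa using hx'
        exact Opens.mem_iSup.mpr ⟨⟨U, hU𝒮⟩, hxU⟩
      obtain ⟨m, hm, -⟩ := TopCat.Sheaf.existsUnique_gluing' (F := ⟨F.presheaf, F.isSheaf⟩)
        (fun i : 𝒮 => (i.1 : X.Opens)) W (fun i => homOfLE (hle i.1 i.2)) hcover y hcompat
      exact ⟨m, funext fun i => hm i⟩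
    · rintro ⟨m, rfl⟩
      funext k
      change F.presheaf.map (homOfLE (hK1 k)).op
          (F.presheaf.map (homOfLE (hle k.1.1.1 k.1.1.2)).op m) -
        F.presheaf.map (homOfLE (hK2 k)).op
          (F.presheaf.map (homOfLE (hle k.1.2.1 k.1.2.2)).op m) = 0
      rw [res_res, res_res, sub_self]

end Groth.Agent.H81.PushDepth
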