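import Groth.Agent.H81.PushDepth3

/-!
# Depth of the stalk of a direct image, part (6): assembly (helper81)
-/

set_option autoImplicit false
set_option linter.style.haveILetI false
universe u

open CategoryTheory CategoryTheory.Limits AlgebraicGeometry TopologicalSpace Opposite
open Groth.Agent.H8

namespace Groth.Agent.H81.PushDepth

variable {X S : Scheme.{u}} (f : X ⟶ S) [QuasiCompact f] [QuasiSeparated f] (F : X.Modules)
  [F.IsQuasicoherent]

set_option maxHeartbeats 800000 in
theorem part6 (s : S) (hflat : FlatMod.IsFlatOver f F) :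
    min (2 : ℕ∞) (LocCoh.depth (S.presheaf.stalk s) (S.presheaf.stalk s)) ≤
      LocCoh.depth (S.presheaf.stalk s)
        (((Scheme.Modules.pushforward f).obj F).presheaf.stalk s) := by
  obtain ⟨V, hV, hsV, -⟩ := exists_isAffineOpen_mem_and_subset (x := s) (U := ⊤) trivial
  haveI hG : ((Scheme.Modules.pushforward f).obj F).IsQuasicoherent :=
    isQuasicoherent_pushforward f F
  have hW : IsCompact ((f ⁻¹ᵁ V : X.Opens) : Set X) :=
    QuasiCompact.isCompact_preimage (f := f) V V.2 hV.isCompact
  have hW' : IsQuasiSeparated ((f ⁻¹ᵁ V : X.Opens) : Set X) :=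
    f.isQuasiSeparated_preimage hV.isQuasiSeparated
  have hfl : ∀ (U : X.Opens) (_ : IsAffineOpen U) (hUW : U ≤ f ⁻¹ᵁ V),
      @Module.Flat Γ(S, V) Γ(F, U) _ _ (modOver F (f.app V).hom hUW) := by
    intro U hU hUW
    exact flat_sections_of_isFlatOverAt f F hU hV hUW (fun x _ => hflat x)
  obtain ⟨P, Q, _, _, _, _, hP, hQ, ι, d, hcompat, hι, hex⟩ :=
    exists_leftExact_flat F hW hW' (f.app V).hom hfl
  letI := S.presheaf.algebra_section_stalk ⟨s, hsV⟩
  haveI := hV.isLocalization_stalk ⟨s, hsV⟩
  letI mN := moduleSectionStalk ((Scheme.Modules.pushforward f).obj F) s hsV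
  haveI := isScalarTower_sectionStalk ((Scheme.Modules.pushforward f).obj F) s hsV
  haveI := isLocalizedModule_germₗ ((Scheme.Modules.pushforward f).obj F) hV s hsV
  let ι' : Γ((Scheme.Modules.pushforward f).obj F, V) →ₗ[Γ(S, V)] P :=
    { toFun := fun m => ι (show Γ(F, f ⁻¹ᵁ V) from m)
      map_add' := fun a b => map_add ι _ _
      map_smul' := fun r m => hcompat r (show Γ(F, f ⁻¹ᵁ V) from m) }
  have hι' : Function.Injective ι' := fun a b h => hι h
  have hex' : Function.Exact ι' d := by
    intro y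
    rw [hex y]
    rfl
  exact min_two_depth_le_of_localized_leftExact
    (hV.primeIdealOf ⟨s, hsV⟩).asIdeal.primeCompl ι' d hι' hex'
    (germₗ ((Scheme.Modules.pushforward f).obj F) s hsV)

end Groth.Agent.H81.PushDepth
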