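import Groth.Agent.H81.PushDepth2
import Groth.Agent.H8.QCohPush
import Groth.Agent.H8.QCohStalk

/-!
# Depth of the stalk of a direct image, part (3): sections over a covering by basic opens
(helper81)
-/

set_option autoImplicit false
set_option linter.style.haveILetI false
universe u

open CategoryTheory CategoryTheory.Limits AlgebraicGeometry TopologicalSpace Opposite
open Groth.Agent.H8

namespace Groth.Agent.H81.PushDepth

section Cover

variable {S : Scheme.{u}} (G : S.Modules) [G.IsQuasicoherent] {V : S.Opens} (hV : IsAffineOpen V)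

lemma isUnit_res_basicOpen' (a : Γ(S, V)) :
    IsUnit (S.presheaf.map (homOfLE (S.basicOpen_le a)).op a) :=
  S.toRingedSpace.isUnit_res_basicOpen a

include hV in
set_option maxHeartbeats 800000 in
theorem cover_sections {k : ℕ} (ρ : Fin k → Γ(S, V))
    (hbij : Function.Bijective
      (G.presheaf.map (homOfLE (iSup_le fun j => S.basicOpen_le (ρ j) :
        (⨆ j, S.basicOpen (ρ j)) ≤ V)).op)) :
    (∀ μ : Γ(G, V), (∀ j, ∃ e : ℕ, ρ j ^ e • μ = 0) → μ = 0) ∧
    (∀ ν : Fin k → Γ(G, V), (∀ j l, ρ l • ν j = ρ j • ν l) →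
      ∃ μ : Γ(G, V), ∀ j, ∃ c : ℕ, ρ j ^ c • (ρ j • μ - ν j) = 0) := by
  have hV0 : (⨆ j, S.basicOpen (ρ j)) ≤ V := iSup_le fun j => S.basicOpen_le (ρ j)
  have hD : ∀ j, S.basicOpen (ρ j) ≤ ⨆ j, S.basicOpen (ρ j) := fun j =>
    le_iSup (fun j => S.basicOpen (ρ j)) j
  constructor
  · intro μ hμ
    apply hbij.1
    rw [map_zero]
    refine section_eq_of_cover G _ 0 (fun x hx => ?_)
    obtain ⟨j, hxj⟩ := Opens.mem_iSup.mp hx
    refine ⟨S.basicOpen (ρ j), hD j, hxj, ?_⟩
    rw [res_res, map_zero]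
    obtain ⟨e, he⟩ := hμ j
    have h1 := congrArg (G.presheaf.map (homOfLE (S.basicOpen_le (ρ j))).op) he
    rw [res_smul, map_pow, map_zero] at h1
    exact (((isUnit_res_basicOpen' (ρ j)).pow e).smul_eq_zero).mp h1
  · intro ν hν
    have hw : ∀ j, ∃ w : Γ(S, S.basicOpen (ρ j)),
        w * S.presheaf.map (homOfLE (S.basicOpen_le (ρ j))).op (ρ j) = 1 :=
      fun j => (isUnit_res_basicOpen' (ρ j)).exists_left_inv
    choose w hw using hw
    obtain ⟨σ, hσ⟩ : ∃ σ : ∀ j, Γ(G, S.basicOpen (ρ j)), ∀ j,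
        S.presheaf.map (homOfLE (S.basicOpen_le (ρ j))).op (ρ j) • σ j =
          G.presheaf.map (homOfLE (S.basicOpen_le (ρ j))).op (ν j) := by
      refine ⟨fun j => w j • G.presheaf.map (homOfLE (S.basicOpen_le (ρ j))).op (ν j), fun j => ?_⟩
      rw [← mul_smul, mul_comm, hw j, one_smul]
    have hcompat : TopCat.Presheaf.IsCompatible G.presheaf (fun j => S.basicOpen (ρ j)) σ := by
      intro j l
      change G.presheaf.map
          (homOfLE (inf_le_left : S.basicOpen (ρ j) ⊓ S.basicOpen (ρ l) ≤ S.basicOpen (ρ j))).op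
          (σ j) =
        G.presheaf.map
          (homOfLE (inf_le_right : S.basicOpen (ρ j) ⊓ S.basicOpen (ρ l) ≤ S.basicOpen (ρ l))).op
          (σ l)
      have hE1 : S.basicOpen (ρ j) ⊓ S.basicOpen (ρ l) ≤ V := inf_le_left.trans (S.basicOpen_le _)
      have ha : IsUnit (S.presheaf.map (homOfLE hE1).op (ρ j)) := by
        have : IsUnit (S.presheaf.map (homOfLE
            (inf_le_left : S.basicOpen (ρ j) ⊓ S.basicOpen (ρ l) ≤ S.basicOpen (ρ j))).op
            (S.presheaf.map (homOfLE (S.basicOpen_le (ρ j))).op (ρ j))) :=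
          (isUnit_res_basicOpen' (ρ j)).map (S.presheaf.map (homOfLE
            (inf_le_left : S.basicOpen (ρ j) ⊓ S.basicOpen (ρ l) ≤ S.basicOpen (ρ j))).op).hom
        rwa [ringRes_res] at this
      have hb : IsUnit (S.presheaf.map (homOfLE hE1).op (ρ l)) := by
        have : IsUnit (S.presheaf.map (homOfLE
            (inf_le_right : S.basicOpen (ρ j) ⊓ S.basicOpen (ρ l) ≤ S.basicOpen (ρ l))).op
            (S.presheaf.map (homOfLE (S.basicOpen_le (ρ l))).op (ρ l))) :=
          (isUnit_res_basicOpen' (ρ l)).map (S.presheaf.map (homOfLE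
            (inf_le_right : S.basicOpen (ρ j) ⊓ S.basicOpen (ρ l) ≤ S.basicOpen (ρ l))).op).hom
        rwa [ringRes_res] at this
      have h1 : S.presheaf.map (homOfLE hE1).op (ρ j) • G.presheaf.map (homOfLE (inf_le_left :
          S.basicOpen (ρ j) ⊓ S.basicOpen (ρ l) ≤ S.basicOpen (ρ j))).op (σ j) =
          G.presheaf.map (homOfLE hE1).op (ν j) := by
        have := congrArg (G.presheaf.map (homOfLE (inf_le_left :
          S.basicOpen (ρ j) ⊓ S.basicOpen (ρ l) ≤ S.basicOpen (ρ j))).op) (hσ j)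
        rwa [res_smul, ringRes_res, res_res] at this
      have h2 : S.presheaf.map (homOfLE hE1).op (ρ l) • G.presheaf.map (homOfLE (inf_le_right :
          S.basicOpen (ρ j) ⊓ S.basicOpen (ρ l) ≤ S.basicOpen (ρ l))).op (σ l) =
          G.presheaf.map (homOfLE hE1).op (ν l) := by
        have := congrArg (G.presheaf.map (homOfLE (inf_le_right :
          S.basicOpen (ρ j) ⊓ S.basicOpen (ρ l) ≤ S.basicOpen (ρ l))).op) (hσ l)
        rwa [res_smul, ringRes_res, res_res] at this
      have h3 := congrArg (G.presheaf.map (homOfLE hE1).op) (hν j l)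
      rw [res_smul, res_smul, ← h1, ← h2, ← mul_smul, ← mul_smul, mul_comm] at h3
      exact ((ha.mul hb).smul_left_cancel).mp h3
    obtain ⟨σ0, hσ0, -⟩ := TopCat.Sheaf.existsUnique_gluing' (F := ⟨G.presheaf, G.isSheaf⟩)
      (fun j => S.basicOpen (ρ j)) (⨆ j, S.basicOpen (ρ j)) (fun j => homOfLE (hD j)) le_rfl σ
      hcompat
    obtain ⟨μ, hμ⟩ := hbij.2 σ0
    refine ⟨μ, fun j => ?_⟩
    refine exists_smul_eq_zero hV G (ρ j) (ρ j • μ - ν j) ?_
    have h4 : G.presheaf.map (homOfLE (S.basicOpen_le (ρ j))).op μ = σ j := by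
      rw [← res_res G (hD j) hV0, hμ]
      exact hσ0 j
    rw [map_sub, res_smul, h4, hσ j, sub_self]

end Cover

end Groth.Agent.H81.PushDepth
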