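import Groth.Agent.H81.PushDepth5

/-!
# Depth of the stalk of a direct image, part (3): shrinking the base and assembly (helper81)
-/

set_option autoImplicit false
set_option linter.style.haveILetI false
universe u

open CategoryTheory CategoryTheory.Limits AlgebraicGeometry TopologicalSpace Opposite
open Groth.Agent.H8

namespace Groth.Agent.H81.PushDepth

variable {X S : Scheme.{u}} (f : X ⟶ S)

set_option maxHeartbeats 1000000 in
theorem exists_basicOpen_preimage_le [QuasiCompact f]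
    {V : S.Opens} (hV : IsAffineOpen V) (s : S) (hsV : s ∈ V)
    (hs : s ∉ Set.range (fun x => f x))
    {k : ℕ} (ρ : Fin k → Γ(S, V))
    (hρ : Ideal.span (Set.range fun j => S.presheaf.germ V s hsV (ρ j)) =
      IsLocalRing.maximalIdeal (S.presheaf.stalk s)) :
    ∃ t : Γ(S, V), s ∈ S.basicOpen t ∧
      f ⁻¹ᵁ (S.basicOpen t) ≤ f ⁻¹ᵁ (⨆ j, S.basicOpen (ρ j)) := by
  classical
  letI := S.presheaf.algebra_section_stalk ⟨s, hsV⟩
  haveI := hV.isLocalization_stalk ⟨s, hsV⟩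
  have hW : IsCompact ((f ⁻¹ᵁ V : X.Opens) : Set X) :=
    QuasiCompact.isCompact_preimage (f := f) V V.2 hV.isCompact
  obtain ⟨𝒮, hfin, h𝒮⟩ := (isCompact_and_isOpen_iff_finite_and_eq_biUnion_affineOpens
    (U := ((f ⁻¹ᵁ V : X.Opens) : Set X))).mp ⟨hW, (f ⁻¹ᵁ V).2⟩
  have hle : ∀ U ∈ 𝒮, (U : X.Opens) ≤ f ⁻¹ᵁ V := fun U hU x hx => by
    change x ∈ ((f ⁻¹ᵁ V : X.Opens) : Set X)
    rw [h𝒮]
    exact Set.mem_biUnion hU hx
  haveI := hfin.fintype
  have hcomapU : ∀ (U : 𝒮) (x : X) (hxU : x ∈ (U.1 : X.Opens)),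
      PrimeSpectrum.comap (f.appLE V U.1.1 (hle U.1 U.2)).hom (U.1.2.primeIdealOf ⟨x, hxU⟩) =
        hV.primeIdealOf ⟨f x, hle U.1 U.2 hxU⟩ := fun U x hxU =>
    IsAffineOpen.comap_primeIdealOf_appLE V hV U.1.1 U.1.2 (hle U.1 U.2) hxU
  have key : ∀ U : 𝒮, ∃ t : Γ(S, V), t ∈ (hV.primeIdealOf ⟨s, hsV⟩).asIdeal.primeCompl ∧
      (f.appLE V U.1.1 (hle U.1 U.2)).hom t ∈
        Ideal.span (Set.range fun j => (f.appLE V U.1.1 (hle U.1 U.2)).hom (ρ j)) := by
    intro U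
    by_contra hcon
    push Not at hcon
    have hdisj : Disjoint
        ((Ideal.span (Set.range fun j => (f.appLE V U.1.1 (hle U.1 U.2)).hom (ρ j)) :
          Ideal Γ(X, U.1.1)) : Set Γ(X, U.1.1))
        (((hV.primeIdealOf ⟨s, hsV⟩).asIdeal.primeCompl.map
          (f.appLE V U.1.1 (hle U.1 U.2)).hom : Submonoid Γ(X, U.1.1)) : Set Γ(X, U.1.1)) := by
      rw [Set.disjoint_left]
      rintro b hbJ ⟨t, ht, rfl⟩
      exact hcon t ht hbJ
    obtain ⟨Q, hQprime, hJQ, hQdisj⟩ := Ideal.exists_le_prime_disjoint _ _ hdisj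
    let y : PrimeSpectrum Γ(X, U.1.1) := ⟨Q, hQprime⟩
    have hxU : U.1.2.fromSpec y ∈ (U.1.1 : X.Opens) := by
      rw [← SetLike.mem_coe, ← U.1.2.range_fromSpec]
      exact ⟨y, rfl⟩
    have hprime : U.1.2.primeIdealOf ⟨U.1.2.fromSpec y, hxU⟩ = y := by
      apply U.1.2.fromSpec.isOpenEmbedding.injective
      rw [U.1.2.fromSpec_primeIdealOf]
    have hcomap := hcomapU U (U.1.2.fromSpec y) hxU
    rw [hprime] at hcomap
    apply hs
    refine ⟨U.1.2.fromSpec y, ?_⟩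
    have hq : hV.primeIdealOf ⟨f (U.1.2.fromSpec y), hle U.1 U.2 hxU⟩ =
        hV.primeIdealOf ⟨s, hsV⟩ := by
      rw [← hcomap]
      apply PrimeSpectrum.ext
      apply le_antisymm
      · intro a ha
        by_contra hap
        exact Set.disjoint_left.mp hQdisj ha ⟨a, hap, rfl⟩
      · intro a ha
        have h1 : algebraMap Γ(S, V) (S.presheaf.stalk s) a ∈
            IsLocalRing.maximalIdeal (S.presheaf.stalk s) :=
          (IsLocalization.AtPrime.to_map_mem_maximal_iff (S.presheaf.stalk s)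
            (hV.primeIdealOf ⟨s, hsV⟩).asIdeal a).mpr ha
        rw [← hρ] at h1
        have h2 : Ideal.span (Set.range fun j => S.presheaf.germ V s hsV (ρ j)) =
            (Ideal.span (Set.range ρ)).map (algebraMap Γ(S, V) (S.presheaf.stalk s)) := by
          rw [Ideal.map_span, ← Set.range_comp]
          rfl
        rw [h2, IsLocalization.algebraMap_mem_map_algebraMap_iff
          (hV.primeIdealOf ⟨s, hsV⟩).asIdeal.primeCompl] at h1
        obtain ⟨m', hm', hma⟩ := h1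
        have h3 : Ideal.span (Set.range ρ) ≤
            (PrimeSpectrum.comap (f.appLE V U.1.1 (hle U.1 U.2)).hom y).asIdeal := by
          rw [Ideal.span_le]
          rintro _ ⟨j, rfl⟩
          exact hJQ (Ideal.subset_span ⟨j, rfl⟩)
        have h4 := h3 hma
        rcases (PrimeSpectrum.comap (f.appLE V U.1.1 (hle U.1 U.2)).hom y).isPrime.mem_or_mem h4
          with h5 | h5
        · exfalso
          exact Set.disjoint_left.mp hQdisj h5 ⟨m', hm', rfl⟩
        · exact h5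
    have := congrArg hV.fromSpec hq
    rw [hV.fromSpec_primeIdealOf, hV.fromSpec_primeIdealOf] at this
    exact this
  choose t ht hmem using key
  have hT : (∏ U : 𝒮, t U) ∈ (hV.primeIdealOf ⟨s, hsV⟩).asIdeal.primeCompl :=
    prod_mem (fun U _ => ht U)
  refine ⟨∏ U : 𝒮, t U, (mem_basicOpen_iff_notMem_primeIdealOf hV s hsV _).mpr hT, ?_⟩
  intro x hx
  have hfx : f x ∈ S.basicOpen (∏ U : 𝒮, t U) := hx
  have hfxV : f x ∈ V := S.basicOpen_le _ hfx
  obtain ⟨U, hU𝒮, hxU⟩ : ∃ U ∈ 𝒮, x ∈ (U : X.Opens) := by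
    have hx' : x ∈ ((f ⁻¹ᵁ V : X.Opens) : Set X) := hfxV
    rw [h𝒮] at hx'
    simpa using hx'
  by_contra hcon
  have hcon' : ∀ j, f x ∉ S.basicOpen (ρ j) := by
    intro j hj
    exact hcon (Opens.mem_iSup.mpr ⟨j, hj⟩)
  have hρq : ∀ j, ρ j ∈ (hV.primeIdealOf ⟨f x, hfxV⟩).asIdeal := by
    intro j
    by_contra hj
    exact hcon' j ((mem_basicOpen_iff_notMem_primeIdealOf hV (f x) hfxV (ρ j)).mpr hj)
  have hcomap := hcomapU ⟨U, hU𝒮⟩ x hxU
  have hJ : Ideal.span (Set.range fun j => (f.appLE V U (hle U hU𝒮)).hom (ρ j)) ≤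
      (U.2.primeIdealOf ⟨x, hxU⟩).asIdeal := by
    rw [Ideal.span_le]
    rintro _ ⟨j, rfl⟩
    have := hρq j
    rw [← hcomap] at this
    exact this
  have h1 : t ⟨U, hU𝒮⟩ ∈ (hV.primeIdealOf ⟨f x, hfxV⟩).asIdeal := by
    rw [← hcomap]
    exact hJ (hmem ⟨U, hU𝒮⟩)
  have h2 : (∏ U : 𝒮, t U) ∈ (hV.primeIdealOf ⟨f x, hfxV⟩).asIdeal := by
    rw [← Finset.prod_erase_mul _ _ (Finset.mem_univ (⟨U, hU𝒮⟩ : 𝒮))]
    exact Ideal.mul_mem_left _ _ h1
  exact (mem_basicOpen_iff_notMem_primeIdealOf hV (f x) hfxV _).mp hfx h2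

end Groth.Agent.H81.PushDepth
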