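import Groth.Agent.H81.PushDepth6

/-!
# Depth of the stalk of a direct image, part (3): assembly (helper81)
-/

set_option autoImplicit false
set_option linter.style.haveILetI false
universe u

open CategoryTheory CategoryTheory.Limits AlgebraicGeometry TopologicalSpace Opposite
open Groth.Agent.H8

namespace Groth.Agent.H81.PushDepth

variable {X S : Scheme.{u}} (f : X ⟶ S) [QuasiCompact f] [QuasiSeparated f] (F : X.Modules)
  [F.IsQuasicoherent]

set_option maxHeartbeats 1000000 in
theorem part3 (s : S)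
    [Module.Finite (S.presheaf.stalk s)
      (((Scheme.Modules.pushforward f).obj F).presheaf.stalk s)]
    (hs : s ∉ Set.range (fun x => f x)) [IsNoetherianRing (S.presheaf.stalk s)] :
    (2 : ℕ∞) ≤ LocCoh.depth (S.presheaf.stalk s)
      (((Scheme.Modules.pushforward f).obj F).presheaf.stalk s) := by
  classical
  obtain ⟨V₀, hV₀, hsV₀, -⟩ := exists_isAffineOpen_mem_and_subset (x := s) (U := ⊤) trivial
  haveI hG : ((Scheme.Modules.pushforward f).obj F).IsQuasicoherent :=
    isQuasicoherent_pushforward f F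
  -- generators of the maximal ideal
  obtain ⟨k, a, ha⟩ := (Submodule.fg_iff_exists_fin_generating_family).mp
    (IsNoetherian.noetherian (IsLocalRing.maximalIdeal (S.presheaf.stalk s)))
  have ham : ∀ j, a j ∈ IsLocalRing.maximalIdeal (S.presheaf.stalk s) := fun j =>
    ha ▸ Submodule.subset_span ⟨j, rfl⟩
  obtain ⟨ρ₀, hρ₀⟩ : ∃ ρ₀ : Fin k → Γ(S, V₀),
      Ideal.span (Set.range fun j => S.presheaf.germ V₀ s hsV₀ (ρ₀ j)) =
        IsLocalRing.maximalIdeal (S.presheaf.stalk s) := by
    letI := S.presheaf.algebra_section_stalk ⟨s, hsV₀⟩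
    haveI := hV₀.isLocalization_stalk ⟨s, hsV₀⟩
    have hsurj := fun j => IsLocalization.surj
      (hV₀.primeIdealOf ⟨s, hsV₀⟩).asIdeal.primeCompl (a j)
    choose x hx using hsurj
    refine ⟨fun j => (x j).1, ?_⟩
    have hx' : ∀ j, S.presheaf.germ V₀ s hsV₀ (x j).1 =
        a j * algebraMap Γ(S, V₀) (S.presheaf.stalk s) (x j).2 := fun j => (hx j).symm
    apply le_antisymm
    · rw [Ideal.span_le]
      rintro _ ⟨j, rfl⟩
      simp only
      rw [hx' j]
      exact Ideal.mul_mem_right _ _ (ham j)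
    · have : IsLocalRing.maximalIdeal (S.presheaf.stalk s) = Ideal.span (Set.range a) := ha.symm
      rw [this, Ideal.span_le]
      rintro _ ⟨j, rfl⟩
      obtain ⟨w, hw⟩ := (IsLocalization.map_units (S.presheaf.stalk s) (x j).2).exists_right_inv
      have h1 : a j = S.presheaf.germ V₀ s hsV₀ (x j).1 * w := by
        rw [hx' j, mul_assoc, hw, mul_one]
      rw [SetLike.mem_coe, h1]
      exact Ideal.mul_mem_right _ _ (Ideal.subset_span ⟨j, rfl⟩)
  -- shrink the base
  obtain ⟨t, hst, htle⟩ := exists_basicOpen_preimage_le f hV₀ s hsV₀ hs ρ₀ hρ₀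
  have hV : IsAffineOpen (S.basicOpen t) := hV₀.basicOpen t
  obtain ⟨ρ, hρdef⟩ : ∃ ρ : Fin k → Γ(S, S.basicOpen t),
      ∀ j, ρ j = S.presheaf.map (homOfLE (S.basicOpen_le t)).op (ρ₀ j) := ⟨_, fun _ => rfl⟩
  have hgerm : ∀ j, S.presheaf.germ (S.basicOpen t) s hst (ρ j) =
      S.presheaf.germ V₀ s hsV₀ (ρ₀ j) := fun j => by
    rw [hρdef j]
    exact TopCat.Presheaf.germ_res_apply S.presheaf (homOfLE (S.basicOpen_le t)) s hst (ρ₀ j)
  have hρ : Ideal.span (Set.range fun j => S.presheaf.germ (S.basicOpen t) s hst (ρ j)) =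
      IsLocalRing.maximalIdeal (S.presheaf.stalk s) := by
    rw [← hρ₀]
    congr 2
    funext j
    exact hgerm j
  have hV0 : (⨆ j, S.basicOpen (ρ j)) ≤ S.basicOpen t := iSup_le fun j => S.basicOpen_le (ρ j)
  have heq : f ⁻¹ᵁ (⨆ j, S.basicOpen (ρ j)) = f ⁻¹ᵁ (S.basicOpen t) := by
    apply le_antisymm
    · exact (Opens.map f.base).monotone hV0
    · intro x hx
      have hfx : f x ∈ S.basicOpen t := hx
      have h1 : f x ∈ ⨆ j, S.basicOpen (ρ₀ j) := htle hx
      obtain ⟨j, hj⟩ := Opens.mem_iSup.mp h1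
      refine Opens.mem_iSup.mpr ⟨j, ?_⟩
      rw [hρdef j, S.basicOpen_res]
      exact ⟨hfx, hj⟩
  have hbij : Function.Bijective
      (((Scheme.Modules.pushforward f).obj F).presheaf.map (homOfLE hV0).op) := by
    haveI : IsIso (homOfLE heq.le) :=
      ⟨⟨homOfLE heq.ge, Subsingleton.elim _ _, Subsingleton.elim _ _⟩⟩
    exact ConcreteCategory.bijective_of_isIso (F.presheaf.map (homOfLE heq.le).op)
  obtain ⟨h1, h2⟩ := cover_sections ((Scheme.Modules.pushforward f).obj F) hV ρ hbij
  letI := S.presheaf.algebra_section_stalk ⟨s, hst⟩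
  haveI := hV.isLocalization_stalk ⟨s, hst⟩
  letI mN := moduleSectionStalk ((Scheme.Modules.pushforward f).obj F) s hst
  haveI := isScalarTower_sectionStalk ((Scheme.Modules.pushforward f).obj F) s hst
  haveI := isLocalizedModule_germₗ ((Scheme.Modules.pushforward f).obj F) hV s hst
  obtain ⟨H1, H2⟩ := cover_localized (hV.primeIdealOf ⟨s, hst⟩).asIdeal.primeCompl
    (germₗ ((Scheme.Modules.pushforward f).obj F) s hst) ρ h1 h2
  refine two_le_depth_of_cover (fun j => S.presheaf.germ (S.basicOpen t) s hst (ρ j)) hρ ?_ ?_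
  · intro n hn
    apply H1 n
    intro j
    obtain ⟨e, he⟩ := hn j
    refine ⟨e, ?_⟩
    change S.presheaf.germ (S.basicOpen t) s hst (ρ j ^ e) • n = 0
    rw [map_pow]
    exact he
  · intro y hy
    obtain ⟨n, hn⟩ := H2 y (fun j l => hy j l)
    refine ⟨n, fun j => ?_⟩
    obtain ⟨c, hc⟩ := hn j
    refine ⟨c, ?_⟩
    have : S.presheaf.germ (S.basicOpen t) s hst (ρ j ^ c) •
        (S.presheaf.germ (S.basicOpen t) s hst (ρ j) • n - y j) = 0 := hc
    rwa [map_pow] at this

end Groth.Agent.H81.PushDepth
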