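import Groth.Agent.H81.ChainSplit
import Mathlib.LinearAlgebra.Quotient.Basic

/-!
The quotient complex of a degreewise injective chain map, retractions and homotopies.
-/

set_option autoImplicit false

universe v u

open CategoryTheory

namespace Groth.Agent.H81

variable {R : Type u} [Ring R] {A' A : ChainComplex (ModuleCat.{v} R) ℕ} (f : A' ⟶ A)

theorem range_le_comap (i j : ℕ) :
    LinearMap.range (f.f i).hom ≤ (LinearMap.range (f.f j).hom).comap (A.d i j).hom := by
  rintro _ ⟨a, rfl⟩
  exact ⟨(A'.d i j).hom a, comm_apply f i j a⟩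

/-- the quotient complex `A / f(A')` -/
noncomputable def quotCx : ChainComplex (ModuleCat.{v} R) ℕ where
  X q := ModuleCat.of R (A.X q ⧸ LinearMap.range (f.f q).hom)
  d i j := ModuleCat.ofHom ((LinearMap.range (f.f i).hom).mapQ (LinearMap.range (f.f j).hom)
    (A.d i j).hom (range_le_comap f i j))
  shape i j hij := by
    apply ModuleCat.hom_ext
    ext x
    simp [A.shape i j hij]
  d_comp_d' i j k _ _ := by
    apply ModuleCat.hom_ext
    apply LinearMap.ext
    intro x
    induction x using Submodule.Quotient.induction_on with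
    | H x =>
      simp only [ModuleCat.hom_comp, ModuleCat.hom_ofHom, LinearMap.comp_apply,
        Submodule.mapQ_apply, d_comp_d_apply]
      rfl

/-- the projection to the quotient complex -/
noncomputable def quotP : A ⟶ quotCx f where
  f q := ModuleCat.ofHom (LinearMap.range (f.f q).hom).mkQ
  comm' i j _ := by
    apply ModuleCat.hom_ext
    ext x
    rfl

theorem quotP_surjective (q : ℕ) : Function.Surjective ((quotP f).f q).hom :=
  Submodule.mkQ_surjective _

theorem quotP_exact (q : ℕ) : Function.Exact (f.f q).hom ((quotP f).f q).hom := by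
  intro x
  show (LinearMap.range (f.f q).hom).mkQ x = 0 ↔ x ∈ Set.range (f.f q).hom
  rw [Submodule.mkQ_apply, Submodule.Quotient.mk_eq_zero]
  rfl

variable (hf : ∀ q, Function.Injective (f.f q).hom)
  [hq : ∀ q, Module.Projective R ((A.X q) ⧸ LinearMap.range (f.f q).hom)] [QuasiIso f]

include hf in
/-- the splitting data: a chain section of the projection and a contraction of the quotient -/
theorem exists_split_data :
    ∃ (h : quotCx f ⟶ A) (s : ∀ q, (quotCx f).X q →ₗ[R] (quotCx f).X (q + 1)),
      (∀ (q : ℕ) (y : (quotCx f).X q), ((quotP f).f q).hom ((h.f q).hom y) = y) ∧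
      (∀ y : (quotCx f).X 0, ((quotCx f).d 1 0).hom (s 0 y) = y) ∧
      ∀ (q : ℕ) (y : (quotCx f).X (q + 1)),
        ((quotCx f).d (q + 2) (q + 1)).hom (s (q + 1) y) +
          s q (((quotCx f).d (q + 1) q).hom y) = y := by
  have : ∀ q, Module.Projective R ((quotCx f).X q) := hq
  obtain ⟨s, hs0, hs⟩ := exists_contraction (quotCx f)
    (acyclic_quot f (quotP f) hf (quotP_surjective f) (quotP_exact f))
  obtain ⟨h, hh⟩ := exists_chain_section (quotP f) (quotP_surjective f) s hs0 hs
  exact ⟨h, s, hh, hs0, hs⟩

include hf in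
/-- a chain retraction of `f` -/
theorem exists_retraction : ∃ g : A ⟶ A', f ≫ g = 𝟙 A' := by
  obtain ⟨h, s, hh, -, -⟩ := exists_split_data f hf
  have hpf : ∀ q w, ((quotP f).f q).hom ((f.f q).hom w) = 0 :=
    fun q w => (quotP_exact f q _).mpr ⟨w, rfl⟩
  have hex : ∀ q (x : A.X q), ∃ a : A'.X q,
      (f.f q).hom a = x - (h.f q).hom (((quotP f).f q).hom x) := by
    intro q x
    have hker : ((quotP f).f q).hom (x - (h.f q).hom (((quotP f).f q).hom x)) = 0 := by
      rw [map_sub, hh, sub_self]
    exact (quotP_exact f q _).mp hker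
  choose g₀ hg₀ using hex
  have hadd : ∀ q (x y : A.X q), g₀ q (x + y) = g₀ q x + g₀ q y := by
    intro q x y
    apply hf q
    rw [map_add, hg₀, hg₀, hg₀, map_add, map_add]; abel
  have hsmul : ∀ q (r : R) (x : A.X q), g₀ q (r • x) = r • g₀ q x := by
    intro q r x
    apply hf q
    rw [map_smul, hg₀, hg₀, map_smul, map_smul, smul_sub]
  let g : A ⟶ A' :=
    { f := fun q => ModuleCat.ofHom
        { toFun := g₀ q
          map_add' := hadd q
          map_smul' := hsmul q }
      comm' := by
        intro i j _
        apply ModuleCat.hom_ext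
        ext x
        simp only [ModuleCat.hom_comp, ModuleCat.hom_ofHom, LinearMap.comp_apply, LinearMap.coe_mk,
          AddHom.coe_mk]
        apply hf j
        rw [comm_apply, hg₀, hg₀, map_sub, ← comm_apply h, ← comm_apply (quotP f)] }
  refine ⟨g, ?_⟩
  apply HomologicalComplex.hom_ext
  intro q
  apply ModuleCat.hom_ext
  ext a
  simp only [HomologicalComplex.comp_f, ModuleCat.hom_comp, LinearMap.comp_apply,
    HomologicalComplex.id_f, ModuleCat.hom_id, LinearMap.id_apply]
  show g₀ q ((f.f q).hom a) = a
  apply hf q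
  rw [hg₀, hpf, map_zero, sub_zero]

end Groth.Agent.H81
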