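import Groth.Agent.H81.QuotComplex

/-!
Two retractions of a degreewise split injective quasi-isomorphism are homotopic, by a homotopy
vanishing on the subcomplex.
-/

set_option autoImplicit false

universe v u

open CategoryTheory

namespace Groth.Agent.H81

variable {R : Type u} [Ring R] {A' A : ChainComplex (ModuleCat.{v} R) ℕ} (f : A' ⟶ A)

variable (hf : ∀ q, Function.Injective (f.f q).hom)
  [hq : ∀ q, Module.Projective R ((A.X q) ⧸ LinearMap.range (f.f q).hom)] [QuasiIso f]

include hf in
theorem exists_homotopy_of_retractions (g₁ g₂ : A ⟶ A') (h₁ : f ≫ g₁ = 𝟙 A')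
    (h₂ : f ≫ g₂ = 𝟙 A') :
    ∃ H : Homotopy g₁ g₂, ∀ i j : ℕ, f.f i ≫ H.hom i j = 0 := by
  obtain ⟨h, s, hh, hs0, hs⟩ := exists_split_data f hf
  have hpf : ∀ q w, ((quotP f).f q).hom ((f.f q).hom w) = 0 :=
    fun q w => (quotP_exact f q _).mpr ⟨w, rfl⟩
  let δ : ∀ q, A.X q →ₗ[R] A'.X q := fun q => (g₁.f q).hom - (g₂.f q).hom
  have hδ : ∀ q x, δ q x = (g₁.f q).hom x - (g₂.f q).hom x := fun q x => rfl
  have hδf : ∀ q (a : A'.X q), δ q ((f.f q).hom a) = 0 := by
    intro q a
    have e1 : (g₁.f q).hom ((f.f q).hom a) = a := by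
      have := congrArg (fun φ : A' ⟶ A' => (φ.f q).hom a) h₁
      simpa using this
    have e2 : (g₂.f q).hom ((f.f q).hom a) = a := by
      have := congrArg (fun φ : A' ⟶ A' => (φ.f q).hom a) h₂
      simpa using this
    rw [hδ, e1, e2, sub_self]
  have hδh : ∀ q (x : A.X q), δ q x = δ q ((h.f q).hom (((quotP f).f q).hom x)) := by
    intro q x
    have hker : ((quotP f).f q).hom (x - (h.f q).hom (((quotP f).f q).hom x)) = 0 := by
      rw [map_sub, hh, sub_self]
    obtain ⟨a, ha⟩ := (quotP_exact f q _).mp hker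
    have h0 : δ q (x - (h.f q).hom (((quotP f).f q).hom x)) = 0 := by rw [← ha, hδf]
    rw [map_sub, sub_eq_zero] at h0
    exact h0
  have hδd : ∀ i j (x : A.X i), δ j ((A.d i j).hom x) = (A'.d i j).hom (δ i x) := by
    intro i j x
    rw [hδ, hδ, map_sub, comm_apply, comm_apply]
  -- the homotopy components
  let Hq : ∀ q, A.X q →ₗ[R] A'.X (q + 1) := fun q =>
    δ (q + 1) ∘ₗ (h.f (q + 1)).hom ∘ₗ s q ∘ₗ ((quotP f).f q).hom
  have hHq : ∀ q x, Hq q x = δ (q + 1) ((h.f (q + 1)).hom (s q (((quotP f).f q).hom x))) :=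
    fun q x => rfl
  have key0 : ∀ x : A.X 0, δ 0 x = (A'.d 1 0).hom (Hq 0 x) := by
    intro x
    rw [hHq, ← hδd, ← comm_apply h, hs0, ← hδh]
  have keyS : ∀ (q : ℕ) (x : A.X (q + 1)),
      δ (q + 1) x = Hq q ((A.d (q + 1) q).hom x) + (A'.d (q + 2) (q + 1)).hom (Hq (q + 1) x) := by
    intro q x
    have e1 : Hq q ((A.d (q + 1) q).hom x) = δ (q + 1) ((h.f (q + 1)).hom
        (s q (((quotCx f).d (q + 1) q).hom (((quotP f).f (q + 1)).hom x)))) := by
      rw [hHq, comm_apply (quotP f)]
    have e2 : (A'.d (q + 2) (q + 1)).hom (Hq (q + 1) x) = δ (q + 1) ((h.f (q + 1)).hom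
        (((quotCx f).d (q + 2) (q + 1)).hom (s (q + 1) (((quotP f).f (q + 1)).hom x)))) := by
      rw [hHq, ← hδd, ← comm_apply h]
    rw [e1, e2, ← map_add, ← map_add, add_comm (s q _) _, hs, ← hδh]
  let H : Homotopy g₁ g₂ :=
    { hom := fun i j => if hij : i + 1 = j then
        ModuleCat.ofHom (Hq i) ≫ eqToHom (by rw [hij]) else 0
      zero := by
        intro i j hij
        rw [dif_neg]
        exact hij
      comm := by
        intro i
        apply ModuleCat.hom_ext
        apply LinearMap.ext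
        intro x
        cases i with
        | zero =>
          rw [Homotopy.dNext_zero_chainComplex, Homotopy.prevD_chainComplex, zero_add]
          simp only [dif_pos, eqToHom_refl, Category.comp_id, ModuleCat.hom_add,
            ModuleCat.hom_comp, ModuleCat.hom_ofHom, LinearMap.add_apply, LinearMap.comp_apply]
          have := key0 x
          rw [hδ, sub_eq_iff_eq_add] at this
          exact this
        | succ q =>
          rw [Homotopy.dNext_succ_chainComplex, Homotopy.prevD_chainComplex]
          simp only [dif_pos, eqToHom_refl, Category.comp_id, ModuleCat.hom_add,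
            ModuleCat.hom_comp, ModuleCat.hom_ofHom, LinearMap.add_apply, LinearMap.comp_apply]
          have := keyS q x
          rw [hδ, sub_eq_iff_eq_add] at this
          exact this }
  refine ⟨H, ?_⟩
  intro i j
  show f.f i ≫ (if hij : i + 1 = j then
        ModuleCat.ofHom (Hq i) ≫ eqToHom (by rw [hij]) else 0) = 0
  split_ifs with hij
  · subst hij
    rw [eqToHom_refl, Category.comp_id]
    apply ModuleCat.hom_ext
    apply LinearMap.ext
    intro a
    show Hq i ((f.f i).hom a) = 0
    rw [hHq, hpf, map_zero, map_zero, map_zero]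
  · exact Limits.comp_zero

end Groth.Agent.H81
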