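import Groth.Agent.H81.LimitChain3

/-!
Small Riemann–Roch tools for function fields of one variable: divisor of a section of a degree-zero
divisor, membership from divisor inequalities, constants from `ℓ = 1`.
-/

set_option autoImplicit false

namespace Groth.Agent.H81.RR

open FunFld Module WithZero Groth.Agent.H55

variable {k K : Type*} [Field k] [Field K] [Algebra k K]

/-- Converse of `nonneg_of_mem_L`. -/
lemma mem_L_of_nonneg (hK : FunFld.IsFunctionField k K) (D : FunFld.Divisor k K) {z : K}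
    (hz : z ≠ 0) (h : 0 ≤ D + FunFld.div k z) : z ∈ FunFld.L D := by
  intro P
  rw [pl_val_le_exp_iff P hz]
  have h1 := h P
  rw [Finsupp.add_apply, div_apply hK] at h1
  simp only [Finsupp.coe_zero, Pi.zero_apply] at h1
  omega

/-- Pointwise version. -/
lemma mem_L_of_forall (hK : FunFld.IsFunctionField k K) (D : FunFld.Divisor k K) {z : K}
    (hz : z ≠ 0) (h : ∀ R : FunFld.Place k K, 0 ≤ D R + FunFld.div k z R) : z ∈ FunFld.L D :=
  mem_L_of_nonneg hK D hz (fun R => by rw [Finsupp.add_apply]; exact h R)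

/-- A nonzero section of a divisor of degree zero has divisor `-D`. -/
lemma div_eq_neg_of_mem_L (hK : FunFld.IsFunctionField k K) (D : FunFld.Divisor k K)
    (hD : D.deg = 0) {z : K} (hz : z ≠ 0) (hmem : z ∈ FunFld.L D) : FunFld.div k z = -D := by
  have h1 := nonneg_of_mem_L hK D hz hmem
  have h2 : (D + FunFld.div k z).deg = 0 := by rw [deg_add, deg_div hK, hD, add_zero]
  have h3 := eq_zero_of_nonneg_of_deg_eq_zero hK h1 h2
  exact (neg_eq_of_add_eq_zero_right h3).symm

/-- `ℓ(D) ≥ 1`, `deg D = 0`: `D` is principal up to sign. -/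
lemma exists_div_eq_neg (hK : FunFld.IsFunctionField k K) (D : FunFld.Divisor k K)
    (hD : D.deg = 0) (hell : 0 < FunFld.ell D) : ∃ z : K, z ≠ 0 ∧ FunFld.div k z = -D := by
  obtain ⟨z, hz, hmem⟩ := exists_ne_zero_of_ell_pos D hell
  exact ⟨z, hz, div_eq_neg_of_mem_L hK D hD hz hmem⟩

lemma one_mem_L_of_nonneg {E : FunFld.Divisor k K} (hE : 0 ≤ E) : (1 : K) ∈ FunFld.L E :=
  L_mono hE one_mem_L_zero

/-- If `ℓ(E) = 1` and `E ≥ 0` then `L(E)` consists of constants. -/
lemma const_of_mem_L (E : FunFld.Divisor k K) (hE : 0 ≤ E)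
    (hell : finrank k ↥(FunFld.L E) = 1) {z : K} (hz : z ∈ FunFld.L E) :
    ∃ c : k, z = algebraMap k K c := by
  have h1 : (⟨1, one_mem_L_of_nonneg hE⟩ : ↥(FunFld.L E)) ≠ 0 := by
    intro h
    exact one_ne_zero (congrArg Subtype.val h)
  obtain ⟨c, hc⟩ := (finrank_eq_one_iff_of_nonzero' _ h1).mp hell ⟨z, hz⟩
  refine ⟨c, ?_⟩
  have := congrArg Subtype.val hc
  simp only [Submodule.coe_smul] at this
  rw [← this, Algebra.smul_def, mul_one]

/-- If `ℓ(E) = 1` and `E ≥ 0` then every nonzero member of `L(E)` has trivial divisor. -/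
lemma div_eq_zero_of_mem_L (hK : FunFld.IsFunctionField k K) (E : FunFld.Divisor k K) (hE : 0 ≤ E)
    (hell : finrank k ↥(FunFld.L E) = 1) {z : K} (hz : z ∈ FunFld.L E) :
    FunFld.div k z = 0 := by
  obtain ⟨c, rfl⟩ := const_of_mem_L E hE hell hz
  exact div_const hK c

lemma single_nonneg (P : FunFld.Place k K) {n : ℤ} (hn : 0 ≤ n) :
    (0 : FunFld.Divisor k K) ≤ Finsupp.single P n := by
  classical
  intro R
  rw [Finsupp.single_apply]
  split_ifs
  · exact hn
  · exact le_refl _

end Groth.Agent.H81.RR
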