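import Mathlib

/-!
# Skew group rings of Frobenius algebras with invariant form are symmetric (helper81)

If `A` is a commutative `R`-algebra with an `R`-linear form `lam` whose pairing `(x,y) ↦ lam (x y)`
is perfect, and a finite group `G` acts on `A` by `R`-algebra automorphisms preserving `lam`,
then `SkewMonoidAlgebra A G` is a symmetric `R`-algebra via `x ↦ lam (x.coeff 1)`.
-/

set_option autoImplicit false

namespace Groth.Agent.H81.SkewSym

open SkewMonoidAlgebra

universe u v w

variable {R : Type u} {A : Type v} [CommRing R] [CommRing A] [Algebra R A]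
  {G : Type w} [Group G] [MulSemiringAction G A]

/-- coefficient at `1` as an `R`-linear map. -/
noncomputable def coeffOne : SkewMonoidAlgebra A G →ₗ[R] A :=
  (Finsupp.lapply (1 : G)).comp (coeffLinearEquiv (S := R) (k := A) (G := G)).toLinearMap

lemma coeffOne_apply (x : SkewMonoidAlgebra A G) : coeffOne (R := R) x = x.coeff 1 := rfl

lemma coeff_mul_one [Fintype G] (x y : SkewMonoidAlgebra A G) :
    (x * y).coeff 1 = ∑ h : G, x.coeff h * h • y.coeff h⁻¹ := by
  rw [coeff_mul_left, sum_def, Finsupp.sum_fintype]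
  · simp
  · intro h; simp

omit [Group G] [MulSemiringAction G A] in
lemma pow_translate {G : Type w} [Monoid G] [MulSemiringAction G A] [SMulCommClass G R A]
    (g : G) (x : A) (r : R) (hg : g • x = x + algebraMap R A r) (m : ℕ) :
    g ^ m • x = x + algebraMap R A ((m : R) * r) := by
  induction m with
  | zero => simp
  | succ m ih =>
    rw [pow_succ, mul_smul, hg, smul_add, ih, smul_algebraMap, Nat.cast_succ, add_mul, one_mul,
      map_add, add_assoc]

theorem skew_symmetric [Finite G] [SMulCommClass G R A] (lam : A →ₗ[R] R)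
    (hinj : ∀ x : A, (∀ y, lam (y * x) = 0) → x = 0)
    (hsurj : ∀ ℓ : A →ₗ[R] R, ∃ z, ∀ y, ℓ y = lam (y * z))
    (hG : ∀ (h : G) (x : A), lam (h • x) = lam x) :
    ∃ φ : SkewMonoidAlgebra A G →ₗ[R] R,
      (∀ x y : SkewMonoidAlgebra A G, φ (x * y) = φ (y * x)) ∧
      Function.Injective
        (fun y : SkewMonoidAlgebra A G => fun x : SkewMonoidAlgebra A G => φ (x * y)) ∧
      ∀ ψ : SkewMonoidAlgebra A G →ₗ[R] R, ∃ y : SkewMonoidAlgebra A G, ∀ x, ψ x = φ (x * y) := by
  classical
  haveI : Fintype G := Fintype.ofFinite G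
  refine ⟨lam.comp coeffOne, ?_, ?_, ?_⟩
  · intro x y
    show lam ((x * y).coeff 1) = lam ((y * x).coeff 1)
    rw [coeff_mul_one, coeff_mul_one, _root_.map_sum, _root_.map_sum]
    rw [← Equiv.sum_comp (Equiv.inv G) (fun h => lam (y.coeff h * h • x.coeff h⁻¹))]
    refine Finset.sum_congr rfl (fun h _ => ?_)
    show lam (x.coeff h * h • y.coeff h⁻¹) = lam (y.coeff h⁻¹ * h⁻¹ • x.coeff h⁻¹⁻¹)
    rw [inv_inv, ← hG h (y.coeff h⁻¹ * h⁻¹ • x.coeff h), smul_mul', smul_inv_smul, mul_comm]
  · intro y y' hyy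
    have hδ : ∀ x : SkewMonoidAlgebra A G, lam ((x * (y - y')).coeff 1) = 0 := by
      intro x
      have h2 : lam ((x * y).coeff 1) = lam ((x * y').coeff 1) := congrFun hyy x
      rw [mul_sub, coeff_sub, Finsupp.sub_apply, map_sub, h2, sub_self]
    have hz : ∀ k : G, (y - y').coeff k = 0 := by
      intro k
      have h3 : k⁻¹ • (y - y').coeff k = 0 := by
        apply hinj
        intro b
        have h4 := hδ (single k⁻¹ b)
        rw [coeff_single_mul, inv_inv, mul_one] at h4
        exact h4
      exact (smul_eq_zero_iff_eq k⁻¹).1 h3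
    have h5 : y - y' = 0 := SkewMonoidAlgebra.ext (fun k => by rw [hz k]; simp)
    exact sub_eq_zero.1 h5
  · intro ψ
    have hex : ∀ h : G, ∃ z : A, ∀ b, ψ (single h b) = lam (b * z) := by
      intro h
      obtain ⟨z, hz⟩ := hsurj (ψ.comp
        ((coeffLinearEquiv (S := R) (k := A) (G := G)).symm.toLinearMap.comp (Finsupp.lsingle h)))
      exact ⟨z, fun b => hz b⟩
    choose cc hcc using hex
    refine ⟨ofCoeff (Finsupp.equivFunOnFinite.symm (fun k => k • cc k⁻¹)), ?_⟩
    intro x
    show ψ x = lam ((x * _).coeff 1)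
    rw [coeff_mul_one, _root_.map_sum]
    have hx : x = ∑ h : G, single h (x.coeff h) := by
      conv_lhs => rw [← sum_single x, sum_def, Finsupp.sum_fintype _ _ (fun h => single_zero h)]
    conv_lhs => rw [hx, _root_.map_sum]
    refine Finset.sum_congr rfl (fun h _ => ?_)
    rw [hcc h]
    congr 2
    show cc h = h • (h⁻¹ • cc h⁻¹⁻¹)
    rw [inv_inv, smul_inv_smul]

end Groth.Agent.H81.SkewSym
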