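import Groth.Agent.H81.AutFin
import Groth.Agent.S12604
import Groth.Agent.S12606

/-! The bound on the number of strong fixed points of an endomorphism (Stöhr–Voloch style),
from the Weierstrass divisor of the complete linear system `|(n+g)P₀|`. -/

set_option autoImplicit false

namespace Groth.Agent.H81.StrongFix

open FunFld WithZero IntermediateField Groth.Agent.H55 Groth.Agent.H27.WDiv Groth.Agent.H27.Generic
open Groth.Agent.H27.Sep Groth.Agent.H27.LocOrd Groth.Agent.H27.MapDivInv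
open Groth.Agent.H27.Classical

variable {k K : Type*} [Field k] [IsAlgClosed k] [Field K] [Algebra k K]

/-- Every integer `≥ 2g` is a pole number. -/
theorem not_isGap_of_ge (hK : IsFunctionField k K) (P : Place k K) (m : ℤ)
    (hm : 2 * (genus k K : ℤ) ≤ m) : ¬ IsGap P m := by
  intro h
  have hdeg1 := deg_eq_one_of_isAlgClosed hK P
  have h1 := ell_eq_of_deg_ge hK (Finsupp.single P m : Divisor k K)
    (by rw [deg_single, hdeg1]; push_cast; omega)
  have h2 := ell_eq_of_deg_ge hK (Finsupp.single P (m - 1) : Divisor k K)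
    (by rw [deg_single, hdeg1]; push_cast; omega)
  have h3 : ell (Finsupp.single P m : Divisor k K) = ell (Finsupp.single P (m - 1) : Divisor k K) := by
    unfold ell
    unfold IsGap at h
    rw [h]
  rw [deg_single, hdeg1] at h1 h2
  rw [h3] at h1
  push_cast at h1 h2
  omega

theorem add_le_of_strictMono {n : ℕ} (J' : Fin n → ℕ) (hmono : StrictMono J') :
    ∀ (d : ℕ) (a b : Fin n), (a : ℕ) + d = b → J' a + d ≤ J' b := by
  intro d
  induction d with
  | zero =>
    intro a b h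
    have : a = b := Fin.ext (by omega)
    rw [this]
    omega
  | succ d ih =>
    intro a b h
    have hc : (a : ℕ) + d < n := by have := b.2; omega
    have h1 := ih a ⟨(a : ℕ) + d, hc⟩ rfl
    have h2 : J' ⟨(a : ℕ) + d, hc⟩ < J' b := hmono (by simp [Fin.lt_def]; omega)
    omega

theorem eq_succ_of_range' {n : ℕ} (J' : Fin n → ℕ) (hmono : StrictMono J')
    (hpos : ∀ l, 0 < J' l) (M : ℕ) (hr : ∀ j : ℕ, 1 ≤ j → j ≤ M → j ∈ Set.range J') :
    ∀ (m : ℕ) (hm : m < n), m < M → J' ⟨m, hm⟩ = m + 1 := by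
  intro m
  induction m using Nat.strong_induction_on with
  | _ m ih =>
    intro hm hmM
    have hge := Groth.Agent.H81.AutFin.succ_le_of_strictMono J' hmono hpos m hm
    obtain ⟨i, hi⟩ := hr (m + 1) (by omega) (by omega)
    rcases lt_trichotomy (i : ℕ) m with h | h | h
    · have := ih i h i.2 (by omega)
      have h3 : J' ⟨(i : ℕ), i.2⟩ = J' i := rfl
      omega
    · have : i = ⟨m, hm⟩ := Fin.ext h
      rw [← this]
      exact hi
    · have h2 : J' ⟨m, hm⟩ < J' i := hmono (by simp [Fin.lt_def, h])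
      omega

theorem le_of_strictMono {n : ℕ} (J : Fin n → ℕ) (hmono : StrictMono J) :
    ∀ (m : ℕ) (hm : m < n), m ≤ J ⟨m, hm⟩ := by
  intro m
  induction m with
  | zero =>
    intro hm
    omega
  | succ m ih =>
    intro hm
    have h1 := ih (by omega)
    have h2 : J ⟨m, by omega⟩ < J ⟨m + 1, hm⟩ := hmono (by simp [Fin.lt_def])
    omega

theorem sum_fin_id (n : ℕ) : 2 * ∑ l : Fin n, ((l : ℕ) : ℤ) = (n : ℤ) * (n - 1) := by
  induction n with
  | zero => simp
  | succ m ih =>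
    rw [Fin.sum_univ_castSucc, mul_add]
    simp only [Fin.val_castSucc, Fin.val_last]
    rw [ih]
    push_cast
    ring

/-- Combinatorial bound: orders `J' l = l + 1` for `l < n - g`, and `J' l ≤ g + l + 1` always. -/
theorem sum_bound {n g : ℕ} (hgn : g ≤ n) (J' : Fin n → ℕ)
    (h1 : ∀ l : Fin n, (l : ℕ) < n - g → J' l = (l : ℕ) + 1)
    (h2 : ∀ l : Fin n, J' l ≤ g + (l : ℕ) + 1) :
    2 * ∑ l : Fin n, ((J' l : ℤ) - 1) ≤ (n : ℤ) * (n - 1) + 2 * (g : ℤ) ^ 2 := by
  classical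
  have hle : ∀ l ∈ (Finset.univ : Finset (Fin n)),
      ((J' l : ℤ) - 1) ≤ ((l : ℕ) : ℤ) + (if (l : ℕ) < n - g then (0 : ℤ) else (g : ℤ)) := by
    intro l _
    split_ifs with h
    · rw [h1 l h]
      push_cast
      omega
    · have := h2 l
      push_cast
      omega
  have hsum := Finset.sum_le_sum hle
  rw [Finset.sum_add_distrib] at hsum
  have hcount : ∑ l : Fin n, (if (l : ℕ) < n - g then (0 : ℤ) else (g : ℤ)) = (g : ℤ) * g := by
    rw [Fin.sum_univ_eq_sum_range (fun l => if l < n - g then (0 : ℤ) else (g : ℤ)) n]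
    have : ∀ m : ℕ, m ≤ n → ∑ l ∈ Finset.range m, (if l < n - g then (0 : ℤ) else (g : ℤ))
        = (g : ℤ) * ((m : ℤ) - ((min m (n - g) : ℕ) : ℤ)) := by
      intro m
      induction m with
      | zero => intro _; simp
      | succ m ih =>
        intro hm
        rw [Finset.sum_range_succ, ih (by omega)]
        split_ifs with h
        · have e1 : min (m + 1) (n - g) = m + 1 := by omega
          have e2 : min m (n - g) = m := by omega
          rw [e1, e2]
          push_cast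
          ring
        · have e1 : min (m + 1) (n - g) = n - g := by omega
          have e2 : min m (n - g) = n - g := by omega
          rw [e1, e2]
          push_cast
          ring
    rw [this n le_rfl]
    have e : min n (n - g) = n - g := by omega
    rw [e]
    push_cast [Nat.cast_sub hgn]
    ring
  rw [hcount] at hsum
  have := sum_fin_id n
  nlinarith

/-- The integer form of the bound. -/
theorem strong_bound_int (hK : IsFunctionField k K) (τ : K →ₐ[k] K) (n : ℕ)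
    (hn : genus k K < n) :
    {P : Place k K | IsStrongFixedPt τ P}.Finite ∧
    (n : ℤ) * (Set.ncard {P : Place k K | IsStrongFixedPt τ P} : ℤ) ≤
      (genus k K : ℤ) * n ^ 2 + n + (Module.finrank τ.fieldRange K : ℤ) * n
        + (Module.finrank τ.fieldRange K : ℤ) * genus k K
        + 2 * (genus k K : ℤ) ^ 2 * ((genus k K : ℤ) - 1) := by
  classical
  by_cases hex : ∃ P₀ : Place k K, IsStrongFixedPt τ P₀
  swap
  · have hemp : {P : Place k K | IsStrongFixedPt τ P} = ∅ := by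
      ext P
      simp only [Set.mem_setOf_eq, Set.mem_empty_iff_false, iff_false]
      exact fun h => hex ⟨P, h⟩
    rw [hemp]
    refine ⟨Set.finite_empty, ?_⟩
    rw [Set.ncard_empty, Nat.cast_zero, mul_zero]
    have hq : (0 : ℤ) ≤ (Module.finrank τ.fieldRange K : ℤ) := Nat.cast_nonneg _
    have hg0 : (0 : ℤ) ≤ (genus k K : ℤ) := Nat.cast_nonneg _
    have hn0 : (0 : ℤ) ≤ (n : ℤ) := Nat.cast_nonneg _
    have t1 := mul_nonneg hg0 (sq_nonneg (n : ℤ))
    have t2 := mul_nonneg hq hn0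
    have t3 := mul_nonneg hq hg0
    rcases Nat.eq_zero_or_pos (genus k K) with h0 | h0
    · rw [h0] at t1 t3 ⊢
      push_cast at t1 t3 ⊢
      linarith
    · have hg1 : (1 : ℤ) ≤ (genus k K : ℤ) := by exact_mod_cast h0
      have : (0 : ℤ) ≤ 2 * (genus k K : ℤ) ^ 2 * ((genus k K : ℤ) - 1) := by
        apply mul_nonneg (by positivity)
        omega
      linarith
  obtain ⟨P₀, hP₀⟩ := hex
  obtain ⟨g, hgdef⟩ : ∃ g : ℕ, g = genus k K := ⟨_, rfl⟩
  rw [← hgdef] at hn ⊢
  have hdeg1 := deg_eq_one_of_isAlgClosed hK P₀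
  obtain ⟨D, hDdef⟩ : ∃ D : Divisor k K, D = Finsupp.single P₀ ((n + g : ℕ) : ℤ) := ⟨_, rfl⟩
  have hDdeg : D.deg = (n : ℤ) + g := by
    rw [hDdef, deg_single, hdeg1]
    push_cast
    ring
  have hell : (ell D : ℤ) = n + 1 := by
    rw [ell_eq_of_deg_ge hK D (by rw [hDdeg, ← hgdef]; omega), hDdeg, ← hgdef]
    ring
  haveI := L_finite hK D
  have hfin : Module.finrank k (L D) = n + 1 := by
    have : ((Module.finrank k (L D) : ℕ) : ℤ) = n + 1 := hell
    exact_mod_cast this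
  obtain ⟨b⟩ : Nonempty (Module.Basis (Fin (n + 1)) k (L D)) :=
    ⟨Module.finBasisOfFinrankEq k (L D) hfin⟩
  obtain ⟨φ, hφdef⟩ : ∃ φ : Fin (n + 1) → K, φ = fun i => ((b i : L D) : K) := ⟨_, rfl⟩
  have hφ : LinearIndependent k φ := by
    have h1 := b.linearIndependent
    have h2 := h1.map' (L D).subtype (Submodule.ker_subtype _)
    rw [hφdef]
    exact h2
  have hspan : Submodule.span k (Set.range φ) = L D := by
    have h1 : Set.range φ = (L D).subtype '' Set.range b := by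
      rw [← Set.range_comp, hφdef]
      rfl
    rw [h1, Submodule.span_image, b.span_eq, Submodule.map_top, Submodule.range_subtype]
  have hφL : ∀ i, φ i ∈ L D := fun i => by
    rw [← hspan]
    exact Submodule.subset_span ⟨i, rfl⟩
  have hφ0 : ∀ i, φ i ≠ 0 := fun i => hφ.ne_zero i
  obtain ⟨s, H, hH⟩ := Groth.Agent.H81.AutFin.exists_hasse_ff hK
  have hg1 := Groth.Agent.S11000.result k K hK
  have hfr := finrank_kaehler hK hg1
  obtain ⟨t, ht⟩ := P₀.2.2 (exp (-1 : ℤ))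
  obtain ⟨Ht, hHt⟩ := exists_hasse hH (hasseD_one_ne_zero hH hfr (D_ne_zero_of_val hK P₀ ht))
  obtain ⟨j0, -, hj0⟩ := Finset.exists_max_image Finset.univ (fun i => P₀.1 (φ i))
    Finset.univ_nonempty
  -- the maximal pole order is exactly `n + g`
  have hDP : D P₀ = ((n + g : ℕ) : ℤ) := by rw [hDdef, Finsupp.single_eq_same]
  have hmax : P₀.1 (φ j0) = exp (((n + g : ℕ) : ℤ)) := by
    apply le_antisymm
    · have := hφL j0 P₀
      rwa [hDP] at this
    · have hng : ¬ IsGap P₀ (((n + g : ℕ) : ℤ)) :=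
        not_isGap_of_ge hK P₀ _ (by rw [← hgdef]; push_cast; omega)
      obtain ⟨h₀, hh0, hhP, hhQ⟩ := exists_of_not_isGap P₀ hng
      have hh₀L : h₀ ∈ L D := by
        rw [hDdef]
        exact (mem_L_single_iff P₀ hh0).2 ⟨by omega, hhQ⟩
      rw [← hspan] at hh₀L
      obtain ⟨c, hc⟩ := (Submodule.mem_span_range_iff_exists_fun k).1 hh₀L
      have hv : P₀.1 h₀ = exp (((n + g : ℕ) : ℤ)) := by
        rw [pl_val_eq_exp_neg_ord P₀ hh0, hhP, neg_neg]
      rw [← hv, ← hc]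
      apply Valuation.map_sum_le
      intro i _
      exact le_trans (pl_val_smul_le P₀ (c i) (φ i)) (hj0 i (Finset.mem_univ _))
  obtain ⟨y, hy⟩ : ∃ y : K, y = (φ j0)⁻¹ := ⟨_, rfl⟩
  have hy0 : y ≠ 0 := by
    rw [hy]
    exact inv_ne_zero (hφ0 j0)
  have hyv : P₀.1 y = exp (-(((n + g : ℕ) : ℤ))) := by
    rw [hy, map_inv₀, hmax, ← exp_neg]
  obtain ⟨φ', hφ'⟩ : ∃ φ' : Fin (n + 1) → K, φ' = y • φ := ⟨_, rfl⟩
  have hφ'i : ∀ i, φ' i = y * φ i := fun i => by rw [hφ', Pi.smul_apply, smul_eq_mul]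
  have hφ'li : LinearIndependent k φ' := by
    have : φ' = (LinearMap.mulLeft k y) ∘ φ := by
      ext i
      simp [hφ'i]
    rw [this]
    exact hφ.map' _ (LinearMap.ker_eq_bot.2 (mul_right_injective₀ hy0))
  have heff : (1 : K) ∈ Submodule.span k (Set.range φ') :=
    Submodule.subset_span ⟨j0, by rw [hφ'i, hy, inv_mul_cancel₀ (hφ0 j0)]⟩
  have hnorm : ∀ i, P₀.1 (φ' i) ≤ 1 := by
    intro i
    rw [hφ'i, hy, map_mul, map_inv₀, inv_mul_le_iff₀ (zero_lt_iff.2
      ((Valuation.ne_zero_iff _).2 (hφ0 j0))), mul_one]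
    exact hj0 i (Finset.mem_univ _)
  -- elements of `span φ'` of every order `1 ≤ j ≤ n - g`
  have hmul_mem : ∀ h : K, h ∈ L D → y * h ∈ Submodule.span k (Set.range φ') := by
    intro h hh
    rw [← hspan] at hh
    obtain ⟨c, hc⟩ := (Submodule.mem_span_range_iff_exists_fun k).1 hh
    rw [← hc, Finset.mul_sum]
    refine Submodule.sum_mem _ (fun i _ => ?_)
    rw [mul_smul_comm, ← hφ'i]
    exact Submodule.smul_mem _ _ (Submodule.subset_span ⟨i, rfl⟩)
  have hord : ∀ j : ℕ, 1 ≤ j → j ≤ n - g →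
      ∃ f ∈ Submodule.span k (Set.range φ'), P₀.1 f = exp (-(j : ℤ)) := by
    intro j hj1 hj2
    have hng : ¬ IsGap P₀ (((n + g - j : ℕ) : ℤ)) :=
      not_isGap_of_ge hK P₀ _ (by rw [← hgdef]; push_cast [Nat.cast_sub (by omega : j ≤ n + g)]; omega)
    obtain ⟨h, hh0, hhP, hhQ⟩ := exists_of_not_isGap P₀ hng
    have hhL : h ∈ L D := by
      rw [hDdef]
      exact (mem_L_single_iff P₀ hh0).2 ⟨by omega, hhQ⟩
    refine ⟨y * h, hmul_mem h hhL, ?_⟩
    rw [map_mul, hyv, pl_val_eq_exp_neg_ord P₀ hh0, hhP, neg_neg, ← exp_add]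
    congr 1
    push_cast [Nat.cast_sub (by omega : j ≤ n + g)]
    ring
  obtain ⟨J, hJ, -⟩ := Groth.Agent.S12600.result k K hK φ' hφ'li τ t Ht hHt
  obtain ⟨J', hJ'ord⟩ := Groth.Agent.H27.Jump.exists_localOrders hK P₀ φ' hφ'li heff hnorm t ht
    Ht hHt
  have hJ'pos : ∀ l, 0 < J' l := fun l =>
    ((isJump_hcolAt_succ_iff hK P₀ ht hHt φ' hnorm (J' l)).1 ((hJ'ord.2 (J' l)).1 ⟨l, rfl⟩)).1
  have hmdle : (mapDiv k φ).deg ≤ (n : ℤ) + g := by
    rw [← hDdeg]
    apply deg_mono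
    intro Q
    obtain ⟨j, -, hj⟩ := Finset.exists_max_image Finset.univ (fun i => Q.1 (φ i))
      Finset.univ_nonempty
    have h1 := val_eq_exp_mapDiv hK φ hφ0 Q j (fun i => hj i (Finset.mem_univ _))
    have h3 := hφL j Q
    rw [h1] at h3
    exact exp_le_exp.mp h3
  have hmd' : (mapDiv k φ').deg = (mapDiv k φ).deg := by
    rw [hφ']
    exact deg_mapDiv_smul hK φ hφ0 hy0
  have hJ'deg : ∀ l, (J' l : ℤ) ≤ (n : ℤ) + g := by
    intro l
    refine le_trans ?_ hmdle
    rw [← hmd']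
    exact localOrder_le_deg hK P₀ φ' hφ'li heff hnorm t ht Ht hHt (J' l)
      ((hJ'ord.2 (J' l)).1 ⟨l, rfl⟩)
  have hn0 : 0 < n := by omega
  -- `τ φ'` is not a multiple of `φ'`
  have hτφ : ¬ ∃ y' : K, ∀ i, τ (φ' i) = y' * φ' i := by
    rintro ⟨y', hy'⟩
    obtain ⟨c, hc⟩ := (Submodule.mem_span_range_iff_exists_fun k).1 heff
    have h1 : τ 1 = y' * 1 := by
      rw [← hc, map_sum, Finset.mul_sum]
      refine Finset.sum_congr rfl (fun i _ => ?_)
      rw [map_smul, hy', mul_smul_comm]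
    rw [map_one, mul_one] at h1
    obtain ⟨f, hf, hfv⟩ := hord 1 le_rfl (by omega)
    obtain ⟨d, hd⟩ := (Submodule.mem_span_range_iff_exists_fun k).1 hf
    have h2 : τ f = f := by
      rw [← hd, map_sum]
      refine Finset.sum_congr rfl (fun i _ => ?_)
      rw [map_smul, hy', ← h1, one_mul]
    have h3 : P₀.1 f < 1 := by
      rw [hfv, ← exp_zero, exp_lt_exp]
      norm_num
    have h4 := hP₀ f h3
    rw [h2, hfv, exp_le_exp] at h4
    norm_num at h4
  obtain ⟨hfinite, hbound⟩ := Groth.Agent.S12604.result k K hK τ φ' hφ'li hτφ t Ht hHt J hJ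
  refine ⟨hfinite, ?_⟩
  -- bounds on the orders
  have h606 := Groth.Agent.S12606.result k K hK τ P₀ hP₀ hn0 φ' hφ'li heff hnorm hτφ t ht Ht hHt
    J hJ J' hJ'ord
  have hJle : ∀ l, (J l : ℤ) ≤ (J' l : ℤ) - 1 := by
    intro l
    have h1 := h606 l
    have h2 := hJ'pos ⟨0, hn0⟩
    have : J l + 1 ≤ J' l := by omega
    have h3 : ((J l + 1 : ℕ) : ℤ) ≤ (J' l : ℤ) := by exact_mod_cast this
    push_cast at h3
    omega
  have hgn : g ≤ n := by omega
  have hrange : ∀ j : ℕ, 1 ≤ j → j ≤ n - g → j ∈ Set.range J' := by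
    intro j hj1 hj2
    rw [hJ'ord.2 j, isJump_hcolAt_succ_iff hK P₀ ht hHt φ' hnorm j]
    exact ⟨hj1, hord j hj1 hj2⟩
  have hJ'1 : ∀ l : Fin n, (l : ℕ) < n - g → J' l = (l : ℕ) + 1 := by
    intro l hl
    exact eq_succ_of_range' J' hJ'ord.1 hJ'pos (n - g) hrange l l.2 hl
  have hJ'2 : ∀ l : Fin n, J' l ≤ g + (l : ℕ) + 1 := by
    intro l
    have hlast : n - 1 < n := by omega
    have h1 := add_le_of_strictMono J' hJ'ord.1 (n - 1 - l) l ⟨n - 1, hlast⟩
      (by have := l.2; show (l : ℕ) + (n - 1 - l) = n - 1; omega)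
    have h2 := hJ'deg ⟨n - 1, hlast⟩
    have h3 : J' ⟨n - 1, hlast⟩ ≤ n + g := by exact_mod_cast h2
    have := l.2
    omega
  have hS' := sum_bound hgn J' hJ'1 hJ'2
  have hSJ : ∑ l, (J l : ℤ) ≤ ∑ l : Fin n, ((J' l : ℤ) - 1) :=
    Finset.sum_le_sum (fun l _ => hJle l)
  have hSJlow : (n : ℤ) * (n - 1) ≤ 2 * ∑ l, (J l : ℤ) := by
    rw [← sum_fin_id n, ]
    apply mul_le_mul_of_nonneg_left _ (by norm_num)
    refine Finset.sum_le_sum (fun l _ => ?_)
    exact_mod_cast le_of_strictMono J hJ.1 l l.2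
  rw [hmd'] at hbound
  have hq : (0 : ℤ) ≤ (Module.finrank τ.fieldRange K : ℤ) := Nat.cast_nonneg _
  have hn0' : (0 : ℤ) ≤ (n : ℤ) := Nat.cast_nonneg _
  have hb1 : ((n : ℤ) + Module.finrank τ.fieldRange K) * (mapDiv k φ).deg
      ≤ ((n : ℤ) + Module.finrank τ.fieldRange K) * ((n : ℤ) + g) :=
    mul_le_mul_of_nonneg_left hmdle (by omega)
  rw [← hgdef] at hbound
  rcases Nat.eq_zero_or_pos g with h0 | h0
  · rw [h0] at hbound hb1 ⊢
    push_cast at hbound hb1 ⊢
    nlinarith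
  · have hg1' : (1 : ℤ) ≤ (g : ℤ) := by exact_mod_cast h0
    have hb2 : (2 * (g : ℤ) - 2) * ∑ l, (J l : ℤ)
        ≤ ((g : ℤ) - 1) * ((n : ℤ) * (n - 1) + 2 * (g : ℤ) ^ 2) := by
      have h1 : 2 * ∑ l, (J l : ℤ) ≤ (n : ℤ) * (n - 1) + 2 * (g : ℤ) ^ 2 := by linarith
      have h2 : (0 : ℤ) ≤ (g : ℤ) - 1 := by omega
      nlinarith
    nlinarith

end Groth.Agent.H81.StrongFix
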