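import Mathlib
import Groth.Agent.H81.Hyperosc
import Groth.Agent.H81.GenusOneHyp
import Groth.Agent.H81.LinSeries

/-!
Genus one, characteristic zero: finiteness of the places `Q` with `m (Q - P)` principal, and the
refined two-point inequality for linear series.
-/

set_option autoImplicit false

namespace Groth.Agent.H81.TG1

open FunFld WithZero Module Groth.Agent.H55

variable {k K : Type*} [Field k] [Field K] [Algebra k K]

/-- A divisor of degree zero has `ℓ ≤ 1`. -/
theorem ell_le_one_of_deg_zero (hK : IsFunctionField k K) (E : Divisor k K) (hE : E.deg = 0) :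
    ell E ≤ 1 := by
  by_cases h : 0 < ell E
  · obtain ⟨z, hz, hdiv⟩ := Groth.Agent.H81.RR.exists_div_eq_neg hK E hE h
    have h1 := ell_add_div hK E hz
    rw [hdiv, add_neg_cancel] at h1
    rw [← h1]
    exact (L_zero_finite hK).2.le
  · omega

/-- Refined two-point inequality. -/
theorem two_point_eq (hK : IsFunctionField k K) (D : Divisor k K)
    (V : Submodule k K) [FiniteDimensional k V]
    {P Q : Place k K} (hPQ : P ≠ Q) (i j : ℤ) :
    finrank k ↥(V ⊓ L (D - Finsupp.single P i)) + finrank k ↥(V ⊓ L (D - Finsupp.single Q j)) ≤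
      finrank k ↥V + ell (D - Finsupp.single P i - Finsupp.single Q j) := by
  haveI := L_finite hK (D - Finsupp.single P i - Finsupp.single Q j)
  have h0 : finrank k ↥((V ⊓ L (D - Finsupp.single P i)) ⊓ (V ⊓ L (D - Finsupp.single Q j))) ≤
      ell (D - Finsupp.single P i - Finsupp.single Q j) :=
    Submodule.finrank_mono (Groth.Agent.H81.LinSer.inf_L_two_le V D hPQ i j)
  have h1 := Submodule.finrank_sup_add_finrank_inf_eq (V ⊓ L (D - Finsupp.single P i))
    (V ⊓ L (D - Finsupp.single Q j))
  have h2 : finrank k ↥((V ⊓ L (D - Finsupp.single P i)) ⊔ (V ⊓ L (D - Finsupp.single Q j))) ≤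
      finrank k ↥V :=
    Submodule.finrank_mono (sup_le inf_le_left inf_le_left)
  omega

variable [IsAlgClosed k]

/-- On a function field of genus one in characteristic zero, only finitely many places `Q ≠ P` carry
a nonzero function in `L(mP)` vanishing to order at least `m` at `Q`. -/
theorem finite_torsion [CharZero k] (hK : IsFunctionField k K) (hg1 : genus k K = 1)
    (P : Place k K) (m : ℕ) (hm : 1 ≤ m) :
    {Q : Place k K | Q ≠ P ∧ ∃ f : K, f ≠ 0 ∧ f ∈ L (Finsupp.single P (m : ℤ) : Divisor k K) ∧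
      Q.1 f ≤ exp (-(m : ℤ))}.Finite := by
  classical
  obtain ⟨n, rfl⟩ : ∃ n, m = n + 1 := ⟨m - 1, by omega⟩
  have hell : finrank k ↥(L (Finsupp.single P ((n + 1 : ℕ) : ℤ) : Divisor k K)) = n + 1 :=
    Groth.Agent.H81.G1.ell_single hK hg1 P (n + 1) (by omega)
  haveI := L_finite hK (Finsupp.single P ((n + 1 : ℕ) : ℤ) : Divisor k K)
  let b := Module.finBasisOfFinrankEq k ↥(L (Finsupp.single P ((n + 1 : ℕ) : ℤ) : Divisor k K)) hell
  let φ : Fin (n + 1) → K := fun i => ((b i : ↥(L (Finsupp.single P ((n + 1 : ℕ) : ℤ) : Divisor k K))) : K)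
  have hφ : LinearIndependent k φ :=
    b.linearIndependent.map' (Submodule.subtype _) (Submodule.ker_subtype _)
  refine (Groth.Agent.H81.HO.finite_hyperosc hK φ hφ).subset ?_
  rintro Q ⟨hQP, f, hf0, hfL, hfv⟩
  have hsum : ∑ i, (b.repr ⟨f, hfL⟩ i) • φ i = f := by
    have h1 := congrArg Subtype.val (b.sum_repr ⟨f, hfL⟩)
    rw [Submodule.coe_sum] at h1
    simpa using h1
  refine ⟨fun i => ?_, fun i => b.repr ⟨f, hfL⟩ i, ?_, ?_⟩
  · have h1 := (b i).2 Q
    rw [Finsupp.single_eq_of_ne hQP, exp_zero] at h1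
    exact h1
  · intro h0
    apply hf0
    rw [← hsum]
    refine Finset.sum_eq_zero (fun i _ => ?_)
    have : b.repr ⟨f, hfL⟩ i = 0 := congrFun h0 i
    rw [this, zero_smul]
  · rw [hsum]
    exact hfv

end Groth.Agent.H81.TG1
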