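import Groth.Agent.H81.TorsorTwist
import Groth.Agent.H81.TorsorCocycle

/-!
A pseudo-torsor sheaf with sections over a covering family cutting out the cocycle `γ` is
identified with the twisted sections `Twist.Sec`; two such are equivariantly isomorphic.
-/

set_option autoImplicit false

universe w' w v u

open CategoryTheory Opposite

namespace Groth.Agent.H81.Twist

variable {C : Type u} [Category.{v} C] {J : GrothendieckTopology C} {G : Sheaf J GrpCat.{w}}
  {I : Type w'} {U : I → C}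

section Tau

variable (P : NonAbH1.GSheaf G) (hP : P.IsPseudoTorsor) (s : ∀ i, P.P.obj.obj (op (U i)))
  (γ : PresheafOfGroups.OneCocycle G.obj U) (hγ : P.IsCocycleOf U s γ)

/-- the coordinates of a section with respect to the trivialising sections -/
noncomputable def tau {X : C} (p : P.P.obj.obj (op X)) : Sec G U γ X where
  t Y f i a := H81.trans P hP (P.P.obj.map a.op (s i)) (P.P.obj.map f.op p)
  nat Z Y g f i a := by
    apply H81.smul_cancel P hP _ _ (P.P.obj.map (g ≫ a).op (s i))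
    rw [H81.trans_smul, H81.map_comp_op, ← P.map_smul, H81.trans_smul, H81.map_comp_op]
  coc Y f i j a b := by
    apply H81.smul_cancel P hP _ _ (P.P.obj.map b.op (s j))
    rw [P.mul_smul, hγ i j a b, H81.trans_smul, H81.trans_smul]

lemma tau_t {X : C} (p : P.P.obj.obj (op X)) {Y : C} (f : Y ⟶ X) (i : I) (a : Y ⟶ U i) :
    (tau P hP s γ hγ p).t f i a =
      H81.trans P hP (P.P.obj.map a.op (s i)) (P.P.obj.map f.op p) := rfl

lemma tau_res {X X' : C} (h : X' ⟶ X) (p : P.P.obj.obj (op X)) :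
    tau P hP s γ hγ (P.P.obj.map h.op p) = Sec.res h (tau P hP s γ hγ p) := by
  apply Sec.ext'
  intro Y f i a
  rw [Sec.res_t, tau_t, tau_t, H81.map_comp_op]

lemma tau_smul {X : C} (g : G.obj.obj (op X)) (p : P.P.obj.obj (op X)) :
    tau P hP s γ hγ (P.smul g p) = Sec.smul g (tau P hP s γ hγ p) := by
  apply Sec.ext'
  intro Y f i a
  rw [Sec.smul_t, tau_t, tau_t]
  apply H81.smul_cancel P hP _ _ (P.P.obj.map a.op (s i))
  rw [H81.trans_smul, P.mul_smul, H81.trans_smul, P.map_smul]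

lemma tau_injective (hU : J.CoversTop U) {X : C} :
    Function.Injective (tau P hP s γ hγ (X := X)) := by
  intro p p' h
  have hsh : Presieve.IsSheaf J P.P.obj := (isSheaf_iff_isSheaf_of_type J _).mp P.P.cond
  apply (hsh _ (hU X)).isSeparatedFor.ext
  intro Y f hf
  obtain ⟨i, ⟨a⟩⟩ := hf
  have h1 : H81.trans P hP (P.P.obj.map a.op (s i)) (P.P.obj.map f.op p) =
      H81.trans P hP (P.P.obj.map a.op (s i)) (P.P.obj.map f.op p') := by
    rw [← tau_t P hP s γ hγ p, ← tau_t P hP s γ hγ p', h]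
  calc P.P.obj.map f.op p
      = P.smul (H81.trans P hP (P.P.obj.map a.op (s i)) (P.P.obj.map f.op p))
          (P.P.obj.map a.op (s i)) := (H81.trans_smul P hP _ _).symm
    _ = P.smul (H81.trans P hP (P.P.obj.map a.op (s i)) (P.P.obj.map f.op p'))
          (P.P.obj.map a.op (s i)) := by rw [h1]
    _ = P.P.obj.map f.op p' := H81.trans_smul P hP _ _

lemma tau_surjective (hU : J.CoversTop U) {X : C} :
    Function.Surjective (tau P hP s γ hγ (X := X)) := by
  intro t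
  have hsh : Presieve.IsSheaf J P.P.obj := (isSheaf_iff_isSheaf_of_type J _).mp P.P.cond
  have hmem : ∀ ⦃Y : C⦄ (f : Y ⟶ X), Sieve.ofObjects U X f → ∃ (i : I), Nonempty (Y ⟶ U i) :=
    fun Y f hf => hf
  have hind : ∀ ⦃Y : C⦄ (f : Y ⟶ X) (i j : I) (a : Y ⟶ U i) (b : Y ⟶ U j),
      P.smul (t.t f i a) (P.P.obj.map a.op (s i)) =
        P.smul (t.t f j b) (P.P.obj.map b.op (s j)) := by
    intro Y f i j a b
    rw [← t.coc f i j a b, P.mul_smul, hγ i j a b]
  let x : Presieve.FamilyOfElements P.P.obj (Sieve.ofObjects U X).arrows := fun Y f hf =>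
    P.smul (t.t f (hmem f hf).choose (hmem f hf).choose_spec.some)
      (P.P.obj.map (hmem f hf).choose_spec.some.op (s (hmem f hf).choose))
  have hx_eq : ∀ ⦃Y : C⦄ (f : Y ⟶ X) (hf : Sieve.ofObjects U X f) (i : I) (a : Y ⟶ U i),
      x f hf = P.smul (t.t f i a) (P.P.obj.map a.op (s i)) := fun Y f hf i a => hind f _ _ _ _
  have hx : x.Compatible := by
    rw [Presieve.compatible_iff_sieveCompatible]
    intro Y Z f g hf
    obtain ⟨i, ⟨a⟩⟩ := hmem f hf
    rw [hx_eq (g ≫ f) ((Sieve.ofObjects U X).downward_closed hf g) i (g ≫ a), hx_eq f hf i a, P.map_smul, t.nat, H81.map_comp_op]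
  refine ⟨(hsh _ (hU X)).amalgamate x hx, ?_⟩
  apply Sec.ext'
  intro Y f i a
  have hf : Sieve.ofObjects U X f := ⟨i, ⟨a⟩⟩
  have h1 : P.P.obj.map f.op ((hsh _ (hU X)).amalgamate x hx) = x f hf :=
    (hsh _ (hU X)).valid_glue hx f hf
  rw [tau_t]
  apply H81.smul_cancel P hP _ _ (P.P.obj.map a.op (s i))
  rw [H81.trans_smul, h1, hx_eq f hf i a]

/-- sections of the torsor versus twisted sections -/
noncomputable def tauEquiv (hU : J.CoversTop U) (X : C) : P.P.obj.obj (op X) ≃ Sec G U γ X :=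
  Equiv.ofBijective (tau P hP s γ hγ)
    ⟨tau_injective P hP s γ hγ hU, tau_surjective P hP s γ hγ hU⟩

lemma tauEquiv_res (hU : J.CoversTop U) {X X' : C} (h : X' ⟶ X) (p : P.P.obj.obj (op X)) :
    tauEquiv P hP s γ hγ hU X' (P.P.obj.map h.op p) =
      Sec.res h (tauEquiv P hP s γ hγ hU X p) := tau_res P hP s γ hγ h p

lemma tauEquiv_smul (hU : J.CoversTop U) {X : C} (g : G.obj.obj (op X))
    (p : P.P.obj.obj (op X)) :
    tauEquiv P hP s γ hγ hU X (P.smul g p) = Sec.smul g (tauEquiv P hP s γ hγ hU X p) :=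
  tau_smul P hP s γ hγ g p

end Tau

section Iso

variable (hU : J.CoversTop U) (P Q : NonAbH1.GSheaf G) (hP : P.IsPseudoTorsor)
  (hQ : Q.IsPseudoTorsor) (sP : ∀ i, P.P.obj.obj (op (U i))) (sQ : ∀ i, Q.P.obj.obj (op (U i)))
  (γ : PresheafOfGroups.OneCocycle G.obj U) (hγP : P.IsCocycleOf U sP γ)
  (hγQ : Q.IsCocycleOf U sQ γ)

/-- the comparison map on sections -/
noncomputable def cmp (X : Cᵒᵖ) (p : P.P.obj.obj X) : Q.P.obj.obj X :=
  (tauEquiv Q hQ sQ γ hγQ hU X.unop).symm (tauEquiv P hP sP γ hγP hU X.unop p)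

lemma tauEquiv_cmp (X : Cᵒᵖ) (p : P.P.obj.obj X) :
    tauEquiv Q hQ sQ γ hγQ hU X.unop (cmp hU P Q hP hQ sP sQ γ hγP hγQ X p) =
      tauEquiv P hP sP γ hγP hU X.unop p := Equiv.apply_symm_apply _ _

lemma cmp_cmp (X : Cᵒᵖ) (p : P.P.obj.obj X) :
    cmp hU Q P hQ hP sQ sP γ hγQ hγP X (cmp hU P Q hP hQ sP sQ γ hγP hγQ X p) = p := by
  apply (tauEquiv P hP sP γ hγP hU X.unop).injective
  rw [tauEquiv_cmp, tauEquiv_cmp]

lemma cmp_map {X Y : Cᵒᵖ} (f : X ⟶ Y) (p : P.P.obj.obj X) :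
    cmp hU P Q hP hQ sP sQ γ hγP hγQ Y (P.P.obj.map f p) =
      Q.P.obj.map f (cmp hU P Q hP hQ sP sQ γ hγP hγQ X p) := by
  apply (tauEquiv Q hQ sQ γ hγQ hU Y.unop).injective
  rw [tauEquiv_cmp]
  have h1 := tauEquiv_res P hP sP γ hγP hU f.unop p
  have h2 := tauEquiv_res Q hQ sQ γ hγQ hU f.unop (cmp hU P Q hP hQ sP sQ γ hγP hγQ X p)
  rw [tauEquiv_cmp] at h2
  exact h1.trans h2.symm

lemma cmp_smul {X : Cᵒᵖ} (g : G.obj.obj X) (p : P.P.obj.obj X) :
    cmp hU P Q hP hQ sP sQ γ hγP hγQ X (P.smul g p) =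
      Q.smul g (cmp hU P Q hP hQ sP sQ γ hγP hγQ X p) := by
  apply (tauEquiv Q hQ sQ γ hγQ hU X.unop).injective
  rw [tauEquiv_cmp]
  have h1 := tauEquiv_smul P hP sP γ hγP hU (X := X.unop) g p
  have h2 := tauEquiv_smul Q hQ sQ γ hγQ hU (X := X.unop) g
    (cmp hU P Q hP hQ sP sQ γ hγP hγQ X p)
  rw [tauEquiv_cmp] at h2
  exact h1.trans h2.symm

/-- the comparison morphism -/
noncomputable def cmpHom : P ⟶ Q where
  hom := ⟨{ app := fun X => TypeCat.ofHom (cmp hU P Q hP hQ sP sQ γ hγP hγQ X)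
            naturality := by
              intro X Y f
              ext p
              exact cmp_map hU P Q hP hQ sP sQ γ hγP hγQ f p }⟩
  map_smul g p := cmp_smul hU P Q hP hQ sP sQ γ hγP hγQ g p

lemma cmpHom_comp : cmpHom hU P Q hP hQ sP sQ γ hγP hγQ ≫ cmpHom hU Q P hQ hP sQ sP γ hγQ hγP =
    𝟙 P := by
  apply NonAbH1.GSheaf.hom_ext
  apply Sheaf.hom_ext
  ext X p
  exact cmp_cmp hU P Q hP hQ sP sQ γ hγP hγQ X p

include hU hP hQ sP sQ γ hγP hγQ in
/-- two pseudo-torsor sheaves with sections cutting out the same cocycle are isomorphic -/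
theorem nonempty_iso_of_same_cocycle : Nonempty (P ≅ Q) :=
  ⟨{ hom := cmpHom hU P Q hP hQ sP sQ γ hγP hγQ
     inv := cmpHom hU Q P hQ hP sQ sP γ hγQ hγP
     hom_inv_id := cmpHom_comp hU P Q hP hQ sP sQ γ hγP hγQ
     inv_hom_id := cmpHom_comp hU Q P hQ hP sQ sP γ hγQ hγP }⟩

end Iso

end Groth.Agent.H81.Twist
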