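import Groth.Prelude.Def_NonAbH1
import Mathlib.CategoryTheory.Sites.CoversTop.Basic
import Mathlib

/-!
The torsor attached to a Čech 1-cocycle of a sheaf of groups on a family of objects covering the
site (`NonAbH1`): sections over `X` are the families `t (f, i, a) ∈ G(Y)` indexed by `f : Y ⟶ X`,
`a : Y ⟶ U i`, natural in `Y`, with `t (f, i, a) * γ_ij (a, b) = t (f, j, b)`.
-/

set_option autoImplicit false

universe w₁ w' w v u

open CategoryTheory Opposite

namespace Groth.Agent.H81.Twist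

variable {C : Type u} [Category.{v} C] {J : GrothendieckTopology C}

section Glue

/-- the free group on one generator, in universe `w` -/
abbrev EE : GrpCat.{w} := GrpCat.of (FreeGroup PUnit.{w + 1})

/-- the generator -/
abbrev gen : (EE.{w} : GrpCat.{w}) := FreeGroup.of PUnit.unit

/-- an element of a group as a morphism from the free group on one generator -/
noncomputable def elt {H : GrpCat.{w}} (g : H) : EE.{w} ⟶ H :=
  GrpCat.ofHom (FreeGroup.lift (fun _ => g))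

lemma elt_gen {H : GrpCat.{w}} (g : H) : (elt g).hom gen = g := by
  simp [elt]

lemma elt_ext {H : GrpCat.{w}} {φ ψ : EE.{w} ⟶ H} (h : φ.hom gen = ψ.hom gen) : φ = ψ := by
  apply GrpCat.hom_ext
  apply FreeGroup.ext_hom
  intro a
  exact h

lemma elt_comp {H H' : GrpCat.{w}} (g : H) (f : H ⟶ H') : elt g ≫ f = elt (f g) := by
  apply elt_ext
  rw [elt_gen]
  show f ((elt g).hom gen) = f g
  rw [elt_gen]

lemma Gmap_comp (G : Cᵒᵖ ⥤ GrpCat.{w}) {X Y Z : C} (g : Z ⟶ Y) (f : Y ⟶ X) (x : G.obj (op X)) :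
    G.map (g ≫ f).op x = G.map g.op (G.map f.op x) := by
  rw [op_comp, G.map_comp]; rfl

lemma Gmap_id (G : Cᵒᵖ ⥤ GrpCat.{w}) {X : C} (x : G.obj (op X)) : G.map (𝟙 X).op x = x := by
  rw [op_id, G.map_id]; rfl

/-- sections of a sheaf of groups are determined locally -/
theorem G_sep (G : Sheaf J GrpCat.{w}) {X : C} (S : Sieve X) (hS : S ∈ J X)
    (g g' : G.obj.obj (op X))
    (h : ∀ ⦃Y : C⦄ (f : Y ⟶ X), S f → G.obj.map f.op g = G.obj.map f.op g') : g = g' := by
  have h1 : elt g = elt g' := G.cond.hom_ext (E := EE.{w}) ⟨S, hS⟩ (elt g) (elt g') (fun I => by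
    rw [elt_comp, elt_comp]
    congr 1
    exact h I.f I.hf)
  have h2 : (elt g).hom gen = (elt g').hom gen := by rw [h1]
  rw [elt_gen, elt_gen] at h2
  exact h2

/-- sections of a sheaf of groups glue -/
theorem G_glue (G : Sheaf J GrpCat.{w}) {X : C} (S : Sieve X) (hS : S ∈ J X)
    (x : ∀ ⦃Y : C⦄ (f : Y ⟶ X), S f → G.obj.obj (op Y))
    (hx : ∀ ⦃Y Z : C⦄ (f : Y ⟶ X) (hf : S f) (g : Z ⟶ Y),
      G.obj.map g.op (x f hf) = x (g ≫ f) (S.downward_closed hf g)) :
    ∃ g : G.obj.obj (op X), ∀ ⦃Y : C⦄ (f : Y ⟶ X) (hf : S f), G.obj.map f.op g = x f hf := by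
  have hcongr : ∀ ⦃Y : C⦄ (f f' : Y ⟶ X) (hf : S f) (hf' : S f'), f = f' → x f hf = x f' hf' := by
    intro Y f f' hf hf' e; subst e; rfl
  have hcomp : ∀ ⦃I₁ I₂ : GrothendieckTopology.Cover.Arrow (⟨S, hS⟩ : J.Cover X)⦄
      (r : I₁.Relation I₂),
      elt (x I₁.f I₁.hf) ≫ G.obj.map r.g₁.op = elt (x I₂.f I₂.hf) ≫ G.obj.map r.g₂.op := by
    intro I₁ I₂ r
    rw [elt_comp, elt_comp, hx, hx]
    congr 1
    exact hcongr _ _ _ _ r.w
  let φ := G.cond.amalgamate (E := EE.{w}) ⟨S, hS⟩ (fun I => elt (x I.f I.hf)) hcomp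
  refine ⟨φ.hom gen, fun Y f hf => ?_⟩
  have h1 := G.cond.amalgamate_map (E := EE.{w}) ⟨S, hS⟩ (fun I => elt (x I.f I.hf)) hcomp
    ⟨Y, f, hf⟩
  have h2 : (G.obj.map f.op) (φ.hom gen) = (elt (x f hf)).hom gen :=
    congrArg (fun ψ => ψ.hom gen) h1
  rw [elt_gen] at h2
  exact h2

end Glue

section Sec

variable (G : Sheaf J GrpCat.{w}) {I : Type w'} (U : I → C)
  (γ : PresheafOfGroups.OneCocycle G.obj U)

/-- sections of the twisted torsor over `X` -/
structure Sec (X : C) where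
  /-- the components -/
  t : ∀ ⦃Y : C⦄ (f : Y ⟶ X) (i : I) (a : Y ⟶ U i), G.obj.obj (op Y)
  nat : ∀ ⦃Z Y : C⦄ (g : Z ⟶ Y) (f : Y ⟶ X) (i : I) (a : Y ⟶ U i),
    G.obj.map g.op (t f i a) = t (g ≫ f) i (g ≫ a)
  coc : ∀ ⦃Y : C⦄ (f : Y ⟶ X) (i j : I) (a : Y ⟶ U i) (b : Y ⟶ U j),
    t f i a * γ.ev i j a b = t f j b

variable {G U γ}

lemma Sec.ext' {X : C} {s s' : Sec G U γ X}
    (h : ∀ ⦃Y : C⦄ (f : Y ⟶ X) (i : I) (a : Y ⟶ U i), s.t f i a = s'.t f i a) : s = s' := by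
  cases s; cases s'
  congr
  funext Y f i a
  exact h f i a

/-- restriction -/
def Sec.res {X X' : C} (h : X' ⟶ X) (s : Sec G U γ X) : Sec G U γ X' where
  t Y f i a := s.t (f ≫ h) i a
  nat Z Y g f i a := by rw [s.nat, Category.assoc]
  coc Y f i j a b := s.coc (f ≫ h) i j a b

@[simp] lemma Sec.res_t {X X' : C} (h : X' ⟶ X) (s : Sec G U γ X) {Y : C} (f : Y ⟶ X') (i : I)
    (a : Y ⟶ U i) : (Sec.res h s).t f i a = s.t (f ≫ h) i a := rfl

/-- the action of `G(X)` -/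
def Sec.smul {X : C} (g : G.obj.obj (op X)) (s : Sec G U γ X) : Sec G U γ X where
  t Y f i a := G.obj.map f.op g * s.t f i a
  nat Z Y k f i a := by rw [map_mul, s.nat, Gmap_comp]
  coc Y f i j a b := by rw [mul_assoc, s.coc]

@[simp] lemma Sec.smul_t {X : C} (g : G.obj.obj (op X)) (s : Sec G U γ X) {Y : C} (f : Y ⟶ X)
    (i : I) (a : Y ⟶ U i) : (Sec.smul g s).t f i a = G.obj.map f.op g * s.t f i a := rfl

lemma Sec.one_smul {X : C} (s : Sec G U γ X) : Sec.smul 1 s = s :=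
  Sec.ext' (fun Y f i a => by simp)

lemma Sec.mul_smul {X : C} (g h : G.obj.obj (op X)) (s : Sec G U γ X) :
    Sec.smul (g * h) s = Sec.smul g (Sec.smul h s) :=
  Sec.ext' (fun Y f i a => by simp [mul_assoc])

lemma Sec.res_smul {X X' : C} (h : X' ⟶ X) (g : G.obj.obj (op X)) (s : Sec G U γ X) :
    Sec.res h (Sec.smul g s) = Sec.smul (G.obj.map h.op g) (Sec.res h s) :=
  Sec.ext' (fun Y f i a => by simp [Gmap_comp])

variable (G U γ)

/-- the presheaf of sections (in a large universe) -/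
def secFunctor : Cᵒᵖ ⥤ Type (max u v w' w) where
  obj X := Sec G U γ X.unop
  map {X X'} h := TypeCat.ofHom
    (fun (s : Sec G U γ X.unop) => (Sec.res h.unop s : Sec G U γ X'.unop))
  map_id X := by
    ext s
    exact Sec.ext' (fun Y f i a => by simp)
  map_comp h h' := by
    ext s
    exact Sec.ext' (fun Y f i a => by simp)

@[simp] lemma secFunctor_map_apply {X X' : Cᵒᵖ} (h : X ⟶ X') (s : Sec G U γ X.unop) :
    (secFunctor G U γ).map h s = Sec.res h.unop s := rfl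

/-- the canonical section over `U i` -/
def sec0 (i : I) : Sec G U γ (U i) where
  t Y f j b := γ.ev i j f b
  nat Z Y g f j b := γ.ev_precomp i j g f b
  coc Y f j k b c := γ.ev_trans i j k f b c

variable {G U γ}

/-- simple transitivity of the action -/
theorem sec_pseudo (hU : J.CoversTop U) {X : C} (s s' : Sec G U γ X) :
    ∃! g : G.obj.obj (op X), Sec.smul g s = s' := by
  have hS : Sieve.ofObjects U X ∈ J X := hU X
  have hind : ∀ ⦃Y : C⦄ (f : Y ⟶ X) (i j : I) (a : Y ⟶ U i) (b : Y ⟶ U j),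
      s'.t f i a * (s.t f i a)⁻¹ = s'.t f j b * (s.t f j b)⁻¹ := by
    intro Y f i j a b
    rw [← s'.coc f i j a b, ← s.coc f i j a b, mul_inv_rev, mul_assoc, mul_inv_cancel_left]
  have hex : ∃ g : G.obj.obj (op X), ∀ ⦃Y : C⦄ (f : Y ⟶ X) (i : I) (a : Y ⟶ U i),
      G.obj.map f.op g = s'.t f i a * (s.t f i a)⁻¹ := by
    have hmem : ∀ ⦃Y : C⦄ (f : Y ⟶ X), Sieve.ofObjects U X f → ∃ (i : I), Nonempty (Y ⟶ U i) :=
      fun Y f hf => hf
    obtain ⟨g, hg⟩ := G_glue G (Sieve.ofObjects U X) hS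
      (fun Y f hf => s'.t f (hmem f hf).choose (hmem f hf).choose_spec.some *
        (s.t f (hmem f hf).choose (hmem f hf).choose_spec.some)⁻¹) (by
      intro Y Z f hf k
      rw [map_mul, map_inv, s'.nat, s.nat]
      exact hind (k ≫ f) _ _ _ _)
    refine ⟨g, fun Y f i a => ?_⟩
    have hf : Sieve.ofObjects U X f := ⟨i, ⟨a⟩⟩
    rw [hg f hf]
    exact hind f _ _ _ _
  obtain ⟨g, hg⟩ := hex
  refine ⟨g, ?_, ?_⟩
  · apply Sec.ext'
    intro Y f i a
    rw [Sec.smul_t, hg f i a, inv_mul_cancel_right]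
  · intro g' hg'
    apply G_sep G (Sieve.ofObjects U X) hS
    intro Y f hf
    obtain ⟨i, ⟨a⟩⟩ := hf
    rw [hg f i a]
    have h1 : G.obj.map f.op g' * s.t f i a = s'.t f i a := by
      rw [← Sec.smul_t, hg']
    exact eq_mul_inv_of_mul_eq h1

theorem sec_small (hU : J.CoversTop U) (X : C) : Small.{w} (Sec G U γ X) := by
  by_cases h : Nonempty (Sec G U γ X)
  · obtain ⟨s₀⟩ := h
    let φ : Sec G U γ X → G.obj.obj (op X) := fun s => (sec_pseudo hU s₀ s).exists.choose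
    have hφ : ∀ s, Sec.smul (φ s) s₀ = s := fun s => (sec_pseudo hU s₀ s).exists.choose_spec
    refine small_of_injective (f := φ) (fun s s' e => ?_)
    calc s = Sec.smul (φ s) s₀ := (hφ s).symm
      _ = Sec.smul (φ s') s₀ := by rw [e]
      _ = s' := hφ s'
  · have : IsEmpty (Sec G U γ X) := not_nonempty_iff.mp h
    infer_instance

end Sec

section SheafCond

variable {G : Sheaf J GrpCat.{w}} {I : Type w'} {U : I → C}
  {γ : PresheafOfGroups.OneCocycle G.obj U}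
  {X : C} (S : Sieve X) (x : Presieve.FamilyOfElements (secFunctor G U γ) S.arrows)

/-- the family, read as sections -/
def fam {Y : C} (f : Y ⟶ X) (hf : S f) : Sec G U γ Y := x f hf

lemma fam_congr {Y : C} {f f' : Y ⟶ X} (e : f = f') (hf : S f) (hf' : S f') :
    fam S x f hf = fam S x f' hf' := by
  subst e; rfl

lemma fam_comp (hx : x.SieveCompatible) {Y Z : C} (f : Y ⟶ X) (hf : S f) (g : Z ⟶ Y)
    (hg : S (g ≫ f)) : fam S x (g ≫ f) hg = Sec.res g (fam S x f hf) :=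
  hx f g hf

lemma fam_t (hx : x.SieveCompatible) {Y Z W : C} (f : Y ⟶ X) (hf : S f) (g : Z ⟶ Y)
    (hg : S (g ≫ f)) (k : W ⟶ Z) (i : I) (b : W ⟶ U i) :
    (fam S x (g ≫ f) hg).t k i b = (fam S x f hf).t (k ≫ g) i b := by
  rw [fam_comp S x hx f hf g hg]; rfl

/-- `e` restricts to the family on the pulled back sieve -/
def IsLoc {Y : C} (f : Y ⟶ X) (i : I) (a : Y ⟶ U i) (e : G.obj.obj (op Y)) : Prop :=
  ∀ ⦃Z : C⦄ (g : Z ⟶ Y) (hg : S (g ≫ f)),
    G.obj.map g.op e = (fam S x (g ≫ f) hg).t (𝟙 Z) i (g ≫ a)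

lemma exists_isLoc (hS : S ∈ J X) (hx : x.SieveCompatible) {Y : C} (f : Y ⟶ X) (i : I)
    (a : Y ⟶ U i) : ∃ e, IsLoc S x f i a e := by
  have hpb : S.pullback f ∈ J Y := J.pullback_stable f hS
  obtain ⟨e, he⟩ := G_glue G (S.pullback f) hpb
    (fun Z g hg => (fam S x (g ≫ f) hg).t (𝟙 Z) i (g ≫ a)) (by
    intro Z Z' g hg k
    have h1 : S (k ≫ (g ≫ f)) := S.downward_closed hg k
    rw [(fam S x (g ≫ f) hg).nat, fam_congr S x (Category.assoc k g f) _ h1,
      fam_t S x hx (g ≫ f) hg k h1]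
    simp)
  exact ⟨e, fun Z g hg => he g hg⟩

lemma isLoc_unique (hS : S ∈ J X) {Y : C} (f : Y ⟶ X) (i : I) (a : Y ⟶ U i)
    (e e' : G.obj.obj (op Y)) (he : IsLoc S x f i a e) (he' : IsLoc S x f i a e') : e = e' :=
  G_sep G (S.pullback f) (J.pullback_stable f hS) e e'
    (fun Z g hg => (he g hg).trans (he' g hg).symm)

lemma isLoc_nat {Y Y' : C} (f : Y ⟶ X) (i : I) (a : Y ⟶ U i) (e : G.obj.obj (op Y))
    (he : IsLoc S x f i a e) (g : Y' ⟶ Y) : IsLoc S x (g ≫ f) i (g ≫ a) (G.obj.map g.op e) := by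
  intro Z k hk
  have hk' : S ((k ≫ g) ≫ f) := by rwa [Category.assoc]
  rw [← Gmap_comp, he (k ≫ g) hk', fam_congr S x (Category.assoc k g f) hk' hk, Category.assoc]

lemma isLoc_coc {Y : C} (f : Y ⟶ X) (i j : I) (a : Y ⟶ U i) (b : Y ⟶ U j)
    (e : G.obj.obj (op Y)) (he : IsLoc S x f i a e) : IsLoc S x f j b (e * γ.ev i j a b) := by
  intro Z g hg
  rw [map_mul, he g hg, γ.ev_precomp, (fam S x (g ≫ f) hg).coc]

/-- the amalgamation -/
noncomputable def amalg (hS : S ∈ J X) (hx : x.SieveCompatible) : Sec G U γ X where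
  t Y f i a := (exists_isLoc S x hS hx f i a).choose
  nat Z Y g f i a := isLoc_unique S x hS (g ≫ f) i (g ≫ a) _ _
    (isLoc_nat S x f i a _ (exists_isLoc S x hS hx f i a).choose_spec g)
    (exists_isLoc S x hS hx (g ≫ f) i (g ≫ a)).choose_spec
  coc Y f i j a b := isLoc_unique S x hS f j b _ _
    (isLoc_coc S x f i j a b _ (exists_isLoc S x hS hx f i a).choose_spec)
    (exists_isLoc S x hS hx f j b).choose_spec

lemma amalg_isLoc (hS : S ∈ J X) (hx : x.SieveCompatible) {Y : C} (f : Y ⟶ X) (i : I)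
    (a : Y ⟶ U i) : IsLoc S x f i a ((amalg S x hS hx).t f i a) :=
  (exists_isLoc S x hS hx f i a).choose_spec

end SheafCond

section Sheaf

variable (G : Sheaf J GrpCat.{w}) {I : Type w'} (U : I → C)
  (γ : PresheafOfGroups.OneCocycle G.obj U)

theorem sec_isSheaf : Presieve.IsSheaf J (secFunctor G U γ) := by
  intro X S hS x hx
  rw [Presieve.compatible_iff_sieveCompatible] at hx
  refine ⟨amalg S x hS hx, ?_, ?_⟩
  · intro Y h hh
    apply Sec.ext'
    intro Z f' i a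
    show (amalg S x hS hx).t (f' ≫ h) i a = (fam S x h hh).t f' i a
    have hm : S (𝟙 Z ≫ f' ≫ h) := by
      rw [Category.id_comp]; exact S.downward_closed hh f'
    have h1 := amalg_isLoc S x hS hx (f' ≫ h) i a (𝟙 Z) hm
    rw [Gmap_id] at h1
    rw [h1, fam_congr S x (Category.id_comp (f' ≫ h)) hm (S.downward_closed hh f'),
      fam_t S x hx h hh f' _ (𝟙 Z) i]
    simp
  · intro t' ht'
    apply Sec.ext'
    intro Y f i a
    apply isLoc_unique S x hS f i a _ _ ?_ (amalg_isLoc S x hS hx f i a)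
    intro Z g hg
    have h2 : fam S x (g ≫ f) hg = Sec.res (g ≫ f) t' := (ht' (g ≫ f) hg).symm
    rw [Sec.nat, h2, Sec.res_t, Category.id_comp]

end Sheaf

section Shrink

variable (F : Cᵒᵖ ⥤ Type w₁) [∀ X, Small.{w} (F.obj X)]

/-- a presheaf with small values, shrunk -/
noncomputable def shrinkFunctor' : Cᵒᵖ ⥤ Type w where
  obj X := Shrink.{w} (F.obj X)
  map f := TypeCat.ofHom (fun p => equivShrink _ (F.map f ((equivShrink _).symm p)))
  map_id X := by ext p; simp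
  map_comp f g := by ext p; simp

@[simp] lemma shrinkFunctor'_map_apply {X Y : Cᵒᵖ} (f : X ⟶ Y) (p : Shrink.{w} (F.obj X)) :
    (shrinkFunctor'.{w₁, w} F).map f p = equivShrink _ (F.map f ((equivShrink _).symm p)) := rfl

theorem shrink_isSheaf (hF : Presieve.IsSheaf J F) :
    Presieve.IsSheaf J (shrinkFunctor'.{w₁, w} F) :=
  Presieve.isSheaf_of_nat_equiv (P₁ := F) (P₂ := shrinkFunctor'.{w₁, w} F)
    (fun X => equivShrink (F.obj (op X)))
    (fun X Y f x => by
      show equivShrink _ (F.map f.op x) =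
        equivShrink _ (F.map f.op ((equivShrink _).symm (equivShrink _ x)))
      rw [Equiv.symm_apply_apply]) hF

end Shrink

end Groth.Agent.H81.Twist
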