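import Groth.Agent.H27.Classical
import Groth.Agent.H27.CanGap
import Groth.Agent.S12609
import Groth.Agent.S12608
import Groth.Agent.H55.FFAut
import Groth.Agent.H55.FFHyper6
import Groth.Agent.H55.FFCons3

/-! Weierstrass points of the canonical map: weights via gap sequences, the count `≥ 2g+2`,
and the hyperelliptic dichotomy (given the degree formula for the Weierstrass divisor). -/

set_option autoImplicit false

namespace Groth.Agent.H81.Weier

open FunFld WithZero IntermediateField Groth.Agent.H55 Groth.Agent.H27.WDiv Groth.Agent.H27.Generic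
open Groth.Agent.H27.Sep Groth.Agent.H27.LocOrd Groth.Agent.H27.MapDivInv
open Groth.Agent.H27.BinomDet Groth.Agent.H27.Classical

variable {k K : Type*} [Field k] [IsAlgClosed k] [Field K] [Algebra k K]

/-- The divisor of a basis of `L(C)`, `C` canonical, is `C` (the canonical system has no base
points). -/
theorem mapDiv_eq (hK : IsFunctionField k K) (hg : 0 < genus k K) {C : Divisor k K}
    (hC : IsCanonical k K C) {n : ℕ} (φ : Fin (n + 1) → K) (hφ : LinearIndependent k φ)
    (hspan : Submodule.span k (Set.range φ) = L C) : mapDiv k φ = C := by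
  have hφ0 : ∀ i, φ i ≠ 0 := fun i => hφ.ne_zero i
  ext P
  apply le_antisymm
  · obtain ⟨j, -, hj⟩ := Finset.exists_max_image Finset.univ (fun i => P.1 (φ i))
      Finset.univ_nonempty
    have h1 := val_eq_exp_mapDiv hK φ hφ0 P j (fun i => hj i (Finset.mem_univ _))
    have h2 : φ j ∈ L C := by
      rw [← hspan]
      exact Submodule.subset_span ⟨j, rfl⟩
    have h3 := h2 P
    rw [h1] at h3
    exact exp_le_exp.mp h3
  · obtain ⟨f, hf, hfv⟩ := Groth.Agent.H27.CanGap.canonical_bpf hK hC hg P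
    rw [← hspan] at hf
    have := val_le_of_mem_span hK φ hφ0 P hf
    rw [hfv] at this
    exact exp_le_exp.mp this

theorem hchar_cast (hK : IsFunctionField k K) (hg : 1 < genus k K)
    (hchar : ringChar k = 0 ∨ 2 * genus k K - 2 < ringChar k)
    {C : Divisor k K} (hC : IsCanonical k K C) {n : ℕ} (φ : Fin (n + 1) → K)
    (hφ : LinearIndependent k φ) (hspan : Submodule.span k (Set.range φ) = L C) :
    ringChar k = 0 ∨ (mapDiv k φ).deg < (ringChar k : ℤ) := by
  rcases hchar with h | h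
  · exact Or.inl h
  · right
    rw [mapDiv_eq hK (by omega) hC φ hφ hspan, (ell_canonical hK hC).2]
    omega

/-- The canonical map is classical in characteristic `0` or `> 2g - 2`. -/
theorem orders_succ (hK : IsFunctionField k K) (hg : 1 < genus k K)
    (hchar : ringChar k = 0 ∨ 2 * genus k K - 2 < ringChar k)
    {C : Divisor k K} (hC : IsCanonical k K C) {n : ℕ} (φ : Fin (n + 1) → K)
    (hφ : LinearIndependent k φ) (hspan : Submodule.span k (Set.range φ) = L C)
    (s : K) (H : K →ₐ[k] PowerSeries K) (hH : LocRes.IsHasseFamily s H) :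
    IsOrders K (hcol (AlgHom.id k K) H φ) (fun l : Fin n => (l : ℕ) + 1) := by
  classical
  have hchar' := hchar_cast hK hg hchar hC φ hφ hspan
  obtain ⟨P, -⟩ := Groth.Agent.H55.exists_zero hK s
    (Groth.Agent.H27.Hasse.transcendental_of_hasse hK hH)
  refine core hK φ hφ (AlgHom.id k K) s H hH P (fun z hz => hz) _ ?_
    (Or.inl fun l => Nat.succ_pos _) ?_ ?_
  · intro a b h
    have : (a : ℕ) < b := h
    show (a : ℕ) + 1 < (b : ℕ) + 1
    omega
  · intro J' hJ'm hJ'pos hJ'deg
    apply det_binomMat_succ k J'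
    · intro r
      exact cast_ne_zero_of_le k hchar' (hJ'deg r) (hJ'pos r).ne'
    · intro a b hab
      have h1 := hJ'pos a
      have h2 := hJ'pos b
      have h3 := hJ'deg a
      have h4 := hJ'deg b
      have := cast_inj_of_le k hchar' (a := J' a - 1) (b := J' b - 1) (by omega) (by omega) hab
      exact hJ'm.injective (by omega)
  · intro J hJ
    have hne : ∀ l, J l ≠ 0 := by
      intro l hl
      have hjump : IsJump K (hcol (AlgHom.id k K) H φ) (0 + 1) := (hJ.2 0).1 ⟨l, hl⟩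
      apply hjump
      apply Submodule.subset_span
      refine ⟨0, ?_, ?_⟩
      · show (0 : ℕ) < 0 + 1
        omega
      · show hcol (AlgHom.id k K) H φ 0 = hcol (AlgHom.id k K) H φ 1
        rw [Groth.Agent.H27.Hasse.hcol_one hH]
        rfl
    have key : ∀ (m : ℕ) (hm : m < n), m + 1 ≤ J ⟨m, hm⟩ := by
      intro m
      induction m with
      | zero =>
        intro hm
        have := hne ⟨0, hm⟩
        omega
      | succ m ih =>
        intro hm
        have h1 := ih (by omega)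
        have h2 : J ⟨m, by omega⟩ < J ⟨m + 1, hm⟩ := hJ.1 (by simp [Fin.lt_def])
        omega
    intro l
    exact key l l.2

/-- Local data at a place: the local orders of the canonical map are the gaps minus one, and the
weight is the sum of the excesses. -/
theorem local_data (hK : IsFunctionField k K) (hg : 1 < genus k K)
    (hchar : ringChar k = 0 ∨ 2 * genus k K - 2 < ringChar k)
    {C : Divisor k K} (hC : IsCanonical k K C) {n : ℕ} (φ : Fin (n + 1) → K)
    (hφ : LinearIndependent k φ) (hspan : Submodule.span k (Set.range φ) = L C)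
    (s : K) (H : K →ₐ[k] PowerSeries K) (hH : LocRes.IsHasseFamily s H)
    (Φ : Place k K → (K →ₐ[k] LaurentSeries k))
    (hΦ : ∀ P : Place k K, LocRes.IsExpansionAt P.1 (Φ P)) (P : Place k K) :
    ∃ J' : Fin n → ℕ, StrictMono J' ∧ (∀ l, 0 < J' l) ∧
      (∀ j : ℕ, 1 ≤ j → (j ∈ Set.range J' ↔ IsGap P ((j : ℤ) + 1))) ∧
      wDiv (AlgHom.id k K) H Φ s φ (fun l : Fin n => (l : ℕ) + 1) P
        = ∑ l, ((J' l : ℤ) - (((l : ℕ) + 1 : ℕ) : ℤ)) := by
  classical
  have hg1 := Groth.Agent.S11000.result k K hK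
  have hfr := finrank_kaehler hK hg1
  have hchar' := hchar_cast hK hg hchar hC φ hφ hspan
  have hJ := orders_succ hK hg hchar hC φ hφ hspan s H hH
  obtain ⟨t, ht⟩ := P.2.2 (exp (-1 : ℤ))
  obtain ⟨Ht, hHt⟩ := exists_hasse hH (hasseD_one_ne_zero hH hfr (D_ne_zero_of_val hK P ht))
  obtain ⟨j0, -, hj0⟩ := Finset.exists_max_image Finset.univ (fun i => P.1 (φ i))
    Finset.univ_nonempty
  have hφ0 : ∀ i, φ i ≠ 0 := fun i => hφ.ne_zero i
  obtain ⟨y, hy⟩ : ∃ y : K, y = (φ j0)⁻¹ := ⟨_, rfl⟩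
  have hy0 : y ≠ 0 := by
    rw [hy]
    exact inv_ne_zero (hφ0 j0)
  obtain ⟨φ', hφ'⟩ : ∃ φ' : Fin (n + 1) → K, φ' = y • φ := ⟨_, rfl⟩
  have hφ'i : ∀ i, φ' i = y * φ i := fun i => by rw [hφ', Pi.smul_apply, smul_eq_mul]
  have hφ'li : LinearIndependent k φ' := by
    have : φ' = (LinearMap.mulLeft k y) ∘ φ := by
      ext i
      simp [hφ'i]
    rw [this]
    exact hφ.map' _ (LinearMap.ker_eq_bot.2 (mul_right_injective₀ hy0))
  have heff : (1 : K) ∈ Submodule.span k (Set.range φ') :=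
    Submodule.subset_span ⟨j0, by rw [hφ'i, hy, inv_mul_cancel₀ (hφ0 j0)]⟩
  have hnorm : ∀ i, P.1 (φ' i) ≤ 1 := by
    intro i
    rw [hφ'i, hy, map_mul, map_inv₀, inv_mul_le_iff₀ (zero_lt_iff.2
      ((Valuation.ne_zero_iff _).2 (hφ0 j0))), mul_one]
    exact hj0 i (Finset.mem_univ _)
  have htrans : ∀ J : Fin n → ℕ, IsOrders K (hcol (AlgHom.id k K) Ht φ') J ↔
      IsOrders K (hcol (AlgHom.id k K) H φ) J := by
    intro J
    rw [hφ', (Groth.Agent.S12597.result k K hK φ hφ (AlgHom.id k K) t Ht hHt y hy0).1 J]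
    exact (Groth.Agent.S12598.result k K hK φ hφ (AlgHom.id k K) s H hH t Ht hHt).1 J
  have hJt := (htrans _).2 hJ
  obtain ⟨J', hJ'ord⟩ := Groth.Agent.H27.Jump.exists_localOrders hK P φ' hφ'li heff hnorm t ht
    Ht hHt
  have hJ'pos : ∀ l, 0 < J' l := fun l =>
    ((isJump_hcolAt_succ_iff hK P ht hHt φ' hnorm (J' l)).1 ((hJ'ord.2 (J' l)).1 ⟨l, rfl⟩)).1
  have hJ'deg : ∀ l, (J' l : ℤ) ≤ (mapDiv k φ).deg := by
    intro l
    rw [← deg_mapDiv_smul hK φ hφ0 hy0, ← hφ']
    exact localOrder_le_deg hK P φ' hφ'li heff hnorm t ht Ht hHt (J' l)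
      ((hJ'ord.2 (J' l)).1 ⟨l, rfl⟩)
  have hW : wDiv (AlgHom.id k K) Ht Φ t φ' (fun l : Fin n => (l : ℕ) + 1)
      = wDiv (AlgHom.id k K) H Φ s φ (fun l : Fin n => (l : ℕ) + 1) := by
    refine Groth.Agent.S12614.result k K hK φ hφ (AlgHom.id k K) s H hH t Ht hHt _ hJ 1
      (by rw [Matrix.det_one]; exact one_ne_zero) y hy0 φ' ?_ Φ hΦ
    intro i
    rw [hφ'i]
    congr 1
    simp [Matrix.one_apply, ite_smul]
  obtain ⟨-, h2⟩ := Groth.Agent.S12615.result k K hK (AlgHom.id k K) P (fun z hz => hz) φ'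
    hφ'li heff hnorm t ht Ht hHt _ hJt J' hJ'ord Φ hΦ
  have hdet : (binomMat k J' (fun l : Fin n => (l : ℕ) + 1)).det ≠ 0 := by
    apply det_binomMat_succ k J'
    · intro r
      exact cast_ne_zero_of_le k hchar' (hJ'deg r) (hJ'pos r).ne'
    · intro a b hab
      have h1 := hJ'pos a
      have h2 := hJ'pos b
      have h3 := hJ'deg a
      have h4 := hJ'deg b
      have := cast_inj_of_le k hchar' (a := J' a - 1) (b := J' b - 1) (by omega) (by omega) hab
      exact hJ'ord.1.injective (by omega)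
  have h3 := (h2 (Or.inl rfl)).2 hdet
  refine ⟨J', hJ'ord.1, hJ'pos, ?_, ?_⟩
  · intro j hj
    rw [hJ'ord.2 j]
    have h9 := Groth.Agent.S12609.result k K hK C hC φ hφ hspan P y hy0
      (by rw [← hφ']; exact heff) (fun i => by rw [← hφ'i]; exact hnorm i) t ht Ht hHt j hj
    rw [← hφ'] at h9
    rw [h9]
    unfold IsGap
    rw [add_sub_cancel_right]
  · rw [← hW, h3]

/-- Bound on the local orders from the gap count. -/
theorem J'_le (P : Place k K) {n : ℕ} (J' : Fin n → ℕ) (hmono : StrictMono J')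
    (hpos : ∀ l, 0 < J' l)
    (hgap : ∀ j : ℕ, 1 ≤ j → (j ∈ Set.range J' ↔ IsGap P ((j : ℤ) + 1))) (l : Fin n) :
    J' l ≤ 2 * ((l : ℕ) + 1) := by
  classical
  have h1 : IsGap P (((J' l + 1 : ℕ)) : ℤ) := by
    have := (hgap (J' l) (hpos l)).1 ⟨l, rfl⟩
    rwa [Nat.cast_succ]
  have h2 := gap_count P (J' l + 1) h1
  have h3 : ((Finset.Ico 1 (J' l + 1)).filter (fun m : ℕ => IsGap P (m : ℤ))).card
      ≤ (l : ℕ) + 1 := by
    have hsub : (Finset.Ico 1 (J' l + 1)).filter (fun m : ℕ => IsGap P (m : ℤ)) ⊆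
        insert 1 ((Finset.Iio l).image (fun i => J' i + 1)) := by
      intro m hm
      rw [Finset.mem_filter, Finset.mem_Ico] at hm
      obtain ⟨⟨hm1, hm2⟩, hm3⟩ := hm
      rcases Nat.eq_or_lt_of_le hm1 with h | h
      · rw [← h]
        exact Finset.mem_insert_self _ _
      · apply Finset.mem_insert_of_mem
        have hm4 : IsGap P (((m - 1 : ℕ) : ℤ) + 1) := by
          have : (((m - 1 : ℕ) : ℤ) + 1) = (m : ℤ) := by omega
          rw [this]
          exact hm3
        obtain ⟨i, hi⟩ := (hgap (m - 1) (by omega)).2 hm4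
        rw [Finset.mem_image]
        refine ⟨i, ?_, by omega⟩
        rw [Finset.mem_Iio]
        exact hmono.lt_iff_lt.1 (by omega)
    calc _ ≤ (insert 1 ((Finset.Iio l).image (fun i => J' i + 1))).card :=
          Finset.card_le_card hsub
      _ ≤ ((Finset.Iio l).image (fun i => J' i + 1)).card + 1 := Finset.card_insert_le _ _
      _ ≤ (Finset.Iio l).card + 1 := Nat.add_le_add_right Finset.card_image_le _
      _ = (l : ℕ) + 1 := by rw [Fin.card_Iio]
  omega

theorem gauss (n : ℕ) : 2 * ∑ l : Fin n, (((l : ℕ) : ℤ) + 1) = (n : ℤ) * (n + 1) := by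
  induction n with
  | zero => simp
  | succ m ih =>
    rw [Fin.sum_univ_castSucc, mul_add]
    simp only [Fin.coe_castSucc, Fin.val_last]
    rw [ih]
    push_cast
    ring

/-- Weight bound `W(P) ≤ n(n+1)/2`, with equality forcing `2` to be a non-gap. -/
theorem weight_bound (P : Place k K) {n : ℕ} (hn : 1 ≤ n) (J' : Fin n → ℕ) (hmono : StrictMono J')
    (hpos : ∀ l, 0 < J' l)
    (hgap : ∀ j : ℕ, 1 ≤ j → (j ∈ Set.range J' ↔ IsGap P ((j : ℤ) + 1))) :
    2 * ∑ l, ((J' l : ℤ) - (((l : ℕ) + 1 : ℕ) : ℤ)) ≤ (n : ℤ) * (n + 1) ∧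
    (2 * ∑ l, ((J' l : ℤ) - (((l : ℕ) + 1 : ℕ) : ℤ)) = (n : ℤ) * (n + 1) → ¬ IsGap P 2) := by
  have hle : ∀ l ∈ (Finset.univ : Finset (Fin n)),
      ((J' l : ℤ) - (((l : ℕ) + 1 : ℕ) : ℤ)) ≤ (((l : ℕ) : ℤ) + 1) := by
    intro l _
    have := J'_le P J' hmono hpos hgap l
    push_cast
    omega
  constructor
  · rw [← gauss n]
    exact mul_le_mul_of_nonneg_left (Finset.sum_le_sum hle) (by norm_num)
  · intro heq hgap2
    rw [← gauss n] at heq
    have heq' := mul_left_cancel₀ (two_ne_zero) heq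
    have hall := (Finset.sum_eq_sum_iff_of_le hle).1 heq'
    have h2 : IsGap P (((1 : ℕ) : ℤ) + 1) := by
      have : (((1 : ℕ) : ℤ) + 1) = 2 := by norm_num
      rw [this]
      exact hgap2
    obtain ⟨i, hi⟩ := (hgap 1 le_rfl).2 h2
    have := hall i (Finset.mem_univ _)
    push_cast at this
    omega

theorem transcendental_of_double_pole (hK : IsFunctionField k K) (P : Place k K) (f : K)
    (hP : P.ord f = -2) : Transcendental k f := by
  rw [ff_transcendental_iff hK]
  rintro ⟨c, rfl⟩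
  rw [pl_ord_const] at hP
  omega

/-- A function with a double pole at `P` and no other pole generates a subfield of index `2`. -/
theorem finrank_of_double_pole (hK : IsFunctionField k K) (P : Place k K) (f : K)
    (hP : P.ord f = -2) (hQ : ∀ Q : Place k K, Q ≠ P → 0 ≤ Q.ord f) :
    Module.finrank k⟮f⟯ K = 2 := by
  classical
  have htr := transcendental_of_double_pole hK P f hP
  have h1 := deg_poleDiv hK f htr
  have h2 : poleDiv k f = Finsupp.single P 2 := by
    ext Q
    rw [poleDiv_apply hK, Finsupp.single_apply]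
    split_ifs with h
    · rw [← h, hP]
      norm_num
    · have := hQ Q (Ne.symm h)
      omega
  rw [h2, deg_single, deg_eq_one_of_isAlgClosed hK] at h1
  have : ((Module.finrank k⟮f⟯ K : ℕ) : ℤ) = 2 := by rw [← h1]; norm_num
  exact_mod_cast this

theorem fixes_adjoin (σ : K ≃ₐ[k] K) (x : K) (hx : Transcendental k x) (hσ : σ x = x) {a : K}
    (ha : a ∈ k⟮x⟯) : σ a = a := by
  obtain ⟨r, s, -, -, rfl⟩ := exists_coprime_frac hx ha
  rw [map_div₀, ← Polynomial.aeval_algHom_apply, ← Polynomial.aeval_algHom_apply, hσ]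


/-- The hyperelliptic case: if every place of `T` (at least six of them) carries a function with a
double pole there and no other pole, then the automorphisms fixing every place of `T` are those
fixing one such function. -/
theorem hyper_core (hK : IsFunctionField k K) (hg : 1 < genus k K) (T : Finset (Place k K))
    (hT : 6 ≤ T.card)
    (hx : ∀ P ∈ T, ∃ f : K, f ≠ 0 ∧ P.ord f = -2 ∧ ∀ Q : Place k K, Q ≠ P → 0 ≤ Q.ord f) :
    ∃ x : K, Module.finrank k⟮x⟯ K = 2 ∧ ∀ σ : K ≃ₐ[k] K,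
      (∀ P ∈ T, IsFixedPt (σ : K →ₐ[k] K) P) ↔ σ x = x := by
  classical
  obtain ⟨P₀, hP₀⟩ : T.Nonempty := Finset.card_pos.1 (by omega)
  obtain ⟨x, hx0, hxP, hxQ⟩ := hx P₀ hP₀
  have hx2 := finrank_of_double_pole hK P₀ x hxP hxQ
  have hxtr := transcendental_of_double_pole hK P₀ x hxP
  refine ⟨x, hx2, fun σ => ⟨fun hfix => ?_, fun hσ P hP => ?_⟩⟩
  · -- `σ` fixes all places of `T`
    have hfix0 := hfix P₀ hP₀
    have hc0 : comapEquiv P₀ σ = P₀ := comapEquiv_eq_of_fixed P₀ σ hfix0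
    have hc0' : comapEquiv P₀ σ.symm = P₀ := by
      have := comapEquiv_symm P₀ σ
      rw [hc0] at this
      exact this
    have hxL : x ∈ L (Finsupp.single P₀ 2 : Divisor k K) :=
      (mem_L_single_iff P₀ hx0).2 ⟨by omega, hxQ⟩
    have hσxL : σ x ∈ L (Finsupp.single P₀ 2 : Divisor k K) := by
      rw [mem_L]
      intro Q
      by_cases hQ : Q = P₀
      · rw [hQ, ← comapEquiv_apply, hc0]
        exact hxL P₀
      · have hne : comapEquiv Q σ ≠ P₀ := by
          intro h
          apply hQ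
          have := comapEquiv_symm Q σ
          rw [h, hc0'] at this
          exact this.symm
        have h1 := hxL (comapEquiv Q σ)
        rw [Finsupp.single_apply, if_neg (Ne.symm hne), comapEquiv_apply] at h1
        rw [Finsupp.single_apply, if_neg (Ne.symm hQ)]
        exact h1
    have hdeg1 := deg_eq_one_of_isAlgClosed hK P₀
    have hell : ell (Finsupp.single P₀ 2 : Divisor k K) ≤ 2 := by
      have h := two_mul_ell_le P₀ hK hdeg1 2 (by push_cast; omega)
      rw [Nat.cast_ofNat] at h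
      omega
    have hli : LinearIndependent k ![(1 : K), x] := by
      apply linearIndependent_of_ord_injective P₀
      · intro i
        fin_cases i
        · exact one_ne_zero
        · exact hx0
      · intro i j hij
        fin_cases i <;> fin_cases j <;> simp [pl_ord_one, hxP] at hij ⊢
    have hspan2 : Submodule.span k (Set.range ![(1 : K), x])
        = L (Finsupp.single P₀ 2 : Divisor k K) := by
      haveI := L_finite hK (Finsupp.single P₀ 2 : Divisor k K)
      apply Submodule.eq_of_le_of_finrank_le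
      · rw [Submodule.span_le]
        rintro z ⟨i, rfl⟩
        fin_cases i
        · exact (mem_L_single_iff P₀ one_ne_zero).2
            ⟨by rw [pl_ord_one]; omega, fun Q _ => by rw [pl_ord_one]⟩
        · exact hxL
      · rw [finrank_span_eq_card hli, Fintype.card_fin]
        exact hell
    obtain ⟨c, hc⟩ := (Submodule.mem_span_range_iff_exists_fun k).1 (hspan2 ▸ hσxL)
    rw [Fin.sum_univ_two] at hc
    simp only [Matrix.cons_val_zero, Matrix.cons_val_one] at hc
    -- the relation at a fixed place other than `P₀`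
    have hrel : ∀ Q ∈ T, ∀ e : k, Q.1 (x - algebraMap k K e) < 1 → c 0 + c 1 * e = e := by
      intro Q hQ e he
      have h1 : Q.1 (σ (x - algebraMap k K e)) < 1 := hfix Q hQ _ he
      rw [map_sub, AlgEquiv.commutes, ← hc] at h1
      have h2 : Q.1 (c 1 • (x - algebraMap k K e)) < 1 :=
        lt_of_le_of_lt (pl_val_smul_le Q (c 1) _) he
      have h3 : (c 0 • (1 : K) + c 1 • x - algebraMap k K e) - c 1 • (x - algebraMap k K e)
          = algebraMap k K (c 0 + c 1 * e - e) := by
        simp only [Algebra.smul_def, map_add, map_sub, map_mul, mul_one]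
        ring
      have h4 : Q.1 (algebraMap k K (c 0 + c 1 * e - e)) < 1 := by
        rw [← h3]
        exact lt_of_le_of_lt (Valuation.map_sub _ _ _) (max_lt h1 h2)
      by_contra hne'
      have : c 0 + c 1 * e - e ≠ 0 := fun h => hne' (sub_eq_zero.1 h)
      rw [pl_val_const Q this] at h4
      exact lt_irrefl _ h4
    have hcard : 5 ≤ (T.erase P₀).card := by
      rw [Finset.card_erase_of_mem hP₀]
      omega
    obtain ⟨Q₁, hQ₁⟩ : (T.erase P₀).Nonempty := Finset.card_pos.1 (by omega)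
    have hQ₁T := Finset.mem_of_mem_erase hQ₁
    have hQ₁ne := Finset.ne_of_mem_erase hQ₁
    have hreg : ∀ Q : Place k K, Q ≠ P₀ → Q.1 x ≤ 1 := fun Q hQ =>
      (pl_val_le_one_iff Q hx0).2 (hxQ Q hQ)
    obtain ⟨e₁, he₁⟩ := Groth.Agent.H27.Expn.exists_cst Q₁ hK (hreg Q₁ hQ₁ne)
    obtain ⟨x₁, hx₁⟩ : ∃ x₁ : K, x₁ = x - algebraMap k K e₁ := ⟨_, rfl⟩
    have hx₁0 : x₁ ≠ 0 := by
      intro h
      apply (ff_transcendental_iff hK).1 hxtr
      rw [hx₁] at h
      exact ⟨e₁, (sub_eq_zero.1 h).symm⟩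
    have hx₁P : P₀.ord x₁ = -2 := by
      have h1 : 1 < P₀.1 x := (pl_one_lt_val_iff P₀ x).2 (by omega)
      have h2 : P₀.1 (algebraMap k K e₁) ≤ 1 := P₀.2.1 e₁
      have h3 : P₀.1 x₁ = P₀.1 x := by
        rw [hx₁]
        exact Valuation.map_sub_eq_of_lt_left _ (lt_of_le_of_lt h2 h1)
      unfold Place.ord at hxP ⊢
      rw [h3]
      exact hxP
    have hx₁Q : ∀ Q : Place k K, Q ≠ P₀ → 0 ≤ Q.ord x₁ := by
      intro Q hQ
      rw [← pl_val_le_one_iff Q hx₁0, hx₁]
      exact le_trans (Valuation.map_sub _ _ _) (max_le (hreg Q hQ) (Q.2.1 e₁))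
    have hx₁2 := finrank_of_double_pole hK P₀ x₁ hx₁P hx₁Q
    obtain ⟨B, hB⟩ : ∃ B : Finset (Place k K), B = (T.erase P₀).filter (fun Q => Q.1 x₁ < 1) :=
      ⟨_, rfl⟩
    have hBcard : B.card ≤ 2 := by
      have h1 := sum_ord_mul_deg_le hK x₁ hx₁0 B (fun Q hQ => by
        rw [hB] at hQ
        exact (Finset.mem_filter.1 hQ).2)
      rw [hx₁2] at h1
      have h2 : (B.card : ℤ) ≤ ∑ Q ∈ B, Q.ord x₁ * (Q.deg : ℤ) := by
        rw [Finset.card_eq_sum_ones, Nat.cast_sum]
        refine Finset.sum_le_sum (fun Q hQ => ?_)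
        rw [deg_eq_one_of_isAlgClosed hK Q]
        rw [hB] at hQ
        have := (pl_val_lt_one_iff Q hx₁0).1 (Finset.mem_filter.1 hQ).2
        push_cast
        omega
      exact_mod_cast h2.trans h1
    obtain ⟨Q₂, hQ₂, hQ₂B⟩ := Finset.exists_mem_notMem_of_card_lt_card
      (lt_of_le_of_lt hBcard (by omega) : B.card < (T.erase P₀).card)
    have hQ₂T := Finset.mem_of_mem_erase hQ₂
    have hQ₂ne := Finset.ne_of_mem_erase hQ₂
    obtain ⟨e₂, he₂⟩ := Groth.Agent.H27.Expn.exists_cst Q₂ hK (hreg Q₂ hQ₂ne)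
    have hne12 : e₁ ≠ e₂ := by
      intro h
      apply hQ₂B
      rw [hB, Finset.mem_filter]
      exact ⟨hQ₂, by rw [hx₁, h]; exact he₂⟩
    have r1 := hrel Q₁ hQ₁T e₁ he₁
    have r2 := hrel Q₂ hQ₂T e₂ he₂
    have hc1 : c 1 = 1 := by
      have : (c 1 - 1) * (e₁ - e₂) = 0 := by linear_combination r1 - r2
      rcases mul_eq_zero.1 this with h | h
      · exact sub_eq_zero.1 h
      · exact absurd (sub_eq_zero.1 h) hne12
    have hc0v : c 0 = 0 := by
      rw [hc1] at r1
      linear_combination r1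
    rw [← hc, hc1, hc0v]
    simp
  · -- `σ` fixes `x`
    obtain ⟨f, hf0, hfP, hfQ⟩ := hx P hP
    have hf2 := finrank_of_double_pole hK P f hfP hfQ
    have heq : k⟮f⟯ = k⟮x⟯ := rational_subfield_unique hK hg f x hf2 hx2
    have hfx : f ∈ k⟮x⟯ := by
      rw [← heq]
      exact mem_adjoin_simple_self k f
    have hσf : σ f = f := fixes_adjoin σ x hxtr hσ hfx
    have hQ : comapEquiv P σ = P := by
      by_contra hne
      have h1 := hfQ _ hne
      have h2 : (comapEquiv P σ).ord f = P.ord f := by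
        unfold Place.ord
        rw [comapEquiv_apply, hσf]
      omega
    intro z hz
    have : P.1 (σ z) = P.1 z := by rw [← comapEquiv_apply, hQ]
    show P.1 (σ z) < 1
    rw [this]
    exact hz

/-- The counting argument and the dichotomy, for a divisor `W` of the right degree with the
pointwise weight bounds. -/
theorem dichotomy (hK : IsFunctionField k K) (hg : 1 < genus k K) {n : ℕ}
    (hn : n + 1 = genus k K) (W : Divisor k K)
    (hdegW : W.deg = (n : ℤ) * (n + 1) * (n + 2))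
    (hwle : ∀ P, 2 * W P ≤ (n : ℤ) * (n + 1))
    (hweq : ∀ P, 2 * W P = (n : ℤ) * (n + 1) → ¬ IsGap P 2) :
    (2 * genus k K + 2 < Set.ncard {P : Place k K | W P ≠ 0} ∧
      ∀ σ : K ≃ₐ[k] K, (∀ P : Place k K, W P ≠ 0 → IsFixedPt (σ : K →ₐ[k] K) P) →
        σ = AlgEquiv.refl) ∨
    (Set.ncard {P : Place k K | W P ≠ 0} = 2 * genus k K + 2 ∧
      ∃ x : K, Module.finrank (IntermediateField.adjoin k ({x} : Set K)) K = 2 ∧
        ∀ σ : K ≃ₐ[k] K, (∀ P : Place k K, W P ≠ 0 → IsFixedPt (σ : K →ₐ[k] K) P) ↔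
          σ x = x) := by
  classical
  obtain ⟨T, hT⟩ : ∃ T : Finset (Place k K), T = W.support := ⟨_, rfl⟩
  have hmem : ∀ P, P ∈ T ↔ W P ≠ 0 := fun P => by rw [hT, Finsupp.mem_support_iff]
  have hset : {P : Place k K | W P ≠ 0} = (T : Set (Place k K)) := by
    ext P
    simp [hmem]
  have hsumW : ∑ P ∈ T, W P = (n : ℤ) * (n + 1) * (n + 2) := by
    rw [← hdegW, deg_eq_sum W T (by rw [hT])]
    refine Finset.sum_congr rfl (fun P _ => ?_)
    rw [deg_eq_one_of_isAlgClosed hK P]
    simp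
  have hn1 : 1 ≤ n := by omega
  have hn1' : (1 : ℤ) ≤ n := by exact_mod_cast hn1
  have hpos : (0 : ℤ) < n * (n + 1) := by positivity
  have hsum2 : ∑ P ∈ T, 2 * W P = 2 * ((n : ℤ) * (n + 1) * (n + 2)) := by
    rw [← Finset.mul_sum, hsumW]
  have hcardge : 2 * (n : ℤ) + 4 ≤ T.card := by
    have h1 : ∑ P ∈ T, 2 * W P ≤ ∑ _P ∈ T, (n : ℤ) * (n + 1) :=
      Finset.sum_le_sum (fun P _ => hwle P)
    rw [hsum2, Finset.sum_const, nsmul_eq_mul] at h1
    by_contra hlt
    push_neg at hlt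
    nlinarith
  rw [hset, Set.ncard_coe_finset]
  rcases lt_or_eq_of_le hcardge with hlt | heq
  · left
    refine ⟨by omega, fun σ hσ => ?_⟩
    have := aut_eq_one_of_fixed hK σ T (fun P hP x hx => hσ P ((hmem P).1 hP) x hx) (by omega)
    exact this
  · right
    refine ⟨by omega, ?_⟩
    have hall : ∀ P ∈ T, 2 * W P = (n : ℤ) * (n + 1) := by
      by_contra hcon
      push_neg at hcon
      obtain ⟨P₁, hP₁, hne⟩ := hcon
      have hlt : 2 * W P₁ < (n : ℤ) * (n + 1) := lt_of_le_of_ne (hwle P₁) hne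
      have h1 : ∑ P ∈ T, 2 * W P < ∑ _P ∈ T, (n : ℤ) * (n + 1) :=
        Finset.sum_lt_sum (fun P _ => hwle P) ⟨P₁, hP₁, hlt⟩
      rw [hsum2, Finset.sum_const, nsmul_eq_mul, ← heq] at h1
      nlinarith
    obtain ⟨x, hx2, hx⟩ := hyper_core hK hg T (by omega)
      (fun P hP => exists_of_not_isGap P (hweq P (hall P hP)))
    refine ⟨x, hx2, fun σ => ?_⟩
    rw [← hx σ]
    constructor
    · intro h P hP
      exact h P ((hmem P).1 hP)
    · intro h P hP
      exact h P ((hmem P).2 hP)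

/-- The Weierstrass points dichotomy, given the degree formula for the Weierstrass divisor. -/
theorem main (hK : IsFunctionField k K) (hg : 1 < genus k K)
    (hchar : ringChar k = 0 ∨ 2 * genus k K - 2 < ringChar k)
    (C : Divisor k K) (hC : IsCanonical k K C) {n : ℕ} (φ : Fin (n + 1) → K)
    (hφ : LinearIndependent k φ) (hspan : Submodule.span k (Set.range φ) = L C)
    (s : K) (H : K →ₐ[k] PowerSeries K) (hH : LocRes.IsHasseFamily s H)
    (J : Fin n → ℕ) (hJ : IsOrders K (hcol (AlgHom.id k K) H φ) J)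
    (Φ : Place k K → (K →ₐ[k] LaurentSeries k))
    (hΦ : ∀ P : Place k K, LocRes.IsExpansionAt P.1 (Φ P))
    (hdeg : (wDiv (AlgHom.id k K) H Φ s φ J).deg =
      ((Module.finrank (AlgHom.id k K).fieldRange K : ℤ) + n) * (mapDiv k φ).deg +
        (2 * (genus k K : ℤ) - 2) * ∑ l, (J l : ℤ)) :
    (2 * genus k K + 2 < Set.ncard {P : Place k K | wDiv (AlgHom.id k K) H Φ s φ J P ≠ 0} ∧
      ∀ σ : K ≃ₐ[k] K, (∀ P : Place k K, wDiv (AlgHom.id k K) H Φ s φ J P ≠ 0 →
        IsFixedPt (σ : K →ₐ[k] K) P) → σ = AlgEquiv.refl) ∨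
    (Set.ncard {P : Place k K | wDiv (AlgHom.id k K) H Φ s φ J P ≠ 0} = 2 * genus k K + 2 ∧
      ∃ x : K, Module.finrank (IntermediateField.adjoin k ({x} : Set K)) K = 2 ∧
        ∀ σ : K ≃ₐ[k] K, (∀ P : Place k K, wDiv (AlgHom.id k K) H Φ s φ J P ≠ 0 →
          IsFixedPt (σ : K →ₐ[k] K) P) ↔ σ x = x) := by
  classical
  have hJ₀ := orders_succ hK hg hchar hC φ hφ hspan s H hH
  have hJeq : J = fun l : Fin n => (l : ℕ) + 1 :=
    (StrictMono.range_inj hJ.1 hJ₀.1).1 (by ext j; rw [hJ.2, hJ₀.2])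
  subst hJeq
  have hn : n + 1 = genus k K := by
    have h1 := finrank_span_eq_card hφ
    rw [hspan, Fintype.card_fin] at h1
    have h2 := (ell_canonical hK hC).1
    unfold ell at h2
    omega
  have hn1 : 1 ≤ n := by omega
  have hdegW : (wDiv (AlgHom.id k K) H Φ s φ (fun l : Fin n => (l : ℕ) + 1)).deg
      = (n : ℤ) * (n + 1) * (n + 2) := by
    rw [hdeg, mapDiv_eq hK (by omega) hC φ hφ hspan, (ell_canonical hK hC).2]
    have hfr : Module.finrank (AlgHom.id k K).fieldRange K = 1 := by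
      have : (AlgHom.id k K).fieldRange = ⊤ := by
        rw [AlgHom.fieldRange_eq_top]
        exact Function.surjective_id
      rw [this]
      exact IntermediateField.finrank_top
    rw [hfr]
    have hsum : 2 * ∑ l : Fin n, (((l : ℕ) + 1 : ℕ) : ℤ) = (n : ℤ) * (n + 1) := by
      have := gauss n
      push_cast
      exact this
    have hgn : (genus k K : ℤ) = n + 1 := by
      rw [← hn]
      push_cast
      ring
    rw [hgn]
    generalize (∑ l : Fin n, (((l : ℕ) + 1 : ℕ) : ℤ)) = S at hsum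
    push_cast
    linear_combination (n : ℤ) * hsum
  have hloc := fun P => local_data hK hg hchar hC φ hφ hspan s H hH Φ hΦ P
  refine dichotomy hK hg hn _ hdegW ?_ ?_
  · intro P
    obtain ⟨J', hmono, hpos, hgap, hWP⟩ := hloc P
    rw [hWP]
    exact (weight_bound P hn1 J' hmono hpos hgap).1
  · intro P
    obtain ⟨J', hmono, hpos, hgap, hWP⟩ := hloc P
    rw [hWP]
    exact (weight_bound P hn1 J' hmono hpos hgap).2

end Groth.Agent.H81.Weier
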