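import Mathlib
import Groth.Agent.H81.ASEval

/-!
# Invariants of the diagonal shift and the minor elements (helper81)
-/

set_option autoImplicit false

namespace Groth.Agent.H81.WildInv

open MvPolynomial Groth.Agent.H81.ASQuot Groth.Agent.H81.WildMinor Groth.Agent.H81.ASAut
  Groth.Agent.H81.ASGrid Groth.Agent.H81.ASEval

universe u

variable {R : Type u} [CommRing R] [IsDomain R] {ι : Type} [Fintype ι] [DecidableEq ι]
variable (p : ℕ) [hpp : Fact p.Prime] [CharP R p] (a x : ι → R) (μ : R) (i₀ : ι)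

/-- shifts of the big algebra. -/
abbrev bA : ι → R := fun i => μ * a i

/-- shifts of the triangular algebra. -/
def aS : ι → R := fun i => if i = i₀ then μ * a i₀ else μ * a i₀ * a i

/-- constants of the triangular algebra. -/
def dS : ι → R := fun i => if i = i₀ then x i₀ else a i₀ ^ p * x i - a i ^ p * x i₀

/-- the elements `u_{i₀}`, `z_j`. -/
noncomputable def zA : ι → Aq p (bA a μ) x := fun i =>
  if i = i₀ then uu p (bA a μ) x i₀
  else algebraMap R _ (a i₀) * uu p (bA a μ) x i - algebraMap R _ (a i) * uu p (bA a μ) x i₀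

/-- polynomial-level change of variables. -/
noncomputable def thP : MvPolynomial ι R →ₐ[R] MvPolynomial ι R :=
  aeval (fun i => if i = i₀ then X i₀ else C (a i₀) * X i - C (a i) * X i₀)

/-- the change of variables into `A`. -/
noncomputable def th0 : MvPolynomial ι R →ₐ[R] Aq p (bA a μ) x := aeval (zA p a x μ i₀)

lemma th0_eq (W : MvPolynomial ι R) :
    th0 p a x μ i₀ W = Ideal.Quotient.mk _ (thP a i₀ W) := by
  have hh : (Ideal.Quotient.mkₐ R (Iid p (fun i => bA a μ i ^ (p - 1)) x)).comp (thP a i₀) =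
      th0 p a x μ i₀ := by
    apply MvPolynomial.algHom_ext
    intro i
    unfold thP th0 zA uu
    rw [AlgHom.comp_apply, aeval_X, aeval_X, Ideal.Quotient.mkₐ_eq_mk]
    by_cases hi : i = i₀
    · rw [if_pos hi, if_pos hi]
    · rw [if_neg hi, if_neg hi, map_sub, map_mul, map_mul]
      rfl
  rw [← hh]; rfl

lemma th0_gen (i : ι) :
    th0 p a x μ i₀ (X i ^ p - C (aS a μ i₀ i ^ (p - 1)) * X i - C (dS p a x i₀ i)) = 0 := by
  have hp1 : p - 1 + 1 = p := by have := hpp.out.pos; omega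
  unfold th0
  simp only [map_sub, map_mul, map_pow, aeval_X, aeval_C]
  by_cases hi : i = i₀
  · subst hi
    have h0 := uu_pow p (bA a μ) x i
    simp only [zA, aS, dS, if_true, bA] at h0 ⊢
    rw [h0]
    simp only [map_mul]
    ring
  · have h0 := uu_pow p (bA a μ) x i₀
    have h1 := uu_pow p (bA a μ) x i
    simp only [zA, aS, dS, if_neg hi, bA] at h0 h1 ⊢
    rw [sub_pow_char, mul_pow, mul_pow, h0, h1]
    simp only [map_mul, map_sub, map_pow]
    rw [← hp1]
    simp only [Nat.add_sub_cancel]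
    ring

lemma th0_mem {F : MvPolynomial ι R}
    (hF : F ∈ Iid p (fun i => aS a μ i₀ i ^ (p - 1)) (dS p a x i₀)) : th0 p a x μ i₀ F = 0 := by
  have hle : Iid p (fun i => aS a μ i₀ i ^ (p - 1)) (dS p a x i₀) ≤
      RingHom.ker (th0 p a x μ i₀) := by
    unfold Iid
    rw [Ideal.span_le]
    rintro _ ⟨i, rfl⟩
    rw [SetLike.mem_coe, RingHom.mem_ker]
    exact th0_gen p a x μ i₀ i
  exact hle hF

/-- the induced map from the triangular algebra. -/
noncomputable def thQ : Aq p (aS a μ i₀) (dS p a x i₀) →ₐ[R] Aq p (bA a μ) x :=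
  Ideal.Quotient.liftₐ _ (th0 p a x μ i₀) (fun _ h => th0_mem p a x μ i₀ h)

lemma thQ_mk (F : MvPolynomial ι R) :
    thQ p a x μ i₀ (Ideal.Quotient.mk _ F) = th0 p a x μ i₀ F := rfl

lemma thQ_uu (i : ι) : thQ p a x μ i₀ (uu p (aS a μ i₀) (dS p a x i₀) i) = zA p a x μ i₀ i := by
  unfold uu
  rw [thQ_mk]
  unfold th0
  rw [aeval_X]

variable (hμ : μ ≠ 0) (ha : ∀ i, a i ≠ 0)

include hμ ha in
lemma aS_ne (i : ι) : aS a μ i₀ i ≠ 0 := by
  unfold aS
  by_cases hi : i = i₀
  · rw [if_pos hi]; exact mul_ne_zero hμ (ha i₀)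
  · rw [if_neg hi]; exact mul_ne_zero (mul_ne_zero hμ (ha i₀)) (ha i)

lemma eval_thP (ρ : ι → LL R) (W : MvPolynomial ι R) :
    eval₂Hom (phi R) ρ (thP a i₀ W) =
      eval (fun i => if i = i₀ then ρ i₀ else phi R (a i₀) * ρ i - phi R (a i) * ρ i₀)
        (map (phi R) W) := by
  rw [eval_map]
  have hh : (eval₂Hom (phi R) ρ).comp ((thP a i₀ : MvPolynomial ι R →ₐ[R] MvPolynomial ι R) :
      MvPolynomial ι R →+* MvPolynomial ι R) =
      eval₂Hom (phi R)
        (fun i => if i = i₀ then ρ i₀ else phi R (a i₀) * ρ i - phi R (a i) * ρ i₀) := by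
    apply MvPolynomial.ringHom_ext
    · intro r
      simp [thP]
    · intro i
      by_cases hi : i = i₀
      · simp [thP, hi]
      · simp [thP, hi]
  exact DFunLike.congr_fun hh W

include hμ ha in
/-- injectivity on reduced polynomials. -/
theorem th0_inj (W : MvPolynomial ι R) (hW : Red p W) (h0 : th0 p a x μ i₀ W = 0) : W = 0 := by
  classical
  rw [th0_eq] at h0
  have hmem : thP a i₀ W ∈ Iid p (fun i => bA a μ i ^ (p - 1)) x :=
    Ideal.Quotient.eq_zero_iff_mem.1 h0
  obtain ⟨ρ, hρ⟩ := exists_rootTuple p (bA a μ) x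
  have hH : map (phi R) W = 0 := by
    apply grid_zero p (map (phi R) W) _
      (fun i => if i = i₀ then ρ i₀ else phi R (a i₀) * ρ i - phi R (a i) * ρ i₀)
      (fun i => phi R (aS a μ i₀ i))
      (fun i => (map_ne_zero_iff (phi R) (phi_injective R)).2 (aS_ne a μ i₀ hμ ha i))
    · intro s'
      have hk := (hρ.shift (fun i => if i = i₀ then s' i₀ else s' i + s' i₀)).kill hmem
      rw [eval_thP] at hk
      rw [← hk]
      congr 2
      funext i
      by_cases hi : i = i₀
      · subst hi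
        simp [aS, bA]
      · simp only [if_neg hi, aS, bA, if_true, map_mul, Nat.cast_add]
        ring
    · intro m hm j
      exact hW m (support_map_subset _ _ hm) j
  exact MvPolynomial.map_injective (phi R) (phi_injective R) (by rw [hH, map_zero])

include hμ ha in
theorem thQ_injective : Function.Injective (thQ p a x μ i₀) := by
  rw [injective_iff_map_eq_zero]
  intro w hw
  obtain ⟨W₁, rfl⟩ := Ideal.Quotient.mk_surjective w
  obtain ⟨W, hW, hd⟩ := exists_red p hpp.out.two_le (fun i => aS a μ i₀ i ^ (p - 1))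
    (dS p a x i₀) W₁
  have hd' : W₁ - W ∈ Iid p (fun i => aS a μ i₀ i ^ (p - 1)) (dS p a x i₀) := hd
  rw [thQ_mk] at hw
  have h1 : th0 p a x μ i₀ W = 0 := by
    have h2 := th0_mem p a x μ i₀ hd'
    rw [map_sub, hw, zero_sub, neg_eq_zero] at h2
    exact h2
  have hW0 := th0_inj p a x μ i₀ hμ ha W hW h1
  rw [hW0, sub_zero] at hd'
  exact Ideal.Quotient.eq_zero_iff_mem.2 hd'

/-- every element of `A` times a power of `a_{i₀}` lies in the range of `thQ`. -/
theorem exists_pow_mul_mem_range (t : Aq p (bA a μ) x) :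
    ∃ (M : ℕ) (w : Aq p (aS a μ i₀) (dS p a x i₀)),
      algebraMap R (Aq p (bA a μ) x) (a i₀) ^ M * t = thQ p a x μ i₀ w := by
  classical
  obtain ⟨F, rfl⟩ := Ideal.Quotient.mk_surjective t
  induction F using MvPolynomial.induction_on with
  | C r =>
    refine ⟨0, algebraMap R _ r, ?_⟩
    rw [pow_zero, one_mul, AlgHom.commutes]
    rfl
  | add F₁ F₂ h₁ h₂ =>
    obtain ⟨M₁, w₁, e₁⟩ := h₁
    obtain ⟨M₂, w₂, e₂⟩ := h₂
    refine ⟨M₁ + M₂, algebraMap R _ (a i₀ ^ M₂) * w₁ + algebraMap R _ (a i₀ ^ M₁) * w₂, ?_⟩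
    simp only [map_add, map_mul, map_pow, AlgHom.commutes]
    rw [← e₁, ← e₂]
    ring
  | mul_X F i h =>
    obtain ⟨M, w, e⟩ := h
    by_cases hi : i = i₀
    · refine ⟨M, w * uu p (aS a μ i₀) (dS p a x i₀) i, ?_⟩
      rw [map_mul, map_mul, thQ_uu, ← e]
      simp only [zA, if_pos hi]
      rw [hi]
      unfold uu
      ring
    · refine ⟨M + 1, w * (uu p (aS a μ i₀) (dS p a x i₀) i +
        algebraMap R _ (a i) * uu p (aS a μ i₀) (dS p a x i₀) i₀), ?_⟩
      rw [map_mul, map_mul, map_add, map_mul, thQ_uu, thQ_uu, AlgHom.commutes, ← e]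
      simp only [zA, if_neg hi, if_true]
      have : (Ideal.Quotient.mk (Iid p (fun i => bA a μ i ^ (p - 1)) x)) (X i) =
          uu p (bA a μ) x i := rfl
      rw [this]
      ring

include hμ ha in
/-- **main**: `σ`-invariants lie in `R[z]` up to a power of `μ a_{i₀}`. -/
theorem main (σ : Aq p (bA a μ) x ≃ₐ[R] Aq p (bA a μ) x)
    (hσ : ∀ i, σ (uu p (bA a μ) x i) = uu p (bA a μ) x i + algebraMap R _ (μ * a i))
    (t : Aq p (bA a μ) x) (ht : σ t = t) :
    ∃ N : ℕ, algebraMap R (Aq p (bA a μ) x) (μ * a i₀) ^ N * t ∈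
      Algebra.adjoin R (Set.range fun j : {j : ι // j ≠ i₀} =>
        algebraMap R (Aq p (bA a μ) x) (a i₀) * uu p (bA a μ) x j.1 -
          algebraMap R (Aq p (bA a μ) x) (a j.1) * uu p (bA a μ) x i₀) := by
  classical
  obtain ⟨M, w, e⟩ := exists_pow_mul_mem_range p a x μ i₀ t
  -- equivariance
  have hequiv : (σ : Aq p (bA a μ) x →ₐ[R] Aq p (bA a μ) x).comp (thQ p a x μ i₀) =
      (thQ p a x μ i₀).comp
        (tau p (aS a μ i₀) (dS p a x i₀) (fun i => if i = i₀ then 1 else 0)) := by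
    apply algHom_ext_uu
    intro i
    rw [AlgHom.comp_apply, AlgHom.comp_apply, tau_uu, map_add, thQ_uu, AlgHom.commutes]
    by_cases hi : i = i₀
    · subst hi
      simp only [zA, aS, if_true, Nat.cast_one, one_mul]
      exact hσ i
    · simp only [zA, aS, if_neg hi, Nat.cast_zero, zero_mul, map_zero, add_zero]
      rw [AlgEquiv.coe_algHom, map_sub, map_mul, map_mul, AlgEquiv.commutes, AlgEquiv.commutes,
        hσ, hσ]
      simp only [map_mul]
      ring
  have hwfix : sigma p (aS a μ i₀) (dS p a x i₀) (fun i => if i = i₀ then 1 else 0) w = w := by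
    apply thQ_injective p a x μ i₀ hμ ha
    rw [sigma_apply]
    have h1 := DFunLike.congr_fun hequiv w
    rw [AlgHom.comp_apply, AlgHom.comp_apply] at h1
    rw [← h1, ← e, AlgEquiv.coe_algHom, map_mul, map_pow, AlgEquiv.commutes, ht]
  obtain ⟨W₁, rfl⟩ := Ideal.Quotient.mk_surjective w
  obtain ⟨W, hW, hd⟩ := exists_red p hpp.out.two_le (fun i => aS a μ i₀ i ^ (p - 1))
    (dS p a x i₀) W₁
  have hd' : Ideal.Quotient.mk (Iid p (fun i => aS a μ i₀ i ^ (p - 1)) (dS p a x i₀)) W₁ =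
      Ideal.Quotient.mk _ W := Ideal.Quotient.eq.2 hd
  rw [hd'] at hwfix e
  have hsupp := partial_fixed (aS_ne a μ i₀ hμ ha) i₀ W hW hwfix
  refine ⟨M, ?_⟩
  have hmul : algebraMap R (Aq p (bA a μ) x) (μ * a i₀) ^ M * t =
      algebraMap R (Aq p (bA a μ) x) (μ ^ M) *
        (algebraMap R (Aq p (bA a μ) x) (a i₀) ^ M * t) := by
    rw [map_mul, mul_pow, map_pow]; ring
  rw [hmul, e, thQ_mk]
  refine Subalgebra.mul_mem _ (Subalgebra.algebraMap_mem _ _) ?_
  unfold th0
  rw [aeval_def, eval₂_eq']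
  refine Subalgebra.sum_mem _ (fun m hm => ?_)
  refine Subalgebra.mul_mem _ (Subalgebra.algebraMap_mem _ _) ?_
  refine Subalgebra.prod_mem _ (fun i _ => ?_)
  by_cases hi : i = i₀
  · rw [hi, hsupp m hm, pow_zero]
    exact Subalgebra.one_mem _
  · refine Subalgebra.pow_mem _ ?_ _
    simp only [zA, if_neg hi]
    exact Algebra.subset_adjoin ⟨⟨i, hi⟩, rfl⟩

end Groth.Agent.H81.WildInv
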