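import Mathlib
import Groth.Agent.H81.WildInv
import Groth.Agent.H81.IclAway

/-!
# The complete-intersection ring of the minor elements (helper81)
-/

set_option autoImplicit false

namespace Groth.Agent.H81.WildCI

open MvPolynomial Groth.Agent.H81.ASQuot Groth.Agent.H81.WildMinor Groth.Agent.H81.ASAut
  Groth.Agent.H81.WildInv

universe u

variable {R : Type u} [CommRing R] [IsDomain R] {ι : Type} [Fintype ι] [DecidableEq ι]
variable (p : ℕ) [hpp : Fact p.Prime] [CharP R p] (a x : ι → R) (μ : R) (i₀ : ι)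

/-- the complete-intersection ring of minors. -/
abbrev Bq : Type u := Aq p (fun j : {j : ι // j ≠ i₀} => μ * a i₀ * a j.1)
  (fun j : {j : ι // j ≠ i₀} => a i₀ ^ p * x j.1 - a j.1 ^ p * x i₀)

/-- the minor elements. -/
noncomputable def zJ : {j : ι // j ≠ i₀} → Aq p (bA a μ) x := fun j =>
  algebraMap R _ (a i₀) * uu p (bA a μ) x j.1 - algebraMap R _ (a j.1) * uu p (bA a μ) x i₀

variable (hμ : μ ≠ 0) (ha : ∀ i, a i ≠ 0)

include hμ ha in
lemma ker_zJ : RingHom.ker (aeval (zJ p a x μ i₀) :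
      MvPolynomial {j : ι // j ≠ i₀} R →ₐ[R] Aq p (bA a μ) x) =
    Iid p (fun j : {j : ι // j ≠ i₀} => (μ * a i₀ * a j.1) ^ (p - 1))
      (fun j : {j : ι // j ≠ i₀} => a i₀ ^ p * x j.1 - a j.1 ^ p * x i₀) :=
  WildMinor.ker_eq p i₀ a x μ hμ ha

/-- the embedding of the ring of minors. -/
noncomputable def jB : Bq p a x μ i₀ →ₐ[R] Aq p (bA a μ) x :=
  Ideal.Quotient.liftₐ _ (aeval (zJ p a x μ i₀)) (fun F hF => by
    rw [← RingHom.mem_ker, ker_zJ p a x μ i₀ hμ ha]; exact hF)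

lemma jB_mk (F : MvPolynomial {j : ι // j ≠ i₀} R) :
    jB p a x μ i₀ hμ ha (Ideal.Quotient.mk _ F) = aeval (zJ p a x μ i₀) F := rfl

lemma jB_injective : Function.Injective (jB p a x μ i₀ hμ ha) := by
  rw [injective_iff_map_eq_zero]
  intro b hb
  obtain ⟨F, rfl⟩ := Ideal.Quotient.mk_surjective b
  rw [jB_mk, ← RingHom.mem_ker, ker_zJ p a x μ i₀ hμ ha] at hb
  exact Ideal.Quotient.eq_zero_iff_mem.2 hb

lemma jB_uu (j : {j : ι // j ≠ i₀}) :
    jB p a x μ i₀ hμ ha (uu p _ _ j) = zJ p a x μ i₀ j := by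
  unfold uu
  rw [jB_mk, aeval_X]

/-- the diagonal shift. -/
noncomputable def sig : Aq p (bA a μ) x ≃ₐ[R] Aq p (bA a μ) x :=
  sigma p (bA a μ) x (fun _ => 1)

lemma sig_uu (i : ι) : sig p a x μ (uu p (bA a μ) x i) =
    uu p (bA a μ) x i + algebraMap R _ (μ * a i) := by
  unfold sig
  rw [sigma_uu]
  simp

lemma sig_zJ (j : {j : ι // j ≠ i₀}) : sig p a x μ (zJ p a x μ i₀ j) = zJ p a x μ i₀ j := by
  unfold zJ
  rw [map_sub, map_mul, map_mul, AlgEquiv.commutes, AlgEquiv.commutes, sig_uu, sig_uu]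
  simp only [map_mul]
  ring

lemma sig_jB (b : Bq p a x μ i₀) :
    sig p a x μ (jB p a x μ i₀ hμ ha b) = jB p a x μ i₀ hμ ha b := by
  have hh : ((sig p a x μ : Aq p (bA a μ) x ≃ₐ[R] Aq p (bA a μ) x) :
      Aq p (bA a μ) x →ₐ[R] Aq p (bA a μ) x).comp (jB p a x μ i₀ hμ ha) =
      jB p a x μ i₀ hμ ha := by
    apply algHom_ext_uu
    intro j
    rw [AlgHom.comp_apply, jB_uu, AlgEquiv.coe_algHom, sig_zJ]
  exact DFunLike.congr_fun hh b

include hμ ha in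
theorem isDomain_Bq [IsDomain (Aq p (bA a μ) x)] : IsDomain (Bq p a x μ i₀) :=
  Function.Injective.isDomain (jB p a x μ i₀ hμ ha).toRingHom (jB_injective p a x μ i₀ hμ ha)

include hμ ha in
theorem isIntegrallyClosed_away [IsDomain (Aq p (bA a μ) x)]
    [IsIntegrallyClosed (Aq p (bA a μ) x)] :
    IsIntegrallyClosed (Localization.Away (algebraMap R (Bq p a x μ i₀) (μ * a i₀))) := by
  haveI := isDomain_Bq p a x μ i₀ hμ ha
  have hs : algebraMap R (Bq p a x μ i₀) (μ * a i₀) ≠ 0 := by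
    intro h
    have h1 := algebraMap_inj p (fun j : {j : ι // j ≠ i₀} => μ * a i₀ * a j.1)
      (fun j : {j : ι // j ≠ i₀} => a i₀ ^ p * x j.1 - a j.1 ^ p * x i₀)
      (h.trans (map_zero _).symm)
    exact mul_ne_zero hμ (ha i₀) h1
  refine IclAway.isIntegrallyClosed_away ((jB p a x μ i₀ hμ ha : Bq p a x μ i₀ →ₐ[R] _) :
      Bq p a x μ i₀ →+* Aq p (bA a μ) x) (jB_injective p a x μ i₀ hμ ha) _ hs
    ((sig p a x μ : Aq p (bA a μ) x ≃ₐ[R] Aq p (bA a μ) x) : Aq p (bA a μ) x →+* Aq p (bA a μ) x)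
    (sig p a x μ).injective (fun b => sig_jB p a x μ i₀ hμ ha b) ?_
  intro t ht
  obtain ⟨N, hN⟩ := WildInv.main p a x μ i₀ hμ ha (sig p a x μ) (sig_uu p a x μ) t ht
  have hle : Algebra.adjoin R (Set.range fun j : {j : ι // j ≠ i₀} =>
      algebraMap R (Aq p (bA a μ) x) (a i₀) * uu p (bA a μ) x j.1 -
        algebraMap R (Aq p (bA a μ) x) (a j.1) * uu p (bA a μ) x i₀) ≤
      (jB p a x μ i₀ hμ ha).range := by
    rw [Algebra.adjoin_le_iff]
    rintro _ ⟨j, rfl⟩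
    exact ⟨uu p _ _ j, jB_uu p a x μ i₀ hμ ha j⟩
  obtain ⟨b, hb⟩ := hle hN
  refine ⟨N, b, ?_⟩
  have hc : (jB p a x μ i₀ hμ ha) ((algebraMap R (Bq p a x μ i₀)) (μ * a i₀)) =
      algebraMap R (Aq p (bA a μ) x) (μ * a i₀) := (jB p a x μ i₀ hμ ha).commutes _
  show (jB p a x μ i₀ hμ ha) b =
    (jB p a x μ i₀ hμ ha) ((algebraMap R (Bq p a x μ i₀)) (μ * a i₀)) ^ N * t
  rw [hc]
  exact hb

end Groth.Agent.H81.WildCI
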