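import Mathlib
import Groth.Agent.H81.ASInvS2
import Groth.Agent.H81.WildAS
import Groth.Agent.H26.RegUFD

/-!
# Invariants of `H_s` for the Artin–Schreier family over `k[[x_1..x_n]]` (helper81)
-/

set_option autoImplicit false

namespace Groth.Agent.H81.WildInvS

open MvPolynomial Groth.Agent.H81.ASQuot Groth.Agent.H81.ASAut Groth.Agent.H81.ASInvS
  Groth.Agent.H81.ASInvS2

universe u

theorem main (p : ℕ) [Fact p.Prime] (k : Type u) [Field k] [CharP k p] (n : ℕ) (hn : 2 ≤ n)
    (a : Fin n → MvPowerSeries (Fin n) k) (μ : MvPowerSeries (Fin n) k)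
    (ham : ∀ i, MvPowerSeries.constantCoeff (a i) = 0)
    (hcop : ∀ i j, i ≠ j → IsRelPrime (a i) (a j))
    (hμ : μ ≠ 0) (s : Fin n → ZMod p) (hs : s ≠ 0)
    [IsDomain (MvPowerSeries (Fin n) k)] [CharP (MvPowerSeries (Fin n) k) p]
    (σ : Fin n → (Aq p (fun i => μ * a i) (fun i : Fin n => (MvPowerSeries.X i :
      MvPowerSeries (Fin n) k)) ≃ₐ[MvPowerSeries (Fin n) k]
      Aq p (fun i => μ * a i) (fun i : Fin n => (MvPowerSeries.X i : MvPowerSeries (Fin n) k))))
    (hσ : ∀ i j, σ i (uu p (fun i => μ * a i) (fun i : Fin n => (MvPowerSeries.X i :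
        MvPowerSeries (Fin n) k)) j) =
      uu p (fun i => μ * a i) (fun i : Fin n => (MvPowerSeries.X i :
        MvPowerSeries (Fin n) k)) j + (if i = j then algebraMap (MvPowerSeries (Fin n) k)
          (Aq p (fun i => μ * a i) (fun i : Fin n => (MvPowerSeries.X i :
            MvPowerSeries (Fin n) k))) (μ * a i) else 0)) :
    let R := MvPowerSeries (Fin n) k
    let b : Fin n → R := fun i => μ * a i
    let d : Fin n → R := fun i => MvPowerSeries.X i
    let c : Fin n → R := fun i => algebraMap k R (ZMod.castHom (dvd_refl p) k (s i))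
    let α : R := ∏ i ∈ Finset.univ.filter (fun i => s i ≠ 0), a i
    let αi : Fin n → R := fun i => ∏ j ∈ (Finset.univ.filter (fun j => s j ≠ 0)).erase i, a j
    let z : Aq p b d := ∑ i ∈ Finset.univ.filter (fun i => s i ≠ 0),
      algebraMap R (Aq p b d) (c i * αi i) * uu p b d i
    let f : Polynomial R := Polynomial.X ^ p - Polynomial.C ((μ * α) ^ (p - 1)) * Polynomial.X
      - Polynomial.C (∑ i ∈ Finset.univ.filter (fun i => s i ≠ 0), c i * αi i ^ p * d i)
    (∀ t : Aq p b d, (∀ ν : Fin n → ZMod p, ∑ i, ν i * s i = 0 →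
          (List.ofFn (fun i : Fin n => σ i ^ (ν i).val)).prod t = t) ↔
        t ∈ (Polynomial.aeval z : Polynomial R →ₐ[R] Aq p b d).range) ∧
      RingHom.ker (Polynomial.aeval z : Polynomial R →ₐ[R] Aq p b d) = Ideal.span {f} := by
  intro R b d c α αi z f
  classical
  have hp : p.Prime := Fact.out
  haveI : NeZero p := ⟨hp.ne_zero⟩
  haveI : UniqueFactorizationMonoid R :=
    Groth.Agent.H26.RegUFD.ufm_of_isRegularLocalRing (MvPowerSeries (Fin n) k)
  -- the `a i` are nonzero
  have hnu : ∀ i, ¬ IsUnit (a i) := by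
    intro i hi
    have := (MvPowerSeries.isUnit_iff_constantCoeff.1 hi)
    rw [ham i] at this
    exact not_isUnit_zero this
  have ha : ∀ i, a i ≠ 0 := by
    intro j hj
    obtain ⟨i, hij⟩ : ∃ i : Fin n, i ≠ j := by
      by_cases h0 : j = ⟨0, by omega⟩
      · exact ⟨⟨1, by omega⟩, by rw [h0]; intro h; simpa using congrArg Fin.val h⟩
      · exact ⟨⟨0, by omega⟩, fun h => h0 h.symm⟩
    have hrel := hcop i j hij
    rw [hj] at hrel
    exact hnu i (hrel (dvd_refl _) (dvd_zero _))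
  have hb : ∀ i, b i ≠ 0 := fun i => mul_ne_zero hμ (ha i)
  set S : Finset (Fin n) := Finset.univ.filter (fun i => s i ≠ 0) with hS
  have hα : α ≠ 0 := Finset.prod_ne_zero_iff.2 (fun i _ => ha i)
  have hβ : μ * α ≠ 0 := mul_ne_zero hμ hα
  let g : Fin n → ℕ := fun i => (s i).val
  have hc : ∀ i, c i = ((g i : ℕ) : R) := by
    intro i
    show algebraMap k R (ZMod.castHom (dvd_refl p) k (s i)) = (((s i).val : ℕ) : R)
    conv_lhs => rw [← ZMod.natCast_zmod_val (s i)]
    rw [map_natCast, map_natCast]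
  have hcinj : Function.Injective
      ((algebraMap k R).comp (ZMod.castHom (dvd_refl p) k)) := RingHom.injective _
  have hc0 : ∀ i, s i ≠ 0 → c i ≠ 0 := by
    intro i hi h
    apply hi
    apply hcinj
    rw [map_zero]
    exact h
  have hcu : ∀ i ∈ S, IsUnit (c i) := by
    intro i hi
    have hi' : s i ≠ 0 := (Finset.mem_filter.1 hi).2
    have h1 : ZMod.castHom (dvd_refl p) k (s i) ≠ 0 := by
      intro h
      apply hi'
      apply (ZMod.castHom (dvd_refl p) k).injective
      rw [map_zero]; exact h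
    exact (isUnit_iff_ne_zero.2 h1).map (algebraMap k R)
  let w : Fin n → R := fun i => if s i ≠ 0 then c i * αi i else 0
  have hwS : ∀ i ∈ S, w i = c i * ∏ l ∈ S.erase i, a l := by
    intro i hi
    have hi' : s i ≠ 0 := (Finset.mem_filter.1 hi).2
    show (if s i ≠ 0 then c i * αi i else 0) = _
    rw [if_pos hi']
  have hwb : ∀ i, w i * b i = ((g i : ℕ) : R) * (μ * α) := by
    intro i
    by_cases hi : s i = 0
    · have h1 : w i = 0 := by
        show (if s i ≠ 0 then c i * αi i else 0) = 0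
        rw [if_neg (not_not.2 hi)]
      have h2 : g i = 0 := by show (s i).val = 0; rw [hi, ZMod.val_zero]
      rw [h1, h2]; simp
    · have hiS : i ∈ S := Finset.mem_filter.2 ⟨Finset.mem_univ _, hi⟩
      have h1 : a i * αi i = α := Finset.mul_prod_erase S a hiS
      rw [hwS i hiS, ← hc i, ← h1]
      show c i * αi i * (μ * a i) = _
      ring
  obtain ⟨i0, hi0⟩ : ∃ i0, s i0 ≠ 0 := by
    by_contra h
    push_neg at h
    exact hs (funext h)
  have hi0S : i0 ∈ S := Finset.mem_filter.2 ⟨Finset.mem_univ _, hi0⟩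
  have hg0 : ((g i0 : ℕ) : R) ≠ 0 := by rw [← hc i0]; exact hc0 i0 hi0
  have hw0 : w i0 ≠ 0 := by
    rw [hwS i0 hi0S]
    exact mul_ne_zero (hc0 i0 hi0) (Finset.prod_ne_zero_iff.2 (fun i _ => ha i))
  have hz : z = zz p b d w := by
    show (∑ i ∈ S, algebraMap R (Aq p b d) (c i * αi i) * uu p b d i) =
      ∑ i, algebraMap R (Aq p b d) (w i) * uu p b d i
    rw [hS, Finset.sum_filter]
    refine Finset.sum_congr rfl (fun i _ => ?_)
    show _ = algebraMap R (Aq p b d) (if s i ≠ 0 then c i * αi i else 0) * uu p b d i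
    by_cases hi : s i ≠ 0
    · rw [if_pos hi, if_pos hi]
    · rw [if_neg hi, if_neg hi, map_zero, zero_mul]
  have he : (∑ i ∈ S, c i * αi i ^ p * d i) = ∑ i, w i ^ p * d i := by
    rw [hS, Finset.sum_filter]
    refine Finset.sum_congr rfl (fun i _ => ?_)
    show _ = (if s i ≠ 0 then c i * αi i else 0) ^ p * d i
    by_cases hi : s i ≠ 0
    · rw [if_pos hi, if_pos hi, mul_pow]
      congr 2
      rw [hc i, Groth.Agent.H81.WildMinor.natCast_pow_char R p]
    · rw [if_neg hi, if_neg hi, zero_pow hp.ne_zero, zero_mul]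
  have hf : f = fz p (μ * α) (∑ i, w i ^ p * d i) := by
    show Polynomial.X ^ p - Polynomial.C ((μ * α) ^ (p - 1)) * Polynomial.X
      - Polynomial.C (∑ i ∈ S, c i * αi i ^ p * d i) = _
    rw [he]; rfl
  have hdiv : ∀ (j : ℕ) (gg : Fin n → R), (∀ i, gg i * w i0 ^ j = gg i0 * w i ^ j) →
      w i0 ^ j ∣ gg i0 := fun j gg hrel =>
    dvd_of_rel a c hcop S hcu w hwS i0 hi0S j gg hrel
  have hprod : ∀ m : Fin n → ℕ,
      (List.ofFn (fun i : Fin n => σ i ^ m i)).prod = sigma p b d m :=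
    fun m => prod_ofFn_eq_sigma p b d σ hσ m
  have hcastZ : ∀ κ : Fin n → ℕ, (((∑ i, κ i * g i : ℕ) : ℕ) : R) = 0 ↔
      ∑ i, (κ i : ZMod p) * s i = 0 := by
    intro κ
    rw [CharP.cast_eq_zero_iff R p, ← CharP.cast_eq_zero_iff (ZMod p) p, Nat.cast_sum]
    have h1 : ∀ i, ((κ i * g i : ℕ) : ZMod p) = (κ i : ZMod p) * s i := by
      intro i
      rw [Nat.cast_mul]
      show (κ i : ZMod p) * (((s i).val : ℕ) : ZMod p) = _
      rw [ZMod.natCast_zmod_val]
    rw [Finset.sum_congr rfl (fun i _ => h1 i)]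
  rw [hz, hf]
  refine ⟨fun t => ⟨fun h => ?_, fun h ν hν => ?_⟩, ?_⟩
  · apply fixed_mem_range_zz p b d w g (μ * α) hwb hb hβ i0 hg0 hw0 hdiv t
    intro κ hκ
    have h1 := h (fun i => (κ i : ZMod p)) ((hcastZ κ).1 hκ)
    rw [hprod] at h1
    have h2 : sigma p b d (fun i => ((κ i : ZMod p)).val) = sigma p b d κ := by
      apply algEquiv_ext_uu
      intro j
      rw [sigma_uu, sigma_uu, ZMod.val_natCast]
      congr 3
      exact (CharP.natCast_eq_natCast R p).2 (Nat.mod_modEq _ p)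
    rw [h2] at h1
    exact h1
  · obtain ⟨P, rfl⟩ := h
    rw [hprod]
    have h1 : sigma p b d (fun i => (ν i).val) (zz p b d w) = zz p b d w := by
      rw [sigma_zz p b d w g (μ * α) hwb]
      have h2 : (((∑ i, (ν i).val * g i : ℕ) : ℕ) : R) = 0 := by
        rw [hcastZ]
        simp only [ZMod.natCast_zmod_val]
        exact hν
      rw [h2, zero_mul, map_zero, add_zero]
    show sigma p b d (fun i => (ν i).val) (Polynomial.aeval (zz p b d w) P) = _
    have h3 := Polynomial.aeval_algHom_apply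
      ((sigma p b d (fun i => (ν i).val) : Aq p b d ≃ₐ[R] Aq p b d) : Aq p b d →ₐ[R] Aq p b d)
      (zz p b d w) P
    rw [AlgEquiv.coe_toAlgHom] at h3
    rw [← h3, h1]
    rfl
  · exact ker_aeval_zz p b d w g (μ * α) hwb hb hβ i0 hg0

end Groth.Agent.H81.WildInvS
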